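/-
Coprime operators centralizing the centralizer of an involution, I.
-/
import Cfsg.Agent.H18.G1b
import Cfsg.Agent.H24.BrW

set_option autoImplicit false
set_option linter.unusedSectionVars false

open Cfsg Subgroup
open scoped Pointwise commutatorElement
namespace H1
open H19

universe u

variable {G : Type u} [Group G] [Finite G] {p q r : ℕ}
  {A B D H K L M P Q R S T V W X Y Z : Subgroup G} {a b c d g j s t u v w x y z : G}

theorem fiber_count {α β : Type*} [Finite α] (f : α → β) {s t : Set α}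
    (h : ∀ x ∈ s, (s ∩ {y | f y = f x}).ncard ≤ (t ∩ {y | f y = f x}).ncard) (e : t.ncard ≤ s.ncard)
    {w : α} (hw : w ∈ t) : ∃ x ∈ s, f x = f w := by
  classical
  have := Fintype.ofFinite α
  by_contra! hne
  have k : ∀ s : Set α, s.ncard = ∑ b ∈ Finset.univ.image f, (s ∩ {y | f y = b}).ncard := fun s => by
    rw [Set.ncard_eq_toFinset_card', Finset.card_eq_sum_card_fiberwise (f := f)
      (t := Finset.univ.image f) fun x _ => by simp]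
    refine Finset.sum_congr rfl fun b _ => ?_
    rw [Set.ncard_eq_toFinset_card']
    congr 1
    ext; simp
  refine e.not_gt ?_
  rw [k s, k t]
  refine Finset.sum_lt_sum (fun b _ => ?_) ⟨f w, by simp, ?_⟩
  · rcases (s ∩ {y | f y = b}).eq_empty_or_nonempty with e | ⟨x, hx, rfl⟩
    · simp [e]
    · exact h x hx
  · rw [show s ∩ {y | f y = f w} = ∅ from Set.eq_empty_of_forall_notMem fun x hx => hne x hx.1 hx.2,
      Set.ncard_empty]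
    exact (Set.ncard_pos).2 ⟨w, hw, rfl⟩

theorem mem_zpowers_mul' (hc : a * b = b * a) (co : (orderOf a).Coprime (orderOf b)) :
    a ∈ zpowers (a * b) := by
  have m := npow_mem_zpowers (a * b) (orderOf b)
  rw [(show Commute a b from hc).mul_pow, pow_orderOf_eq_one, mul_one] at m
  exact zpowers_le.2 m (mem_zpowers_pow_iff.2 co.symm)

theorem inv_of_sq (h : t * t = 1) : t⁻¹ = t := inv_eq_of_mul_eq_one_right h
theorem ord2 (h : t * t = 1) (h1 : t ≠ 1) : orderOf t = 2 := orderOf_eq_prime (by rwa [pow_two]) h1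
theorem pg_inv (h : t * t = 1) : PG 2 (zpowers t) :=
  piG_zpowers.2 (((piN_prime (π := {2}) Nat.prime_two).2 rfl).dvd
    (orderOf_dvd_of_pow_eq_one (by rwa [pow_two])))
theorem odd_of_pi (h : PiG {2}ᶜ Y) : Odd #Y := Nat.coprime_two_right.1 (h.coprime_prime Nat.prime_two)

theorem invol_mem (hj : j * j = 1) (hY : PiG {2}ᶜ Y) (hy : y ∈ Y) (c : j * y = y * j) :
    j ∈ zpowers (j * y) :=
  mem_zpowers_mul' c (PiN.coprime (piG_zpowers.1 (pg_inv hj)) (hY.elt hy))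

theorem invol_unique (h1 : s ∈ zpowers b) (h2 : t ∈ zpowers b) (s2 : s * s = 1) (t2 : t * t = 1)
    (s1 : s ≠ 1) (t1 : t ≠ 1) : s = t := by
  have e := (el1_zpowers Nat.prime_two h1 (ord2 s2 s1)).eq_of_cyc
    (el1_zpowers Nat.prime_two h2 (ord2 t2 t1)) (cyc_zpowers b)
  have m : s ∈ zpowers t := e ▸ mem_zpowers s
  classical
  rw [mem_zpowers_iff_mem_range_orderOf, ord2 t2 t1] at m
  simp only [Finset.mem_image, Finset.mem_range] at m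
  obtain ⟨i, hi, ei⟩ := m
  interval_cases i
  · exact absurd (by simpa using ei.symm) s1
  · simpa using ei.symm

theorem pow_mul_mem (hb : b ∈ N(Y)) (hy : y ∈ Y) (e : ℕ) : ∃ z ∈ Y, (b * y) ^ e = b ^ e * z := by
  induction e with
  | zero => exact ⟨1, one_mem _, by simp⟩
  | succ e ih =>
    obtain ⟨z, hz, ih⟩ := ih
    exact ⟨b⁻¹ * z * b * y, mul_mem (conj_mem_of_norm' hb hz) hy, by rw [pow_succ, ih]; group⟩

theorem invol_mem_mul (hj : j * j = 1) (hY : PiG {2}ᶜ Y) (c : Y ≤ C[j]) (hb : b ∈ N(Y)) (hy : y ∈ Y)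
    (h : j ∈ zpowers b) : j ∈ zpowers (b * y) := by
  obtain ⟨e, rfl⟩ := mem_powers_iff_mem_zpowers.2 h
  obtain ⟨z, hz, e1⟩ := pow_mul_mem hb hy e
  exact zpowers_le.2 (e1 ▸ npow_mem_zpowers _ e) (invol_mem hj hY hz (mem_cent1.1 (c hz)).symm)

theorem inverts_mul (hs : s * s = 1) (ht : t * t = 1) (h : x ∈ zpowers (s * t)) :
    s * x * s⁻¹ = x⁻¹ ∧ t * x * t⁻¹ = x⁻¹ := by
  obtain ⟨n, rfl⟩ := h
  refine ⟨?_, ?_⟩ <;> rw [← conj_zpow, ← inv_zpow, mul_inv_rev, inv_of_sq hs, inv_of_sq ht]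
  · rw [← mul_assoc, hs, one_mul]
  · rw [mul_assoc, mul_assoc, ht, mul_one]

/-- four-group acting on a group of odd order -/
theorem commg_le_cent1 (hY : PiG {2}ᶜ Y) (hs : s * s = 1) (ht : t * t = 1) (c : s * t = t * s)
    (ns : s ∈ N(Y)) (nt : t ∈ N(Y)) (cs : s ∈ C(A)) (ct : t ∈ C(A)) (h1 : Y ⊓ C[s] ≤ C(A))
    (h2 : Y ⊓ C[t] ≤ C(A)) : ⁅Y, A⁆ ≤ C[s * t] := by
  have key : ∀ y ∈ Y, y * (s * t) * y⁻¹ ∈ C(A) := fun y hy => by
    obtain ⟨x, hx⟩ : ∃ x, x = y * (s * t) * y⁻¹ := ⟨_, rfl⟩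
    have x2 : x * x = 1 := by rw [hx, conj_mul, mul_assoc s, ← mul_assoc t, ← c]; simp [mul_assoc, ht, hs]
    have e : s * x = t * (t⁻¹ * (s * y * s⁻¹) * t * y⁻¹) := by
      rw [hx, inv_of_sq hs]; simp [mul_assoc]
    have m := mul_mem (conj_mem_of_norm' nt (conj_mem_of_norm ns hy)) (inv_mem hy)
    obtain ⟨z, hz, e2⟩ := pow_mul_mem nt m 2
    rw [← e, pow_two t, ht, one_mul] at e2
    obtain ⟨k, hk⟩ : Odd (orderOf z) := (odd_of_pi hY).of_dvd_nat (Y.orderOf_dvd_natCard hz)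
    obtain ⟨j, hj⟩ : ∃ j, j = (s * x) ^ orderOf z := ⟨_, rfl⟩
    have j2 : j * j = 1 := by rw [hj, ← pow_two, pow_right_comm, e2, pow_orderOf_eq_one]
    obtain ⟨i1, i2⟩ := inverts_mul hs x2 (hj ▸ npow_mem_zpowers (s * x) (orderOf z))
    rw [inv_of_sq j2, mul_inv_eq_iff_eq_mul] at i1 i2
    obtain ⟨w, hw, e3⟩ := pow_mul_mem nt m (orderOf z)
    rw [← e, ← hj, hk, pow_succ, pow_mul, pow_two, ht, one_pow, one_mul] at e3
    have tw : t * w * t ∈ Y := by simpa only [inv_of_sq ht] using conj_mem_of_norm nt hw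
    obtain ⟨c, hc, e4⟩ := H24.exists_conj_invol (odd_of_pi (hY.infl C[s])) j2 ht (mem_inf.2
      ⟨e3 ▸ tw,
        mul_mem (mem_cent1.2 i1.symm) (mem_cent1.2 c.symm)⟩)
    have l : Y ⊓ C[j] ≤ C(A) := by
      rw [← e4, ← cj_cent1, ← cj_of_mem hc.1, ← cj_inf, ← cj_of_mem (h1 hc)]
      exact cj_mono c h2
    have jA : j ∈ C(A) := e4 ▸ mul_mem (mul_mem (h1 hc) ct) (inv_mem (h1 hc))
    have := l (mem_inf.2 ⟨(show j * (s * x) ∈ Y by
        rw [e3, e, ← mul_assoc]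
        exact mul_mem tw m),
      mul_mem (mem_cent1_self j) (mul_mem (mem_cent1.2 i1) (mem_cent1.2 i2))⟩)
    rw [← hx]
    exact (mul_mem_cancel_left cs).1 ((mul_mem_cancel_left jA).1 this)
  refine commutator_le.2 fun y hy a ha => mem_cent1.2 ?_
  have e1 := mem_cent.1 (key y⁻¹ (inv_mem hy)) a ha
  have e2 := mem_cent.1 (mul_mem cs ct) a⁻¹ (inv_mem ha)
  rw [commutatorElement_def, mul_assoc, e2]
  calc _ = y * (a * (y⁻¹ * (s * t) * y⁻¹⁻¹)) * y⁻¹ * a⁻¹ := by group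
    _ = _ := by rw [e1]; group

/-- an `r`-group acting on an `r'`-group -/
structure CA (r : ℕ) (L A : Subgroup G) : Prop where
  n : A ≤ N(L)
  pA : PG r A
  pL : PiG {r}ᶜ L

/-- involutions whose centralizer is centralized by `A` -/
structure TI (L A : Subgroup G) (t : G) : Prop where
  sq : t * t = 1
  ne : t ≠ 1
  mem : t ∈ L
  le : L ⊓ C[t] ≤ C(A)

theorem TI.cent (h : TI L A t) : t ∈ C(A) := h.le ⟨h.mem, mem_cent1_self t⟩

theorem TI.J (h : TI L A t) (hg : g ∈ L ⊓ C(A)) : TI L A (g * t * g⁻¹) :=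
  ⟨by rw [conj_mul, h.sq]; simp, by simpa using h.ne, mul_mem (mul_mem hg.1 h.mem) (inv_mem hg.1), by
    rw [← cj_cent1, ← cj_of_mem hg.1, ← cj_inf, ← cj_of_mem hg.2]; exact cj_mono g h.le⟩

namespace CA
variable (h : CA r L A)
include h

theorem cop (l : K ≤ L) : (#K).Coprime #A := (h.pA.coprime (h.pL.of_le l)).symm
theorem sub (l : K ≤ L) (n : A ≤ N(K)) : CA r K A := ⟨n, h.pA, h.pL.of_le l⟩
theorem J (hg : g ∈ L) : CA r L (cj g A) :=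
  ⟨by rw [← cj_of_mem hg, ← cj_norm]; exact cj_mono g h.n, h.pA.J g, h.pL⟩
theorem quot (K : Subgroup G) : CA r (quo K L) (quo K A) := ⟨quo_norms h.n, h.pA.quo K, h.pL.quo K⟩

theorem syl : Syl r A (L ⊔ A) :=
  ⟨le_sup_right, h.pA, by rw [relIndex_sup_right_of_norm h.n]; exact h.pL.relIndex A⟩

theorem cj_le (hg : g ∈ L) : cj g A ≤ L ⊔ A := cj_le_of_mem (mem_sup_left hg) le_sup_right

theorem conj (hg : g ∈ L) (h1 : X ≤ C(A)) (h2 : X ≤ C(cj g A)) :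
    ∃ c ∈ L ⊓ C(X), cj c A = cj g A := by
  have n : A ≤ N(L ⊓ C(X)) := norms_inf h.n (norms_of_le (cents_symm h1))
  have s := (h.sub inf_le_left n).syl
  have l : cj g A ≤ (L ⊓ C(X)) ⊔ A := by
    rw [← sup_inf_modr h.n (cents_symm h1)]; exact le_inf (h.cj_le hg) (cents_symm h2)
  obtain ⟨x, hx, e⟩ := s.sle_cj l (h.pA.J g)
  obtain ⟨c, hc, a, ha, rfl⟩ := (mem_sup_of_norm n).1 hx
  rw [← cj_cj, cj_of_mem ha] at e
  exact ⟨c, hc, (eq_of_le_of_card_eq e (by rw [card_cj, card_cj])).symm⟩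

theorem conj1 (hg : g ∈ L) (h1 : x ∈ C(A)) (h2 : x ∈ C(cj g A)) :
    ∃ c ∈ L ⊓ C[x], cj c A = cj g A :=
  cent_zpowers x ▸ h.conj hg (zpowers_le.2 h1) (zpowers_le.2 h2)

theorem cent_of_norm (hg : g ∈ L) (e : cj g A = A) : g ∈ C(A) :=
  commg_eq_bot.1 (H19.eq_bot_mono (le_inf (commg_le_right (zpowers_le.2 (mem_norm_iff_cj.2 e)))
    ((commutator_mono (zpowers_le.2 hg) le_rfl).trans (commg_le_left h.n)))
    (h.pA.inf_eq_bot h.pL)) (mem_zpowers g)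

theorem fusion (hg : g ∈ L) (h1 : x ∈ C(A)) (h2 : g * x * g⁻¹ ∈ C(A)) :
    ∃ k ∈ L ⊓ C(A), k * x * k⁻¹ = g * x * g⁻¹ := by
  obtain ⟨c, hc, e⟩ := h.conj1 (inv_mem hg) h1 (by rw [← cj_cent, mem_cj]; simpa using h2)
  refine ⟨g * c, ⟨mul_mem hg hc.1, h.cent_of_norm (mul_mem hg hc.1) ?_⟩, ?_⟩
  · rw [← cj_cj, e, cj_cj, mul_inv_cancel, cj_one]
  · rw [mul_assoc g, mem_cent1.1 hc.2]; group

theorem dec (hc : c ∈ K) (l : K ≤ L) (n : A ≤ N(K)) : ∃ y ∈ ⁅K, A⁆, cj y A = cj c A := by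
  obtain ⟨y, hy, k, hk, rfl⟩ := (mem_sup_of_norm (inf_le_left.trans (commg_norml K A))).1
    ((commg_sup_cent n (h.cop l) (Or.inl h.pA.sol)).ge hc)
  exact ⟨y, hy, by rw [← cj_cj, cj_of_mem_cent hk.2]⟩

theorem exists_syl (ht : TI L A t) : ∃ S, Syl 2 S L ∧ t ∈ S ∧ S ≤ C(A) := by
  obtain ⟨S, hS, n, l⟩ := inv_syl_ge h.n (h.cop le_rfl) (Or.inl h.pA.sol) (zpowers_le.2 ht.mem)
    (norms_of_cents (cents_symm (zpowers_le.2 ht.cent))) (pg_inv ht.sq)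
  have := Fact.mk Nat.prime_two
  refine ⟨S, hS, l (mem_zpowers t), AxB_of_coprime hS.pi.isPGroup (pg_inv ht.sq).isPGroup
    ((h.cop (zpowers_le.2 ht.mem)).symm.coprime_dvd_right (by rw [Nat.card_zpowers, ord2 ht.sq ht.ne]))
    n (norms_of_le l) (cents_symm (zpowers_le.2 ht.cent)) ?_⟩
  rw [cent_zpowers]
  exact (inf_le_inf_right _ hS.le).trans ht.le

theorem two_le (ht : TI L A t) (hP : PG 2 P) (l : P ≤ L) (n : A ≤ N(P)) : P ≤ C(A) := by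
  obtain ⟨S, hS, -, c⟩ := h.exists_syl ht
  obtain ⟨k, hk, e⟩ := inv_syl_le_cj h.n (h.cop le_rfl) (Or.inl h.pA.sol) l n hP hS
    (norms_of_cents (cents_symm c))
  exact e.trans (cj_le_of_mem hk.2 c)

theorem two_le' (ht : TI L A t) (hg : g ∈ L) (hP : PG 2 P) (l : P ≤ L) (n : cj g A ≤ N(P)) :
    P ≤ C(cj g A) := by
  rw [← cj_cent, le_cj_iff]
  exact h.two_le ht (hP.J _) (cj_le_of_mem (inv_mem hg) l) (by rw [← cj_norm, ← cj_le_iff]; exact n)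

end CA

open Classical in
/-- the involution in a cyclic group -/
noncomputable def iv (b : G) : G := if h : ∃ j ∈ zpowers b, j * j = 1 ∧ j ≠ 1 then h.choose else 1

theorem iv_eq (h : j ∈ zpowers b) (h2 : j * j = 1) (h1 : j ≠ 1) : iv b = j := by
  have e : ∃ j ∈ zpowers b, j * j = 1 ∧ j ≠ 1 := ⟨j, h, h2, h1⟩
  rw [iv, dif_pos e]
  exact invol_unique e.choose_spec.1 h e.choose_spec.2.1 h2 e.choose_spec.2.2 h1

/-- the minimal counterexample -/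
structure CX (r : ℕ) (L A : Subgroup G) : Prop where
  ca : CA r L A
  ih : ∀ j, j * j = 1 → j ≠ 1 → j ∈ L ⊓ C(A) → ∀ t, TI L A t → t ∈ C[j] → PiG {2}ᶜ ⁅L ⊓ C[j], A⁆

/-- `j` is the involution of `⟨t x⟩` -/
structure JV (L A : Subgroup G) (t x j : G) : Prop where
  ti : TI L A t
  x2 : x * x = 1
  xL : x ∈ L
  j2 : j * j = 1
  j1 : j ≠ 1
  mem : j ∈ zpowers (t * x)

namespace JV
variable (h : JV L A t x j)
include h

theorem tc : t ∈ C[j] := mem_cent1.2 (by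
  have := (inverts_mul h.ti.sq h.x2 h.mem).1
  rwa [inv_of_sq h.j2, mul_inv_eq_iff_eq_mul] at this)
theorem xc : x ∈ C[j] := mem_cent1.2 (by
  have := (inverts_mul h.ti.sq h.x2 h.mem).2
  rwa [inv_of_sq h.j2, mul_inv_eq_iff_eq_mul] at this)
theorem jL : j ∈ L := zpowers_le.2 (mul_mem h.ti.mem h.xL) h.mem
theorem jA : j ∈ C(A) := h.ti.le ⟨h.jL, mem_cent1_symm.1 h.tc⟩
theorem nA (c : CA r L A) : A ≤ N(L ⊓ C[j]) :=
  norms_inf c.n (norms_of_le (le_cent1_iff.2 h.jA))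
theorem le (c : CA r L A) : ⁅L ⊓ C[j], A⁆ ≤ L ⊓ C[j] := commg_le_left (h.nA c)
theorem odd (c : CX r L A) : PiG {2}ᶜ ⁅L ⊓ C[j], A⁆ := c.ih j h.j2 h.j1 ⟨h.jL, h.jA⟩ t h.ti h.tc
theorem xn : x ∈ N(⁅L ⊓ C[j], A⁆) := commg_norml _ _ ⟨h.xL, h.xc⟩
theorem mul_mem' (hy : y ∈ ⁅L ⊓ C[j], A⁆) : y * x * y⁻¹ * x ∈ ⁅L ⊓ C[j], A⁆ := by
  have := mul_mem hy (conj_mem_of_norm h.xn (inv_mem hy))
  rwa [inv_of_sq h.x2, ← mul_assoc, ← mul_assoc] at this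

theorem J (c : CX r L A) (hy : y ∈ ⁅L ⊓ C[j], A⁆) : JV L A t (y * x * y⁻¹) j := by
  have l := (h.le c.ca hy).1
  refine ⟨h.ti, by rw [conj_mul, h.x2]; simp, mul_mem (mul_mem l h.xL) (inv_mem l), h.j2, h.j1, ?_⟩
  have := invol_mem_mul h.j2 (h.odd c) ((h.le c.ca).trans inf_le_right)
    (commg_norml _ _ ⟨mul_mem h.ti.mem h.xL, mul_mem h.tc h.xc⟩)
    (mul_mem (conj_mem_of_norm' h.xn hy) (inv_mem hy)) h.mem
  convert this using 2
  group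

theorem move (c : CX r L A) (hg : g ∈ L) (hx : x ∈ C(cj g A)) : ∃ y ∈ ⁅L ⊓ C[j], A⁆,
    ∀ z ∈ ⁅L ⊓ C[j], A⁆, z * x * z⁻¹ ∈ C(cj g A) → y⁻¹ * (z * x * z⁻¹) * y ∈ C(A) := by
  obtain ⟨Y, hY⟩ : ∃ Y, Y = ⁅L ⊓ C[j], A⁆ ⊓ C(cj g A) := ⟨_, rfl⟩
  have n : cj g A ≤ N(L ⊓ N(Y)) := norms_inf (c.ca.J hg).n
    (norms_norm (norms_of_cents (cents_symm (hY ▸ inf_le_right))))
  obtain ⟨P, hP, nP⟩ := inv_syl_exists 2 n ((c.ca.J hg).cop inf_le_left) (Or.inl (c.ca.J hg).pA.sol)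
  have cP := c.ca.two_le' h.ti hg hP.pi (hP.le.trans inf_le_left) nP
  obtain ⟨k, hk, e⟩ := hP.sle_cj (K := zpowers j ⊔ zpowers x) (sup_le (zpowers_le.2 ⟨h.jL,
    cent_le_norm _ (le_cent1_iff.1 ((hY.le.trans inf_le_left).trans ((h.le c.ca).trans inf_le_right)))⟩)
    (zpowers_le.2 ⟨h.xL, hY ▸ norms_inf (zpowers_le.2 h.xn) (norms_of_le (zpowers_le.2 hx))
      (mem_zpowers x)⟩)) ((pg_inv h.j2).sup (pg_inv h.x2)
      (zpowers_le.2 (cent1_le_norm_zpowers j h.xc)))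
  have e := e.trans (cj_mono k cP)
  rw [cj_cent, cj_cj] at e
  obtain ⟨d, hd, e1⟩ := c.ca.conj1 (mul_mem hk.1 hg) h.jA (e (mem_sup_left (mem_zpowers j)))
  obtain ⟨y, hy, e2⟩ := c.ca.dec hd inf_le_left (h.nA c.ca)
  refine ⟨y, hy, fun z hz m => ?_⟩
  rw [← mem_cj, cj_cent, e2, e1]
  refine (mul_mem_cancel_right (e (mem_sup_right (mem_zpowers x)))).1 ?_
  rw [← cj_cj, ← cj_cent]
  refine cj_mono k (hY.le.trans inf_le_right) ?_
  rw [cj_of_mem_norm hk.2, hY]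
  exact ⟨h.mul_mem' hz, mul_mem m hx⟩

end JV

theorem CX.exists_jv (c : CX r L A) (ht : TI L A t) (v2 : v * v = 1) (hv : v ∈ L ⊓ C(A))
    (hn : ¬ TI L A v) (hg : g ∈ L) : JV L A t (g * v * g⁻¹) (iv (t * (g * v * g⁻¹))) := by
  have x2 : g * v * g⁻¹ * (g * v * g⁻¹) = 1 := by rw [conj_mul, v2]; simp
  have xL := mul_mem (mul_mem hg hv.1) (inv_mem hg)
  rcases Nat.even_or_odd #(zpowers (t * (g * v * g⁻¹))) with e | e
  · obtain ⟨j, hj, o⟩ := exists_orderOf_eq_prime Nat.prime_two e.two_dvd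
    have j2 : j * j = 1 := by rw [← pow_two]; exact orderOf_dvd_iff_pow_eq_one.1 o.dvd
    have j1 : j ≠ 1 := by rintro rfl; simp at o
    rw [iv_eq hj j2 j1]
    exact ⟨ht, x2, xL, j2, j1, hj⟩
  · obtain ⟨w, hw, e⟩ := H24.exists_conj_invol e ht.sq x2 (mem_zpowers _)
    have wL := zpowers_le.2 (mul_mem ht.mem xL) hw
    have e' : (w * g)⁻¹ * t * (w * g)⁻¹⁻¹ = v := by rw [← e]; group
    obtain ⟨k, hk, e2⟩ := c.ca.fusion (inv_mem (mul_mem wL hg)) ht.cent (e' ▸ hv.2)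
    exact absurd (e' ▸ e2 ▸ ht.J hk) hn

theorem CX.key (c : CX r L A) (ht : TI L A t) (v2 : v * v = 1) (hv : v ∈ L ⊓ C(A))
    (hn : ¬ TI L A v) (hg : g ∈ L) : ∃ y ∈ ⁅L ⊓ C[iv (t * v)], A⁆, y * v * y⁻¹ ∈ C(cj g A) := by
  let O : G → Set G := fun x => {z | ∃ y ∈ ⁅L ⊓ C[iv (t * x)], A⁆, y * x * y⁻¹ = z}
  have self : ∀ x, x ∈ O x := fun x => ⟨1, one_mem _, by simp⟩
  have jv : ∀ {x}, (∃ k ∈ L, k * v * k⁻¹ = x) → JV L A t x (iv (t * x)) := by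
    rintro _ ⟨k, hk, rfl⟩
    exact c.exists_jv ht v2 hv hn hk
  have oJ : ∀ {x y}, (∃ k ∈ L, k * v * k⁻¹ = x) → y ∈ ⁅L ⊓ C[iv (t * x)], A⁆ →
      O (y * x * y⁻¹) = O x := fun {x y} hx hy => by
    have := (jv hx).J c hy
    ext z
    simp only [O, Set.mem_ofPred_eq, iv_eq this.mem this.j2 this.j1]
    exact ⟨fun ⟨a, ha, e⟩ => ⟨a * y, mul_mem ha hy, by rw [← e]; group⟩,
      fun ⟨a, ha, e⟩ => ⟨a * y⁻¹, mul_mem ha (inv_mem hy), by rw [← e]; group⟩⟩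
  refine (fiber_count O (s := {x | (∃ k ∈ L, k * v * k⁻¹ = x) ∧ x ∈ C(cj g A)})
    (t := {x | (∃ k ∈ L, k * v * k⁻¹ = x) ∧ x ∈ C(A)}) (fun x hx => ?_) ?_
    (w := v) ⟨⟨1, one_mem _, by simp⟩, hv.2⟩).elim fun x ⟨hx, e⟩ => ?_
  rotate_right
  · obtain ⟨y, hy, e⟩ : x ∈ O v := e ▸ self x
    exact ⟨y, hy, e ▸ hx.2⟩
  · obtain ⟨y, hy, m⟩ := (jv hx.1).move c hg hx.2
    refine Set.ncard_le_ncard_of_injOn (fun z => y⁻¹ * z * y) (fun z hz => ?_)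
      fun a _ b _ e => by simpa using e
    obtain ⟨w, hw, rfl⟩ : z ∈ O x := hz.2 ▸ self z
    obtain ⟨k, hk, e⟩ := hz.1.1
    have yL := ((jv hx.1).le c.ca hy).1
    refine ⟨⟨⟨y⁻¹ * k, mul_mem (inv_mem yL) hk, by rw [← e]; group⟩, m w hw hz.1.2⟩, ?_⟩
    have := oJ hx.1 (mul_mem (inv_mem hy) hw)
    rwa [show y⁻¹ * w * x * (y⁻¹ * w)⁻¹ = y⁻¹ * (w * x * w⁻¹) * y by group] at this
  · refine Set.ncard_le_ncard_of_injOn (fun z => g * z * g⁻¹) ?_ fun a _ b _ e => by simpa using e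
    rintro _ ⟨⟨k, hk, rfl⟩, m⟩
    exact ⟨⟨g * k, mul_mem hg hk, by group⟩, by rwa [← cj_cent, conj_mem_cj]⟩

end H1
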