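/-
Coprime operators centralizing the centralizer of an involution, II.
-/
import Cfsg.Agent.H1.CI1
import Cfsg.Agent.H10.ZStar3
import Cfsg.Agent.S1220

set_option autoImplicit false
set_option linter.unusedSectionVars false

open Cfsg Subgroup
open scoped Pointwise commutatorElement
namespace H1
open H19

universe u

variable {G : Type u} [Group G] [Finite G] {p q r : ℕ}
  {A B D H K L M P Q R S T V W X Y Z : Subgroup G} {a b d g j s t u v w x y z : G}

theorem oddCore_bot (h : Oc {2}ᶜ L = ⊥) : pPrimeCore 2 L = ⊥ :=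
  map_subtype_eq_bot_iff.1 ((pPrimeCore_map_eq Nat.prime_two L).trans h)

theorem CA.not_all (h : CA r L A) (ht : TI L A t) (h0 : Oc {2}ᶜ L = ⊥)
    (all : ∀ v ∈ L ⊓ C(A), v * v = 1 → v ≠ 1 → TI L A v) : L ≤ C(A) := by
  by_contra hn
  have se : IsStronglyEmbedded (C(A).subgroupOf L) := by
    refine ⟨fun e => hn (subgroupOf_eq_top.1 e), even_iff_two_dvd.2 ?_, fun g hg => ?_⟩
    · rw [← ord2 ht.sq ht.ne, ← orderOf_mk t ht.mem]
      exact orderOf_dvd_natCard _ (mem_subgroupOf.2 ht.cent)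
    · by_contra e
      obtain ⟨v, ⟨v1, k, hk, rfl⟩, o⟩ :=
        exists_orderOf_eq_prime Nat.prime_two (Nat.not_odd_iff_even.1 e).two_dvd
      have m : (g : G) * k * (g : G)⁻¹ ∈ C(cj (g : G) A) := by rw [← cj_cent]; exact conj_mem_cj.2 hk
      obtain ⟨c, hc, e⟩ := h.conj1 g.2 v1 m
      have := all _ ⟨Subtype.prop _, v1⟩ (by
        rw [← pow_two]; exact congrArg Subtype.val (orderOf_dvd_iff_pow_eq_one.1 o.dvd))
        fun e => by rw [show _ = (1 : L) from Subtype.ext e] at o; simp at o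
      exact hg (h.cent_of_norm g.2 (e ▸ cj_of_mem_cent (this.le hc)))
  rcases Agent.S1220.result _ se with tr | ⟨-, e⟩
  · obtain ⟨g, hg, g1⟩ := SetLike.not_le_iff_exists.1 hn
    have n : A ≤ N(cj g A) := fun a ha => by
      have m := conj_mem_of_norm (h.n ha) hg
      obtain ⟨k, hk, e⟩ := tr ⟨_, m⟩ ⟨g, hg⟩ (fun e => g1 (by
        simpa [mul_assoc] using conj_mem_of_norm' (norm_le_norm_cent A (le_normalizer ha)) e)) g1
      have hk : a * k = k * a := mem_cent.1 hk a ha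
      have e := cj_of_mem_cent (show g⁻¹ * (k * (a * g * a⁻¹)) ∈ C(A) from e)
      rw [← cj_cj, cj_eq_iff, inv_inv, ← mul_assoc, ← mul_assoc, ← cj_cj, cj_of_mem (inv_mem ha),
        ← cj_cj, ← hk] at e
      exact zpowers_le.2 (mem_norm_iff_cj.2 e) (mem_zpowers_mul' hk
        (PiN.coprime (h.pA.elt ha) (h.pL.elt k.2)))
    have := h.syl.le_of_norm' (h.cj_le hg) (h.pA.J g) n
    exact g1 (h.cent_of_norm hg (eq_of_le_of_card_eq this (card_cj _ _)))
  · rw [oddCore, oddCore_bot h0, bot_sup_eq] at e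
    exact se.1 e

theorem CA.exists_pair (h : CA r L A) (ht : TI L A t) (h0 : Oc {2}ᶜ L = ⊥) (hn : ¬ L ≤ C(A)) :
    ∃ s, TI L A s ∧ s ≠ t ∧ t * s = s * t := by
  by_contra! e
  refine hn fun g hg => ?_
  obtain ⟨o, ho, c, hc, e⟩ := H10.zstar_isolated_decomp (a := (⟨t, ht.mem⟩ : L)) (k := 1)
    (Subtype.ext (by simpa [pow_two] using ht.sq)) (fun k hk => by
      have hk : t * (k * t * (k : G)⁻¹) = k * t * (k : G)⁻¹ * t := congrArg Subtype.val hk
      obtain ⟨l, hl, e1⟩ := h.fusion k.2 ht.cent (ht.le (mem_inf.2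
        ⟨mul_mem (mul_mem k.2 ht.mem) (inv_mem k.2), mem_cent1.2 hk.symm⟩))
      by_contra ne
      exact e (k * t * (k : G)⁻¹) (e1 ▸ ht.J hl) (fun e => ne (Subtype.ext e)) hk) ⟨g, hg⟩
  rw [oddCore_bot h0, mem_bot] at ho
  rw [ho, one_mul] at e
  rw [← e] at hc
  exact ht.le ⟨hg, mem_cent1.2 (congrArg Subtype.val (mem_cent1.1 hc) :)⟩

theorem exists_sqrt (hb : PiE {2} b) (h : b * b ≠ 1) :
    ∃ s ∈ zpowers b, s * s ≠ 1 ∧ s * s * (s * s) = 1 := by
  obtain ⟨k, hk⟩ := hb.exists_pow (orderOf_pos b).ne'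
  obtain ⟨k, rfl⟩ : ∃ l, k = l + 2 := by
    refine Nat.exists_eq_add_of_le' (not_lt.1 fun e => h ?_)
    rw [← pow_two, ← orderOf_dvd_iff_pow_eq_one, hk]
    exact pow_dvd_pow 2 (Nat.le_of_lt_succ e)
  refine ⟨b ^ 2 ^ k, npow_mem_zpowers _ _, ?_, ?_⟩
  · rw [← pow_two, ← pow_mul, ← pow_succ, Ne, ← orderOf_dvd_iff_pow_eq_one, hk,
      Nat.pow_dvd_pow_iff_le_right one_lt_two]
    omega
  · rw [← pow_two, ← pow_two, ← pow_mul, ← pow_mul, ← pow_two, ← pow_add, ← hk, pow_orderOf_eq_one]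

namespace CX
variable (c : CX r L A) (core : ∀ u ∈ L, (∀ g ∈ L, u ∈ C(cj g A)) → u = 1)
include c core

theorem comm (ht : TI L A t) (w2 : w * w = 1) (hw : w ∈ L ⊓ C(A)) (hn : ¬ TI L A w)
    (pe : PiE {2} (t * w)) : t * w = w * t := by
  by_contra ne
  obtain ⟨s, hs, s1, s2⟩ := exists_sqrt pe fun e => ne (by
    rw [← inv_of_sq e, mul_inv_rev, inv_of_sq w2, inv_of_sq ht.sq])
  have J : JV L A t w (s * s) := ⟨ht, w2, hw.1, s2, s1, mul_mem hs hs⟩
  have sH : s ∈ L ⊓ C(A) := zpowers_le.2 (mul_mem (mem_inf.2 ⟨ht.mem, ht.cent⟩) hw) hs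
  have e1 : s * w * s⁻¹ = s * s * w := by
    rw [← (inverts_mul ht.sq w2 hs).2, ← mul_assoc, ← mul_assoc, mul_assoc s, w2, mul_one, inv_of_sq w2]
  have key := fun g hg => iv_eq J.mem s2 s1 ▸ c.key ht w2 hw hn (g := g) hg
  have k1 : ∀ g ∈ L, s * s * w ∈ C(cj g A) → s * s ∈ C(cj g A) := fun g hg m => by
    obtain ⟨y, hy, m'⟩ := key g hg
    have z := J.mul_mem' hy
    refine zpowers_le.2 ?_ (invol_mem s2 (J.odd c) z (mem_cent1.1 (J.le c.ca z).2).symm)
    have := mul_mem m' m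
    rwa [← mem_cent1.1 J.xc, ← mul_assoc, mem_cent1.1 (J.le c.ca z).2] at this
  have k2 : ∀ g ∈ L, w ∈ C(cj g A) → s * s ∈ C(cj g A) := fun g hg m => by
    have := k1 (s * g) (mul_mem sH.1 hg) (by rwa [← e1, ← cj_cj, ← cj_cent, conj_mem_cj])
    rw [← cj_cj, ← cj_cent, mem_cj] at this
    simpa using this
  refine s1 (core _ J.jL fun g hg => ?_)
  obtain ⟨y, hy, m⟩ := key g hg
  have yl := J.le c.ca hy
  have := k2 (y⁻¹ * g) (mul_mem (inv_mem yl.1) hg) (by rw [← cj_cj, ← cj_cent, mem_cj]; simpa using m)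
  rwa [← cj_cj, ← cj_cent, mem_cj, inv_inv, mem_cent1.1 yl.2, mul_inv_cancel_right] at this

theorem cent_prod (ht : TI L A t) (hs : TI L A s) (e : t * s = s * t) (j2 : j * j = 1) (j1 : j ≠ 1)
    (hj : j ∈ L ⊓ C(A)) (h1 : t ∈ C[j]) (h2 : s ∈ C[j]) : ⁅L ⊓ C[j], A⁆ ≤ C[t * s] := by
  have l := (commg_le_left (norms_inf c.ca.n (norms_of_le (le_cent1_iff.2 hj.2)))).trans inf_le_left
  exact commg_commg (norms_inf c.ca.n (norms_of_le (le_cent1_iff.2 hj.2))) (c.ca.cop inf_le_left) ▸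
    commg_le_cent1 (c.ih j j2 j1 hj t ht h1) ht.sq hs.sq e (commg_norml _ _ ⟨ht.mem, h1⟩)
    (commg_norml _ _ ⟨hs.mem, h2⟩) ht.cent hs.cent ((inf_le_inf_right _ l).trans ht.le)
    ((inf_le_inf_right _ l).trans hs.le)

theorem le_cent (ht : TI L A t) (h0 : Oc {2}ᶜ L = ⊥) : L ≤ C(A) := by
  by_contra hn
  obtain ⟨s, hs, ne, e⟩ := c.ca.exists_pair ht h0 hn
  obtain ⟨v, hv, v2, v1, vn⟩ : ∃ v ∈ L ⊓ C(A), v * v = 1 ∧ v ≠ 1 ∧ ¬ TI L A v := by
    by_contra! all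
    exact hn (c.ca.not_all ht h0 all)
  obtain ⟨S, hS, lS⟩ := ((pg_inv ht.sq).sup (pg_inv hs.sq) (zpowers_le.2 (cent1_le_norm_zpowers t
    (mem_cent1.2 e.symm)))).exists_syl (M := L ⊓ C(A))
    (sup_le (zpowers_le.2 ⟨ht.mem, ht.cent⟩) (zpowers_le.2 ⟨hs.mem, hs.cent⟩))
  obtain ⟨k, hk, lk⟩ := hS.sle_cj (zpowers_le.2 hv) (pg_inv v2)
  obtain ⟨w, hw⟩ : ∃ w, w = k⁻¹ * v * k := ⟨_, rfl⟩
  have wS : w ∈ S := hw ▸ mem_cj.1 (lk (mem_zpowers v))
  have w2 : w * w = 1 := by simp [hw, mul_assoc, ← mul_assoc v, v2]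
  have w1 : w ≠ 1 := fun e => v1 (by rwa [hw, mul_assoc, inv_mul_eq_one, right_eq_mul] at e)
  have wn : ¬ TI L A w := fun e => vn (by simpa [hw, mul_assoc] using e.J hk)
  have wH := hS.le wS
  have tS := lS (mem_sup_left (mem_zpowers t))
  have sS := lS (mem_sup_right (mem_zpowers s))
  have c1 := c.comm core ht w2 wH wn (hS.pi.elt (mul_mem tS wS))
  have c2 := c.comm core hs w2 wH wn (hS.pi.elt (mul_mem sS wS))
  have j2 : t * w * (t * w) = 1 := by rw [mul_assoc, ← mul_assoc w, ← c1, mul_assoc, w2, mul_one, ht.sq]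
  have j1 : t * w ≠ 1 := fun e => wn (by rw [← inv_eq_of_mul_eq_one_right e, inv_of_sq ht.sq]; exact ht)
  have J : JV L A t w (t * w) := ⟨ht, w2, wH.1, j2, j1, mem_zpowers _⟩
  have d1 := c.cent_prod core ht hs e w2 w1 wH (mem_cent1.2 c1) (mem_cent1.2 c2)
  have d2 := c.cent_prod core ht hs e j2 j1 ⟨J.jL, J.jA⟩ J.tc (mem_cent1_symm.1
    (mul_mem (mem_cent1.2 e) (mem_cent1.2 c2.symm)))
  refine ne (mul_left_cancel (a := t) (ht.sq.symm ▸ core _ (mul_mem ht.mem hs.mem) fun g hg => ?_))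
  obtain ⟨y, hy, m⟩ := iv_eq J.mem j2 j1 ▸ c.key ht w2 wH wn hg
  have yl := J.le c.ca hy
  obtain ⟨d, hd, e1⟩ := c.ca.conj1 (mul_mem (inv_mem yl.1) hg) wH.2
    (by rw [← cj_cj, ← cj_cent, mem_cj]; simpa using m)
  obtain ⟨z, hz, e2⟩ := c.ca.dec hd inf_le_left (norms_inf c.ca.n (norms_of_le (le_cent1_iff.2 wH.2)))
  have : cj g A = cj (y * z) A := by rw [← cj_cj, e2, e1, cj_cj, mul_inv_cancel_left]
  rw [this, ← cj_cent, mem_cj, mul_assoc, ← mem_cent1.1 (mul_mem (d2 hy) (d1 hz)), inv_mul_cancel_left]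
  exact mul_mem ht.cent hs.cent

end CX

theorem TI.quot (ht : TI L A t) (n : L ≤ N(K)) (h1 : t ∉ K)
    (h2 : quo K L ⊓ C(quo K (zpowers t)) ≤ quo K (L ⊓ C(A))) :
    TI (quo K L) (quo K A) (qmk K ⟨t, n ht.mem⟩) :=
  ⟨by rw [← map_mul, ← map_one (qmk K)]; exact congrArg _ (Subtype.ext ht.sq), mt qmk_eq_one.1 h1,
    (qmk_mem_quo n).2 (mem_sup_right ht.mem), by
    rw [← cent_zpowers, ← quo_zpowers]; exact h2.trans (quo_cents inf_le_right)⟩

/-- if a coprime operator `r`-group `A` centralizes the centralizer of an involution of `L`, then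
`[L, A]` has odd order -/
theorem CA.odd_comm (h : CA r L A) (ht : TI L A t) : PiG {2}ᶜ ⁅L, A⁆ := by
  induction hk : #L using Nat.strong_induction_on generalizing G with | _ n ih =>
  subst hk
  have lt : ∀ {K}, K ≤ L → L ≤ N(K) → K ≠ ⊥ → #(quo K L) < #L := fun a b d => by
    rw [card_quo b, ← card_mul_relIndex a]
    exact lt_mul_left (relIndex_pos _ _) (ne_bot_iff_one_lt_card.1 d)
  have ML := commg_le_left h.n
  have MM := commg_commg h.n (h.cop le_rfl)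
  have zt := zpowers_le.2 ht.mem
  by_cases h0 : Oc {2}ᶜ L = ⊥
  swap
  · have n := Oc_norm {2}ᶜ L
    have := ih _ (lt (Oc_le _ _) n h0) (h.quot _) (ht.quot n (fun e => ht.ne
      (PiN.e_eq_one (piG_zpowers.1 (pg_inv ht.sq)) ((Oc_pi _ _).elt e))) (by
        rw [quo_inf_cent' (zt.trans n) (Oc_le _ _) ((pg_inv ht.sq).coprime (Oc_pi _ _)).symm
          (Or.inl (sol_zpowers t)), cent_zpowers]
        exact quo_mono _ (le_inf inf_le_left ht.le))) rfl
    rw [← quo_comm n (norms_Oc _ h.n)] at this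
    exact (Oc_pi _ _).of_quo (ML.trans n) this
  rcases (sup_le ML zt).eq_or_lt with e | e
  swap
  · exact (ih _ (card_lt e) (h.sub e.le (norms_sup (commg_normr _ _) (norms_of_cents
      (cents_symm (zpowers_le.2 ht.cent))))) ⟨ht.sq, ht.ne, mem_sup_right (mem_zpowers t),
      (inf_le_inf_right _ e.le).trans ht.le⟩ rfl).of_le (MM.ge.trans (commutator_mono le_sup_left le_rfl))
  obtain ⟨K, hK⟩ : ∃ K, K = L ⊓ C(⁅L, A⁆ ⊔ A) := ⟨_, rfl⟩
  have KL : K ≤ L := hK ▸ inf_le_left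
  have KM : K ≤ C(⁅L, A⁆) := hK ▸ inf_le_right.trans (cent_mono le_sup_left)
  have KA : K ≤ C(A) := hK ▸ inf_le_right.trans (cent_mono le_sup_right)
  have triv : ⁅L, A⁆ ≤ C(A) → PiG {2}ᶜ ⁅L, A⁆ := fun l => by
    rw [← MM, commg_eq_bot.2 l]; exact PiN.bot
  by_cases k0 : K = ⊥
  · refine triv (ML.trans (CX.le_cent ⟨h, fun j j2 j1 hj s hs hc => ih _ (card_lt (lt_of_le_of_ne
      inf_le_left fun e => j1 (mem_bot.1 (k0 ▸ hK ▸ ?_)))) (h.sub inf_le_left (norms_inf h.n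
      (norms_of_le (le_cent1_iff.2 hj.2)))) ⟨hs.sq, hs.ne, ⟨hs.mem, hc⟩,
      (inf_le_inf_right _ inf_le_left).trans hs.le⟩ rfl⟩
      (fun u hu hc => mem_bot.1 (k0 ▸ hK ▸ mem_inf.2 ⟨hu, ?_⟩)) ht h0))
    · rw [cent_sup]
      exact ⟨hj.1, cent_mono ML (le_cent1_iff.1 (e.ge.trans inf_le_right)), hj.2⟩
    · have u1 : u ∈ C(A) := by simpa using hc 1 (one_mem _)
      rw [cent_sup]
      refine ⟨le_cent1_iff.1 (commutator_le.2 fun g hg a ha => ?_), u1⟩
      exact mul_mem (le_cent1_iff.2 (hc g hg) (conj_mem_cj.2 ha)) (inv_mem (le_cent1_iff.2 u1 ha))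
  by_cases tK : t ∈ K
  · exact triv ((le_inf ML (le_cent1_iff.2 (KM tK))).trans ht.le)
  have nK : L ≤ N(K) := by
    rw [hK]
    refine norms_inf le_normalizer (le_trans ?_ (norm_le_norm_cent _))
    exact norms_of_commg_le (commg_sup_left_le ((commg_le_left (commg_norml _ _)).trans le_sup_left)
      ((commutator_comm A L).le.trans le_sup_left) (norms_of_le le_sup_left) (norms_of_le le_sup_right))
  have p2 : PG 2 K := by
    refine PiN.of_relIndex (H := ⁅L, A⁆) ((Oc_pi _ L).of_le ((le_Fit ⟨inf_le_left.trans ML,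
      norms_inf (commg_norml _ _) nK⟩ (nil_of_ab (comm_iff_le_cent.2 (inf_le_right.trans
      (KM.trans (cent_mono inf_le_left)))))).trans (Fit_eq_Oc h0).le)) ?_
    refine PiN.dvd ?_ (relIndex_dvd_of_norm (KL.trans (commg_norml _ _)) ML KL)
    have := relIndex_sup_of_norm (zt.trans (commg_norml L A))
    rw [e] at this
    exact this ▸ (pg_inv ht.sq).relIndex _
  have := ih _ (lt KL nK k0) (h.quot _) (ht.quot nK tK (by
    have cP : A ≤ C(K ⊔ zpowers t) := cents_symm (sup_le KA (zpowers_le.2 ht.cent))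
    have l : L ⊓ N(K ⊔ zpowers t) ≤ C(A) := cents_symm (cents_of_commg_le_cent
      (norms_inf h.n (norms_norm (norms_of_cents cP))) (h.cop inf_le_left) ((le_inf
      ((commutator_mono inf_le_left le_rfl).trans ML) (((commutator_mono inf_le_right cP).trans
      (commg_le_right (norm_le_norm_cent _))).trans (cent_le_cent1 (mem_sup_right
      (mem_zpowers t))))).trans ht.le))
    rw [← quo_qpre (quo K L ⊓ _)]
    refine quo_mono _ ((le_inf (qpre_le KL inf_le_left) ?_).trans (le_inf inf_le_left l))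
    refine norms_of_quo (qpre_le_norm _) (zt.trans nK) ?_
    rw [quo_qpre]
    exact inf_le_right.trans (cent_le_norm _))) rfl
  rw [← quo_comm nK (norms_of_cents (cents_symm KA))] at this
  have hS : Syl 2 (K ⊓ ⁅L, A⁆) ⁅L, A⁆ :=
    ⟨inf_le_right, p2.infl _, by rw [inf_relIndex_right, ← card_quo (ML.trans nK)]; exact this⟩
  have b := H18.Burnside_normal_complement hS (inf_le_left.trans (cents_symm (inf_le_left.trans KM)))
  rw [H19.eq_bot_mono (Oc_le_Oc ⟨ML, commg_norml _ _⟩) h0] at b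
  have b := b.pi'_of_eq_bot
  rw [compl_compl] at b
  exact triv ((quo_eq_bot_of_pi (ML.trans nK) b this).trans KA)

end H1
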