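import Cfsg.Agent.H18.CL3
import Cfsg.Agent.H19.Amb2

/-! S5242, chunk `RED`: the abstract core (cocycles on pairs of points of a model). -/

set_option autoImplicit false
set_option linter.unusedSectionVars false

namespace H1.CL
open Subgroup H19 MulAction
open H18.CL (Cy Cb ex_inv)

variable {H G D Y : Type*} [Group H] [Finite H] [Group G] [Finite G] [AddCommGroup D] [DistribMulAction G D]
  [Finite Y] [MulAction H Y] {p e : ℕ} [Fact p.Prime] {π : H →* G} {Q : Subgroup G → Prop} {τ : Y → Y → D}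
  {R R' P : Subgroup H} {x y x' y' : Y} {S S' : Sylow p G} {W : Subgroup G}

local notation "St" => stabilizer H

theorem map_cj (π : H →* G) (g : H) (R : Subgroup H) : (cj g R).map π = cj (π g) (R.map π) := by
  rw [cj_def, cj_def, map_map, map_map]; congr 1; ext; simp
theorem St_smul (g : H) (x : Y) : St (g • x) = cj g (St x) := stabilizer_smul_eq_stabilizer_map_conj g x
theorem le_St (g : H) (h : R ≤ St x) : cj g R ≤ St (g • x) := St_smul g x ▸ cj_mono g h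

variable (π Q p) in
def Fm (R : Subgroup H) : Prop := PG p R ∧ Syl p (R ⊓ π.ker) π.ker ∧ Q (R.map π)
variable (π) in
def Ov (S : Sylow p G) (x : Y) : Prop := Syl p (St x) ((S : Subgroup G).comap π)

variable (π Q p Y D e) in
structure Env : Prop where
  sj : Function.Surjective π
  pg : ∀ y : Y, PG p (St y)
  nd : ¬ p ∣ Nat.card Y
  up : ∀ P P', P ≤ P' → Q P → Q P'
  cq : ∀ g P, Q P → Q (cj g P)
  tor : ∀ d : D, p ^ e • d = 0

variable (π Q p) in
structure Co (τ : Y → Y → D) : Prop where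
  eqv : ∀ R (g : H) x y, Fm p π Q R → R ≤ St x → R ≤ St y → τ (g • x) (g • y) = π g • τ x y
  coc : ∀ R x y z, Fm p π Q R → R ≤ St x → R ≤ St y → R ≤ St z → τ x y + τ y z = τ x z

theorem ker_n (M : Subgroup H) : M ≤ N(π.ker) := le_top.trans (normalizer_eq_top π.ker).ge
theorem pS (S : Sylow p G) : PG p (S : Subgroup G) := (syl_sylow_top S).pi

namespace Env
variable (E : Env D Y p e π Q)
include E

theorem fup (h : Fm p π Q R) (l : R ≤ P) (k : PG p P) : Fm p π Q P :=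
  ⟨k, h.2.1.of_card_le inf_le_right (k.infl _) (card_le_of_le (inf_le_inf_right _ l)), E.up _ _ (map_mono l) h.2.2⟩
theorem fcj (h : Fm p π Q R) (g : H) : Fm p π Q (cj g R) := ⟨h.1.J g, by
  have := h.2.1.Jnorm (ker_n ⊤ (mem_top g))
  rwa [cj_inf, cj_of_mem_norm (ker_n ⊤ (mem_top g))] at this, map_cj π g R ▸ E.cq _ _ h.2.2⟩
theorem fix (h : PG p R) : ¬ p ∣ Nat.card {y : Y // R ≤ St y} := fun d => E.nd (by
  refine ((h.isPGroup.card_modEq_card_fixedPoints Y).dvd_iff dvd_rfl).2 ?_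
  rwa [Nat.card_congr (Equiv.subtypeEquivRight (q := fun y => R ≤ St y) fun y =>
    ⟨fun k g hg => k ⟨g, hg⟩, fun k g => k g.2⟩)])

theorem avg (c : Co p π Q τ) : ∃ σ : Subgroup H → Y → D,
    (∀ R (g : H) x, Fm p π Q R → R ≤ St x → σ (cj g R) (g • x) = π g • σ R x) ∧
    ∀ R x y, Fm p π Q R → R ≤ St x → R ≤ St y → τ x y = σ R y - σ R x := by
  classical
  have := Fintype.ofFinite Y
  have k : ∀ t : ℕ, ∃ u : ℕ, ¬ p ∣ t → ∀ d : D, u • t • d = d := fun t => by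
    by_cases h : p ∣ t
    · exact ⟨0, fun n => absurd h n⟩
    obtain ⟨u, k, hu⟩ := ex_inv e t h
    exact ⟨u, fun _ d => by rw [← mul_nsmul', hu, add_nsmul, mul_nsmul', E.tor, one_nsmul, nsmul_zero, add_zero]⟩
  choose u hu using k
  let s : Subgroup H → Finset Y := fun R => Finset.univ.filter fun y => R ≤ St y
  have ms : ∀ {R y}, y ∈ s R ↔ R ≤ St y := by simp [s]
  refine ⟨fun R x => u (s R).card • ∑ y ∈ s R, τ y x, fun R g x h l => ?_, fun R x y h l l' => ?_⟩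
  · have m : ∀ y, y ∈ s R ↔ toPerm g y ∈ s (cj g R) := fun y => by rw [ms, ms, toPerm_apply, St_smul, cj_le_cj]
    beta_reduce
    rw [← Finset.card_equiv _ m, ← Finset.sum_equiv _ m fun y hy => (c.eqv R g y x h (ms.1 hy) l).symm,
      ← Finset.smul_sum, smul_comm]
  · beta_reduce
    rw [← smul_sub, ← Finset.sum_sub_distrib, Finset.sum_congr rfl fun z hz =>
      sub_eq_of_eq_add' (c.coc R z x y h (ms.1 hz) l l').symm, Finset.sum_const, hu]
    have := E.fix h.1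
    rwa [Nat.card_eq_fintype_card, Fintype.card_subtype] at this

theorem smap (h : Syl p R (W.comap π)) (k : PG p W) : R.map π = W := by
  have := h.map π
  rw [map_comap_eq_self_of_surjective E.sj] at this
  exact this.eq_self k
theorem fsyl (h : Syl p R (W.comap π)) (k : PG p W) (q : Q W) : Fm p π Q R :=
  ⟨h.pi, h.inf_normal ⟨ker_le_comap _ _, ker_n _⟩, (E.smap h k).symm ▸ q⟩
theorem cjC (h : Syl p R (W.comap π)) (k : PG p W) (l : R' ≤ W.comap π) (q : PG p R') :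
    ∃ c, π c = 1 ∧ cj c R' ≤ R := by
  obtain ⟨g, hg, j⟩ := h.scj_le l q
  obtain ⟨r, hr, e⟩ := (E.smap h k).ge hg
  exact ⟨r⁻¹ * g, by rw [map_mul, map_inv, e, inv_mul_cancel], cj_mul r⁻¹ g R' ▸ cj_le_of_mem (inv_mem hr) j⟩
theorem ocj (h : Ov π S x) (g : H) : Ov π (π g • S) (g • x) := by
  have := h.J g
  rw [← St_smul] at this
  rw [Ov]
  convert this using 1
  ext a
  rw [mem_comap, Sylow.coe_subgroup_smul, ← cj_eq_smul, mem_cj, mem_cj, mem_comap, map_mul, map_mul, map_inv]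
theorem exOv (h : PG p R) (l : R ≤ (S : Subgroup G).comap π) : ∃ x : Y, Ov π S x ∧ R ≤ St x := by
  obtain ⟨A, hA, k⟩ := h.exists_syl l
  obtain ⟨⟨x, hx⟩⟩ := (Nat.card_ne_zero.1 fun j => E.fix hA.pi (j ▸ dvd_zero p)).1
  refine ⟨x, hA.of_card_le (map_le_iff_le_comap.1 ((syl_sylow_top S).max (E.smap hA (pS S) ▸ map_mono hx) le_top
    (.of_isPGroup Fact.out ((E.pg x).isPGroup.map π))).le) (E.pg x) (card_le_of_le hx), k.trans hx⟩

variable (c : Co p π Q τ) (z : ∀ (R : Subgroup H) (x y : Y), Fm p π Q R → R ≤ stabilizer H x → stabilizer H x = stabilizer H y → τ x y = 0)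
include c z

theorem wd (hx : Ov π S x) (hy : Ov π S y) (h : Fm p π Q R) (l : R ≤ St x) (l' : R ≤ St y) : τ x y = 0 := by
  obtain ⟨σ, s1, s2⟩ := E.avg c
  obtain ⟨k, k1, k2⟩ := E.cjC hy (pS S) hx.le hx.pi
  have e : St (k • x) = St y := (St_smul k x).trans (Hall.eq_of_le (hx.Jmem (ker_le_comap _ _ k1)) hy k2)
  have f := E.fup h (le_inf l l') ((E.pg x).infl _)
  have n : cj k (St x ⊓ St y) = St x ⊓ St y := cj_of_mem_norm (mem_norm_of_le_cj fun u hu => mem_cj.2 (by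
    have a : k⁻¹ * u * k ∈ St x := mem_cj.1 (((St_smul k x).symm.trans e).ge hu.2)
    have b := (f.2.1.max (inf_le_inf_right _ inf_le_left) inf_le_right ((E.pg x).infl _)).le
      (mem_inf.2 ⟨mul_mem a (inv_mem (mem_inf.1 hu).1), by simp [MonoidHom.mem_ker, k1]⟩ : k⁻¹ * u * k * u⁻¹ ∈ St x ⊓ π.ker)
    simpa using mul_mem b.1 hu))
  have j := inf_le_right.trans (e.ge : St y ≤ _) (a := St x ⊓ St y)
  rw [← c.coc _ x (k • x) y f inf_le_left j inf_le_right, z _ _ y f j e, s2 _ x _ f inf_le_left j, add_zero, sub_eq_zero]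
  nth_rw 1 [← n]
  rw [s1 _ k x f inf_le_left, k1, one_smul]

theorem uq0 (hx : Ov π S x) (hx' : Ov π S x') (hy : Ov π S' y) (hy' : Ov π S' y') (h : Fm p π Q R) (a : R ≤ St x)
    (a' : R ≤ St x') (b : R ≤ St y) (b' : R ≤ St y') : τ x y = τ x' y' := by
  rw [← c.coc R x x' y h a a' b, ← c.coc R x' y' y h a' b' b, E.wd c z hx hx' h a a', E.wd c z hy' hy h b' b,
    zero_add, add_zero]

theorem uq (hx : Ov π S x) (hx' : Ov π S x') (hy : Ov π S' y) (hy' : Ov π S' y') (h : Fm p π Q R) (a : R ≤ St x)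
    (b : R ≤ St y) (h' : Fm p π Q R') (a' : R' ≤ St x') (b' : R' ≤ St y') : τ x y = τ x' y' := by
  obtain ⟨A, hA, k0⟩ := h.1.exists_syl (M := ((S : Subgroup G) ⊓ S').comap π) (le_inf (a.trans hx.le) (b.trans hy.le))
  obtain ⟨k, k1, k2⟩ := E.cjC hA ((pS S).infl _) (le_inf (a'.trans hx'.le) (b'.trans hy'.le)) h'.1
  obtain ⟨x1, o1, l1⟩ := E.exOv (Y := Y) (S := S) hA.pi (hA.le.trans (comap_mono inf_le_left))
  obtain ⟨y1, o2, l2⟩ := E.exOv (Y := Y) (S := S') hA.pi (hA.le.trans (comap_mono inf_le_right))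
  have o3 := E.ocj hx' k
  have o4 := E.ocj hy' k
  rw [k1, one_smul] at o3 o4
  rw [E.uq0 c z hx o1 hy o2 h a (k0.trans l1) b (k0.trans l2), E.uq0 c z o1 o3 o2 o4 (E.fcj h' k) (k2.trans l1)
    (le_St k a') (k2.trans l2) (le_St k b'), c.eqv _ k _ _ h' a' b', k1, one_smul]

theorem core0 (bt : ∀ τ : Sylow p G → Sylow p G → D, Cy D Q τ → Cb D Q τ) : ∃ h : Y → D,
    (∀ (g : H) x, Fm p π Q (St x) → h (g • x) = π g • h x) ∧
    ∀ R x y, Fm p π Q R → R ≤ St x → R ≤ St y → τ x y = h y - h x := by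
  classical
  have ex : ∀ {W : Subgroup G} (S : Sylow p G), W ≤ S → Q W → ∃ R, Fm p π Q R ∧ ∀ S' : Sylow p G, W ≤ S' →
      ∃ x : Y, Ov π S' x ∧ R ≤ St x := fun {W} S l q =>
    let ⟨R, h⟩ := exists_syl p (W.comap π)
    ⟨R, E.fsyl h ((pS S).of_le l) q, fun _ l => E.exOv h.pi (h.le.trans (comap_mono l))⟩
  have k : ∀ S S' : Sylow p G, ∃ d, (¬ Q (S ⊓ S') → d = 0) ∧ ∀ R x y, Fm p π Q R → Ov π S x → Ov π S' y → R ≤ St x →
      R ≤ St y → d = τ x y := fun S S' => by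
    by_cases q : Q (S ⊓ S')
    · obtain ⟨R, h, k⟩ := ex S inf_le_left q
      obtain ⟨x, o1, l1⟩ := k S inf_le_left
      obtain ⟨y, o2, l2⟩ := k S' inf_le_right
      exact ⟨τ x y, fun n => absurd q n, fun _ _ _ h' a b c' d => E.uq c z o1 a o2 b h l1 l2 h' c' d⟩
    · exact ⟨0, fun _ => rfl, fun R x y h a b c d =>
        absurd (E.up _ _ (map_le_iff_le_comap.2 (le_inf (c.trans a.le) (d.trans b.le))) h.2.2) q⟩
  choose t t0 t1 using k
  obtain ⟨σ, s1, s2⟩ := bt t ⟨fun g S S' => by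
    by_cases q : Q (S ⊓ S')
    · obtain ⟨g, rfl⟩ := E.sj g
      obtain ⟨R, h, k⟩ := ex S inf_le_left q
      obtain ⟨x, o1, l1⟩ := k S inf_le_left
      obtain ⟨y, o2, l2⟩ := k S' inf_le_right
      rw [t1 _ _ _ _ _ h o1 o2 l1 l2, t1 _ _ _ _ _ (E.fcj h g) (E.ocj o1 g) (E.ocj o2 g) (le_St g l1) (le_St g l2),
        c.eqv _ g _ _ h l1 l2]
    · rw [t0 _ _ q, smul_zero, t0]
      intro q'
      have := E.cq g⁻¹ _ q'
      rw [Sylow.coe_subgroup_smul, Sylow.coe_subgroup_smul, ← cj_eq_smul, ← cj_eq_smul, ← cj_inf, cj_cj,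
        inv_mul_cancel, cj_one] at this
      exact q this, fun S S' S'' q => by
    obtain ⟨R, h, k⟩ := ex S'' inf_le_right q
    obtain ⟨x, o1, l1⟩ := k S (inf_le_left.trans inf_le_left)
    obtain ⟨y, o2, l2⟩ := k S' (inf_le_left.trans inf_le_right)
    obtain ⟨w, o3, l3⟩ := k S'' inf_le_right
    rw [t1 _ _ _ _ _ h o1 o2 l1 l2, t1 _ _ _ _ _ h o2 o3 l2 l3, t1 _ _ _ _ _ h o1 o3 l1 l3, c.coc _ _ _ _ h l1 l2 l3]⟩
  have s3 : ∀ {R S S' x y}, Fm p π Q R → Ov π S x → Ov π S' y → R ≤ St x → R ≤ St y → τ x y = σ S' - σ S :=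
    fun h a b c d => (t1 _ _ _ _ _ h a b c d).symm.trans
      (s2 _ _ (E.up _ _ (map_le_iff_le_comap.2 (le_inf (c.trans a.le) (d.trans b.le))) h.2.2))
  have ov : ∀ x : Y, ∃ S y, Ov π (p := p) S y ∧ St x ≤ St y := fun x =>
    let ⟨S, l⟩ := ((E.pg x).isPGroup.map π).exists_le_sylow
    ⟨S, E.exOv (E.pg x) (map_le_iff_le_comap.1 l)⟩
  choose a b o l using ov
  have k : ∀ x S y, Fm p π Q (St x) → Ov π S y → St x ≤ St y → σ (a x) - τ x (b x) = σ S - τ x y :=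
    fun x S y h o' l' => by rw [← c.coc _ x (b x) y h le_rfl (l x) l', s3 h (o x) o' (l x) l']; abel
  refine ⟨fun x => σ (a x) - τ x (b x), fun g x h => ?_, fun R x y h l1 l2 => ?_⟩
  · beta_reduce
    rw [k _ _ _ (St_smul g x ▸ E.fcj h g) (E.ocj (o x) g) (St_smul g x ▸ le_St g (l x)), s1,
      c.eqv _ g _ _ h le_rfl (l x), smul_sub]
  · have h1 := c.coc _ x y _ h l1 l2 (l2.trans (l y))
    have h2 := c.coc _ x _ _ h l1 (l1.trans (l x)) (l2.trans (l y))
    beta_reduce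
    rw [eq_sub_of_add_eq h1, ← h2, s3 h (o x) (o y) (l1.trans (l x)) (l2.trans (l y))]; abel

omit z in
theorem core (bt : ∀ τ : Sylow p G → Sylow p G → D, Cy D Q τ → Cb D Q τ) : ∃ h : Y → D,
    (∀ (g : H) x, Fm p π Q (St x) → h (g • x) = π g • h x) ∧
    ∀ R x y, Fm p π Q R → R ≤ St x → R ≤ St y → τ x y = h y - h x := by
  obtain ⟨σ, s1, s2⟩ := E.avg c
  have s3 : ∀ (g : H) x, Fm p π Q (St x) → σ (St (g • x)) (g • x) = π g • σ (St x) x := fun g x h =>
    St_smul g x ▸ s1 _ g x h le_rfl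
  obtain ⟨h, h1, h2⟩ := E.core0 (τ := fun x y => τ x y - (σ (St y) y - σ (St x) x)) ⟨fun R g x y h a b => by
      rw [c.eqv R g x y h a b, s3 g x (E.fup h a (E.pg x)), s3 g y (E.fup h b (E.pg y)), smul_sub, smul_sub],
    fun R x y z h a b d => by rw [← c.coc R x y z h a b d]; abel⟩ (fun R x y h a e => by
      rw [s2 _ x y (E.fup h a (E.pg x)) le_rfl e.le, ← e, sub_self]) bt
  exact ⟨fun x => h x + σ (St x) x, fun g x k => by beta_reduce; rw [h1 g x k, s3 g x k, smul_add],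
    fun R x y k a b => by beta_reduce; rw [eq_add_of_sub_eq (h2 R x y k a b)]; abel⟩

end Env
end H1.CL
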