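import Cfsg.Agent.H16.Slp

/-! Generated by tools/h16 (computation kit). -/

set_option maxRecDepth 100000
set_option maxHeartbeats 0
set_option linter.unusedVariables false

namespace H1.CoC

open H16

noncomputable def Rl : List (List ℕ) := [[nat_lit 0, nat_lit 0],
  [nat_lit 1, nat_lit 2],
  [nat_lit 2, nat_lit 1],
  [nat_lit 3, nat_lit 3],
  [nat_lit 4, nat_lit 4],
  [nat_lit 0, nat_lit 1, nat_lit 1, nat_lit 0, nat_lit 1, nat_lit 1, nat_lit 0, nat_lit 1, nat_lit 1],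
  [nat_lit 0, nat_lit 1, nat_lit 0, nat_lit 1, nat_lit 0, nat_lit 1, nat_lit 0, nat_lit 1],
  [nat_lit 0, nat_lit 1, nat_lit 1, nat_lit 1, nat_lit 1, nat_lit 0, nat_lit 2, nat_lit 2, nat_lit 2, nat_lit 2],
  [nat_lit 1, nat_lit 3, nat_lit 1, nat_lit 3, nat_lit 1, nat_lit 3],
  [nat_lit 0, nat_lit 1, nat_lit 1, nat_lit 1, nat_lit 0, nat_lit 3, nat_lit 2, nat_lit 2, nat_lit 2, nat_lit 0, nat_lit 3, nat_lit 2, nat_lit 2, nat_lit 3, nat_lit 2],
  [nat_lit 1, nat_lit 4, nat_lit 1, nat_lit 4],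
  [nat_lit 0, nat_lit 4, nat_lit 0, nat_lit 4],
  [nat_lit 3, nat_lit 4, nat_lit 3, nat_lit 4, nat_lit 3, nat_lit 4],
  [nat_lit 0, nat_lit 1, nat_lit 1, nat_lit 3, nat_lit 1, nat_lit 0, nat_lit 4, nat_lit 3, nat_lit 1, nat_lit 3, nat_lit 4, nat_lit 0, nat_lit 1, nat_lit 3, nat_lit 2, nat_lit 0, nat_lit 2, nat_lit 3, nat_lit 4, nat_lit 2, nat_lit 3, nat_lit 1, nat_lit 0, nat_lit 1, nat_lit 3, nat_lit 2, nat_lit 0, nat_lit 2, nat_lit 3, nat_lit 1, nat_lit 1, nat_lit 1, nat_lit 4, nat_lit 3, nat_lit 1]]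
noncomputable def Pd : List ℕ := [nat_lit 0x9b9ce29d07b43a897b87136ee1ede30116d43985dbd108092197c7ded38ada258ccec891734558cdd53c37817875a1180a140dbcac98b5af93b3b9eab64a99b0b87149bb0faa304d4fa66d8b507fc1826447eceeef0bb1bad6960317b792cc832f271ecfa4d2e84be61adc0290a0c429a21d7d6be71b32c37036c25dcb2aae7742e4a5227c555a3f2e5f5e9f443554606665745c526933c934566a61315b24a3a74ea81188b2ad289e46ca63436f2d40683823c620e9dd3ec5766257597953a98f6741261f7280488e2cd0513d6cd73b2b8d7e1c7a8606c094df0cbee5124c10ab0ebd159abfd8d9eb1905049584e000,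
  nat_lit 0x969d11cf70029cba92835438de437f908c9a393759586bc9c606402b7623b620df4265c3e191085f713d93866975633c0bbf991d9798847d7a7cee2ee7edb3ae33e0d2b09e1a1715c0b1bd1816b54d824b03cb1f32d409c787d766e21bd93f0481217b3a3e495578e6e4c1eae8ca12a1e92cccd136a82d35cddabbef142ac20f1331a5290d01dbafb407b7a06c45ce1080ab2f5ce56462a6259fac24aa9b4fb953a45e30b8b2c41ceb515622d08f5d89686e4641a967288ec86d88bc72ad6f34a7be2726a35a477e4e574a8a8b955b48738d944c85746a613b5044a25279dd60c50ed3dc0aecd81e77d505d60ce31900,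
  nat_lit 0x74b5b20a47847f83b3875b860294cbaecfe3110c697692099604069a0dad7c43ec61777d9d82d83798d70f49cc7185a7be2ea53475e8504b65d1a267b14aa6ac68b032555e533b7a2f586d4e2b14806456abeee952debdbabbef221dc5e7cae042381edf2324403597c41bb9e6a08f5fe128b8b68db7128807d3c21a1f33c7eb313e3663d919c33f3a95cd5ac1591810c84d415c212adbda264589e54f1346165127a11c9f258a20293d6215e2ce3cd5918bc6c0178cdde4dc7b7830af9b6e4c5db4797ed4726c392d2c5754d2448ed09c08bc4893aa01a4a9a3a8736f81ed60700e6b03bf0b99c966d605909eea6a00,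
  nat_lit 0x5b7a332b704483cfb38554726a5955667f984887604750a811d606bab0a79e69e856ae359382b57119afac4b2c750c798d7c5e4637d4583c737bc963e738b1d3c6cd2dc5365c3dd8d2926d27081615456fd11f1b529a99de971c673fcba6623a578bbf898e4f8c81dc31e629e9ca8802df2012beb6eec026070fc224b7e4c8eb9f2aa52214e3d01795e00d42b49113db01bd51aaef25e2b98fcee1e51a9b5dd98a0e0921c43e41dddabca0ea10644904944aa9b81d9028b2bbabcc2fed1886233403adc3ec6e8439a4785a74306c4c7e9d0a3b969c53c73268a2a16b617dd743764e65c10b1e4da377d505402e805f00,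
  nat_lit 0x5173362b1bb4e1ca4c3fad6e3a76e9c39a8c8d9eb094482c3db89fcf435b170dd41265909ce87e5e64c60f6fe02a294150b925a63382bed677a914ea306d34db9769e55937aab6665dbc4a270aa28098d5dc1fcb24df57a0af4615da701c83cc8f8bddde8e5245196831472e91ba42a17fc9043b11076101b7e2724fee755a93c4e4b2632035ae8702a8cdc76c5579104dc8a705d271ac1d994062321a8aefbf744e5fe706a513d985968922d381c056e638d73c7ce31e3eabed6ab1bb5486b32f8418d8ecc2c108a409bd9b2144236b9d395892eb53882dd10b95b549ce7b60c500d00316a326287a4b5c7d0c67780e]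
noncomputable def P (k u : ℕ) : ℕ := Nat.land (Nat.shiftRight (nth (nat_lit 0) Pd k) (Nat.mul u (nat_lit 8))) (nat_lit 255)
noncomputable def T0d : List ℕ := [nat_lit 0xb0e01ced1bee21dd1bea1ceb31d420e309e52dda08e702d721e806d204d1b1ef10c51ec020ecb0bd28cf2ce617d536bb03e4b0b816d930e9b0b507e205e122b929db31c900be38b21bad1cc232ce23a70fc31ea511df1ca30ec71dca20a11ddeaf9e01cdb1dc389b37d8af9923d0b1d6b096af95b1d3249c2c9739cc358e6db023af89ae1acb66a9af8a80a065ac358424c8af821fc6af801dc4af7e1fc17faaaf7caebfb07725b439bcaf74aebab0712db3b1b7aeb6b06c336e3f92249152752e6f34b1af686e8c8a8baeab6885b0646b76827b678934a8af62aea6b05faea4b05caea2b05aae9f8186b05881788279b19d6a875190ae9ab04f8754b19857702f8f32934c52b194af4c3e6a5050ae8db048a0668465b1886d53ae83b0407149b181b03e565db17f463db17d8a59b17a83568457b03388726c634d6d5c304f69b1738931584dae6b4e2fb0297060b167b0278546884489459134b023442ab1617328b15e455b553c48209e3ab01d9835981f8b3699389243b155b0198a4e5b514f4bb0165e17ae189d2b4341b14a723fb147a31c9b258b12b1424214ae13473b9737b00eb139a2269a1bb00cb132af2c5d2db12eb00a4122af218a24ad0db008a209b11eac11b11ab006b115a30fb110b004b10bb003b107b105a402af01b100,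
  nat_lit 0x18e2b0dcb0db13e437ed69ee2dd8b0d20def36ce0ae8b0cab0c6b0c221cbb0c169de08e3b0be17ccb0bc36c9b0bb2cd6b1ecb1ebb1ea33b7b1e9b0b424d0b1e712b8b0b114ddb1e6b1e5a3c0b0a825d3b0a529c727c409e0b0a1b1e122c3b1df6c9eb09c27d9b1da6aa783abb1d7b096b1d531b3b1d4b1d12ca4b1cf3d93af8d3e918baeb1cdaf8a649f6aa9af8788c8a58e70b07eb945a2b1c53e7ea4ad78a681bfaf78807aa6a3b1bd5a9762ba6171af70b06e3fb6406cb1b5408326afaf6b3094b1b265ac6f818c8baf6564678298afaab06369866b9b4a9a6f72797b53902b8faf5b447fafa0b0586388af5976686d9d8a795d74af514961af99b04e7d525973a684af95b04baf92b04a545caf49b18ca15e8854b189b185af41416aaf82b03f9e42af80b03c6c623d7daf7cb0368b53b1779c45af76b031af30af75b02d5e506e5fb16faf6db029b16985607556b166b164b025893e8f32ab397b2a6d3b8628b021af5db020b15ab01e9f3ab01c941db1579d55af2eb0199d4787467e3d7c4d8e24b14fb0158e43af4cb014b1489738a71ab011b144ae33b140b00f7f17a426a22cb00db137b135b134b00b9f10b12fb00ab12b7c22b127a316b008b123b007b11fac12b11bb118b005b113b004b10eb10cb109b002b106b103af01b100,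
  nat_lit 0xce768ea36ebb0d7b0d6b0d5b0d309e5b0d0b0ccb0cb12ec07de19efb0c208c4b0c06adf13cdb1eeb1edb0bc26bd2ce9b0b92bd8b0b7b0b524c8b1e8b0b423d1b0b237e6b0ad16dc20e1b1e437da87a82ac6b1e3b0a326c521c1b1e2b1e0a2ca809fb1ddb09bb1dbb1d961997da511cf32d43e95b093b1d230b6b08eb1ce6fa625918aaea3a1648d82baae8769aab1c969bb77a0b1c72bb3a59c44a4b1c3ae7c63ab6bbf6c77b1be6a844b83ae728188599ab1b8ae6d2f8f3cb1ae6b3daf52802a7fa4a7aeb0b0678b8baeacb064627aaea96885b063a56e3f92ae606e8cae5d437d3da23c5aae597a817f9d8976ae9eb056ae54ae515c75586f6e826098ae97b04db196ae4c3f94ae904061b04a75786389b047ae8ab046b1866b5b487384496d4ea066ae3d5369ae7eb03bae79b17bb03674489c3587658c577c70ae745f4fb02db1717b2fae2ab16cb16aae68b0289c3286319b55b0248d2b9d5eae62b022b15f88447d30b15c6c40a039aa429627b01cb158b01bb01aaf238e43b153ae52b017ae34b150a11eb0157a41b14b853fb013a51fb1458d2eb0107b14b13eb13cb00eb13a9337b138b00ca626b133b00b8020a212b12cb129b009ab0db1259e18b121b007b11db006b119b116b005b111b10fb003b10ab108b002b104ae01b100,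
  nat_lit 0x8e81eed1dee1fea32dd1eec2be509ef32d464ce2ce968cf07e023d3aec308e31fdfb0bf33eb15cd58d749c928d6b0ba59db29d93bb833e722e2adb552c7b0b369e463e616dcb0acb0abb0aa48dab0a651d1b0a426c5b0a2ade1b0a0b09fb09eb1de5bbd5cbeb09ab099b1d8b0973ad53db63cb7aed2b090b1d06ea9b08d3f92b08c9faeb08ab1ccb1cbb1ca6fb2b083b082b1c8b080b1c6b07eb1c4b07cb1c2b1c1b1c0257ab075b074b1bcb1bb5773b1b9709571963e89b06b3eb0b06ab1b4b069b068b1b1b1afb066b1ad3f94267ba378ae64726cb062b1a8b1a72761b1a5297db1a32a7fb1a12788249d8876a487a0588979b19cb19b5898a072ae4f7f5daf50b04c726d7185b193b191b18fb18e3e4ab18ba559af86b045b1842881a549ae408d477e707a5aa7517b5ca6659f77af38b035744b9f549d448052a65bae6faf71b02cb02bb16e73553f67a660a2298e5eb025b1639e53b0239234a72aaf5fb0218827a930803ab01e813c811fae57af1db01bb1569142812f902eb018a83d82338f32b015b14eb14da841a148b013873ea51ab146b010b143b00fb13fb00e8239b13bae37b00cb136a6268316b131b00a8419b12db009b128b008860bb124b122b120b006b11c8511b117b114b1127d05b10d7e07ad03ae04b001b102b100,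
  nat_lit 0xce819ea28eba9dd29ed1aee2fda0befaed234d424e2aacd09e023e520e10ae3a0c323c1a8ec19d52ad62ee9aabd55bcabbe2bdb18dc35e62fc9ade725d1aeb4a0b83ab5abe43ab724c2acad30d325a87ac527c47bc728c69fdf25cb22dea2a1b09daad7abd956d8ac9bb098ad9c9fcf3bccb0943bceafd0b08fa2963c93b08c3d91b08badcab089b088b086b08526c8ac84b0817ca3b07f7da5b07da1c0b07bb07ab077b1bfacb9adbbb073b071b1bab06fa1b2b06cb1b63db1b06a3cafb069b1b3a46eb067b1b0b1aeb064b1acb1abb063b1aab1a9ada7b061b05fb1a6b05cb1a4b05ab1a2b058b1a0b19fb057b056b19eb053b050b04fb19ab04eb199b04db197a38eb04bb195b04ab192b190b048b18da066b046b18ab187b040b183b03fb182a347b03cb180b03bb17eb036b17cb179b178a655b031b176b02fb02db175b174b172b170b029b16db16bb028b168a45eb165a5358b388f39a732b022b162b160a527b020b15db15ba72b90438a44962eb159a645a61da733a642b154b017b1529537b151a12ca83ab014b14cb149a63eb012a71b8d1ca919b141a713b13da916a915a5348c24a825a80da823a018b130a81fa81eb12aa821b126a90ca90ba909ab0aa71aaa11aa10aa0eaa0fab06ab05ac08ac07ad03ae04af02b000b101]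
noncomputable def T0 (k u : ℕ) : ℕ := Nat.land (Nat.shiftRight (nth (nat_lit 0) T0d k) (Nat.mul u (nat_lit 16))) (nat_lit 65535)
noncomputable def I0d : List ℕ := [nat_lit 0x1006020e038c0070002004000006050000004c0180000812008160020a01844008c2200c4000c81404011840418c8308c001800520c000880009ca600067281200a0001800000000000011000000041380021842001c226000110162088220200100420101200000202c01000c228801518003158410080500a008040110c110400000400804700800480a00080200942008021206d,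
  nat_lit 0x26344050060000a000c02000090842208041280a1090030004300441101c111c200902190483208239c076220870b08238c44098c218046088831056220c42180450240210c43008666884310c0e11060182a30a88108d0301860108600044300c6000823004420840211c45200600800010691008421142018c0158c0100400020010840208024088010048108020084200846f,
  nat_lit 0xc00024010800000000004000100000480104000042000401080000000100020000000000100020000200000100c00004000000000000000000000000000000004000000000000000040000000000000800000000000010000010002004000840000000000000800100c000040038020000200002001820000210040100020100210002008020084010802100405,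
  nat_lit 0x80700006008800144618140008001144500040100800000000080000000804000400380400800200c01084a000401004010848000420080400000100021004800008008401004811000318c2130c03200600842100404004e00000018c60200430140020001020631002202004018600080020020014002000108c0000020080202840009401010200804108401004210044010029,
  nat_lit 0x2800211040100400004410c0200000114020006010040000c00004300c02000430006040047008001806000003000001000000020180010000118000088010802100423000200802008400080000802008001004200880108020080010040108480080010842008401204020100108001080803044228020080251002110005104011100011004080011040000802200400088011c01]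
noncomputable def I0 (k u : ℕ) : ℕ := Nat.land (Nat.shiftRight (nth (nat_lit 0) I0d k) (Nat.mul u (nat_lit 5))) (nat_lit 31)
noncomputable def D0d : ℕ := nat_lit 0x8c113a24c3485f0aa1041c822ff5fc3f47c0f31e5bc7782ef9dc3b175ceb5d4ba573ce61ca38a712e19c2b826f6dddb135f6b4d55a5341676cdd9832d64ec8d8f31962ac3984305600bf17b2f05dcba1702d359eb1d622c057eaed5aab1558a894ea9251aa2541a7f4f29d537a6b4cc95d29a4c48e90d1ca3545e8a11021c4348590aa1142082d03a044027e0fa9f43e67c4f81ed3d277ced9d0398718e11bc3746e0db9b235e68cca18f316628c41853045fcbd9792ec5d0b996c2d0590b115f2b8510a013f27a4d89812e2564a08911021e4307f8f91ee3bc728e31c437c6d0d119e334660c91862f05d8b51642bc570ab15029c520a21322604888e11a228440830fe1f43d8770e81b83606b0d41a0330620c01782b8530a21382684908e1182183f07a0f01c83806a0d01903005c0ac1502804a0901081f03c06c0d0160280400780c01602002000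
noncomputable def D0 (u : ℕ) : ℕ := Nat.land (Nat.shiftRight D0d (Nat.mul u (nat_lit 11))) (nat_lit 2047)
noncomputable def RL0 : List (List Rule) := [[.rel (nat_lit 0) (nat_lit 0) [nat_lit 0], .rel (nat_lit 22) (nat_lit 2) [nat_lit 4, nat_lit 0, nat_lit 4], .defn, .rel (nat_lit 22) (nat_lit 0) [nat_lit 4, nat_lit 0, nat_lit 4], .rel (nat_lit 18) (nat_lit 4) [nat_lit 3, nat_lit 2, nat_lit 2, nat_lit 2, nat_lit 0, nat_lit 3, nat_lit 2, nat_lit 2, nat_lit 3, nat_lit 2, nat_lit 0, nat_lit 1, nat_lit 1, nat_lit 1], .rel (nat_lit 18) (nat_lit 9) [nat_lit 3, nat_lit 2, nat_lit 2, nat_lit 3, nat_lit 2, nat_lit 0, nat_lit 1, nat_lit 1, nat_lit 1, nat_lit 0, nat_lit 3, nat_lit 2, nat_lit 2, nat_lit 2], .rel (nat_lit 10) (nat_lit 3) [nat_lit 1, nat_lit 1, nat_lit 0, nat_lit 1, nat_lit 1, nat_lit 0, nat_lit 1, nat_lit 1], .rel (nat_lit 12) (nat_lit 0) [nat_lit 1, nat_lit 0, nat_lit 1, nat_lit 0, nat_lit 1, nat_lit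 0, nat_lit 1], .rel (nat_lit 18) (nat_lit 0) [nat_lit 1, nat_lit 1, nat_lit 1, nat_lit 0, nat_lit 3, nat_lit 2, nat_lit 2, nat_lit 2, nat_lit 0, nat_lit 3, nat_lit 2, nat_lit 2, nat_lit 3, nat_lit 2], .rel (nat_lit 10) (nat_lit 0) [nat_lit 1, nat_lit 1, nat_lit 0, nat_lit 1, nat_lit 1, nat_lit 0, nat_lit 1, nat_lit 1], .rel (nat_lit 12) (nat_lit 4) [nat_lit 1, nat_lit 0, nat_lit 1, nat_lit 0, nat_lit 1, nat_lit 0, nat_lit 1], .rel (nat_lit 14) (nat_lit 5) [nat_lit 2, nat_lit 2, nat_lit 2, nat_lit 2, nat_lit 0, nat_lit 1, nat_lit 1, nat_lit 1, nat_lit 1], .rel (nat_lit 12) (nat_lit 6) [nat_lit 1, nat_lit 0, nat_lit 1, nat_lit 0, nat_lit 1, nat_lit 0, nat_lit 1], .sub (nat_lit 0) [] [], .rel (nat_lit 14) (nat_lit 0) [nat_lit 1, nat_lit 1, nat_lit 1, nat_lit 1, nat_lit 0, nat_lit 2, nat_lit 2, nat_lit 2, nat_lit 2]],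
  [.rel (nat_lit 2) (nat_lit 0) [nat_lit 2], .defn, .rel (nat_lit 20) (nat_lit 2) [nat_lit 4, nat_lit 1, nat_lit 4], .rel (nat_lit 20) (nat_lit 0) [nat_lit 4, nat_lit 1, nat_lit 4], .rel (nat_lit 16) (nat_lit 4) [nat_lit 3, nat_lit 1, nat_lit 3, nat_lit 1, nat_lit 3], .rel (nat_lit 16) (nat_lit 2) [nat_lit 3, nat_lit 1, nat_lit 3, nat_lit 1, nat_lit 3], .rel (nat_lit 14) (nat_lit 1) [nat_lit 1, nat_lit 1, nat_lit 1, nat_lit 0, nat_lit 2, nat_lit 2, nat_lit 2, nat_lit 2, nat_lit 0], .rel (nat_lit 12) (nat_lit 5) [nat_lit 0, nat_lit 1, nat_lit 0, nat_lit 1, nat_lit 0, nat_lit 1, nat_lit 0], .rel (nat_lit 10) (nat_lit 4) [nat_lit 1, nat_lit 0, nat_lit 1, nat_lit 1, nat_lit 0, nat_lit 1, nat_lit 1, nat_lit 0], .rel (nat_lit 10) (nat_lit 2) [nat_lit 0, nat_lit 1, nat_lit 1, nat_lit 0, nat_lit 1, nat_lit 1, nat_lit 0, nat_lit 1], .rel (nat_lit 10) (nat_lit 5) [nat_lit 0, nat_lit 1, nat_lit 1, nat_lit 0, nat_lit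 1, nat_lit 1, nat_lit 0, nat_lit 1], .rel (nat_lit 12) (nat_lit 7) [nat_lit 0, nat_lit 1, nat_lit 0, nat_lit 1, nat_lit 0, nat_lit 1, nat_lit 0], .rel (nat_lit 14) (nat_lit 2) [nat_lit 1, nat_lit 1, nat_lit 0, nat_lit 2, nat_lit 2, nat_lit 2, nat_lit 2, nat_lit 0, nat_lit 1], .rel (nat_lit 14) (nat_lit 3) [nat_lit 1, nat_lit 0, nat_lit 2, nat_lit 2, nat_lit 2, nat_lit 2, nat_lit 0, nat_lit 1, nat_lit 1], .rel (nat_lit 16) (nat_lit 0) [nat_lit 3, nat_lit 1, nat_lit 3, nat_lit 1, nat_lit 3], .sub (nat_lit 2) [] [], .rel (nat_lit 10) (nat_lit 7) [nat_lit 1, nat_lit 0, nat_lit 1, nat_lit 1, nat_lit 0, nat_lit 1, nat_lit 1, nat_lit 0], .rel (nat_lit 10) (nat_lit 8) [nat_lit 0, nat_lit 1, nat_lit 1, nat_lit 0, nat_lit 1, nat_lit 1, nat_lit 0, nat_lit 1], .rel (nat_lit 12) (nat_lit 1) [nat_lit 0, nat_lit 1, nat_lit 0, nat_lit 1, nat_lit 0, nat_lit 1, nat_lit 0], .rel (nat_lit 12) (nat_lit 3) [nat_lit 0, nat_lit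 1, nat_lit 0, nat_lit 1, nat_lit 0, nat_lit 1, nat_lit 0], .rel (nat_lit 14) (nat_lit 4) [nat_lit 0, nat_lit 2, nat_lit 2, nat_lit 2, nat_lit 2, nat_lit 0, nat_lit 1, nat_lit 1, nat_lit 1], .rel (nat_lit 18) (nat_lit 2) [nat_lit 1, nat_lit 0, nat_lit 3, nat_lit 2, nat_lit 2, nat_lit 2, nat_lit 0, nat_lit 3, nat_lit 2, nat_lit 2, nat_lit 3, nat_lit 2, nat_lit 0, nat_lit 1], .rel (nat_lit 26) (nat_lit 8) [nat_lit 3, nat_lit 4, nat_lit 0, nat_lit 1, nat_lit 3, nat_lit 2, nat_lit 0, nat_lit 2, nat_lit 3, nat_lit 4, nat_lit 2, nat_lit 3, nat_lit 1, nat_lit 0, nat_lit 1, nat_lit 3, nat_lit 2, nat_lit 0, nat_lit 2, nat_lit 3, nat_lit 1, nat_lit 1, nat_lit 1, nat_lit 4, nat_lit 3, nat_lit 1, nat_lit 0, nat_lit 1, nat_lit 1, nat_lit 3, nat_lit 1, nat_lit 0, nat_lit 4, nat_lit 3]],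
  [.rel (nat_lit 4) (nat_lit 0) [nat_lit 1], .defn, .rel (nat_lit 18) (nat_lit 12) [nat_lit 3, nat_lit 2, nat_lit 0, nat_lit 1, nat_lit 1, nat_lit 1, nat_lit 0, nat_lit 3, nat_lit 2, nat_lit 2, nat_lit 2, nat_lit 0, nat_lit 3, nat_lit 2], .rel (nat_lit 14) (nat_lit 9) [nat_lit 0, nat_lit 1, nat_lit 1, nat_lit 1, nat_lit 1, nat_lit 0, nat_lit 2, nat_lit 2, nat_lit 2], .rel (nat_lit 18) (nat_lit 7) [nat_lit 2, nat_lit 0, nat_lit 3, nat_lit 2, nat_lit 2, nat_lit 3, nat_lit 2, nat_lit 0, nat_lit 1, nat_lit 1, nat_lit 1, nat_lit 0, nat_lit 3, nat_lit 2], .sub (nat_lit 4) [] [], .rel (nat_lit 14) (nat_lit 7) [nat_lit 2, nat_lit 2, nat_lit 0, nat_lit 1, nat_lit 1, nat_lit 1, nat_lit 1, nat_lit 0, nat_lit 2], .rel (nat_lit 14) (nat_lit 8) [nat_lit 2, nat_lit 0, nat_lit 1, nat_lit 1, nat_lit 1, nat_lit 1, nat_lit 0, nat_lit 2, nat_lit 2], .rel (nat_lit 18) (nat_lit 8) [nat_lit 0, nat_lit 3, nat_lit 2, nat_lit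 2, nat_lit 3, nat_lit 2, nat_lit 0, nat_lit 1, nat_lit 1, nat_lit 1, nat_lit 0, nat_lit 3, nat_lit 2, nat_lit 2], .rel (nat_lit 18) (nat_lit 11) [nat_lit 2, nat_lit 3, nat_lit 2, nat_lit 0, nat_lit 1, nat_lit 1, nat_lit 1, nat_lit 0, nat_lit 3, nat_lit 2, nat_lit 2, nat_lit 2, nat_lit 0, nat_lit 3]],
  [.rel (nat_lit 6) (nat_lit 0) [nat_lit 3], .defn, .rel (nat_lit 16) (nat_lit 3) [nat_lit 1, nat_lit 3, nat_lit 1, nat_lit 3, nat_lit 1], .rel (nat_lit 24) (nat_lit 4) [nat_lit 4, nat_lit 3, nat_lit 4, nat_lit 3, nat_lit 4], .rel (nat_lit 16) (nat_lit 5) [nat_lit 1, nat_lit 3, nat_lit 1, nat_lit 3, nat_lit 1], .rel (nat_lit 24) (nat_lit 2) [nat_lit 4, nat_lit 3, nat_lit 4, nat_lit 3, nat_lit 4], .rel (nat_lit 16) (nat_lit 1) [nat_lit 1, nat_lit 3, nat_lit 1, nat_lit 3, nat_lit 1], .rel (nat_lit 18) (nat_lit 10) [nat_lit 2, nat_lit 2, nat_lit 3, nat_lit 2, nat_lit 0, nat_lit 1, nat_lit 1, nat_lit 1, nat_lit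 0, nat_lit 3, nat_lit 2, nat_lit 2, nat_lit 2, nat_lit 0], .rel (nat_lit 18) (nat_lit 5) [nat_lit 2, nat_lit 2, nat_lit 2, nat_lit 0, nat_lit 3, nat_lit 2, nat_lit 2, nat_lit 3, nat_lit 2, nat_lit 0, nat_lit 1, nat_lit 1, nat_lit 1, nat_lit 0], .sub (nat_lit 6) [] [], .rel (nat_lit 18) (nat_lit 13) [nat_lit 2, nat_lit 0, nat_lit 1, nat_lit 1, nat_lit 1, nat_lit 0, nat_lit 3, nat_lit 2, nat_lit 2, nat_lit 2, nat_lit 0, nat_lit 3, nat_lit 2, nat_lit 2]],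
  [.rel (nat_lit 8) (nat_lit 0) [nat_lit 4], .defn, .rel (nat_lit 20) (nat_lit 3) [nat_lit 1, nat_lit 4, nat_lit 1], .rel (nat_lit 24) (nat_lit 3) [nat_lit 3, nat_lit 4, nat_lit 3, nat_lit 4, nat_lit 3], .rel (nat_lit 22) (nat_lit 3) [nat_lit 0, nat_lit 4, nat_lit 0], .rel (nat_lit 20) (nat_lit 1) [nat_lit 1, nat_lit 4, nat_lit 1], .rel (nat_lit 22) (nat_lit 1) [nat_lit 0, nat_lit 4, nat_lit 0], .rel (nat_lit 24) (nat_lit 5) [nat_lit 3, nat_lit 4, nat_lit 3, nat_lit 4, nat_lit 3], .rel (nat_lit 24) (nat_lit 1) [nat_lit 3, nat_lit 4, nat_lit 3, nat_lit 4, nat_lit 3]]]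
noncomputable def c0 : TCert := ⟨240, 5, 255, T0, I0, D0, [[nat_lit 0],
  [nat_lit 1],
  [nat_lit 2],
  [nat_lit 3]], RL0⟩
noncomputable def Pt0d : ℕ := nat_lit 0x9d226cea63441b1fee079c022bcb7fec9ad4b49529eb0c8584c1157a9373a2b580776766e9e370c516a30b0adfe1cfdeba2e0347dce6b9a1a8d8b714c95fcdb060053ae0836a010f37ac5008bf1e8c55e89882be9eda873f584d092c65d3106b7ec8aedb5c90c391193578ab76bb59d9288d398962cad5c7a0067cd1949768a61d5e99260d43207169aa04cc8836e275331a92487bdd40459f648fd64bb1b63b17afbcbd57d0c25a537d81c451746ded7286e71c1196ef6f525642242f4fb8b3348aa9c646a5252a31e512495db2e44c5bd79b13ce54a73c30d23d4a6ead794138213261c0233e2d8e188b27a44e0e00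
noncomputable def Pt0 (u : ℕ) : ℕ := Nat.land (Nat.shiftRight Pt0d (Nat.mul u (nat_lit 8))) (nat_lit 255)
noncomputable def Q0d : ℕ := nat_lit 0x39e740e0daeccb9f3dba2621ca61c2acc3c05abb8c9a80b61e5479de9216744ac11bb164e27ab38e782cc8448949d60ba39c4c4d82bfb931b551d0dd302252b04e8d12a684662db719702a03c6d1b877579befe51ddf6d9e723adc73d35d888a55077ea1052e7c63993ed8d7ab9d45cfe18f46755bd41185ce836042d23f68c9381341ed90aa6771cdcc9356eb7b0cafb26e238b1f4881974b36a01a473743a5320296205314245cbc2b58ea6a3510599809151850ad7d0fa762862f5f0d271733be0894e328db7f046c29340aee0e69e8a26f3ce95e87064fc7d5b41c253b91a8016bd9c5c495a4e676ae65bde4a900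
noncomputable def Q0 (u : ℕ) : ℕ := Nat.land (Nat.shiftRight Q0d (Nat.mul u (nat_lit 8))) (nat_lit 255)
noncomputable def l0 : Lev := ⟨240, 5, D0, Pt0, Q0⟩
noncomputable def T1d : List ℕ := [nat_lit 0x1bec5eb172c5a03ac4db51a5ee84992c5569811e7b14ac50b13d9e5b13aceeb122ced15aacec1d64b49b10e7d6b3993cab0f2ce3b0eace2b386cdf6b31b4db0bd3542f62cdd80b4d4628b2c27b35ec256f0603f8302330b08acd3529acd132e491f9adec1c96ca59e84ce635a46e3beb32ec18831cac5b054f16ac5e628b31153bb30a6a48646cbd204eb1222e2534b036cb6a2c669ab02ecaeaea4eaab2aec092286ba0848eb8cb01e888b276b10b266c05b25290eb23ec03b22ac02b21ac84a606c80,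
  nat_lit 0x19ada5f437075a07bc5ec538dfe8455db6db1512e55b8046a218ac4e47993ee274ec473776c45b110c50b3a6851b39ece41f66c3b9af6c391b86c33852acde9d02c2db0a8f49514acdbb09ecd85732cd6b356c247eea32eaad93b8789ac20b07eccfb076737b06e49cb33674bb066babb0626427305c46888ecc8b0522beb04ecc394d6c10b2feb2fb2f2c0e665ab31a2a6c0cb2d2cb2b2c2c0aa03ecacb026ca86086ca5a456c07b28ac06b27aa91b26ac97b012c92b00ec8db22ec88b006c85b20ac80,
  nat_lit 0x5ad35e6b9856a17bc3e2b15df68b15515f4992c5451a47e1193d76367bac4c396d06db1187ec1d4ec44439ec42b106ce525753c79f58bd8b0e2ce0b0cd6439aca1cd3f22c2ab371bacb36acd9b09a5ae70b66cbb08e2289946c21b349f3fb34133c9edaa3d9296c1bb33ac1aae7ac19ae8a2beb32ac16acc2cc9a076c14b315dbbb04acc08aaec0f5e4ecbab2e6c0db2de434b2d6c0bb2c6cafb029a1fa646ca9b29ec08a832ca49e5eca0b01ac9cb016c98b256c04b242c8eb00ac89b21ec01b20ec80,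
  nat_lit 0xb1a415f3374667b166c58b3bec561bb01e0ad5545a094c3610f8826603babce35b6b48af253e4b3aecea1912ce8af96c400b8eb3c81099cf6942b5eaed6c32551673fad6ebdcb0a6c28532c6d7ae9e0d1b092cd49f2ac228ec2bd2b081f256adec1d6ce5c1ead36b9cb06accc726633d72b21abb05dd2f84bac14b31ecc6ad0ec127aeacc1b03ecbeb03acbbb035bb6b2e2b34b02ecb370c5d95b2b6c097862caab022ca6b01dd0ab28eca1b27ec05b26dd90b25ac93b245884b231906ac0ab83b002c81]
noncomputable def T1 (k u : ℕ) : ℕ := Nat.land (Nat.shiftRight (nth (nat_lit 0) T1d k) (Nat.mul u (nat_lit 14))) (nat_lit 16383)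
noncomputable def I1d : List ℕ := [nat_lit 0x30000180a3100c00000000401285200142a004010840600041008000816048001005c8200041a8e7080e800c0b098242040000001008012802068803000200802808020084ec,
  nat_lit 0x110c0109021900f01480530c0000110a021381606000158000484010042018d4d1000100003098100244d00405004a008020000e00842020401104000802208401004210042e,
  nat_lit 0x90004001000000010000000402018c0080210000000000080202000008100180200040008001280010802008021014610800100401004200840108027,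
  nat_lit 0x8000002010002000430088010021004403000010040180020000510c01180a20100018802004e0008020002100001004010002000400080c1004000842008c210802300801]
noncomputable def I1 (k u : ℕ) : ℕ := Nat.land (Nat.shiftRight (nth (nat_lit 0) I1d k) (Nat.mul u (nat_lit 5))) (nat_lit 31)
noncomputable def D1d : ℕ := nat_lit 0xd3de2e168b3d8ebb5baad52a551a4502793a9c4c6411e8cc5a2511864260b03783b9d0e670b399acb5e2d954a953a8d3c9c4ca51269246a2d108541a08fc773b1c0dc6d359a4cc6531180be592a14ca4512712c92421f8f4763a1b8d46832178b4582a1489c4c24118843e1e0e06832170a8502411070301208030140600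
noncomputable def D1 (u : ℕ) : ℕ := Nat.land (Nat.shiftRight D1d (Nat.mul u (nat_lit 9))) (nat_lit 511)
noncomputable def RL1 : List (List Rule) := [[.rel (nat_lit 0) (nat_lit 0) [nat_lit 0], .defn, .rel (nat_lit 10) (nat_lit 0) [nat_lit 1, nat_lit 1, nat_lit 0, nat_lit 1, nat_lit 1, nat_lit 0, nat_lit 1, nat_lit 1], .rel (nat_lit 18) (nat_lit 9) [nat_lit 3, nat_lit 2, nat_lit 2, nat_lit 3, nat_lit 2, nat_lit 0, nat_lit 1, nat_lit 1, nat_lit 1, nat_lit 0, nat_lit 3, nat_lit 2, nat_lit 2, nat_lit 2], .rel (nat_lit 10) (nat_lit 3) [nat_lit 1, nat_lit 1, nat_lit 0, nat_lit 1, nat_lit 1, nat_lit 0, nat_lit 1, nat_lit 1], .rel (nat_lit 12) (nat_lit 0) [nat_lit 1, nat_lit 0, nat_lit 1, nat_lit 0, nat_lit 1, nat_lit 0, nat_lit 1], .rel (nat_lit 18) (nat_lit 0) [nat_lit 1, nat_lit 1, nat_lit 1, nat_lit 0, nat_lit 3, nat_lit 2, nat_lit 2, nat_lit 2, nat_lit 0, nat_lit 3, nat_lit 2, nat_lit 2, nat_lit 3, nat_lit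 2], .rel (nat_lit 18) (nat_lit 4) [nat_lit 3, nat_lit 2, nat_lit 2, nat_lit 2, nat_lit 0, nat_lit 3, nat_lit 2, nat_lit 2, nat_lit 3, nat_lit 2, nat_lit 0, nat_lit 1, nat_lit 1, nat_lit 1], .rel (nat_lit 12) (nat_lit 4) [nat_lit 1, nat_lit 0, nat_lit 1, nat_lit 0, nat_lit 1, nat_lit 0, nat_lit 1], .rel (nat_lit 12) (nat_lit 2) [nat_lit 1, nat_lit 0, nat_lit 1, nat_lit 0, nat_lit 1, nat_lit 0, nat_lit 1], .rel (nat_lit 12) (nat_lit 6) [nat_lit 1, nat_lit 0, nat_lit 1, nat_lit 0, nat_lit 1, nat_lit 0, nat_lit 1], .rel (nat_lit 14) (nat_lit 5) [nat_lit 2, nat_lit 2, nat_lit 2, nat_lit 2, nat_lit 0, nat_lit 1, nat_lit 1, nat_lit 1, nat_lit 1], .sub (nat_lit 0) [] [], .rel (nat_lit 10) (nat_lit 6) [nat_lit 1, nat_lit 1, nat_lit 0, nat_lit 1, nat_lit 1, nat_lit 0, nat_lit 1, nat_lit 1], .rel (nat_lit 14) (nat_lit 0) [nat_lit 1, nat_lit 1, nat_lit 1, nat_lit 1, nat_lit 0, nat_lit 2, nat_lit 2, nat_lit 2, nat_lit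 2]],
  [.rel (nat_lit 2) (nat_lit 0) [nat_lit 2], .defn, .rel (nat_lit 16) (nat_lit 4) [nat_lit 3, nat_lit 1, nat_lit 3, nat_lit 1, nat_lit 3], .rel (nat_lit 12) (nat_lit 1) [nat_lit 0, nat_lit 1, nat_lit 0, nat_lit 1, nat_lit 0, nat_lit 1, nat_lit 0], .rel (nat_lit 12) (nat_lit 3) [nat_lit 0, nat_lit 1, nat_lit 0, nat_lit 1, nat_lit 0, nat_lit 1, nat_lit 0], .rel (nat_lit 12) (nat_lit 7) [nat_lit 0, nat_lit 1, nat_lit 0, nat_lit 1, nat_lit 0, nat_lit 1, nat_lit 0], .rel (nat_lit 14) (nat_lit 4) [nat_lit 0, nat_lit 2, nat_lit 2, nat_lit 2, nat_lit 2, nat_lit 0, nat_lit 1, nat_lit 1, nat_lit 1], .rel (nat_lit 10) (nat_lit 4) [nat_lit 1, nat_lit 0, nat_lit 1, nat_lit 1, nat_lit 0, nat_lit 1, nat_lit 1, nat_lit 0], .rel (nat_lit 10) (nat_lit 5) [nat_lit 0, nat_lit 1, nat_lit 1, nat_lit 0, nat_lit 1, nat_lit 1, nat_lit 0, nat_lit 1], .rel (nat_lit 10) (nat_lit 7) [nat_lit 1, nat_lit 0, nat_lit 1, nat_lit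 1, nat_lit 0, nat_lit 1, nat_lit 1, nat_lit 0], .rel (nat_lit 12) (nat_lit 5) [nat_lit 0, nat_lit 1, nat_lit 0, nat_lit 1, nat_lit 0, nat_lit 1, nat_lit 0], .rel (nat_lit 14) (nat_lit 1) [nat_lit 1, nat_lit 1, nat_lit 1, nat_lit 0, nat_lit 2, nat_lit 2, nat_lit 2, nat_lit 2, nat_lit 0], .rel (nat_lit 14) (nat_lit 3) [nat_lit 1, nat_lit 0, nat_lit 2, nat_lit 2, nat_lit 2, nat_lit 2, nat_lit 0, nat_lit 1, nat_lit 1], .rel (nat_lit 16) (nat_lit 2) [nat_lit 3, nat_lit 1, nat_lit 3, nat_lit 1, nat_lit 3], .sub (nat_lit 2) [] [], .rel (nat_lit 10) (nat_lit 2) [nat_lit 0, nat_lit 1, nat_lit 1, nat_lit 0, nat_lit 1, nat_lit 1, nat_lit 0, nat_lit 1], .rel (nat_lit 10) (nat_lit 8) [nat_lit 0, nat_lit 1, nat_lit 1, nat_lit 0, nat_lit 1, nat_lit 1, nat_lit 0, nat_lit 1], .rel (nat_lit 18) (nat_lit 2) [nat_lit 1, nat_lit 0, nat_lit 3, nat_lit 2, nat_lit 2, nat_lit 2, nat_lit 0, nat_lit 3, nat_lit 2, nat_lit 2, nat_lit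 3, nat_lit 2, nat_lit 0, nat_lit 1]],
  [.rel (nat_lit 4) (nat_lit 0) [nat_lit 1], .defn, .rel (nat_lit 14) (nat_lit 6) [nat_lit 2, nat_lit 2, nat_lit 2, nat_lit 0, nat_lit 1, nat_lit 1, nat_lit 1, nat_lit 1, nat_lit 0], .rel (nat_lit 14) (nat_lit 8) [nat_lit 2, nat_lit 0, nat_lit 1, nat_lit 1, nat_lit 1, nat_lit 1, nat_lit 0, nat_lit 2, nat_lit 2], .rel (nat_lit 14) (nat_lit 9) [nat_lit 0, nat_lit 1, nat_lit 1, nat_lit 1, nat_lit 1, nat_lit 0, nat_lit 2, nat_lit 2, nat_lit 2], .rel (nat_lit 18) (nat_lit 11) [nat_lit 2, nat_lit 3, nat_lit 2, nat_lit 0, nat_lit 1, nat_lit 1, nat_lit 1, nat_lit 0, nat_lit 3, nat_lit 2, nat_lit 2, nat_lit 2, nat_lit 0, nat_lit 3], .rel (nat_lit 18) (nat_lit 12) [nat_lit 3, nat_lit 2, nat_lit 0, nat_lit 1, nat_lit 1, nat_lit 1, nat_lit 0, nat_lit 3, nat_lit 2, nat_lit 2, nat_lit 2, nat_lit 0, nat_lit 3, nat_lit 2], .sub (nat_lit 4) [] [], .rel (nat_lit 14) (nat_lit 7) [nat_lit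 2, nat_lit 2, nat_lit 0, nat_lit 1, nat_lit 1, nat_lit 1, nat_lit 1, nat_lit 0, nat_lit 2], .rel (nat_lit 18) (nat_lit 8) [nat_lit 0, nat_lit 3, nat_lit 2, nat_lit 2, nat_lit 3, nat_lit 2, nat_lit 0, nat_lit 1, nat_lit 1, nat_lit 1, nat_lit 0, nat_lit 3, nat_lit 2, nat_lit 2]],
  [.rel (nat_lit 6) (nat_lit 0) [nat_lit 3], .defn, .rel (nat_lit 16) (nat_lit 5) [nat_lit 1, nat_lit 3, nat_lit 1, nat_lit 3, nat_lit 1], .rel (nat_lit 16) (nat_lit 3) [nat_lit 1, nat_lit 3, nat_lit 1, nat_lit 3, nat_lit 1], .rel (nat_lit 16) (nat_lit 1) [nat_lit 1, nat_lit 3, nat_lit 1, nat_lit 3, nat_lit 1], .rel (nat_lit 18) (nat_lit 5) [nat_lit 2, nat_lit 2, nat_lit 2, nat_lit 0, nat_lit 3, nat_lit 2, nat_lit 2, nat_lit 3, nat_lit 2, nat_lit 0, nat_lit 1, nat_lit 1, nat_lit 1, nat_lit 0], .rel (nat_lit 18) (nat_lit 10) [nat_lit 2, nat_lit 2, nat_lit 3, nat_lit 2, nat_lit 0, nat_lit 1, nat_lit 1, nat_lit 1, nat_lit 0, nat_lit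 3, nat_lit 2, nat_lit 2, nat_lit 2, nat_lit 0], .rel (nat_lit 18) (nat_lit 13) [nat_lit 2, nat_lit 0, nat_lit 1, nat_lit 1, nat_lit 1, nat_lit 0, nat_lit 3, nat_lit 2, nat_lit 2, nat_lit 2, nat_lit 0, nat_lit 3, nat_lit 2, nat_lit 2]]]
noncomputable def c1 : TCert := ⟨112, 4, 127, T1, I1, D1, [[nat_lit 0],
  [nat_lit 1],
  [nat_lit 2]], RL1⟩
noncomputable def Pt1d : ℕ := nat_lit 0x60823f2c107edb5cc391357859283962caa094681d26432069aacc88e2331a48dd459f648f4b3b17afbc57d05a537d81c45174ed72861c1196ef6f525642e5242f4fb8348aa9c646252a3112495db2e44c5bd79b13ce54a73c30d23d4a6ead794138213261c0233e2d8e188b27a44e0e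
noncomputable def Pt1 (u : ℕ) : ℕ := Nat.land (Nat.shiftRight Pt1d (Nat.mul u (nat_lit 8))) (nat_lit 255)
noncomputable def Q1d : ℕ := nat_lit 0x6c01e00000000000018a0014c0000002780d2000003a0000000540440068055017c00000a403fce0000a0000046000002d000000000840008e0088001595003000002000005e9a00000380000000dc05d0003300961800008ac05400e800001ba00001aa0800000864000003d00ec0006a480000002bdc000004c01805ef00011683d0f1808acc01984d1f005c0401f944d1d000a2700b2c8780da20a17920308e00032aca4312965e003ec009806207693b012006d80002db9014400590000003691c6b0000000000000000000000000000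
noncomputable def Q1 (u : ℕ) : ℕ := Nat.land (Nat.shiftRight Q1d (Nat.mul u (nat_lit 7))) (nat_lit 127)
noncomputable def l1 : Lev := ⟨112, 4, D1, Pt1, Q1⟩
noncomputable def T2d : List ℕ := [nat_lit 0x25a9abb50caad25a28c108cd2d9c2e8dcaccdf3b2ee98b6df17dd7c2c9c2fb23449eedec2b763af4d0fbcf62ccad8abc357aefd88ab176ac3507bad752c25d0a99736c15c9b03716e1dc0,
  nat_lit 0x279da84536985392b9e8e8498df5b3766979598ad5658f8594abf64cf6591bdf642f75edb1c7813158c0c947af2de3b13336c45ddbb961aecd85baf756e9583b9f60ae5dcab8f602e25c1,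
  nat_lit 0x2d64af96aaa4769a5b3f676ce1a11e149d39df40e37caca817b28865b719aa4735ac858fbd77aac6de8b1779ac55e4bc5626f05deb0f76e495d8b0b612e9dd1b0773ae6581b9171ac05c2]
noncomputable def T2 (k u : ℕ) : ℕ := Nat.land (Nat.shiftRight (nth (nat_lit 0) T2d k) (Nat.mul u (nat_lit 11))) (nat_lit 2047)
noncomputable def I2d : List ℕ := [nat_lit 0x530000735006010701010000619010102014102100110141010118,
  nat_lit 0x3000767551006040b08040101103a0221109011010111010111011,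
  nat_lit 0x210100000000001101010110110101001101101101]
noncomputable def I2 (k u : ℕ) : ℕ := Nat.land (Nat.shiftRight (nth (nat_lit 0) I2d k) (Nat.mul u (nat_lit 4))) (nat_lit 15)
noncomputable def D2d : ℕ := nat_lit 0x857a78746c665e58555453504b4a4544403e3d3b39353332312e2c2a282622211f1e1d1c1a1816141211100d0c0b0a08060403020100
noncomputable def D2 (u : ℕ) : ℕ := Nat.land (Nat.shiftRight D2d (Nat.mul u (nat_lit 8))) (nat_lit 255)
noncomputable def RL2 : List (List Rule) := [[.rel (nat_lit 0) (nat_lit 0) [nat_lit 0], .defn, .rel (nat_lit 10) (nat_lit 0) [nat_lit 1, nat_lit 1, nat_lit 0, nat_lit 1, nat_lit 1, nat_lit 0, nat_lit 1, nat_lit 1], .rel (nat_lit 10) (nat_lit 6) [nat_lit 1, nat_lit 1, nat_lit 0, nat_lit 1, nat_lit 1, nat_lit 0, nat_lit 1, nat_lit 1], .rel (nat_lit 12) (nat_lit 0) [nat_lit 1, nat_lit 0, nat_lit 1, nat_lit 0, nat_lit 1, nat_lit 0, nat_lit 1], .rel (nat_lit 12) (nat_lit 4) [nat_lit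 1, nat_lit 0, nat_lit 1, nat_lit 0, nat_lit 1, nat_lit 0, nat_lit 1], .rel (nat_lit 12) (nat_lit 6) [nat_lit 1, nat_lit 0, nat_lit 1, nat_lit 0, nat_lit 1, nat_lit 0, nat_lit 1], .rel (nat_lit 14) (nat_lit 0) [nat_lit 1, nat_lit 1, nat_lit 1, nat_lit 1, nat_lit 0, nat_lit 2, nat_lit 2, nat_lit 2, nat_lit 2], .sub (nat_lit 0) [] [], .rel (nat_lit 12) (nat_lit 2) [nat_lit 1, nat_lit 0, nat_lit 1, nat_lit 0, nat_lit 1, nat_lit 0, nat_lit 1]],
  [.rel (nat_lit 2) (nat_lit 0) [nat_lit 2], .defn, .rel (nat_lit 10) (nat_lit 4) [nat_lit 1, nat_lit 0, nat_lit 1, nat_lit 1, nat_lit 0, nat_lit 1, nat_lit 1, nat_lit 0], .rel (nat_lit 10) (nat_lit 5) [nat_lit 0, nat_lit 1, nat_lit 1, nat_lit 0, nat_lit 1, nat_lit 1, nat_lit 0, nat_lit 1], .rel (nat_lit 10) (nat_lit 7) [nat_lit 1, nat_lit 0, nat_lit 1, nat_lit 1, nat_lit 0, nat_lit 1, nat_lit 1, nat_lit 0], .rel (nat_lit 12) (nat_lit 1) [nat_lit 0, nat_lit 1, nat_lit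 0, nat_lit 1, nat_lit 0, nat_lit 1, nat_lit 0], .rel (nat_lit 12) (nat_lit 7) [nat_lit 0, nat_lit 1, nat_lit 0, nat_lit 1, nat_lit 0, nat_lit 1, nat_lit 0], .rel (nat_lit 14) (nat_lit 2) [nat_lit 1, nat_lit 1, nat_lit 0, nat_lit 2, nat_lit 2, nat_lit 2, nat_lit 2, nat_lit 0, nat_lit 1], .rel (nat_lit 10) (nat_lit 8) [nat_lit 0, nat_lit 1, nat_lit 1, nat_lit 0, nat_lit 1, nat_lit 1, nat_lit 0, nat_lit 1], .rel (nat_lit 12) (nat_lit 3) [nat_lit 0, nat_lit 1, nat_lit 0, nat_lit 1, nat_lit 0, nat_lit 1, nat_lit 0], .rel (nat_lit 14) (nat_lit 1) [nat_lit 1, nat_lit 1, nat_lit 1, nat_lit 0, nat_lit 2, nat_lit 2, nat_lit 2, nat_lit 2, nat_lit 0], .rel (nat_lit 14) (nat_lit 4) [nat_lit 0, nat_lit 2, nat_lit 2, nat_lit 2, nat_lit 2, nat_lit 0, nat_lit 1, nat_lit 1, nat_lit 1]],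
  [.rel (nat_lit 4) (nat_lit 0) [nat_lit 1], .defn, .rel (nat_lit 14) (nat_lit 9) [nat_lit 0, nat_lit 1, nat_lit 1, nat_lit 1, nat_lit 1, nat_lit 0, nat_lit 2, nat_lit 2, nat_lit 2]]]
noncomputable def c2 : TCert := ⟨54, 3, 63, T2, I2, D2, [[nat_lit 0]], RL2⟩
noncomputable def Pt2d : ℕ := nat_lit 0x465451533e18e5d78b3d61314f246eaaa43821c0c6135b749623ce6fa78ae41a4e8e3c5d52efd2422f498627419bad8fc42d32817912
noncomputable def Pt2 (u : ℕ) : ℕ := Nat.land (Nat.shiftRight Pt2d (Nat.mul u (nat_lit 8))) (nat_lit 255)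
noncomputable def Q2d : ℕ := nat_lit 0x400000000000000bd7000000000000000000b8000000f00001b0000000000210050000220000000000000000000000000001c002600064002500000000000020000001d000000000194000b5800000b00000008000000000004000001e0000006a7000000000000000000ac00004807c0000000034c91cc0a5500000030003500000e240031b13000024000000003a803401000000002800287008c0000000016030000000800000000000000000000000000000
noncomputable def Q2 (u : ℕ) : ℕ := Nat.land (Nat.shiftRight Q2d (Nat.mul u (nat_lit 6))) (nat_lit 63)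
noncomputable def l2 : Lev := ⟨54, 3, D2, Pt2, Q2⟩
noncomputable def T3d : List ℕ := [nat_lit 3]
noncomputable def T3 (k u : ℕ) : ℕ := Nat.land (Nat.shiftRight (nth (nat_lit 0) T3d k) (Nat.mul u (nat_lit 2))) (nat_lit 3)
noncomputable def I3d : List ℕ := [nat_lit 1]
noncomputable def I3 (k u : ℕ) : ℕ := Nat.land (Nat.shiftRight (nth (nat_lit 0) I3d k) (Nat.mul u (nat_lit 1))) (nat_lit 1)
noncomputable def D3d : ℕ := nat_lit 0
noncomputable def D3 (u : ℕ) : ℕ := Nat.land (Nat.shiftRight D3d (Nat.mul u (nat_lit 1))) (nat_lit 1)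
noncomputable def RL3 : List (List Rule) := [[.rel (nat_lit 0) (nat_lit 0) [nat_lit 0], .defn]]
noncomputable def c3 : TCert := ⟨2, 1, 1, T3, I3, D3, [], RL3⟩
noncomputable def Pt3d : ℕ := nat_lit 0x8e27
noncomputable def Pt3 (u : ℕ) : ℕ := Nat.land (Nat.shiftRight Pt3d (Nat.mul u (nat_lit 8))) (nat_lit 255)
noncomputable def Q3d : ℕ := nat_lit 0x400000000000000000000000000000000000
noncomputable def Q3 (u : ℕ) : ℕ := Nat.land (Nat.shiftRight Q3d (Nat.mul u (nat_lit 1))) (nat_lit 1)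
noncomputable def l3 : Lev := ⟨2, 1, D3, Pt3, Q3⟩
noncomputable def B : List ℕ := [nat_lit 0, nat_lit 14, nat_lit 18, nat_lit 39]
noncomputable def L : List Lev := [l0, l1, l2, l3]

theorem tc0e_a : allZ2 (entryChk T0 (selR RL0 I0) D0 (nat_lit 255) (nat_lit 240) (nat_lit 5)) (nat_lit 5) (nat_lit 240) = true := by decide +kernel
theorem tc0r : rulesChk Rl c0.Sl RL0 (nat_lit 5) = true := by decide +kernel
theorem ivc : ivChk Rl (nat_lit 5) = true := by decide +kernel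
theorem lv0e_0 : allZ (l0.ent P) (nat_lit 0) (nat_lit 239) = true := by decide +kernel
theorem lv0b : Nat.blt (Pt0 (nat_lit 0)) (nat_lit 240) = true ∧ Q0 (Pt0 (nat_lit 0)) = 0 ∧ Pt0 (nat_lit 0) = 0 := by decide +kernel
theorem sb0 : allL (ltAll (nat_lit 4)) c0.Sl = true ∧ fixLetters P (nat_lit 4) (Pt0 (nat_lit 0)) = true := by decide +kernel
theorem tc1e_a : allZ2 (entryChk T1 (selR RL1 I1) D1 (nat_lit 127) (nat_lit 112) (nat_lit 4)) (nat_lit 4) (nat_lit 112) = true := by decide +kernel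
theorem tc1r : rulesChk Rl c1.Sl RL1 (nat_lit 4) = true := by decide +kernel
theorem lv1e_0 : allZ (l1.ent P) (nat_lit 0) (nat_lit 111) = true := by decide +kernel
theorem lv1b : Nat.blt (Pt1 (nat_lit 0)) (nat_lit 240) = true ∧ Q1 (Pt1 (nat_lit 0)) = 0 ∧ Pt1 (nat_lit 0) = 14 := by decide +kernel
theorem sb1 : allL (ltAll (nat_lit 3)) c1.Sl = true ∧ fixLetters P (nat_lit 3) (Pt1 (nat_lit 0)) = true := by decide +kernel
theorem tc2e_a : allZ2 (entryChk T2 (selR RL2 I2) D2 (nat_lit 63) (nat_lit 54) (nat_lit 3)) (nat_lit 3) (nat_lit 54) = true := by decide +kernel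
theorem tc2r : rulesChk Rl c2.Sl RL2 (nat_lit 3) = true := by decide +kernel
theorem lv2e_0 : allZ (l2.ent P) (nat_lit 0) (nat_lit 53) = true := by decide +kernel
theorem lv2b : Nat.blt (Pt2 (nat_lit 0)) (nat_lit 240) = true ∧ Q2 (Pt2 (nat_lit 0)) = 0 ∧ Pt2 (nat_lit 0) = 18 := by decide +kernel
theorem sb2 : allL (ltAll (nat_lit 1)) c2.Sl = true ∧ fixLetters P (nat_lit 1) (Pt2 (nat_lit 0)) = true := by decide +kernel
theorem tc3e_a : allZ2 (entryChk T3 (selR RL3 I3) D3 (nat_lit 1) (nat_lit 2) (nat_lit 1)) (nat_lit 1) (nat_lit 2) = true := by decide +kernel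
theorem tc3r : rulesChk Rl c3.Sl RL3 (nat_lit 1) = true := by decide +kernel
theorem lv3e_0 : allZ (l3.ent P) (nat_lit 0) (nat_lit 1) = true := by decide +kernel
theorem lv3b : Nat.blt (Pt3 (nat_lit 0)) (nat_lit 240) = true ∧ Q3 (Pt3 (nat_lit 0)) = 0 ∧ Pt3 (nat_lit 0) = 39 := by decide +kernel
theorem sb3 : allL (ltAll (nat_lit 0)) c3.Sl = true ∧ fixLetters P (nat_lit 0) (Pt3 (nat_lit 0)) = true := by decide +kernel
theorem Blt : ltAll (nat_lit 240) B = 0 := by decide +kernel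
theorem ivk : ivLt Rl (nat_lit 5) = true := by decide +kernel
theorem pe_a : allZ2 (permEnt P (ivOf Rl) (nat_lit 240)) (nat_lit 5) (nat_lit 240) = true := by decide +kernel
theorem rf0 : allL (fixRange P (nat_lit 5) (nat_lit 0) (nat_lit 240)) (Rl.drop (nat_lit 5)) = true := by decide +kernel

theorem tc0e : ∀ k < 5, ∀ i < 240, (entryChk T0 (selR RL0 I0) D0 (nat_lit 255) (nat_lit 240) (nat_lit 5)) k i = 0 := allZ2_sound tc0e_a
theorem tc0 : c0.OK Rl 5 := ⟨by decide, by decide, by decide, ivc, tc0r, tc0e⟩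
theorem lv0e : ∀ i < 239, (l0.ent P) i = 0 := allZ_sound0 lv0e_0
theorem lv0 : l0.OK P 240 := ⟨by decide, by decide, lt_of_blt lv0b.1, lv0b.2.1, lv0e⟩
theorem tc1e : ∀ k < 4, ∀ i < 112, (entryChk T1 (selR RL1 I1) D1 (nat_lit 127) (nat_lit 112) (nat_lit 4)) k i = 0 := allZ2_sound tc1e_a
theorem tc1 : c1.OK Rl 5 := ⟨by decide, by decide, by decide, ivc, tc1r, tc1e⟩
theorem lv1e : ∀ i < 111, (l1.ent P) i = 0 := allZ_sound0 lv1e_0
theorem lv1 : l1.OK P 240 := ⟨by decide, by decide, lt_of_blt lv1b.1, lv1b.2.1, lv1e⟩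
theorem tc2e : ∀ k < 3, ∀ i < 54, (entryChk T2 (selR RL2 I2) D2 (nat_lit 63) (nat_lit 54) (nat_lit 3)) k i = 0 := allZ2_sound tc2e_a
theorem tc2 : c2.OK Rl 5 := ⟨by decide, by decide, by decide, ivc, tc2r, tc2e⟩
theorem lv2e : ∀ i < 53, (l2.ent P) i = 0 := allZ_sound0 lv2e_0
theorem lv2 : l2.OK P 240 := ⟨by decide, by decide, lt_of_blt lv2b.1, lv2b.2.1, lv2e⟩
theorem tc3e : ∀ k < 1, ∀ i < 2, (entryChk T3 (selR RL3 I3) D3 (nat_lit 1) (nat_lit 2) (nat_lit 1)) k i = 0 := allZ2_sound tc3e_a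
theorem tc3 : c3.OK Rl 5 := ⟨by decide, by decide, by decide, ivc, tc3r, tc3e⟩
theorem lv3e : ∀ i < 1, (l3.ent P) i = 0 := allZ_sound0 lv3e_0
theorem lv3 : l3.OK P 240 := ⟨by decide, by decide, lt_of_blt lv3b.1, lv3b.2.1, lv3e⟩
theorem bound3 : Bound Rl 1 2 := Bound.step' (Bound.zero Rl) tc3 sb3.1 (by decide +kernel)
theorem bound2 : Bound Rl 3 108 := Bound.step' (bound3) tc2 sb2.1 (by decide +kernel)
theorem bound1 : Bound Rl 4 12096 := Bound.step' (bound2) tc1 sb1.1 (by decide +kernel)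
theorem bound0 : Bound Rl 5 2903040 := Bound.step' (bound1) tc0 sb0.1 (by decide +kernel)
/-- every tuple satisfying `Rl` generates a group of order at most `2903040` -/
theorem bound : Bound Rl 5 2903040 := bound0
theorem chain_of {G Ω : Type*} [Group G] [MulAction G Ω] {g : ℕ → G} {pt : ℕ → Ω}
    (h : Act g pt P 240 5) (hR : Rels g Rl) : IsChain g pt 240 L :=
  IsChain.cons (L := [l1, l2, l3]) (IsChain.cons (L := [l2, l3]) (IsChain.cons (L := [l3]) (IsChain.cons (L := []) (trivial) h hR tc3 lv3 rfl rfl rfl (by decide) sb3.1 sb3.2) h hR tc2 lv2 rfl rfl rfl (by decide) sb2.1 sb2.2) h hR tc1 lv1 rfl rfl rfl (by decide) sb1.1 sb1.2) h hR tc0 lv0 rfl rfl rfl (by decide) sb0.1 sb0.2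
theorem base_eq : chainBase L = B := by decide +kernel
theorem pe : ∀ k < 5, ∀ i < 240, (permEnt P (ivOf Rl) (nat_lit 240)) k i = 0 := allZ2_sound pe_a
/-- the letters -/
noncomputable def g : ℕ → Equiv.Perm (Fin 240) := permGen 240 P
theorem act : Act g (ptF 240) P 240 5 := act_permGen pe
theorem rels : Rels g Rl :=
  rels_perm pe ivc ivk (FixUpTo.first rf0)
theorem chain : IsChain g (ptF 240) 240 L := chain_of act rels
theorem card : Nat.card (gen g 5) = 2903040 := chain.card' (ptF_inj 240) (by decide +kernel)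
theorem isBase : IsBase (gen g 5) (ptF 240) B := base_eq ▸ chain.isBase (ptF_inj 240)

end H1.CoC
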