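import Cfsg.Agent.H1.Am3
import Cfsg.Agent.H15.CS
import Cfsg.Agent.H1.CoC
import Cfsg.Agent.H1.CoT
import Cfsg.Agent.H16.M.S62
import Cfsg.Agent.H15.M.Co3

/-! Generated by tools/h0/tr.py. -/

set_option maxRecDepth 100000
set_option maxHeartbeats 0

namespace H1.Co
open H16 H0.TR
open scoped Pointwise

open H1.Am

noncomputable def a_W : List (List ℕ) := [[nat_lit 1, nat_lit 0, nat_lit 3, nat_lit 1, nat_lit 0, nat_lit 2, nat_lit 0, nat_lit 3, nat_lit 2],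
  [nat_lit 0, nat_lit 3, nat_lit 2, nat_lit 0, nat_lit 1, nat_lit 0, nat_lit 3],
  [nat_lit 2, nat_lit 2, nat_lit 0, nat_lit 1, nat_lit 1],
  [nat_lit 0, nat_lit 3, nat_lit 1, nat_lit 0, nat_lit 4, nat_lit 3, nat_lit 2, nat_lit 0, nat_lit 2, nat_lit 3, nat_lit 1, nat_lit 0, nat_lit 4, nat_lit 3],
  [],
  [nat_lit 0, nat_lit 4, nat_lit 3, nat_lit 2, nat_lit 0, nat_lit 1, nat_lit 0, nat_lit 3, nat_lit 4],
  [nat_lit 2, nat_lit 3, nat_lit 0, nat_lit 1, nat_lit 1, nat_lit 1, nat_lit 0, nat_lit 1, nat_lit 3, nat_lit 2, nat_lit 2, nat_lit 4, nat_lit 3, nat_lit 2, nat_lit 0, nat_lit 2, nat_lit 2, nat_lit 2, nat_lit 0, nat_lit 2, nat_lit 3, nat_lit 4, nat_lit 3],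
  [nat_lit 1, nat_lit 1, nat_lit 3, nat_lit 2, nat_lit 2, nat_lit 0, nat_lit 2, nat_lit 4, nat_lit 3, nat_lit 2, nat_lit 0, nat_lit 2, nat_lit 3, nat_lit 1, nat_lit 0, nat_lit 4, nat_lit 3, nat_lit 2, nat_lit 2],
  [nat_lit 1, nat_lit 1, nat_lit 3, nat_lit 2, nat_lit 0, nat_lit 1, nat_lit 1, nat_lit 3, nat_lit 1],
  [nat_lit 2, nat_lit 3, nat_lit 2, nat_lit 2, nat_lit 0, nat_lit 1, nat_lit 3, nat_lit 2, nat_lit 2],
  [nat_lit 1, nat_lit 3, nat_lit 2, nat_lit 3, nat_lit 1, nat_lit 0, nat_lit 1, nat_lit 3, nat_lit 4, nat_lit 3, nat_lit 1, nat_lit 0, nat_lit 1, nat_lit 3, nat_lit 2, nat_lit 4, nat_lit 3, nat_lit 2],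
  [nat_lit 3, nat_lit 1, nat_lit 3, nat_lit 2, nat_lit 0, nat_lit 1, nat_lit 3, nat_lit 2, nat_lit 3],
  [nat_lit 3, nat_lit 2, nat_lit 0, nat_lit 1, nat_lit 3, nat_lit 2, nat_lit 0, nat_lit 2, nat_lit 4, nat_lit 3, nat_lit 1, nat_lit 1, nat_lit 1, nat_lit 1, nat_lit 1],
  [nat_lit 0, nat_lit 2, nat_lit 3, nat_lit 1, nat_lit 1, nat_lit 3, nat_lit 4, nat_lit 3, nat_lit 2, nat_lit 0, nat_lit 1, nat_lit 0, nat_lit 3, nat_lit 1, nat_lit 0, nat_lit 4, nat_lit 2],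
  [nat_lit 3, nat_lit 0, nat_lit 1, nat_lit 0, nat_lit 2, nat_lit 0, nat_lit 3, nat_lit 1, nat_lit 0, nat_lit 1, nat_lit 1, nat_lit 3, nat_lit 1, nat_lit 0],
  [nat_lit 3, nat_lit 4, nat_lit 1, nat_lit 1, nat_lit 1, nat_lit 3, nat_lit 1, nat_lit 0, nat_lit 1, nat_lit 3, nat_lit 2, nat_lit 0, nat_lit 4, nat_lit 3, nat_lit 2, nat_lit 0, nat_lit 2, nat_lit 3, nat_lit 1],
  [nat_lit 0, nat_lit 2, nat_lit 0, nat_lit 2, nat_lit 3, nat_lit 2, nat_lit 0, nat_lit 1, nat_lit 4, nat_lit 3, nat_lit 2, nat_lit 2, nat_lit 2, nat_lit 2, nat_lit 3, nat_lit 1, nat_lit 1, nat_lit 4, nat_lit 3, nat_lit 1],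
  [nat_lit 0, nat_lit 1, nat_lit 0, nat_lit 2, nat_lit 3, nat_lit 1, nat_lit 0, nat_lit 2, nat_lit 0, nat_lit 4, nat_lit 3, nat_lit 2, nat_lit 0, nat_lit 2, nat_lit 3, nat_lit 1, nat_lit 0, nat_lit 4, nat_lit 3],
  [nat_lit 2, nat_lit 2, nat_lit 2, nat_lit 2, nat_lit 2, nat_lit 3, nat_lit 1, nat_lit 1, nat_lit 1, nat_lit 0],
  [nat_lit 3, nat_lit 4, nat_lit 0, nat_lit 2, nat_lit 0, nat_lit 1, nat_lit 0, nat_lit 3, nat_lit 2, nat_lit 0, nat_lit 2, nat_lit 3, nat_lit 1, nat_lit 4, nat_lit 3, nat_lit 1, nat_lit 0, nat_lit 2, nat_lit 0],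
  [nat_lit 0, nat_lit 2, nat_lit 2, nat_lit 2, nat_lit 3, nat_lit 1, nat_lit 1, nat_lit 1, nat_lit 1, nat_lit 1]]
noncomputable def a_Pd : List ℕ := [nat_lit 0xdbe1e50607d30308cd15edc3dfe2eedae3d9dddcefe0dec1d70d0f0aead0d1d2c9cae7c637cecf0c09cc22c4e402d8108916292095b79721ba1980b02b7eacb4af6333b1a14578852f7a756883a2aba09f5f1f141c983a9ab928bb3e1e402a8c1d390b903f25bf177b2ca867a33164b57fb2626a87a630a97144a5465e2d773634322e65667c69a4846b6c81ae7d435d9e7360355b52495057544756535a4b584a484d4c514f594e5574aa7661423c928b9411410e998e24cb705c6fad6e8279a76d7286b391bd96271a8a3823c5b8bc9d938f9b0426b61288bee69c13183dc0d53bd6c88dd4c7e8ebec051be9c20100,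
  nat_lit 0x139ced2b07d8d508b5b4afd0de1219bd1ee3483adbbb93ead7d3e906d6a70ce4cf35046e76817fc8852c75822f5f0d1cbebfe027da164d9b8914e7e60a79b0b1e5733015abaa2d7bd20f6572a38301459f6d0beeb81f998d973b293cd95025583f8e9840244bb74f0932c770a2c4ca1bc933536aa803b26867cbc574aea4368460cc9e22447c46787737a55c55625b6fc2475664615a3e90525d63347d572a92884eb94c8a1a41dd5e69a06b4342498c8f59289496dc231d6671ce547e8631adc302a9c6ec51953dbc17918b396c10209adf38c0804ae11826baacb6efe20e21a611c1d19db387e8ebd405cd7a2ea100,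
  nat_lit 0x389c112b4d9d9a83d8d53d79be26dfe0e102d00788da6de7adbae6a3b62792dd0a410f727391086371c6658bc38915122ee3993b97d63a8280d30b1fb3481e193387d798443c4385967c585bd47f77593f7aeaee24e9bdacbba7299403d1ca758f6f0d67c442c2dbae23a850e8b852b7a22835a6369ee456a1099074cbccc70c8e61d95e6b0468698c47c55ac8626e601b6c465ca464a0a52578553249813e844f2feb2c4b1d53b2665d2aaba98ace019f51e5aabcb934ef227b7d39af5421304ebf2d4cec45957ed2e2579b86373120b4b14a175f13b0181c14c1161ac0ed10cd0e8d70b5cf76c9dc06056a93de4000,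
  nat_lit 0xaf6b4610e6b48ab74deb14bb06e252153d3498d553c189079a50dc54a4881d0d32710501627780c8a7a20e2395c2da11b8b33ebce46730bfe813adeabeb28c1aefaeb559abaa492dc7a656d324c67e8d9e9f9d550ad779dd5136c32908720c787f8ea0b18be9d9d209864f1e030216c98fa17d6a412c9990ca761c472092ce2821336d22ee7c6926ba185c5d44cb572b4c5e64651912ac1761a59cd4dbe197d6854ee75f3a40a94574ed4863270b7b4a1bbddf2f354b2e2537963bde6ecf31b93c39a87a602a9470436838a3c46c6f731f84d1753fb05b665881e0e5b65ac0ec00c5d091429b8793d8e3cd048382cc0f,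
  nat_lit 0xefeeedecebeae9e8e7e6e5e4e3e2e1e0dfdedddcdbdad9d8d7d6d5d4d3d2d1d0cfcecdcccbcac9c8c7c6c5c4c3c2c1c0bfbebdbcbbbab9b8b7b6b5b4b3b2b1b0afaeadacabaaa9a8a7a6a5a4a3a2a1a09f9e9d9c9b9a999897969594939291908f8e8d8c8b8a898887868584838281807f7e7d7c7b7a797877767574737271706f6e6d6c6b6a696867666564636261605f5e5d5c5b5a595857565554535251504f4e4d4c4b4a494847464544434241403f3e3d3c3b3a393837363534333231302f2e2d2c2b2a292827262524232221201f1e1d1c1b1a191817161514131211100f0e0d0c0b0a09080706050403020100,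
  nat_lit 0xc2695a2ba13f8842e78fb3909e9c9f2f9d56a0b2343c8dc60824d5d4d37909294b764a1d7328bb8505d8bc1025ef15131c5f83c5c96f50430218a92ce5dc32b0af969738a8aab5ab40a453a63091ebdde1e3dfe28e398a89adae59332e41a2e4e69bd93a8b9998e90186c867bd0b81787e7f6546001bd28045ce2719cb0f7148ba0d61626b12ee2684117d47446c6d23be5e5b5c5ded953e57de5531a50649b94f4e2a14cfcd5170647c7763b8e892a7ea583dda358c9aac37363bdb94b154a3e0932db4ec4dd0ca7568c3d660201e221621ccbf7a0474b6031fc14cc06a66c4720e6e07820ad1d70c52c71a17b7877b,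
  nat_lit 0x619c5a2b07b4b508d5d8523ebe6914da16bfa04d43e089e642b1e70ab0490159a3960f1d732883ab7b8f6523946d155ddee3bb7dbd1e3a349319e9ea062ad6d357768a0dc84e88854104751acf7f0cdd4c5f1fee540b978d99ce29c3b7407e58c631985086add9a9098ba867c9393d03a291bc6ac71b511770aea518cb4a36772138c222557ce2268447c5114420ef109e37c00e13edd090af1c6b9b27e5798c2daadc9f3072d24566124863dbd7a7922ce4812f35b9826e5e713bb825248e4b3c024f3fecb295ca53683332c46c6f629dbacc567aa4b67478dfc1e15b466460cd5caca19ad487e8ebb300a6802ed105,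
  nat_lit 0xb18eced00eab5d7e7d8b330101946dc5d6f67e0984db8e6e8d6d5afb033a88a58ae0fcc35448c870c8f7d9e5182c1162160b9653a56bdd99b69e9b4e52fb1d3d4ce590d093688d191a653a490407b847cc45b74b76129db95769779547fa7a3c60243c986d034a9c88b01a050c255809241c59fa11b94784596279c3b4a4e48de3839623d4cb626dd64bc66286c9abe235cdf5e9d2badcf0aba8193a506c3834f71da6a3e72257011e177ca8d087ea23f4b6b2a73bb6d6e0eaacb89d2322ee4b2312d2c5a3c9963756849245f20bf22131c1d1e7a1ae2ee17c015121f1447e3cd37acc7ef57ab4205520704038e85eb,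
  nat_lit 0xdb19afd4ebd67ae804aced2f1e129cbbde93483a13bde30dd7c1a6b3d8e40ca77f81b52c6635cfd1876e6c82d02eea21b7ba95202989971016e11bb1ec3315e6e5557eb001a068c7c303c578a283ab459fc29ab6c08ddc1f4d3dda59df8c514038239d588f91be26a8c67b77a3315ce7c979627c090fad2d366b656947a96771548602a5376a4672704422ca735343566dae6fce6157419252345e5d7d5a8a901addb94c2a883e4e6374aacb5b429450243c0e4911998e8b7684646030ccc4b2d29ea4320a25e03bbc4a4b1d39759b270bd93fb8cd1714e24fbfb4eeef18281ce996d3c898068508072b0580d55fa100,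
  nat_lit 0x1314e5b3ebc10fe880b0afd2d918b62993df4e99ef951ed3d7ea03ec0d2fc8c3c95c1b3244647f0ca886a531a79ed69b1689da27e0be4d1cbf9ccd15d430b4aced5e79e6a1457287d0d56c2d83a301aa9f2e8de1219d3a0bb90ebd41de588a508b399a923851ba4ac76e0936a2c4ce04cfad537c85e97ea484372246636870675dc65fc5766a74a971cb7535477d5b34025554814352948c5a60ae6f625791401748974c25263cdd7369a066614259901d49963e28dc238f6b77ca56b22c8233e4c278cc064bbb1120882a3f8e65c0bc98e32410b54fee121ab7b119dbe23bb87a3dd8d11f2b7b08070a05e7a66dab00,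
  nat_lit 0x61746664daa46e84d5e66b94606946075d6f420543eb34d8a078e7756890a28c25280f1dbc968a7e2f8f3b233e39c116211095cb29ba9789b719381a3d0c17262763838891450d40093f0aea33d12ad79f5f9d189b0b3a8db9cabde49385abd2c60298d07ac9b8ac411b92e8ad6d062401c8737c3c8b30d63644d4ee7d727071dee9825ce56ae2d308ed35ecae5eefe39e62df6c5b4750495356525457554b594f48004c514a584e5ae1aa76dbdd87a8a6c3b37bc599c2b5207765d9a3032e79c7312d0411a1bbceafb0cf80c40ebf371f1ecc1c86b4b69cb1c0151213142bbecd22a9b29aa5a767e081dc2c328e7f4d,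
  nat_lit 0x9b16e5b3ebb4acd415cded301413beda9c89274d1ce0bf0faf80c1e8b0d201d0a3aae62d6c458387a1725e9f792ed518d9e1b90e3a8dbd210b9d0deaec2f03d3d736ade909ce6e857e0484a4cfa2c753c47cb6dfef93951e294e99519a9241584a39ba508b8ade38c886a8a5c93164d67fa75c9e0c1bc3324471675d22c6766334a902cb475f5b6875553781703554466ac5747d6952599042436661a05a948c1d96dc233e8f49286b60ca77565791403f4b112a20bb8e8865ae626f337882e4b2c2cc2c063c9748dd2625174c73b83b19984fdb7a1a1fc024eee7e3e2103d12d8bcb57bb708ab0a072b05a6b16dd100,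
  nat_lit 0xa2bb121408a47a7ce788e2737e99daec33308eed832bada99f78d5ee72634e557dbab5c121165348670d9dabae852d494b910a13d45157592a951b1a1911174a18563d26458286715ea68d2cbc20a031050958bd3c92e550521e0676b26c5c65ac0c8ca5e6818a8b70d8362e27018980620e5b07840f96329e1c98b96f6e6d5fe4d3a89ab8eb97c6029b1fb75d617fa78760d2becf466bc574c3342f4369ce751d395a0035384423544dc4c0c94c3722b4cbd966deafd1b010c2bfd028d6a13b477bcceae164b3dfdb8fcab1c80b3eef90791594cd3f293a24254fe0a3dc9341e9e368dd409c776ae8b6d70403c7aa42,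
  nat_lit 0x8d827ba142171b05e74a0963899e8ea0dedfda849addbe72071ad501a9730a3765790f1d494b22065ac6a31976184f2116d94e58aa1e7160b7237a78ab11a48885945c26b3bbd3576b03a2b1c5a5ece07ce213399bdb7761705148ae93273d7d8fe1ef20380ee3b0526eafdc6cee7e047581909fedb5ceb499c37f6dd2d8b9975d867483a74c5f0d4d3ccf2ae45098b869596fad1fc75ebca81c415440879662c1bd676acae6cb952f02293e0beb55533244916633369c8bd03a25103b3f1428471215240c64453092ac352cb6c9c08c5bbacc56e9d6c4c2eabf2d319d2eb234cd8a682b43d1e500d7c8e880a646d408,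
  nat_lit 0x7d84c49eeb157a7c04d882305eaa7009477374ab5387aee69fb1a62eacb29779a2b8cd1abf9b834dbd4a0bedadb3b464cb37c7617b6b0cce44711bc1c2d2d60d31d9c3d3dce28b957ed5981d7fcf3a18d7ec2267ca6501a5d134a88a6390419272577550a9947686da8829eec9e51c80a3a7efe8bbe9d02414898dddde8fb6e13b26061fba084e389c169ac09313bc0e2be31110202351408e3d1e28db39598c2c69c8423ec62a46df4812b7274c91582d4b56256fa15268be1921962f17afe433d43f4f5f498554436e3c785a9d355b6c55a481b5cc36a03266ea7762455d5c0f60b0b9c502e06a076d05e7030a9900,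
  nat_lit 0x1098aa36953f6e221dc676d19a89543a1c1f5cbb74b9e28f2080cc351b7e3e0cabb372e75755b2cfadd827c292234fba9d0bdca54d5de01946b8382c9683037acbe57ba9a35a0d4b331a7da6c851d00e8e82de8de1be009c050607401294d287e64cee2f26c769ac586830372a5f63b1794975028ad3a2244752bc43af0fec6613b5c4e8ca2ed98b5e7753453dd760ef39841ea06f4ea10973df2814c5ae7f3c15edbd3185cd916470931181186225c3b401448cd4da9ee9672b0ab641789fa8507cc1ea71c9eb6b6586a7176d085b42bfc0d516b00434db32562d9b21b748614add8859e33b906c29ce99a4d66ae497,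
  nat_lit 0xe1212bed00e9b4e5d3b1087e10ba61295b74cb978995dbd606e6b0afd5c3c83c92758068a0635001a124455f499f1b9d18603a77b969bd8d9b56eab5d7add8e70a532aa6d16b3f094b0dce6e40907b736dc45d6f9346dcb84da5e0d254a3e47f322e34c92db2432ca84f87358c6a710f583e70820cc125727d2796bfdd173dbcee1a4c644e391e1d3b624822284714e3235c1f3716ec2fa2d419aab776e833838b5599c2417894c5200b65cad9b330cf8891365984bb7ca40e81679879c602a7d03186a95a8ada44aecc518f9e119c66c0e226b615381cde4a137aefdf9a6cbe035e04c7125785520542ebaccd8eab07,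
  nat_lit 0x484b232c074cda3754501b196d409452d9ba35607be5178c99d89b79a60ac1d2a0438025550dc95c34751d5a2608d7b91ec29612cea75b27639ce09f6a02e6047d326ed50e582bdccbca222fdd18623b014fc630b01aea9db4dbab684481de1ca5611fd65f3878ec829e4d3e83b5aa0074bf46beb887b247ad246c216b98678aa3e1e8727ee39277e476cc0cb7c045292d063aa811c44956bc6991d3bb7a2ab1a99010d1718dd457ae8eaf93c797733d86b64ec57f13e914b384a2539a16ef3665d0888b3f2ec8acbd700bdfed4acf5d8f4133e2093cee6f668942c36431a1950385e720a451395eeb7ccd280559150f,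
  nat_lit 0x1aa2c3c5cde76329abe69f21d3e402eaa5b6a0098fb4bdd85cc9c85f082f6d316bce07c436e5b1da225de1adefe9a67819b09d1d1f90aeb897bf44d57a3383e83fc77d6ae0302a5e4e4d165a55ba89dd100b0c7f8277b3660696e3619984e2eec04f478c49bcbbb2c1d237cfd6d73d801e69cc856c93afdbd47bdf187164cb0a7e8bb53a92a83e88a38d14240162a4289aac179b5b948e9c2c1c4039724c5750484b87603b113c599851d0d1c60eaa67126f816ea77642860d73413468272d35382b45466525be524aa926538ab99120a1582356b7edde744375042e137932caeb547cd9709e15950f1b05dc03ecc200,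
  nat_lit 0x311923880799396d0db1da676a1c6eb52491a3a896e9dfd6c18cac4954d04c2e21bb0565a7a6c929439d3c5a14bed1627e7c275753dec07b633e82973779509b4547772895814f5cbad38f0b6f3511cfb48698b6d533d77242bd10e14469554e1f464ad82c70162d7a3f0e36838792cd3b6baf06db52d4896866c67f416c4b2618ade37573b3569471172f13b7a18edc8b0820c8b9c402aa4858cbe734e00ae69e3d85eaee2259ef787d6193ce151ee22b84401aa05d098ae830ddc71dae129ca42a5feca9516004b8c3cc76eda5740c8dbfc590e59ae4a2d93201383abc5b4d00abca6425d21bc2eb5e03b00fb29f80,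
  nat_lit 0xc3901a020fe0c2b0eae6cae29591c5ab7519a00478c80cd88283b477e386444584ceeb7d7110d6d5ae43eccced01878fb629d98a89a222b81bde6dda9988c9be79b9c45ee741266a3bc1df6167ee1fdde50abd585c5f9347b796085a7a6b21badb59668c6e23a1684d387c92b19b3d809c6fad0d76b312c09a3a16183653730b3e3cd17bcfac7e3340982b72e962944cd4a8c6d75ba4481e511ca30e242846508ea7a6524e278b4f8d2c2db517393555af6981494b6c542f85cb3034b211d0aad21431572ea9e86032252a641dc7e420bb7fbc5606efbf745da50965133f4a9f0742379d9e70dcd3cd97051503e16300]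
noncomputable def a_P (k u : ℕ) : ℕ := Nat.land (Nat.shiftRight (nth (nat_lit 0) a_Pd k) (Nat.mul u (nat_lit 8))) (nat_lit 255)
noncomputable def κ : List ℕ → ℕ := H15.CS.key (tot a_P 21) 240 H1.CoC.B
noncomputable def q_W : List (List ℕ) := [[nat_lit 0, nat_lit 5, nat_lit 2, nat_lit 3, nat_lit 1, nat_lit 4, nat_lit 3, nat_lit 1, nat_lit 0, nat_lit 2, nat_lit 3, nat_lit 5, nat_lit 4, nat_lit 5, nat_lit 3],
  [nat_lit 2, nat_lit 3, nat_lit 1, nat_lit 0, nat_lit 4, nat_lit 3, nat_lit 1, nat_lit 0, nat_lit 3, nat_lit 5, nat_lit 4, nat_lit 3, nat_lit 1, nat_lit 4, nat_lit 3, nat_lit 5],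
  [nat_lit 5, nat_lit 4, nat_lit 3, nat_lit 1, nat_lit 0, nat_lit 2, nat_lit 4, nat_lit 3, nat_lit 1, nat_lit 4, nat_lit 3, nat_lit 1, nat_lit 5, nat_lit 4, nat_lit 3],
  [nat_lit 5, nat_lit 1, nat_lit 3, nat_lit 1, nat_lit 4, nat_lit 3, nat_lit 1, nat_lit 2, nat_lit 5, nat_lit 4, nat_lit 5, nat_lit 2, nat_lit 5],
  [nat_lit 0, nat_lit 2, nat_lit 4, nat_lit 3, nat_lit 1, nat_lit 4, nat_lit 3, nat_lit 5, nat_lit 4, nat_lit 3, nat_lit 1, nat_lit 0, nat_lit 3, nat_lit 5]]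
noncomputable def q_V : List (List ℕ) := [[nat_lit 2, nat_lit 0, nat_lit 2, nat_lit 3, nat_lit 2, nat_lit 2, nat_lit 2, nat_lit 2, nat_lit 3, nat_lit 1, nat_lit 4, nat_lit 3, nat_lit 1, nat_lit 0, nat_lit 1, nat_lit 1, nat_lit 3, nat_lit 4],
  [nat_lit 0, nat_lit 2, nat_lit 2, nat_lit 0, nat_lit 3, nat_lit 1, nat_lit 0, nat_lit 1, nat_lit 3, nat_lit 4, nat_lit 3, nat_lit 1, nat_lit 1, nat_lit 1, nat_lit 1, nat_lit 3, nat_lit 2, nat_lit 4, nat_lit 3],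
  [nat_lit 1, nat_lit 3, nat_lit 2, nat_lit 4, nat_lit 3, nat_lit 2, nat_lit 2, nat_lit 2, nat_lit 2, nat_lit 2, nat_lit 3, nat_lit 1, nat_lit 4, nat_lit 3, nat_lit 1, nat_lit 4],
  [nat_lit 2, nat_lit 0, nat_lit 2, nat_lit 3, nat_lit 2, nat_lit 2, nat_lit 4, nat_lit 3, nat_lit 2, nat_lit 0, nat_lit 1, nat_lit 3, nat_lit 2, nat_lit 2, nat_lit 4, nat_lit 3, nat_lit 1, nat_lit 0, nat_lit 1],
  [nat_lit 1, nat_lit 1, nat_lit 1, nat_lit 3, nat_lit 2, nat_lit 4, nat_lit 3, nat_lit 2, nat_lit 2, nat_lit 2, nat_lit 2, nat_lit 2, nat_lit 3, nat_lit 1, nat_lit 4, nat_lit 3, nat_lit 1, nat_lit 1],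
  [nat_lit 0, nat_lit 1, nat_lit 3, nat_lit 2, nat_lit 2, nat_lit 2, nat_lit 2, nat_lit 2, nat_lit 3, nat_lit 1, nat_lit 0, nat_lit 3]]
noncomputable def q_Pd : List ℕ := [nat_lit 0x3ec59ad0d0a35ad79cd6f70be6b4bed51057ee7145dd1a09c38a5476f188f2aa44c06fa3cedccb38248061a297821d2,
  nat_lit 0x78260d2a6f6fda3a508693290d89855118b32ddd08033ebb088e3c6aa3e242e7af35df465d6de45f347bb71604dc59,
  nat_lit 0x20d891b42d796d3484a605ee1f3274d9e7553c39661dafd407905df1028444ab3c3a3ee6dc0a156fb32f9a2a9ee30e2,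
  nat_lit 0x3ec65e5eed54a2b6b261f53bd7d67d0a128b23f249b6c8f2fa6991dd70cb86e14c370438020187eacc86d616940e44d,
  nat_lit 0xcdb20e72cadfd0accfc693bee834784563ea66c0a1d1ed42b891971598159a52c1471f38f37ee782098415eaef51a4]
noncomputable def q_P (k u : ℕ) : ℕ := Nat.land (Nat.shiftRight (nth (nat_lit 0) q_Pd k) (Nat.mul u (nat_lit 6))) (nat_lit 63)
noncomputable def k_W : List (List ℕ) := [[nat_lit 2, nat_lit 3, nat_lit 0, nat_lit 1, nat_lit 1, nat_lit 1, nat_lit 0, nat_lit 1, nat_lit 3, nat_lit 2, nat_lit 2, nat_lit 4, nat_lit 3, nat_lit 2, nat_lit 0, nat_lit 2, nat_lit 2, nat_lit 2, nat_lit 0, nat_lit 2, nat_lit 3, nat_lit 4, nat_lit 3]]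
noncomputable def k_P : ℕ → ℕ → ℕ := wdsP H1.CoC.P k_W
noncomputable def p2t_W : List (List ℕ) := [[nat_lit 2, nat_lit 3, nat_lit 0, nat_lit 1, nat_lit 1, nat_lit 1, nat_lit 0, nat_lit 1, nat_lit 3, nat_lit 2, nat_lit 2, nat_lit 4, nat_lit 3, nat_lit 2, nat_lit 0, nat_lit 2, nat_lit 2, nat_lit 2, nat_lit 0, nat_lit 2, nat_lit 3, nat_lit 4, nat_lit 3],
  [nat_lit 2, nat_lit 3, nat_lit 2, nat_lit 2, nat_lit 0, nat_lit 2, nat_lit 3, nat_lit 4, nat_lit 3, nat_lit 2, nat_lit 0, nat_lit 2, nat_lit 3, nat_lit 1, nat_lit 4, nat_lit 3],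
  [nat_lit 3, nat_lit 1, nat_lit 0, nat_lit 1, nat_lit 3, nat_lit 2, nat_lit 0, nat_lit 2, nat_lit 4, nat_lit 3, nat_lit 1, nat_lit 1, nat_lit 1, nat_lit 1, nat_lit 3, nat_lit 2, nat_lit 0, nat_lit 4, nat_lit 2, nat_lit 2],
  [nat_lit 1, nat_lit 1, nat_lit 0, nat_lit 3, nat_lit 1, nat_lit 0, nat_lit 2, nat_lit 0, nat_lit 1, nat_lit 3, nat_lit 4, nat_lit 3, nat_lit 1, nat_lit 1, nat_lit 1, nat_lit 1, nat_lit 1],
  [nat_lit 0, nat_lit 2, nat_lit 3, nat_lit 1, nat_lit 1, nat_lit 1, nat_lit 3, nat_lit 2, nat_lit 4, nat_lit 3, nat_lit 1, nat_lit 0, nat_lit 2, nat_lit 0, nat_lit 3, nat_lit 2, nat_lit 4, nat_lit 3, nat_lit 2],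
  [nat_lit 4, nat_lit 0, nat_lit 1, nat_lit 0, nat_lit 3, nat_lit 2, nat_lit 0, nat_lit 1, nat_lit 3, nat_lit 2, nat_lit 2, nat_lit 2, nat_lit 4, nat_lit 3, nat_lit 1, nat_lit 1, nat_lit 4],
  [nat_lit 3, nat_lit 4, nat_lit 2, nat_lit 0, nat_lit 1, nat_lit 0, nat_lit 1, nat_lit 3, nat_lit 1, nat_lit 0, nat_lit 2, nat_lit 3, nat_lit 4, nat_lit 3, nat_lit 1, nat_lit 0, nat_lit 2, nat_lit 0, nat_lit 1, nat_lit 3, nat_lit 1],
  [nat_lit 0, nat_lit 2, nat_lit 2, nat_lit 2, nat_lit 0, nat_lit 3, nat_lit 2, nat_lit 4, nat_lit 3, nat_lit 1, nat_lit 1, nat_lit 1, nat_lit 1, nat_lit 1, nat_lit 3, nat_lit 1, nat_lit 0, nat_lit 4, nat_lit 2, nat_lit 3],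
  [nat_lit 2, nat_lit 2, nat_lit 0, nat_lit 1, nat_lit 3, nat_lit 2, nat_lit 2, nat_lit 2, nat_lit 2, nat_lit 2, nat_lit 4, nat_lit 3, nat_lit 1, nat_lit 0, nat_lit 1, nat_lit 3, nat_lit 2, nat_lit 0, nat_lit 4],
  [nat_lit 2, nat_lit 3, nat_lit 2, nat_lit 0, nat_lit 1, nat_lit 0, nat_lit 4, nat_lit 3, nat_lit 2, nat_lit 0, nat_lit 1, nat_lit 0, nat_lit 3, nat_lit 1, nat_lit 4, nat_lit 3, nat_lit 1]]
noncomputable def p2t_P : ℕ → ℕ → ℕ := wdsP H1.CoC.P p2t_W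
noncomputable def p2Pd : List ℕ := [nat_lit 0xc1ccd2c3c6ced4d3d0c0cbd9d8ddc2d7c8dac5ded5c7c4cfcadbcdc9dcd1dfd69aaeb7b2b884b3bbbdaa9e88b9bcb0b187be8b9fa6b692a395ab9080a8869685acb58a9382bf8f8183a1a78c9ca98ea599918994ad9d8db4afa2a0ba979b98a44e2f165e057429200b51277a235c065b26012e540f4258473448380c30401e1b0d7c0472702d096928223d6c41087631107f2b0749464b66684a4445356a5362363b551c3e121d65133f4367110a50637e6d5a0e4d157957756f2425735617781961393c60141f02217d2a1a373a334f6b2c5f64773259524c717b5d00186e03,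
  nat_lit 0xdfccddc3c6ced9d8d0c0d5d4d3d2d1d7c8dacddecbcac4cfc7dbc5c9dcc2c1d6b191b6a383ad8d97aabda69289a8bf9a968eba8c9eb788b2a5b5a781bc9b879994ab938aa2b0a080b8af909f9db4be9585aeb9ac849cb3a9a1828f8bbb86a49836571c74375e0c2e5f72327c11761d254c0820495d0e0321553848294115124d777a6b5124595a007e10674b30015c19223f606f54026c6517183e3b1a2c632a4e453416441e06667b7f143d23751f53287809421b40642f0a07705b334f686d313a717d2b435046473c623505617356046a0b790d272d6e2639130f694a5258,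
  nat_lit 0xd1dac7d6c8ccd3d9c9c3c5d8d4cac1c4dbded5cecdddd0c6d2cfcbd7c0dfc2dcaca3b38e9ea4bdb5b989bb99b7918c949ba8819a978d85be93839d84aea186a9bfb890a7879f88ada6a29cb195a0bc8ab4b2b6b098a5aa8f82969280abaf8bba47520d5820031d7b1c440700603b641a3257131559507c7f18536306384b56237d695a3e14040f5e011e462a482f454212683375405562414e3d76512431664921724a775c4f79306d1725022b266a6508375d1f116c396e4c0a43351b6136050e22290b735b2c343f5f54702e104d3a091916713c6f6b7e270c782d7467287a,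
  nat_lit 0xd1ccc7c3c6ced3d9d0c0c5d8d4cac1d7c8dad5decdddc4cfd2dbcbc9dcdfc2d6ba8aa0a7a1b092968599a2b3a995ad8bbb9d9aa4828f8d90a89bb294a5ab97aa808691ae9e84b7acaf83a398be899cbcbd93b481bf8e88b9b8a6b6b187b59f8c136c024d7f1b56683d485d6058653a31094017282735116d7772514f4508715e342b0a38506f4c3349645f573b15662579377a2d7e162f5c2e7d53410e433e527b300d466339617636052c0b036b24445421261a7401224b04591f19690c20475b061e4a7c6a701c78186e423f1d002975146710550f072a5a124e32733c6223,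
  nat_lit 0xcbc9d9c6dcd7d2cacec8dfddc7d4c5dad6d0d1c4c1d3ccc0d8c3c2dedbcdd5cf8eb1bb9fb78a9ebdb883b9a2b5acaebe85b09cbc8997828c818da490948899afb2b3ba8ba99196a7b68f98a8ad9bbf80a19aaba39384a686a0b4879daa9295a56c37233d28674c6e2b1f1d347d310a386420524e613b4a157424702614170f5f1b551250654f22467b597c7f432e19722d54772936583f252a690e2c413e35214b6a5e11425d755b2f49537a3c715c1a130810450b680705390c664816096201516b27330d637603407347307e041c5a1e44606f4d06566d7932573a02007818,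
  nat_lit 0xcdd7d9dbdcc9d2c7dec8c2ddcad4d5ccc0c4c1d0d1d8dad6d3c3dfcec6cbc5cf8b9c85a5a1bfa996a08fa2b9929084babb93b19882998995b29ba8aca7ab97b68186be8e9eadbd94af83bca4918d8aa3b79d8880b0aeb4b3b8a6aa9a87b58c9f01477a7d2a3c5a545870611c3d250f5c4f36492e1d305f5773501f090e7b0a4a001671247264290d176f116d424e5b65076e0222202b7831284d141a45636a050835337c43755d19405244236712382c684b0c4118132d211e10517655267e6c6632045e463e48602f74373b6227344c39530359693a797f566b1506771b3f0b,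
  nat_lit 0xd4c3cbded7d6c2c1c6cecad1dfd5d8dbc9c0d2dcc7c5c8c4cdd0ddcfccd3d9da9eb69c8998869081938a84a3a58daba694aa8297ad9db2b9888ba9afb3b1acae83ba8fa0bfb58ea1a49fb4bb85bcbd9291b795b89b99a7a88cb0bea2809a9687645d416a562c7b1248777e0e245f2003082d1e0a494d1f1d765534134a6f211465426c0d006215196b7f723218590b233f0c356e7545273d3944167d742b0226793c5c301c472e6710297a51705773460461401b4307050f2f526958254e713a11176d631a7c333b06534c5e4f685b364b60383766282a0901782254313e5a50,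
  nat_lit 0xc8ddc9c2c5c7ccced8dfd6dedac4dbd3d5cac3d2c0d0d9cbd7cddcd4d1c6cfc188828a8784bd95ba9d938191a7af92a9ac9baa85a49cbea1b580ab8996bf8cb2a098b897b0b4a3b38b949e8f83aea2a6a886a599b6bb908e9f9abcb7adb1b98d000d78152b6266237b0f1440015d4164701633181956497c174c6f387567762f132a31040c0e424b773b6802323c6b3a44035724463f4a075e365a2d71220a345809472e5972632660690621524312275f112c102855480b1a5b79296e3e7a731e51306d7e39614e74203d1d1b5c08451f4f376505356a1c25534d50547f7d6c,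
  nat_lit 0xd9c3dfd0ccc0cdd5c6c4c7c5cbc1d8dbdad6d2dccad1cfcec2deddc8d7d3d4c99ebd9cb9809ba5a4938aadbc90b3aba68cb7a283849da88988baa9968db19f91978b9985bfb5be8781acb4b8a0a3b692aeaaa7bb868f95b294b08e82989aafa1650e1d6b5104693e29154a5d26625e37551944437d175a41220801007e252b75640f1c40135f772d6a234f3528312a7f1138326714611a52531e4b492e215724665410066c60746e5c486d564c024e2f2c450d680a5b5842463d7b056f73633b3f4d7a712778363a30397020721b073316470c0379180b50347c763c59121f09,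
  nat_lit 0xd8cfcbc4cec6c2dfc0d0d2d1c1d5d4d6dedbcac8ddcdc3ccc5dac7dcc9d9d3d7acbe85b28298929ba08faf8da9bc8c94b5ae80bfa199b3a3a596a78ba897abb79a879c9db89faabaa2a690b08ab99195b68eb4b1a49388899e83bd8186bb84ad7614610a48753441107f7a27593646086925300e60496f44290537552e317d6b56324d3f52117326355f642c205b4e400b515d0342066a7b45714768284b78505c170c3a213c0213657257792d5e626d1a6333540419674374586e01090d3b53151618120f2f2a1d3e1e1f7e381c5a771b6c223d4f7c2370004a662b4c392407]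
noncomputable def p2P (k u : ℕ) : ℕ := Nat.land (Nat.shiftRight (nth (nat_lit 0) p2Pd k) (Nat.mul u (nat_lit 8))) (nat_lit 255)
noncomputable def p2Ed : ℕ := nat_lit 0xebe2d9cdcac7b7ada8a69f938a898785817b74694c4b463d302818120f090704efe9e7e3e0dfdedad5cecbc4bfbebdbbbab5b2aea99692918c8882807e7a79787673686664615e5c5b51504f47403b393735332d2a2625231e1b171613110e03eeedeceae8e6e5e4e1dddcd8d7d6d4d3d2d1d0cfccc9c8c6c5c3c2c1c0bcb9b8b6b4b3b1b0afacabaaa7a5a3a2a1a09e9d9c9b9a999897948f8d8b8684837f7d7c777571706f6e6d6c6a676562605f5d5a5957565453524e4d49484542413f3e3c3a383634322f2e2c2b27242221201f1d1c191514100d0c0b0a080605020100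
noncomputable def p2E (u : ℕ) : ℕ := Nat.land (Nat.shiftRight p2Ed (Nat.mul u (nat_lit 8))) (nat_lit 255)
noncomputable def p2Id : ℕ := nat_lit 0xbf7f7e7ddf7cbe7bbd7a7978bcde77bbbab9767500b8dd747372b771706f6e6d6cb6dc6bb5db6a69da6867b466656463b3b2b162b0af6160d95fae5e5dad5c5b5aacd8595857abd756d6550054535251d5504f4e4d4c4b4a49aa0048d4a9a800470046a745d3d2a6d144d04342a5cfa441a3403fcea2a1a03e9f3dcd9e003c3b3a3938370036cc9d359c349b00339a3231993098972f2e002d2c002b2a299695942827cbca00262593c92400002322922120c81f911e901d8f1c8e1b8d1a00c719188c17168b00c6158a89148813121110870f0e86000dc585840c0b83c4820ac38109080706c205c10403c080020100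
noncomputable def p2I (u : ℕ) : ℕ := Nat.land (Nat.shiftRight p2Id (Nat.mul u (nat_lit 8))) (nat_lit 255)
noncomputable def p2B : List ℕ := [nat_lit 0, nat_lit 129, nat_lit 196, nat_lit 21]
noncomputable def p2C : List (List (List ℕ)) := [[[],
  [],
  [],
  [],
  [],
  [],
  [],
  [],
  [],
  []], [[],
  [],
  [],
  [],
  [],
  [],
  [],
  [nat_lit 0],
  [],
  []], [[],
  [],
  [nat_lit 0],
  [],
  [nat_lit 0],
  [],
  [nat_lit 1],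
  [nat_lit 1],
  [nat_lit 0, nat_lit 1],
  [nat_lit 0]], [[],
  [],
  [],
  [nat_lit 0, nat_lit 1],
  [nat_lit 0, nat_lit 1],
  [],
  [],
  [nat_lit 2],
  [nat_lit 0, nat_lit 1],
  [nat_lit 0, nat_lit 1]], [[],
  [],
  [],
  [],
  [nat_lit 0],
  [nat_lit 1],
  [nat_lit 2],
  [],
  [nat_lit 1, nat_lit 2],
  [nat_lit 2]], [[],
  [],
  [],
  [],
  [],
  [nat_lit 0, nat_lit 1],
  [nat_lit 0, nat_lit 1],
  [nat_lit 0, nat_lit 1, nat_lit 2],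
  [],
  [nat_lit 0, nat_lit 1]], [[],
  [],
  [],
  [],
  [],
  [],
  [nat_lit 3],
  [nat_lit 1, nat_lit 3, nat_lit 4],
  [nat_lit 0, nat_lit 1, nat_lit 3, nat_lit 5],
  [nat_lit 0, nat_lit 3]], [[],
  [],
  [],
  [],
  [],
  [],
  [],
  [nat_lit 4],
  [nat_lit 4, nat_lit 5],
  [nat_lit 2, nat_lit 3]], [[],
  [],
  [],
  [],
  [],
  [],
  [],
  [],
  [nat_lit 5],
  [nat_lit 5]], [[],
  [],
  [],
  [],
  [],
  [],
  [],
  [],
  [],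
  []]]
noncomputable def p2e : List (List ℕ) := [[nat_lit 0, nat_lit 2, nat_lit 3, nat_lit 4, nat_lit 5],
  [nat_lit 1, nat_lit 3, nat_lit 6, nat_lit 7, nat_lit 8],
  [nat_lit 0, nat_lit 2, nat_lit 3, nat_lit 4, nat_lit 5],
  [],
  [],
  [],
  [],
  [],
  [],
  [],
  [],
  [],
  [nat_lit 0, nat_lit 5, nat_lit 6, nat_lit 7, nat_lit 9],
  [nat_lit 1, nat_lit 2, nat_lit 4, nat_lit 8],
  [nat_lit 1, nat_lit 3, nat_lit 8],
  [nat_lit 0, nat_lit 6]]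
noncomputable def p2l0Dd : ℕ := nat_lit 0x9e19be56bf181aeb5b0b606611be17b4d51a945263ef71ecb95728e49a834f69b1322640c035f65ec3d7faef59eabd4fa8f49c8b8f71de37a634b61612c0504a024f45e87cf79df2da5349e91d21a3f0788f01c22f05616e29c4f8870cd15a230408800e05bcaf93f25e47c878fe1dc3785f0ae13a1f4360600b81407f8ef1be2fc5788e0da1742084011e1b82f04d0781bc2f84e07a0b01082009e0f81681c0220401f82e03a0bc0f01f01a03807800
noncomputable def p2l0D (u : ℕ) : ℕ := Nat.land (Nat.shiftRight p2l0Dd (Nat.mul u (nat_lit 11))) (nat_lit 2047)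
noncomputable def p2l0Pd : ℕ := nat_lit 0x4b1aee7e35b64ef129eafc761854a39a39fd02d0e59116d5912b503764637f9fceabb9dc0b2040c3cee029aa68e67cd10de91122cf5ca9b4aa28b402e73ef76dfd53bda55762253e4a8a0fa905f62349ab7f15a6830cda3b8c7b6bea32629798439e33781b884d65df7e4c0914e43800
noncomputable def p2l0P (u : ℕ) : ℕ := Nat.land (Nat.shiftRight p2l0Pd (Nat.mul u (nat_lit 7))) (nat_lit 127)
noncomputable def p2l0Qd : ℕ := nat_lit 0x6d6dca24f0ee777064bc7950bd81bb5d9f931392ebf9bb455e6c0950103be9b4797272b3e9ff082a77ab5de269513d96e7dbfb3463c2cfbc0eaba93696ac0cc0dc540977cd71e8c714442d4a2c0683fc539274e1d8428ba3a907de76f594f0cbc202a532416d4fb1a6234d4541b58280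
noncomputable def p2l0Q (u : ℕ) : ℕ := Nat.land (Nat.shiftRight p2l0Qd (Nat.mul u (nat_lit 7))) (nat_lit 127)
noncomputable def p2l0 : Lev := ⟨128, 16, p2l0D, p2l0P, p2l0Q⟩
noncomputable def p2l1Dd : ℕ := nat_lit 0xa2664e301000
noncomputable def p2l1D (u : ℕ) : ℕ := Nat.land (Nat.shiftRight p2l1Dd (Nat.mul u (nat_lit 6))) (nat_lit 63)
noncomputable def p2l1Pd : ℕ := nat_lit 0xdd49b85f64c401
noncomputable def p2l1P (u : ℕ) : ℕ := Nat.land (Nat.shiftRight p2l1Pd (Nat.mul u (nat_lit 7))) (nat_lit 127)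
noncomputable def p2l1Qd : ℕ := nat_lit 0x6000000001c0000000000000000000180000000000000000000a00000000000000000000000000400000001020000
noncomputable def p2l1Q (u : ℕ) : ℕ := Nat.land (Nat.shiftRight p2l1Qd (Nat.mul u (nat_lit 3))) (nat_lit 7)
noncomputable def p2l1 : Lev := ⟨8, 13, p2l1D, p2l1P, p2l1Q⟩
noncomputable def covr_W : List (List ℕ) := [[nat_lit 3, nat_lit 0, nat_lit 2, nat_lit 0, nat_lit 2, nat_lit 2, nat_lit 2, nat_lit 0, nat_lit 2, nat_lit 3, nat_lit 2, nat_lit 2, nat_lit 4, nat_lit 3, nat_lit 2, nat_lit 0, nat_lit 2, nat_lit 2, nat_lit 2, nat_lit 0, nat_lit 2, nat_lit 3, nat_lit 4, nat_lit 1],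
  [nat_lit 1, nat_lit 1, nat_lit 3, nat_lit 2, nat_lit 2, nat_lit 0, nat_lit 2, nat_lit 4, nat_lit 3, nat_lit 2, nat_lit 0, nat_lit 2, nat_lit 3, nat_lit 1, nat_lit 0, nat_lit 4, nat_lit 3, nat_lit 2, nat_lit 2],
  [nat_lit 3, nat_lit 0, nat_lit 1, nat_lit 0, nat_lit 2, nat_lit 0, nat_lit 3, nat_lit 1, nat_lit 0, nat_lit 1, nat_lit 1, nat_lit 3, nat_lit 1, nat_lit 0]]
noncomputable def covr_P : ℕ → ℕ → ℕ := wdsP H1.CoC.P covr_W
noncomputable def covT0 : CT := (.split (.more (.split (.more (.split (.more (.split (.more (.split (.more (.split (.more (.split (.more (.split (.more (.split (.more (.split (.more .one (.more (.leaf (nat_lit 0) []) .one))) (.more (.fuse [nat_lit 7] [] (.leaf (nat_lit 1) [nat_lit 0, nat_lit 2, nat_lit 2, nat_lit 2, nat_lit 3, nat_lit 2, nat_lit 0, nat_lit 1, nat_lit 4, nat_lit 3, nat_lit 1, nat_lit 0, nat_lit 2, nat_lit 3, nat_lit 4]))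 .one))) (.more (.fuse [nat_lit 6] [] (.fuse [nat_lit 4] [] (.prune (nat_lit 0) (nat_lit 1) []))) .one))) (.more (.fuse [nat_lit 7] [] (.fuse [nat_lit 4] [nat_lit 0] (.prune (nat_lit 1) (nat_lit 1) [nat_lit 0]))) .one))) (.more (.split (.more (.fuse [nat_lit 6] [nat_lit 0] (.fuse [nat_lit 3] [nat_lit 0] (.fuse [nat_lit 2] [] (.prune (nat_lit 0) (nat_lit 1) [])))) (.more (.fuse [nat_lit 6] [nat_lit 0] (.fuse [nat_lit 3] [nat_lit 0] (.fuse [nat_lit 2] [] (.prune (nat_lit 0) (nat_lit 1) [])))) .one))) .one))) (.more (.split (.more (.split (.more (.fuse [nat_lit 7] [nat_lit 0, nat_lit 1] (.fuse [nat_lit 4] [] (.prune (nat_lit 1) (nat_lit 1) [nat_lit 0]))) (.more (.split (.more (.fuse [nat_lit 6] [nat_lit 0] (.fuse [nat_lit 4] [] (.leaf (nat_lit 1) [nat_lit 2, nat_lit 0, nat_lit 2, nat_lit 3, nat_lit 2, nat_lit 2, nat_lit 2, nat_lit 2, nat_lit 3, nat_lit 1, nat_lit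 4, nat_lit 3, nat_lit 1, nat_lit 1]))) (.more (.split (.more (.fuse [nat_lit 6] [] (.prune (nat_lit 0) (nat_lit 1) [])) (.more (.fuse [nat_lit 6] [] (.prune (nat_lit 0) (nat_lit 1) [])) .one))) .one))) .one))) (.more (.split (.more (.fuse [nat_lit 6] [nat_lit 1] (.fuse [nat_lit 3] [nat_lit 0] (.fuse [nat_lit 2] [] (.leaf (nat_lit 2) [nat_lit 3, nat_lit 1, nat_lit 1, nat_lit 3, nat_lit 2, nat_lit 4, nat_lit 3, nat_lit 2, nat_lit 2, nat_lit 2])))) (.more (.fuse [nat_lit 6] [nat_lit 1] (.fuse [nat_lit 3] [nat_lit 0] (.fuse [nat_lit 2] [] (.leaf (nat_lit 1) [nat_lit 0, nat_lit 1, nat_lit 0, nat_lit 1, nat_lit 3, nat_lit 1, nat_lit 1, nat_lit 1, nat_lit 4, nat_lit 3, nat_lit 2, nat_lit 2, nat_lit 0, nat_lit 1, nat_lit 0])))) .one))) .one))) .one))) (.more (.fuse [nat_lit 8] [nat_lit 3] (.fuse [nat_lit 7] [nat_lit 2, nat_lit 3] (.fuse [nat_lit 9] [nat_lit 0] (.prune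 (nat_lit 3) (nat_lit 1) [])))) .one))) (.more (.split (.more (.fuse [nat_lit 8] [nat_lit 0, nat_lit 2, nat_lit 4] (.fuse [nat_lit 6] [nat_lit 2, nat_lit 3] (.prune (nat_lit 4) (nat_lit 1) []))) (.more (.split (.more (.fuse [nat_lit 6] [nat_lit 0, nat_lit 3] (.split (.more (.fuse [nat_lit 3] [] (.prune (nat_lit 2) (nat_lit 1) [nat_lit 1])) (.more (.fuse [nat_lit 3] [] (.split (.more (.fuse [nat_lit 1] [] (.leaf (nat_lit 2) [nat_lit 0, nat_lit 3, nat_lit 2, nat_lit 2, nat_lit 2, nat_lit 2, nat_lit 3, nat_lit 1, nat_lit 1, nat_lit 4, nat_lit 3, nat_lit 1, nat_lit 1, nat_lit 1, nat_lit 1, nat_lit 3, nat_lit 1, nat_lit 4])) (.more (.fuse [nat_lit 1] [] (.prune (nat_lit 0) (nat_lit 1) [])) .one)))) .one)))) (.more (.fuse [nat_lit 6] [nat_lit 3] (.split (.more (.fuse [nat_lit 3] [] (.split (.more (.fuse [nat_lit 1] [] (.prune (nat_lit 0) (nat_lit 1) [])) (.more (.fuse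 [nat_lit 1] [] (.leaf (nat_lit 2) [nat_lit 1, nat_lit 1, nat_lit 0, nat_lit 3, nat_lit 2, nat_lit 4, nat_lit 3, nat_lit 1, nat_lit 0, nat_lit 2, nat_lit 3, nat_lit 1, nat_lit 0])) .one)))) (.more (.fuse [nat_lit 3] [] (.prune (nat_lit 2) (nat_lit 1) [nat_lit 1])) .one)))) .one))) .one))) .one))) (.more (.split (.more (.split (.more (.fuse [nat_lit 6] [nat_lit 3] (.prune (nat_lit 5) (nat_lit 1) [])) (.more (.fuse [nat_lit 6] [nat_lit 0, nat_lit 1, nat_lit 3] (.split (.more (.split (.more (.fuse [nat_lit 6, nat_lit 7] [nat_lit 1] (.fuse [nat_lit 3] [nat_lit 0] (.fuse [nat_lit 2] [] (.leaf (nat_lit 2) [nat_lit 0, nat_lit 3, nat_lit 2, nat_lit 2, nat_lit 4, nat_lit 3, nat_lit 1, nat_lit 0, nat_lit 2, nat_lit 0, nat_lit 3, nat_lit 1, nat_lit 4, nat_lit 3, nat_lit 0])))) (.more (.split (.more (.fuse [nat_lit 3] [nat_lit 0] (.fuse [nat_lit 2] [] (.leaf (nat_lit 1)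 [nat_lit 1, nat_lit 0, nat_lit 1, nat_lit 3, nat_lit 1, nat_lit 0, nat_lit 4, nat_lit 3, nat_lit 1, nat_lit 1, nat_lit 0, nat_lit 2]))) (.more (.fuse [nat_lit 3] [nat_lit 0] (.fuse [nat_lit 2] [] (.leaf (nat_lit 2) [nat_lit 2, nat_lit 2, nat_lit 2, nat_lit 4, nat_lit 3, nat_lit 2, nat_lit 0, nat_lit 1, nat_lit 3, nat_lit 2, nat_lit 4, nat_lit 3]))) .one))) .one))) (.more (.split (.more (.split (.more (.split (.more (.fuse [nat_lit 5] [] (.prune (nat_lit 0) (nat_lit 1) [])) (.more (.fuse [nat_lit 5] [] (.prune (nat_lit 0) (nat_lit 1) [])) .one))) (.more (.fuse [nat_lit 6, nat_lit 9] [] (.fuse [nat_lit 4] [] (.leaf (nat_lit 2) [nat_lit 2, nat_lit 2, nat_lit 2, nat_lit 2, nat_lit 3, nat_lit 1, nat_lit 0, nat_lit 1, nat_lit 1, nat_lit 3, nat_lit 1, nat_lit 4]))) .one))) (.more (.fuse [nat_lit 6, nat_lit 7] [nat_lit 0] (.fuse [nat_lit 4] [nat_lit 0] (.prune (nat_lit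 1) (nat_lit 1) []))) .one))) .one)))) .one))) (.more (.split (.more (.fuse [nat_lit 6] [nat_lit 0, nat_lit 1, nat_lit 2, nat_lit 4] (.fuse [nat_lit 6, nat_lit 9] [nat_lit 2, nat_lit 3] (.split (.more (.fuse [nat_lit 3] [] (.prune (nat_lit 2) (nat_lit 1) [nat_lit 1])) (.more (.fuse [nat_lit 3] [] (.split (.more (.fuse [nat_lit 1] [] (.leaf (nat_lit 2) [nat_lit 4, nat_lit 2, nat_lit 2, nat_lit 2, nat_lit 2, nat_lit 3, nat_lit 1, nat_lit 0, nat_lit 2, nat_lit 0, nat_lit 3, nat_lit 1, nat_lit 4, nat_lit 3, nat_lit 2, nat_lit 0, nat_lit 1, nat_lit 1])) (.more (.fuse [nat_lit 1] [] (.prune (nat_lit 0) (nat_lit 1) [])) .one)))) .one))))) (.more (.fuse [nat_lit 6] [nat_lit 0, nat_lit 4] (.prune (nat_lit 5) (nat_lit 1) [nat_lit 0, nat_lit 3, nat_lit 4])) .one))) .one))) .one))) (.more (.split (.more (.split (.more (.split (.more (.fuse [nat_lit 8] [] (.split (.more (.fuse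 [nat_lit 6] [nat_lit 0] (.fuse [nat_lit 4] [] (.fuse [nat_lit 3] [nat_lit 0] (.fuse [nat_lit 2] [] (.leaf (nat_lit 2) [nat_lit 2, nat_lit 3, nat_lit 2, nat_lit 2, nat_lit 0, nat_lit 1, nat_lit 0, nat_lit 4, nat_lit 3, nat_lit 2, nat_lit 0, nat_lit 2, nat_lit 2]))))) (.more (.fuse [nat_lit 6] [nat_lit 0, nat_lit 1, nat_lit 2] (.fuse [nat_lit 4] [nat_lit 0] (.prune (nat_lit 2) (nat_lit 1) [nat_lit 0]))) .one)))) (.more (.split (.more (.fuse [nat_lit 7] [nat_lit 1] (.fuse [nat_lit 6] [nat_lit 0] (.split (.more (.fuse [nat_lit 2] [nat_lit 0] (.prune (nat_lit 1) (nat_lit 1) [])) (.more (.fuse [nat_lit 2] [nat_lit 0] (.fuse [nat_lit 4] [] (.leaf (nat_lit 2) [nat_lit 3, nat_lit 2, nat_lit 0, nat_lit 2, nat_lit 2, nat_lit 2, nat_lit 0, nat_lit 3, nat_lit 1, nat_lit 4, nat_lit 3, nat_lit 2, nat_lit 2, nat_lit 0, nat_lit 1]))) .one))))) (.more (.fuse [nat_lit 7] [nat_lit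 0, nat_lit 1, nat_lit 2] (.fuse [nat_lit 6] [nat_lit 1] (.split (.more (.fuse [nat_lit 2] [nat_lit 0] (.fuse [nat_lit 2, nat_lit 4] [] (.prune (nat_lit 0) (nat_lit 1) []))) (.more (.fuse [nat_lit 2] [nat_lit 0] (.prune (nat_lit 1) (nat_lit 1) [nat_lit 0])) .one))))) .one))) .one))) (.more (.split (.more (.split (.more (.fuse [nat_lit 6] [nat_lit 0, nat_lit 1] (.prune (nat_lit 4) (nat_lit 1) [nat_lit 1, nat_lit 2, nat_lit 3])) (.more (.fuse [nat_lit 6] [nat_lit 1] (.prune (nat_lit 4) (nat_lit 1) [nat_lit 1, nat_lit 3])) .one))) (.more (.fuse [nat_lit 8] [nat_lit 1, nat_lit 2, nat_lit 3, nat_lit 4] (.fuse [nat_lit 6] [nat_lit 0, nat_lit 2] (.split (.more (.fuse [nat_lit 3] [nat_lit 1] (.prune (nat_lit 2) (nat_lit 1) [nat_lit 0])) (.more (.fuse [nat_lit 3] [nat_lit 1] (.split (.more (.fuse [nat_lit 1] [] (.prune (nat_lit 0) (nat_lit 1) [])) (.more (.fuse [nat_lit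 1] [] (.leaf (nat_lit 1) [nat_lit 0, nat_lit 2, nat_lit 3, nat_lit 1, nat_lit 0, nat_lit 1, nat_lit 1, nat_lit 1, nat_lit 0, nat_lit 4, nat_lit 3, nat_lit 2])) .one)))) .one))))) .one))) .one))) (.more (.split (.more (.split (.more (.fuse [nat_lit 6] [nat_lit 0] (.fuse [nat_lit 6, nat_lit 7] [nat_lit 0, nat_lit 2, nat_lit 3] (.split (.more (.split (.more (.fuse [nat_lit 2] [] (.prune (nat_lit 1) (nat_lit 1) [nat_lit 0])) (.more (.fuse [nat_lit 2] [] (.fuse [nat_lit 2, nat_lit 4] [] (.leaf (nat_lit 2) [nat_lit 0, nat_lit 2, nat_lit 2, nat_lit 0, nat_lit 1, nat_lit 4, nat_lit 3, nat_lit 1, nat_lit 0, nat_lit 2, nat_lit 0, nat_lit 3, nat_lit 1, nat_lit 4]))) .one))) (.more (.split (.more (.fuse [nat_lit 2] [] (.fuse [nat_lit 4] [] (.leaf (nat_lit 1) [nat_lit 3, nat_lit 4, nat_lit 3, nat_lit 1, nat_lit 1, nat_lit 1, nat_lit 1, nat_lit 4, nat_lit 3, nat_lit 1, nat_lit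 1, nat_lit 1]))) (.more (.fuse [nat_lit 2] [] (.prune (nat_lit 1) (nat_lit 1) [nat_lit 0])) .one))) .one))))) (.more (.fuse [nat_lit 6] [nat_lit 1] (.prune (nat_lit 5) (nat_lit 1) [nat_lit 1, nat_lit 3])) .one))) (.more (.split (.more (.fuse [nat_lit 6] [nat_lit 0, nat_lit 3, nat_lit 4] (.prune (nat_lit 5) (nat_lit 1) [nat_lit 0, nat_lit 1, nat_lit 3])) (.more (.fuse [nat_lit 6] [nat_lit 2, nat_lit 3, nat_lit 4] (.fuse [nat_lit 6, nat_lit 7] [nat_lit 0, nat_lit 1, nat_lit 2, nat_lit 3] (.prune (nat_lit 4) (nat_lit 1) [nat_lit 0, nat_lit 3]))) .one))) .one))) .one))) .one)))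
noncomputable def x_W : List (List ℕ) := [[nat_lit 1, nat_lit 1, nat_lit 3, nat_lit 2, nat_lit 2, nat_lit 0, nat_lit 2, nat_lit 4, nat_lit 3, nat_lit 2, nat_lit 0, nat_lit 2, nat_lit 3, nat_lit 1, nat_lit 0, nat_lit 4, nat_lit 3, nat_lit 2, nat_lit 2]]
noncomputable def x_P : ℕ → ℕ → ℕ := wdsP H1.CoC.P x_W
noncomputable def txh_W : List (List ℕ) := [[nat_lit 4, nat_lit 1, nat_lit 0, nat_lit 1, nat_lit 1, nat_lit 1, nat_lit 0, nat_lit 1, nat_lit 3, nat_lit 1, nat_lit 0, nat_lit 2, nat_lit 4, nat_lit 3, nat_lit 1, nat_lit 0, nat_lit 1, nat_lit 3, nat_lit 2, nat_lit 4, nat_lit 3],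
  [nat_lit 0, nat_lit 2, nat_lit 0, nat_lit 2, nat_lit 2, nat_lit 3, nat_lit 1, nat_lit 0, nat_lit 2, nat_lit 3, nat_lit 4, nat_lit 3, nat_lit 2, nat_lit 2, nat_lit 0, nat_lit 1, nat_lit 1],
  [nat_lit 0, nat_lit 2, nat_lit 0, nat_lit 3, nat_lit 1, nat_lit 0, nat_lit 1, nat_lit 4, nat_lit 3, nat_lit 2, nat_lit 2, nat_lit 0, nat_lit 3, nat_lit 1, nat_lit 4],
  [nat_lit 1, nat_lit 0, nat_lit 1, nat_lit 1, nat_lit 1, nat_lit 0, nat_lit 3, nat_lit 2, nat_lit 4, nat_lit 3, nat_lit 1, nat_lit 1, nat_lit 0],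
  [nat_lit 2, nat_lit 0, nat_lit 2, nat_lit 4, nat_lit 3, nat_lit 1, nat_lit 0, nat_lit 1, nat_lit 3, nat_lit 2],
  [nat_lit 3, nat_lit 1, nat_lit 0, nat_lit 1, nat_lit 3, nat_lit 2, nat_lit 0, nat_lit 1, nat_lit 1, nat_lit 0, nat_lit 4, nat_lit 3, nat_lit 2, nat_lit 0, nat_lit 2, nat_lit 2, nat_lit 3, nat_lit 4],
  [nat_lit 0],
  [nat_lit 1],
  [nat_lit 2],
  [nat_lit 3],
  [nat_lit 4],
  [nat_lit 2, nat_lit 0, nat_lit 3, nat_lit 2, nat_lit 0, nat_lit 1, nat_lit 3, nat_lit 2, nat_lit 2, nat_lit 0, nat_lit 1, nat_lit 4, nat_lit 3, nat_lit 2]]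
noncomputable def txh_P : ℕ → ℕ → ℕ := wdsP H1.CoC.P txh_W
noncomputable def txl0Dd : ℕ := nat_lit 0x99915c12011492b80c9126ec64671b60a6ea2746ae19a5f15e565a4f66420bf6075194ba4f54e922c0fe60653c4894124f44e84651e44e746406b1cc50a4fe4340db4f24e61b445744b3ec37536935d30a2f21844b64aa4864333a42e64623f73743153092f11480b53df3d33bb38b3202e52d92cd2c10853c63a233732b2e42cc2b529d3132fb1000e80793362e32b426e0b62620c33123062bf27809226103d29a27722606225f20209f08703525304a25e2472191e907b0241ba24622f2181e81c51a218a06f05701d0180231b923a1ff1e715a14204b0112220171db0882161e61ac1881651591da1351ce1ab18717b14c14012911d1b613406405819e1631571050f913304c04002515612710413211a1030f70320ea02601a03300e0270c708e00b0bc0a509908200f03408c06a0280ba08b07506905d0a209607f05c05101007306705006605a04f04304203a03802d03702c02101502a01f01401e013009008007006000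
noncomputable def txl0D (u : ℕ) : ℕ := Nat.land (Nat.shiftRight txl0Dd (Nat.mul u (nat_lit 12))) (nat_lit 4095)
noncomputable def txl0Pd : ℕ := nat_lit 0x5c00050e54b83274187d5b86ce55c09110e8ef419bad33af5d6153278a31573f4f5288aa6f124e35393c8e2624e579349d2060bad7c756b2d6a42fe4a6e1c428592c42044b49b11fb0a51983eeac25a7e7c9dfd39c930d71ccdecae21acf7fb7966a212b789f2a4c89302dcd48721ed2686243d516063d928d4aec099808a90b6ebb3bedddc65113a345b5978be3948f99c281bccb0a38a26de6907ed0b3737bae7758d8bd82dbd4116b1b8c7601c3649a40e97ac55a6570c84d801c462350d9b91775bf6387023e1db637a0147ca136e0ea853a07da69a85eeb0f5f29446c84bec1b4dcd16715ab6647222e0c9e9503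
noncomputable def txl0P (u : ℕ) : ℕ := Nat.land (Nat.shiftRight txl0Pd (Nat.mul u (nat_lit 8))) (nat_lit 255)
noncomputable def txl0Qd : ℕ := nat_lit 0xdda36c75161e3dde9f56c2b46294b21f9d966b0c491a304cbbb77c489c800b5392e384975b959e37ba6a3bb1415e0ee12c0f4b5c6ebc2fea9026650d52b8a9a7d84fdaa208cc7118a0b3a6b6675821248a02bf9bdb3f5f73648f01619a78e05560c5774463d387cd2ae41d10a44a5d359154e622503cc18b4e432de851829838cb6f5711468e197f0a0739402b7ed6bd1417d7efe53aaf4dd1b9e2ebd5ce6931cfc93688ab76aa83063366127daddc3ed02879c66d1cc7592520c8c0d9e9d286b50485ae8c8913b0d4c4a1c332058dbea88127344593a5e72e7b092368ca47df15ec9903705a74721b7aedac002942ee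
noncomputable def txl0Q (u : ℕ) : ℕ := Nat.land (Nat.shiftRight txl0Qd (Nat.mul u (nat_lit 8))) (nat_lit 255)
noncomputable def txl0 : Lev := ⟨240, 12, txl0D, txl0P, txl0Q⟩
noncomputable def txl1Dd : ℕ := nat_lit 0xaa9d77a9404e9844b9284ed354410a31942444eb4d905394b32851e26c95334c73048f3e50c3cce7308a31dcc930cbd1acaa2909e17c5926060168b11fcca2f8a5120731b86116ca6204681088e188492087c18c501283c1d87010c6a14464160440d82f0f45211437090460fc380c823078400e433074180983a0d0170b81209c190841a0a01306c2205011070150580f0400b01807020090280501000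
noncomputable def txl1D (u : ℕ) : ℕ := Nat.land (Nat.shiftRight txl1Dd (Nat.mul u (nat_lit 10))) (nat_lit 1023)
noncomputable def txl1Pd : ℕ := nat_lit 0x381b73ca1688214a41a5b1e860446ed67e5c05dbe3712697c025c29b35912abfb27c98d1100f8d9350839f0d018b8c28d333073e995ebe425d69e5d7aab50e4c82eb3752c924196d63b6e6a827365400a9d886397a6ae93c6f2fcdd2dfb7b3663ba7954bde29cb110806c6e28fb0497864304e32438575687247e4ac5317
noncomputable def txl1P (u : ℕ) : ℕ := Nat.land (Nat.shiftRight txl1Pd (Nat.mul u (nat_lit 8))) (nat_lit 255)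
noncomputable def txl1Qd : ℕ := nat_lit 0x78013f200ce183d2480004264000d40002c85b80009a8ad0000011802fe9c80004c000018c065bd1c000000000040d20003f77990000000201056b23803a000000000a600000c4024dbcc00d80ac030002202bcfa00007800ac400a8f400001b405c00a400e0000380f6174004bbdb0000a2206007800d6a0007101222ec0000000000002f02e8055002c03e35d87800800070131ba8001280263a0157d76c3080982800c4800000017cc4e639f2380003b800000000f801b8001e40000000b59b0fe9000000015965358000028ae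
noncomputable def txl1Q (u : ℕ) : ℕ := Nat.land (Nat.shiftRight txl1Qd (Nat.mul u (nat_lit 7))) (nat_lit 127)
noncomputable def txl1 : Lev := ⟨126, 6, txl1D, txl1P, txl1Q⟩
noncomputable def txl2Dd : ℕ := nat_lit 0x9e330838f2441470c0
noncomputable def txl2D (u : ℕ) : ℕ := Nat.land (Nat.shiftRight txl2Dd (Nat.mul u (nat_lit 6))) (nat_lit 63)
noncomputable def txl2Pd : ℕ := nat_lit 0x6eaca9e9d638b13288b5240d
noncomputable def txl2P (u : ℕ) : ℕ := Nat.land (Nat.shiftRight txl2Pd (Nat.mul u (nat_lit 8))) (nat_lit 255)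
noncomputable def txl2Qd : ℕ := nat_lit 0x8000000000000000000700000000000000000000000000000000200050000a0090000000000000000000000000000000030000000000000000000000000b00000000000000000000000000000000000000000000000000000600000400000000000001000000000000000000000000000000000000
noncomputable def txl2Q (u : ℕ) : ℕ := Nat.land (Nat.shiftRight txl2Qd (Nat.mul u (nat_lit 4))) (nat_lit 15)
noncomputable def txl2 : Lev := ⟨12, 4, txl2D, txl2P, txl2Q⟩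
noncomputable def txl3Dd : ℕ := nat_lit 8
noncomputable def txl3D (u : ℕ) : ℕ := Nat.land (Nat.shiftRight txl3Dd (Nat.mul u (nat_lit 2))) (nat_lit 3)
noncomputable def txl3Pd : ℕ := nat_lit 0xec2b
noncomputable def txl3P (u : ℕ) : ℕ := Nat.land (Nat.shiftRight txl3Pd (Nat.mul u (nat_lit 8))) (nat_lit 255)
noncomputable def txl3Qd : ℕ := nat_lit 0x100000000000000000000000000000000000000000000000000000000000
noncomputable def txl3Q (u : ℕ) : ℕ := Nat.land (Nat.shiftRight txl3Qd (Nat.mul u (nat_lit 1))) (nat_lit 1)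
noncomputable def txl3 : Lev := ⟨2, 3, txl3D, txl3P, txl3Q⟩
noncomputable def txl4Dd : ℕ := nat_lit 2
noncomputable def txl4D (u : ℕ) : ℕ := Nat.land (Nat.shiftRight txl4Dd (Nat.mul u (nat_lit 1))) (nat_lit 1)
noncomputable def txl4Pd : ℕ := nat_lit 0x2445
noncomputable def txl4P (u : ℕ) : ℕ := Nat.land (Nat.shiftRight txl4Pd (Nat.mul u (nat_lit 7))) (nat_lit 127)
noncomputable def txl4Qd : ℕ := nat_lit 0x1000000000000000000
noncomputable def txl4Q (u : ℕ) : ℕ := Nat.land (Nat.shiftRight txl4Qd (Nat.mul u (nat_lit 1))) (nat_lit 1)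
noncomputable def txl4 : Lev := ⟨2, 2, txl4D, txl4P, txl4Q⟩
noncomputable def txl5Dd : ℕ := nat_lit 0
noncomputable def txl5D (u : ℕ) : ℕ := Nat.land (Nat.shiftRight txl5Dd (Nat.mul u (nat_lit 1))) (nat_lit 1)
noncomputable def txl5Pd : ℕ := nat_lit 0x8500
noncomputable def txl5P (u : ℕ) : ℕ := Nat.land (Nat.shiftRight txl5Pd (Nat.mul u (nat_lit 8))) (nat_lit 255)
noncomputable def txl5Qd : ℕ := nat_lit 0x2000000000000000000000000000000000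
noncomputable def txl5Q (u : ℕ) : ℕ := Nat.land (Nat.shiftRight txl5Qd (Nat.mul u (nat_lit 1))) (nat_lit 1)
noncomputable def txl5 : Lev := ⟨2, 1, txl5D, txl5P, txl5Q⟩
noncomputable def cxe_W : List (List ℕ) := [[nat_lit 2, nat_lit 4, nat_lit 0, nat_lit 1, nat_lit 1, nat_lit 1, nat_lit 0, nat_lit 1, nat_lit 3, nat_lit 1, nat_lit 0, nat_lit 2, nat_lit 4, nat_lit 3, nat_lit 1, nat_lit 0, nat_lit 1, nat_lit 3, nat_lit 2, nat_lit 4, nat_lit 3],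
  [nat_lit 4, nat_lit 2, nat_lit 0, nat_lit 2, nat_lit 2, nat_lit 2, nat_lit 3, nat_lit 2, nat_lit 2, nat_lit 0, nat_lit 2, nat_lit 4, nat_lit 3, nat_lit 1, nat_lit 1, nat_lit 1, nat_lit 1, nat_lit 1],
  [nat_lit 1, nat_lit 3, nat_lit 2, nat_lit 0, nat_lit 2, nat_lit 2, nat_lit 3, nat_lit 4, nat_lit 3, nat_lit 1, nat_lit 0, nat_lit 1],
  [nat_lit 2, nat_lit 4, nat_lit 2, nat_lit 3, nat_lit 1, nat_lit 1, nat_lit 1, nat_lit 3, nat_lit 4, nat_lit 3],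
  [nat_lit 0, nat_lit 1, nat_lit 3, nat_lit 1, nat_lit 0, nat_lit 4, nat_lit 3, nat_lit 1, nat_lit 0, nat_lit 1, nat_lit 3, nat_lit 2, nat_lit 4, nat_lit 3, nat_lit 2, nat_lit 0, nat_lit 1, nat_lit 1],
  [nat_lit 1, nat_lit 1, nat_lit 3, nat_lit 2, nat_lit 0, nat_lit 2, nat_lit 2, nat_lit 3, nat_lit 4, nat_lit 3, nat_lit 1, nat_lit 1, nat_lit 1, nat_lit 1, nat_lit 3, nat_lit 1],
  [nat_lit 2, nat_lit 2, nat_lit 0, nat_lit 3, nat_lit 1, nat_lit 0, nat_lit 1, nat_lit 3, nat_lit 4, nat_lit 3, nat_lit 1, nat_lit 1, nat_lit 1, nat_lit 1, nat_lit 3, nat_lit 2, nat_lit 0, nat_lit 4, nat_lit 2]]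
noncomputable def cxe_P : ℕ → ℕ → ℕ := wdsP H1.CoC.P cxe_W
noncomputable def cxc5Dd : ℕ := nat_lit 0
noncomputable def cxc5D (u : ℕ) : ℕ := Nat.land (Nat.shiftRight cxc5Dd (Nat.mul u (nat_lit 1))) (nat_lit 1)
noncomputable def cxc5Pd : ℕ := nat_lit 0x8500
noncomputable def cxc5P (u : ℕ) : ℕ := Nat.land (Nat.shiftRight cxc5Pd (Nat.mul u (nat_lit 8))) (nat_lit 255)
noncomputable def cxc5Qd : ℕ := nat_lit 0x2000000000000000000000000000000000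
noncomputable def cxc5Q (u : ℕ) : ℕ := Nat.land (Nat.shiftRight cxc5Qd (Nat.mul u (nat_lit 1))) (nat_lit 1)
noncomputable def cxc5 : Lev := ⟨2, 1, cxc5D, cxc5P, cxc5Q⟩
noncomputable def txn0Fd : ℕ := nat_lit 0
noncomputable def txn0F (u : ℕ) : ℕ := Nat.land (Nat.shiftRight txn0Fd (Nat.mul u (nat_lit 1))) (nat_lit 1)
noncomputable def txn0 : Nd := ⟨txn0F, (nat_lit 2), (nat_lit 1), [], [((nat_lit 0), [])], []⟩
noncomputable def txn1y72_W : List (List ℕ) := [[nat_lit 0, nat_lit 3, nat_lit 1, nat_lit 1, nat_lit 1, nat_lit 0, nat_lit 1, nat_lit 3, nat_lit 2, nat_lit 2, nat_lit 3, nat_lit 4, nat_lit 3, nat_lit 2, nat_lit 2, nat_lit 2, nat_lit 2, nat_lit 2, nat_lit 3, nat_lit 1, nat_lit 4]]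
noncomputable def txn1y72_P : ℕ → ℕ → ℕ := wdsP H1.CoC.P txn1y72_W
noncomputable def txr2k_W : List (List ℕ) := [[],
  [nat_lit 3, nat_lit 2, nat_lit 4, nat_lit 1, nat_lit 0, nat_lit 3, nat_lit 2, nat_lit 0, nat_lit 2, nat_lit 2, nat_lit 3, nat_lit 2, nat_lit 4, nat_lit 3, nat_lit 2, nat_lit 2, nat_lit 0, nat_lit 1, nat_lit 0, nat_lit 2, nat_lit 2]]
noncomputable def txr2k_P : ℕ → ℕ → ℕ := wdsP H1.CoC.P txr2k_W
noncomputable def txn2Fd : ℕ := nat_lit 0xd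
noncomputable def txn2F (u : ℕ) : ℕ := Nat.land (Nat.shiftRight txn2Fd (Nat.mul u (nat_lit 2))) (nat_lit 3)
noncomputable def txn2 : Nd := ⟨txn2F, (nat_lit 2), (nat_lit 2), [], [((nat_lit 0), []), ((nat_lit 1), [nat_lit 0])], []⟩
noncomputable def txn1Fd : ℕ := nat_lit 2
noncomputable def txn1F (u : ℕ) : ℕ := Nat.land (Nat.shiftRight txn1Fd (Nat.mul u (nat_lit 1))) (nat_lit 1)
noncomputable def txn1 : Nd := ⟨txn1F, (nat_lit 2), (nat_lit 1), [], [((nat_lit 0), [])], [((nat_lit 72), txn1y72_W)]⟩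
noncomputable def cxc3Dd : ℕ := nat_lit 2
noncomputable def cxc3D (u : ℕ) : ℕ := Nat.land (Nat.shiftRight cxc3Dd (Nat.mul u (nat_lit 1))) (nat_lit 1)
noncomputable def cxc3Pd : ℕ := nat_lit 0xec2b
noncomputable def cxc3P (u : ℕ) : ℕ := Nat.land (Nat.shiftRight cxc3Pd (Nat.mul u (nat_lit 8))) (nat_lit 255)
noncomputable def cxc3Qd : ℕ := nat_lit 0x100000000000000000000000000000000000000000000000000000000000
noncomputable def cxc3Q (u : ℕ) : ℕ := Nat.land (Nat.shiftRight cxc3Qd (Nat.mul u (nat_lit 1))) (nat_lit 1)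
noncomputable def cxc3 : Lev := ⟨2, 2, cxc3D, cxc3P, cxc3Q⟩
noncomputable def txn3Fd : ℕ := nat_lit 0
noncomputable def txn3F (u : ℕ) : ℕ := Nat.land (Nat.shiftRight txn3Fd (Nat.mul u (nat_lit 1))) (nat_lit 1)
noncomputable def txn3 : Nd := ⟨txn3F, (nat_lit 2), (nat_lit 2), [], [((nat_lit 0), [])], []⟩
noncomputable def cxc2Dd : ℕ := nat_lit 0xf4ab6230
noncomputable def cxc2D (u : ℕ) : ℕ := Nat.land (Nat.shiftRight cxc2Dd (Nat.mul u (nat_lit 4))) (nat_lit 15)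
noncomputable def cxc2Pd : ℕ := nat_lit 0x6eb5aca98838e90d
noncomputable def cxc2P (u : ℕ) : ℕ := Nat.land (Nat.shiftRight cxc2Pd (Nat.mul u (nat_lit 8))) (nat_lit 255)
noncomputable def cxc2Qd : ℕ := nat_lit 0x80000000000000000000000000000000000000300000050200000000000000000000000030000000000000000001c0000000000000000000000000000000000000002000000000000000000000000000000000000000000
noncomputable def cxc2Q (u : ℕ) : ℕ := Nat.land (Nat.shiftRight cxc2Qd (Nat.mul u (nat_lit 3))) (nat_lit 7)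
noncomputable def cxc2 : Lev := ⟨8, 4, cxc2D, cxc2P, cxc2Q⟩
noncomputable def txn4Fd : ℕ := nat_lit 0x90570010
noncomputable def txn4F (u : ℕ) : ℕ := Nat.land (Nat.shiftRight txn4Fd (Nat.mul u (nat_lit 4))) (nat_lit 15)
noncomputable def txn4 : Nd := ⟨txn4F, (nat_lit 4), (nat_lit 4), [[nat_lit 0]], [((nat_lit 0), [])], []⟩
noncomputable def cxc1Dd : ℕ := nat_lit 0xb96840
noncomputable def cxc1D (u : ℕ) : ℕ := Nat.land (Nat.shiftRight cxc1Dd (Nat.mul u (nat_lit 4))) (nat_lit 15)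
noncomputable def cxc1Pd : ℕ := nat_lit 0x327824b1d617
noncomputable def cxc1P (u : ℕ) : ℕ := Nat.land (Nat.shiftRight cxc1Pd (Nat.mul u (nat_lit 8))) (nat_lit 255)
noncomputable def cxc1Qd : ℕ := nat_lit 0x40000000000000000000000000010000000000000000000000000000000000000000004000000000000000000000000000000000000000000000000000140000000003000000000000000000000000000
noncomputable def cxc1Q (u : ℕ) : ℕ := Nat.land (Nat.shiftRight cxc1Qd (Nat.mul u (nat_lit 3))) (nat_lit 7)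
noncomputable def cxc1 : Lev := ⟨6, 5, cxc1D, cxc1P, cxc1Q⟩
noncomputable def txn5Fd : ℕ := nat_lit 0x255abaedacb0c03d6d381d2bd60fbe30ed561394ad5c3b1885273ab2977c9727d927aaf555518854212a2240ad1f54e24dccd91856b05468f6cdf56ad5374f53342519d1d36824a782f32c26fb8420
noncomputable def txn5F (u : ℕ) : ℕ := Nat.land (Nat.shiftRight txn5Fd (Nat.mul u (nat_lit 5))) (nat_lit 31)
noncomputable def txn5 : Nd := ⟨txn5F, (nat_lit 5), (nat_lit 5), [[nat_lit 0]], [((nat_lit 0), [])], []⟩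
noncomputable def cxc0Dd : ℕ := nat_lit 0x61814c373029362e2b28211d1a26140e12130f1011060500
noncomputable def cxc0D (u : ℕ) : ℕ := Nat.land (Nat.shiftRight cxc0Dd (Nat.mul u (nat_lit 8))) (nat_lit 255)
noncomputable def cxc0Pd : ℕ := nat_lit 0x78d6322417b11dc1cc15a62c1aeaa42db4043fe74fd58003
noncomputable def cxc0P (u : ℕ) : ℕ := Nat.land (Nat.shiftRight cxc0Pd (Nat.mul u (nat_lit 8))) (nat_lit 255)
noncomputable def cxc0Qd : ℕ := nat_lit 0x28002000000000000000000005840000000000f0000000000002000000000000000070024000000000000340900000000000000000000000000000000000000000000100000000170000000000000000000000000000000000000000000000000018000000000000000000280000000000000054000010c0000000014000000022002c00981c00000000000000000000600000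
noncomputable def cxc0Q (u : ℕ) : ℕ := Nat.land (Nat.shiftRight cxc0Qd (Nat.mul u (nat_lit 5))) (nat_lit 31)
noncomputable def cxc0 : Lev := ⟨24, 7, cxc0D, cxc0P, cxc0Q⟩
noncomputable def txn6Fd : ℕ := nat_lit 0x68e49e5a001a59b8538a245e5948134dc2a159d7d895b90001649d46065a65b78801289686065d5de79000045401b75960060061c01b3d664e9517d90207cf69b45900e6990176136df6db00f89a5990119586cd46164049585864779f61949f61f79e64e79b6e23504c851184c82262661c6498957d24547605ca7da3e75a73186d86d375c2da7df8a855b01b6df45a78061b2d570701366279450f5c026281b41549b05f54e9de64001f65901f55281b861040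
noncomputable def txn6F (u : ℕ) : ℕ := Nat.land (Nat.shiftRight txn6Fd (Nat.mul u (nat_lit 6))) (nat_lit 63)
noncomputable def txn6 : Nd := ⟨txn6F, (nat_lit 7), (nat_lit 7), [[nat_lit 0]], [((nat_lit 0), [])], []⟩
noncomputable def xu_W : List (List ℕ) := [[nat_lit 3, nat_lit 0, nat_lit 1, nat_lit 0, nat_lit 2, nat_lit 0, nat_lit 3, nat_lit 1, nat_lit 0, nat_lit 1, nat_lit 1, nat_lit 3, nat_lit 1, nat_lit 0]]
noncomputable def xu_P : ℕ → ℕ → ℕ := wdsP H1.CoC.P xu_W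
noncomputable def txuh_W : List (List ℕ) := [[nat_lit 0, nat_lit 2, nat_lit 2, nat_lit 0, nat_lit 1, nat_lit 3, nat_lit 1, nat_lit 0],
  [nat_lit 0, nat_lit 1, nat_lit 1, nat_lit 0, nat_lit 3, nat_lit 2, nat_lit 2, nat_lit 0, nat_lit 1],
  [nat_lit 2, nat_lit 0, nat_lit 2, nat_lit 3, nat_lit 1, nat_lit 0, nat_lit 1, nat_lit 3],
  [nat_lit 0],
  [nat_lit 1],
  [nat_lit 2],
  [nat_lit 3],
  [nat_lit 0, nat_lit 2, nat_lit 0, nat_lit 2, nat_lit 2],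
  [nat_lit 4],
  [nat_lit 0, nat_lit 1, nat_lit 1, nat_lit 1, nat_lit 1, nat_lit 3, nat_lit 1, nat_lit 1, nat_lit 4, nat_lit 3, nat_lit 2, nat_lit 2, nat_lit 2]]
noncomputable def txuh_P : ℕ → ℕ → ℕ := wdsP H1.CoC.P txuh_W
noncomputable def txul0Dd : ℕ := nat_lit 0xffbe676a6a2b41d2aa3fabecd4079febecf131768d4698d4f3776599b12038fde2e03bdf4ee89bb1712c55a6c6175ec94a6939249f559b1678be8e44cb35092a6599a714ba924868f948e6544aa5948a1150ea093ea6049891d212023fa7ccf71952e65a5485e93c89b720e2943e77d209d0396718e09722d06dc13e40b646b4d419431e062c29f0b445ecb11c92925109a930256232bf88faea5ac8690811a5347c97422236c638c217a230b013da5347eb9d471704cc57046a8342c720bc13e1b83212d8842dc790e81c6364600a30660b6624bf96c2c453c8f1140a45109d1431ec4706c09e2241407f8f509a3345d04808630c580330523d0178e01ac2e44e02a110188230c10b00f05b8a41342403986a0640a0100990f81583886803c1542f0300a81080a81b0960b8130160820b4200490580501f8350460881080903202c0c00c01404004000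
noncomputable def txul0D (u : ℕ) : ℕ := Nat.land (Nat.shiftRight txul0Dd (Nat.mul u (nat_lit 11))) (nat_lit 2047)
noncomputable def txul0Pd : ℕ := nat_lit 0xb4df2e15ee9cec7f9da30bdca807ea0c854473eb7a1637e9c877036602e1985063a1be67b9b58c2b1f22c7a29acf3ade4d0acbc1891bbfe008c505b1cd7014e39e847187bae895065fb7d8e6c2475eabbb6c995801d5c9a69283807b556d19d9d47ca0729740bcae90d6091e9364b3650faca5752a8d6b7edae76ad12945862834bdc3364b045c91db5a68b682ca2c3f331a53571d789f461c1162b2e496b08848313b42af0d4f768f56543d516e69ccc42fb82639d730602420594aadd2dd74ceaa252394a732614c3517ed387def6fa97921d38149e5c618108a3e5dd03c8be2c02d8e9b135b12a4412743524e0e00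
noncomputable def txul0P (u : ℕ) : ℕ := Nat.land (Nat.shiftRight txul0Pd (Nat.mul u (nat_lit 8))) (nat_lit 255)
noncomputable def txul0Qd : ℕ := nat_lit 0x21eb24e9dce1d8aa76a41953b00fd2b8eec031e4677790a53a869a8f1c327412c22fb340bd6299d7c518b63f6da3bc0eb9cd6e899fabcb3da664caef8154b4514b88337ea02e1fe32a987d07e6c4ce8d59afe7ea0bc39dd18b52a92b83976887470c7ac91015bb50ac71dfae96631b95e878228e94db1e5ad6487c30dd8cadb22042929e79754165ccd48082cf552838a7a113690966359c5c4693455d0343d04902bf276b341a4fa25872de044c068a601444114dc13b23d96c266f5f294e393eed0d61c87b7370053c2d372cc61d36c7845b57ba5e911725daecb10a0856167f014ae0e5be85b7e2a8b56ad5d39b00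
noncomputable def txul0Q (u : ℕ) : ℕ := Nat.land (Nat.shiftRight txul0Qd (Nat.mul u (nat_lit 8))) (nat_lit 255)
noncomputable def txul0 : Lev := ⟨240, 10, txul0D, txul0P, txul0Q⟩
noncomputable def txul1Dd : ℕ := nat_lit 0xc4ce2990b12864c851be24a637f1d46b4c0679db6b196639955f88821d8d5b99c610621453d418fe398de474410e5734554c4f1344b1243b4d6338be0e8310a5434ad23410fc390bd2b8a6258fb36cd42d4951203832cb42b0940c02808427214661d41f1945d1d01720c5c1183e080120240f1ac631503d0d8180284c11035040430ec340b0080ac25078070901d0580e06c1403413030060140400c00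
noncomputable def txul1D (u : ℕ) : ℕ := Nat.land (Nat.shiftRight txul1Dd (Nat.mul u (nat_lit 10))) (nat_lit 1023)
noncomputable def txul1Pd : ℕ := nat_lit 0x98c7a6a50619b9717599a3831ec204e3c91f8dcb09d4de0bbbd597ba9a6de690507fe7a2d693cd737bae89b558d8bd2bacb1026b6a9c1b8c92cf0184b0e9167ac576e1e86570c80d080a409dbf874db737b68063147c36e055eeb377ea853a07dad9dfa85eebec0f5f2944d36cbec1a1b4dcd16715ab6647222e0c9e9503
noncomputable def txul1P (u : ℕ) : ℕ := Nat.land (Nat.shiftRight txul1Pd (Nat.mul u (nat_lit 8))) (nat_lit 255)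
noncomputable def txul1Qd : ℕ := nat_lit 0x90017308603ab77c000dc01da6379c00c0074e50016726824005808802b80d4036b7f801e8001c07806242780cb8bb805cb290d4602641015004d100001a01efd00e76870000099480187a7dc600080b11405e00035c600029806001042e40002bb800028aaf800044f3a80ac03b3800030119524000141dc8054000002a6400000000510001280000005d000178000000000c0001300000330000000007c0005a9c000000000000100009c00a0000000000014000d9c40008e03c0000fc4a900000002c01b03ccd34b53de406f012e180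
noncomputable def txul1Q (u : ℕ) : ℕ := Nat.land (Nat.shiftRight txul1Qd (Nat.mul u (nat_lit 7))) (nat_lit 127)
noncomputable def txul1 : Lev := ⟨126, 8, txul1D, txul1P, txul1Q⟩
noncomputable def txul2Dd : ℕ := nat_lit 0xd5e0a620c428c40
noncomputable def txul2D (u : ℕ) : ℕ := Nat.land (Nat.shiftRight txul2Dd (Nat.mul u (nat_lit 5))) (nat_lit 31)
noncomputable def txul2Pd : ℕ := nat_lit 0x73b6d8de71cb8ce636bf5019
noncomputable def txul2P (u : ℕ) : ℕ := Nat.land (Nat.shiftRight txul2Pd (Nat.mul u (nat_lit 8))) (nat_lit 255)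
noncomputable def txul2Qd : ℕ := nat_lit 0x400000008000009000000000000600000000000200000000a000000000000000000000000000000000000000005000000000000000000000000b0700000000000000000000000000000000100000000000000000000000003000000000000000000000000000000000000000000000000000000
noncomputable def txul2Q (u : ℕ) : ℕ := Nat.land (Nat.shiftRight txul2Qd (Nat.mul u (nat_lit 4))) (nat_lit 15)
noncomputable def txul2 : Lev := ⟨12, 3, txul2D, txul2P, txul2Q⟩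
noncomputable def txul3Dd : ℕ := nat_lit 0xfa3440
noncomputable def txul3D (u : ℕ) : ℕ := Nat.land (Nat.shiftRight txul3Dd (Nat.mul u (nat_lit 3))) (nat_lit 7)
noncomputable def txul3Pd : ℕ := nat_lit 0xbfd8508c71dee636
noncomputable def txul3P (u : ℕ) : ℕ := Nat.land (Nat.shiftRight txul3Pd (Nat.mul u (nat_lit 8))) (nat_lit 255)
noncomputable def txul3Qd : ℕ := nat_lit 0x40000080006000000000000000000e00000000000000000000000000000000000004000000000000000000018000000000000000000000005000000000000000000000000000000000000000000000000000000000000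
noncomputable def txul3Q (u : ℕ) : ℕ := Nat.land (Nat.shiftRight txul3Qd (Nat.mul u (nat_lit 3))) (nat_lit 7)
noncomputable def txul3 : Lev := ⟨8, 2, txul3D, txul3P, txul3Q⟩
noncomputable def cxue_W : List (List ℕ) := [[nat_lit 1, nat_lit 1, nat_lit 1, nat_lit 3, nat_lit 1, nat_lit 1, nat_lit 3, nat_lit 2, nat_lit 2],
  [nat_lit 3, nat_lit 2, nat_lit 0, nat_lit 1, nat_lit 0, nat_lit 3, nat_lit 1, nat_lit 0, nat_lit 1],
  [nat_lit 2, nat_lit 0, nat_lit 1],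
  [nat_lit 0, nat_lit 4, nat_lit 0, nat_lit 3, nat_lit 1, nat_lit 1, nat_lit 3, nat_lit 2, nat_lit 4, nat_lit 3, nat_lit 2, nat_lit 2, nat_lit 3, nat_lit 4],
  [nat_lit 2, nat_lit 0, nat_lit 2, nat_lit 3, nat_lit 1, nat_lit 1, nat_lit 4, nat_lit 3, nat_lit 2, nat_lit 0, nat_lit 2, nat_lit 3, nat_lit 1, nat_lit 0, nat_lit 4, nat_lit 3]]
noncomputable def cxue_P : ℕ → ℕ → ℕ := wdsP H1.CoC.P cxue_W
noncomputable def cxuc2Dd : ℕ := nat_lit 0xb9753100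
noncomputable def cxuc2D (u : ℕ) : ℕ := Nat.land (Nat.shiftRight cxuc2Dd (Nat.mul u (nat_lit 4))) (nat_lit 15)
noncomputable def cxuc2Pd : ℕ := nat_lit 0xbf7336b6decb7119
noncomputable def cxuc2P (u : ℕ) : ℕ := Nat.land (Nat.shiftRight cxuc2Pd (Nat.mul u (nat_lit 8))) (nat_lit 255)
noncomputable def cxuc2Qd : ℕ := nat_lit 0xc0000000000000400000000e00000100000000000000000000000000000000000000000000000000c08000000000000000000000000000000000000000000140000000000000000000000000000000000000000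
noncomputable def cxuc2Q (u : ℕ) : ℕ := Nat.land (Nat.shiftRight cxuc2Qd (Nat.mul u (nat_lit 3))) (nat_lit 7)
noncomputable def cxuc2 : Lev := ⟨8, 2, cxuc2D, cxuc2P, cxuc2Q⟩
noncomputable def txun0Fd : ℕ := nat_lit 0x80904
noncomputable def txun0F (u : ℕ) : ℕ := Nat.land (Nat.shiftRight txun0Fd (Nat.mul u (nat_lit 2))) (nat_lit 3)
noncomputable def txun0 : Nd := ⟨txun0F, (nat_lit 2), (nat_lit 2), [], [((nat_lit 0), []), ((nat_lit 0), [nat_lit 0])], []⟩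
noncomputable def cxuc1Dd : ℕ := nat_lit 0xb84320
noncomputable def cxuc1D (u : ℕ) : ℕ := Nat.land (Nat.shiftRight cxuc1Dd (Nat.mul u (nat_lit 4))) (nat_lit 15)
noncomputable def cxuc1Pd : ℕ := nat_lit 0xcd800f07eb03
noncomputable def cxuc1P (u : ℕ) : ℕ := Nat.land (Nat.shiftRight cxuc1Pd (Nat.mul u (nat_lit 8))) (nat_lit 255)
noncomputable def cxuc1Qd : ℕ := nat_lit 0x200000000000000000000028000000000000000000000000000000000000000000000000000000004000000000000000000000000000000000000000000000000000000000000000000000000000000000000600000400000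
noncomputable def cxuc1Q (u : ℕ) : ℕ := Nat.land (Nat.shiftRight cxuc1Qd (Nat.mul u (nat_lit 3))) (nat_lit 7)
noncomputable def cxuc1 : Lev := ⟨6, 3, cxuc1D, cxuc1P, cxuc1Q⟩
noncomputable def txun1Fd : ℕ := nat_lit 0x10381dcc62d2b3906d99dcd5458b71d4872d50444aa5a8ea02dcd4c0895b86122085605cd4314d8a4ad1bd87719a63c5c97b5c8035074c4c98a96d581a7329405812579d0a539cc585b12a88808420
noncomputable def txun1F (u : ℕ) : ℕ := Nat.land (Nat.shiftRight txun1Fd (Nat.mul u (nat_lit 5))) (nat_lit 31)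
noncomputable def txun1 : Nd := ⟨txun1F, (nat_lit 3), (nat_lit 3), [[nat_lit 0]], [((nat_lit 0), [])], []⟩
noncomputable def cxuc0Dd : ℕ := nat_lit 0xdd96a61060
noncomputable def cxuc0D (u : ℕ) : ℕ := Nat.land (Nat.shiftRight cxuc0Dd (Nat.mul u (nat_lit 5))) (nat_lit 31)
noncomputable def cxuc0Pd : ℕ := nat_lit 0xcd800f0703eb0500
noncomputable def cxuc0P (u : ℕ) : ℕ := Nat.land (Nat.shiftRight cxuc0Pd (Nat.mul u (nat_lit 8))) (nat_lit 255)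
noncomputable def cxuc0Qd : ℕ := nat_lit 0x400000000000000000000038000000000000000000000000000000000000000000000000000000006000000000000000000000000000000000000000000000000000000000000000000000000000000000000a00000808600
noncomputable def cxuc0Q (u : ℕ) : ℕ := Nat.land (Nat.shiftRight cxuc0Qd (Nat.mul u (nat_lit 3))) (nat_lit 7)
noncomputable def cxuc0 : Lev := ⟨8, 5, cxuc0D, cxuc0P, cxuc0Q⟩
noncomputable def txun2Fd : ℕ := nat_lit 0x64353b4df1c5a15883745ce608bb108c413aadccb45368d9389ce39c474e7a5d4c3b11c280b03a148ce709c356b3d8f73ad6b5a11a58d4b5816c3a7362a2d6d0d8a069d72f3304e708cf068c66fd65917d6735d9b082e0eb4a327d5b0821f661e346b217ab575b4d9d4d98c7d213949965b570552b08da347a9965b8d9356d78dac5ac0f57c10b640a95b74f84975632280a20128420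
noncomputable def txun2F (u : ℕ) : ℕ := Nat.land (Nat.shiftRight txun2Fd (Nat.mul u (nat_lit 5))) (nat_lit 31)
noncomputable def txun2 : Nd := ⟨txun2F, (nat_lit 5), (nat_lit 5), [[nat_lit 0]], [((nat_lit 0), [])], []⟩
noncomputable def d_W : Wl := [[nat_lit 10, nat_lit 9, nat_lit 13, nat_lit 5],
  [nat_lit 5, nat_lit 11, nat_lit 10, nat_lit 9, nat_lit 13],
  [nat_lit 5, nat_lit 11, nat_lit 10, nat_lit 13, nat_lit 11],
  [nat_lit 5, nat_lit 11, nat_lit 10, nat_lit 8, nat_lit 13],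
  [nat_lit 7, nat_lit 11, nat_lit 10, nat_lit 8, nat_lit 13],
  [nat_lit 7, nat_lit 11, nat_lit 10, nat_lit 13, nat_lit 11],
  [nat_lit 11, nat_lit 8, nat_lit 12, nat_lit 11, nat_lit 10, nat_lit 12],
  [nat_lit 11, nat_lit 10, nat_lit 12, nat_lit 10, nat_lit 12],
  [nat_lit 10, nat_lit 9, nat_lit 5, nat_lit 12, nat_lit 12, nat_lit 10],
  [nat_lit 11, nat_lit 10, nat_lit 12, nat_lit 12],
  [nat_lit 11, nat_lit 10, nat_lit 12, nat_lit 12, nat_lit 11, nat_lit 8],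
  [nat_lit 10, nat_lit 9, nat_lit 12, nat_lit 12, nat_lit 11, nat_lit 10],
  [nat_lit 11, nat_lit 10, nat_lit 12, nat_lit 12, nat_lit 11],
  [nat_lit 11, nat_lit 10, nat_lit 9, nat_lit 12, nat_lit 12],
  [nat_lit 13, nat_lit 11, nat_lit 10, nat_lit 8, nat_lit 5],
  [nat_lit 5, nat_lit 10, nat_lit 9, nat_lit 12, nat_lit 5, nat_lit 12],
  [nat_lit 11, nat_lit 8, nat_lit 12, nat_lit 11, nat_lit 12, nat_lit 11],
  [nat_lit 7, nat_lit 11, nat_lit 10, nat_lit 13],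
  [nat_lit 10, nat_lit 11, nat_lit 8, nat_lit 5, nat_lit 13],
  [nat_lit 11, nat_lit 10, nat_lit 12, nat_lit 10, nat_lit 12, nat_lit 11],
  [nat_lit 11, nat_lit 8, nat_lit 12, nat_lit 11, nat_lit 12],
  [nat_lit 5, nat_lit 11, nat_lit 10, nat_lit 13, nat_lit 11, nat_lit 9],
  [nat_lit 5, nat_lit 11, nat_lit 10, nat_lit 13],
  [nat_lit 10, nat_lit 11, nat_lit 9, nat_lit 5, nat_lit 13],
  [nat_lit 6, nat_lit 11, nat_lit 12, nat_lit 11, nat_lit 12],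
  [nat_lit 10, nat_lit 13, nat_lit 11, nat_lit 9, nat_lit 5],
  [nat_lit 9, nat_lit 5, nat_lit 12, nat_lit 5, nat_lit 12],
  [nat_lit 7, nat_lit 10, nat_lit 13],
  [nat_lit 11, nat_lit 8, nat_lit 5, nat_lit 12, nat_lit 12, nat_lit 5],
  [nat_lit 5, nat_lit 10, nat_lit 9, nat_lit 11, nat_lit 9, nat_lit 13],
  [nat_lit 9, nat_lit 12, nat_lit 12, nat_lit 10, nat_lit 11],
  [nat_lit 5, nat_lit 10, nat_lit 13],
  [nat_lit 6, nat_lit 9, nat_lit 12, nat_lit 12, nat_lit 10],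
  [nat_lit 5, nat_lit 11, nat_lit 8, nat_lit 10, nat_lit 12, nat_lit 10, nat_lit 12],
  [nat_lit 5, nat_lit 7, nat_lit 11, nat_lit 12, nat_lit 11, nat_lit 12, nat_lit 11],
  [nat_lit 7, nat_lit 13, nat_lit 11, nat_lit 10],
  [nat_lit 5, nat_lit 11, nat_lit 8, nat_lit 12, nat_lit 12, nat_lit 5],
  [nat_lit 10, nat_lit 13, nat_lit 5, nat_lit 8, nat_lit 11],
  [nat_lit 11, nat_lit 5, nat_lit 12, nat_lit 11, nat_lit 12],
  [nat_lit 11, nat_lit 12, nat_lit 11, nat_lit 12, nat_lit 11],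
  [nat_lit 10, nat_lit 13, nat_lit 11, nat_lit 5, nat_lit 8],
  [nat_lit 6, nat_lit 10, nat_lit 8, nat_lit 13, nat_lit 5],
  [nat_lit 5, nat_lit 9, nat_lit 12, nat_lit 5, nat_lit 12],
  [nat_lit 6, nat_lit 11, nat_lit 8, nat_lit 10, nat_lit 12, nat_lit 12],
  [nat_lit 10, nat_lit 8, nat_lit 13, nat_lit 5, nat_lit 11],
  [nat_lit 10, nat_lit 5, nat_lit 13, nat_lit 11, nat_lit 5, nat_lit 8],
  [nat_lit 6, nat_lit 10, nat_lit 13, nat_lit 5, nat_lit 8],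
  [nat_lit 5, nat_lit 13, nat_lit 11, nat_lit 10],
  [nat_lit 11, nat_lit 8, nat_lit 5, nat_lit 9, nat_lit 12],
  [nat_lit 6, nat_lit 10, nat_lit 12, nat_lit 13, nat_lit 11],
  [nat_lit 12, nat_lit 5, nat_lit 8, nat_lit 11, nat_lit 13],
  [nat_lit 5, nat_lit 9, nat_lit 12, nat_lit 5, nat_lit 10, nat_lit 11],
  [nat_lit 9, nat_lit 10, nat_lit 12, nat_lit 10, nat_lit 5, nat_lit 9],
  [nat_lit 6, nat_lit 10, nat_lit 9, nat_lit 12, nat_lit 13],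
  [nat_lit 11, nat_lit 12, nat_lit 11, nat_lit 8, nat_lit 10],
  [nat_lit 9, nat_lit 5, nat_lit 12, nat_lit 11, nat_lit 5],
  [nat_lit 9, nat_lit 5, nat_lit 8, nat_lit 11, nat_lit 12],
  [nat_lit 5, nat_lit 13, nat_lit 11, nat_lit 12, nat_lit 12, nat_lit 5, nat_lit 11],
  [nat_lit 5, nat_lit 12, nat_lit 5, nat_lit 8, nat_lit 11, nat_lit 10, nat_lit 13],
  [nat_lit 10, nat_lit 9, nat_lit 5, nat_lit 12, nat_lit 13],
  [nat_lit 8, nat_lit 5, nat_lit 11, nat_lit 12, nat_lit 11, nat_lit 13],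
  [nat_lit 7, nat_lit 11, nat_lit 12],
  [nat_lit 5, nat_lit 11, nat_lit 12],
  [nat_lit 8, nat_lit 12, nat_lit 11, nat_lit 10, nat_lit 8, nat_lit 13],
  [nat_lit 5, nat_lit 9, nat_lit 12, nat_lit 11, nat_lit 5],
  [nat_lit 6, nat_lit 9, nat_lit 12, nat_lit 5, nat_lit 11],
  [nat_lit 5, nat_lit 10, nat_lit 12, nat_lit 5, nat_lit 8, nat_lit 13],
  [nat_lit 7, nat_lit 11, nat_lit 12, nat_lit 11, nat_lit 8],
  [nat_lit 10, nat_lit 13, nat_lit 11, nat_lit 12, nat_lit 12, nat_lit 11],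
  [nat_lit 5, nat_lit 11, nat_lit 12, nat_lit 11, nat_lit 8],
  [nat_lit 5, nat_lit 12, nat_lit 13, nat_lit 5, nat_lit 11],
  [nat_lit 5, nat_lit 12, nat_lit 13, nat_lit 5, nat_lit 8],
  [nat_lit 10, nat_lit 11, nat_lit 12, nat_lit 12],
  [nat_lit 10, nat_lit 9, nat_lit 12, nat_lit 12, nat_lit 10, nat_lit 11],
  [nat_lit 10, nat_lit 11, nat_lit 12, nat_lit 12, nat_lit 11, nat_lit 8],
  [nat_lit 10, nat_lit 11, nat_lit 9, nat_lit 12, nat_lit 10, nat_lit 12],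
  [nat_lit 5, nat_lit 11, nat_lit 12, nat_lit 12, nat_lit 5, nat_lit 11],
  [nat_lit 7, nat_lit 10, nat_lit 11, nat_lit 13],
  [nat_lit 10, nat_lit 11, nat_lit 8, nat_lit 12, nat_lit 10, nat_lit 12],
  [nat_lit 10, nat_lit 9, nat_lit 12, nat_lit 12, nat_lit 10],
  [nat_lit 5, nat_lit 10, nat_lit 11, nat_lit 13, nat_lit 11, nat_lit 9],
  [nat_lit 5, nat_lit 10, nat_lit 11, nat_lit 9, nat_lit 13],
  [nat_lit 5, nat_lit 11, nat_lit 12, nat_lit 12, nat_lit 5],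
  [nat_lit 5, nat_lit 11, nat_lit 12, nat_lit 12, nat_lit 5, nat_lit 8],
  [nat_lit 10, nat_lit 13, nat_lit 11, nat_lit 8, nat_lit 5],
  [nat_lit 7, nat_lit 10, nat_lit 11, nat_lit 8, nat_lit 13],
  [nat_lit 5, nat_lit 10, nat_lit 11, nat_lit 13, nat_lit 11],
  [nat_lit 11, nat_lit 10, nat_lit 8, nat_lit 5, nat_lit 13],
  [nat_lit 6, nat_lit 10, nat_lit 9, nat_lit 13, nat_lit 5],
  [nat_lit 10, nat_lit 9, nat_lit 5, nat_lit 13, nat_lit 5],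
  [nat_lit 5, nat_lit 10, nat_lit 11, nat_lit 13],
  [nat_lit 7, nat_lit 10, nat_lit 11, nat_lit 13, nat_lit 11],
  [nat_lit 5, nat_lit 10, nat_lit 11, nat_lit 8, nat_lit 13],
  [nat_lit 10, nat_lit 11, nat_lit 8, nat_lit 12, nat_lit 12],
  [nat_lit 10, nat_lit 11, nat_lit 12, nat_lit 12, nat_lit 11],
  [nat_lit 5, nat_lit 11, nat_lit 12, nat_lit 12, nat_lit 5, nat_lit 9],
  [nat_lit 5, nat_lit 10, nat_lit 9, nat_lit 5, nat_lit 11],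
  [nat_lit 5, nat_lit 13, nat_lit 5, nat_lit 10, nat_lit 13],
  [nat_lit 5, nat_lit 9, nat_lit 10, nat_lit 5, nat_lit 13, nat_lit 12, nat_lit 10],
  [nat_lit 6, nat_lit 11, nat_lit 13, nat_lit 11, nat_lit 9, nat_lit 12],
  [nat_lit 6, nat_lit 11, nat_lit 13, nat_lit 11, nat_lit 12, nat_lit 11],
  [nat_lit 5, nat_lit 9, nat_lit 10, nat_lit 13, nat_lit 12, nat_lit 10],
  [nat_lit 5, nat_lit 11, nat_lit 8, nat_lit 5, nat_lit 13, nat_lit 12],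
  [nat_lit 10, nat_lit 13, nat_lit 5, nat_lit 13],
  [nat_lit 11, nat_lit 5, nat_lit 13, nat_lit 11, nat_lit 12, nat_lit 11],
  [nat_lit 6, nat_lit 7, nat_lit 10, nat_lit 9, nat_lit 11],
  [nat_lit 6, nat_lit 7, nat_lit 10, nat_lit 8],
  [nat_lit 5, nat_lit 6, nat_lit 10, nat_lit 8],
  [nat_lit 11, nat_lit 9, nat_lit 10, nat_lit 13, nat_lit 12],
  [nat_lit 5, nat_lit 8, nat_lit 5, nat_lit 11, nat_lit 9, nat_lit 10],
  [nat_lit 9, nat_lit 5, nat_lit 10, nat_lit 13, nat_lit 12, nat_lit 10],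
  [nat_lit 5, nat_lit 7, nat_lit 11, nat_lit 13, nat_lit 12, nat_lit 11],
  [nat_lit 5, nat_lit 6, nat_lit 10, nat_lit 9, nat_lit 11],
  [nat_lit 5, nat_lit 7, nat_lit 11, nat_lit 8, nat_lit 13, nat_lit 12],
  [nat_lit 11, nat_lit 8, nat_lit 13, nat_lit 12],
  [nat_lit 11, nat_lit 13, nat_lit 12, nat_lit 11],
  [nat_lit 13, nat_lit 5, nat_lit 10, nat_lit 11, nat_lit 13],
  [nat_lit 6, nat_lit 10, nat_lit 9, nat_lit 11, nat_lit 5],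
  [nat_lit 6, nat_lit 10, nat_lit 5, nat_lit 8, nat_lit 5],
  [nat_lit 6, nat_lit 10, nat_lit 8, nat_lit 5],
  [nat_lit 11, nat_lit 12, nat_lit 12, nat_lit 5, nat_lit 11, nat_lit 8],
  [nat_lit 11, nat_lit 12, nat_lit 12, nat_lit 5],
  [nat_lit 11, nat_lit 12, nat_lit 12, nat_lit 5, nat_lit 9, nat_lit 11],
  [nat_lit 5, nat_lit 10, nat_lit 11, nat_lit 12, nat_lit 12, nat_lit 11],
  [nat_lit 11, nat_lit 12, nat_lit 12, nat_lit 5, nat_lit 11],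
  [nat_lit 5, nat_lit 10, nat_lit 9, nat_lit 12, nat_lit 12, nat_lit 10],
  [nat_lit 11, nat_lit 12, nat_lit 12, nat_lit 5, nat_lit 9],
  [nat_lit 5, nat_lit 10, nat_lit 11, nat_lit 12, nat_lit 12],
  [nat_lit 5, nat_lit 10, nat_lit 11, nat_lit 8, nat_lit 12, nat_lit 12],
  [nat_lit 11, nat_lit 10, nat_lit 8, nat_lit 5, nat_lit 12, nat_lit 12],
  [nat_lit 10, nat_lit 9, nat_lit 5, nat_lit 12, nat_lit 5, nat_lit 12],
  [nat_lit 11, nat_lit 12, nat_lit 12, nat_lit 5, nat_lit 8],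
  [nat_lit 10, nat_lit 11, nat_lit 13],
  [nat_lit 10, nat_lit 11, nat_lit 8, nat_lit 13, nat_lit 11],
  [nat_lit 10, nat_lit 11, nat_lit 13, nat_lit 11, nat_lit 8],
  [nat_lit 5, nat_lit 10, nat_lit 13, nat_lit 11, nat_lit 8, nat_lit 5],
  [nat_lit 10, nat_lit 5, nat_lit 11, nat_lit 8, nat_lit 13],
  [nat_lit 10, nat_lit 5, nat_lit 11, nat_lit 13, nat_lit 11],
  [nat_lit 10, nat_lit 5, nat_lit 11, nat_lit 13],
  [nat_lit 10, nat_lit 11, nat_lit 8, nat_lit 13],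
  [nat_lit 10, nat_lit 11, nat_lit 9, nat_lit 13],
  [nat_lit 10, nat_lit 11, nat_lit 13, nat_lit 11],
  [nat_lit 10, nat_lit 11, nat_lit 13, nat_lit 11, nat_lit 9],
  [nat_lit 10, nat_lit 5, nat_lit 11, nat_lit 9, nat_lit 13],
  [nat_lit 10, nat_lit 11, nat_lit 8, nat_lit 5],
  [nat_lit 11, nat_lit 10, nat_lit 13, nat_lit 11, nat_lit 9, nat_lit 12],
  [nat_lit 5, nat_lit 7, nat_lit 11, nat_lit 10, nat_lit 13, nat_lit 12],
  [nat_lit 10, nat_lit 13, nat_lit 11, nat_lit 8, nat_lit 12, nat_lit 10],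
  [nat_lit 5, nat_lit 11, nat_lit 10, nat_lit 9],
  [nat_lit 7, nat_lit 11, nat_lit 10, nat_lit 9],
  [nat_lit 9, nat_lit 13, nat_lit 5, nat_lit 12, nat_lit 11, nat_lit 5],
  [nat_lit 11, nat_lit 10, nat_lit 13, nat_lit 11, nat_lit 12],
  [nat_lit 11, nat_lit 10, nat_lit 8, nat_lit 13, nat_lit 11, nat_lit 12],
  [nat_lit 7, nat_lit 11, nat_lit 10, nat_lit 8],
  [nat_lit 7, nat_lit 11, nat_lit 10],
  [nat_lit 11, nat_lit 10, nat_lit 8, nat_lit 13, nat_lit 12],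
  [nat_lit 9, nat_lit 13, nat_lit 12, nat_lit 10, nat_lit 11],
  [nat_lit 10, nat_lit 11, nat_lit 9, nat_lit 5],
  [nat_lit 11, nat_lit 5, nat_lit 13, nat_lit 11, nat_lit 10, nat_lit 12],
  [nat_lit 10, nat_lit 5, nat_lit 11, nat_lit 8, nat_lit 5],
  [nat_lit 10, nat_lit 5, nat_lit 11, nat_lit 9, nat_lit 5],
  [nat_lit 9, nat_lit 5, nat_lit 8, nat_lit 11, nat_lit 10],
  [nat_lit 5, nat_lit 11, nat_lit 10],
  [nat_lit 11, nat_lit 10, nat_lit 13, nat_lit 12],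
  [nat_lit 5, nat_lit 7, nat_lit 11, nat_lit 10, nat_lit 8, nat_lit 13, nat_lit 12],
  [nat_lit 8, nat_lit 5, nat_lit 9, nat_lit 10, nat_lit 11],
  [nat_lit 5, nat_lit 11, nat_lit 10, nat_lit 8],
  [nat_lit 5, nat_lit 10, nat_lit 9, nat_lit 13, nat_lit 5, nat_lit 12],
  [nat_lit 9, nat_lit 10, nat_lit 12, nat_lit 5, nat_lit 12, nat_lit 11],
  [nat_lit 6, nat_lit 10, nat_lit 9, nat_lit 5, nat_lit 11, nat_lit 13],
  [nat_lit 11, nat_lit 12, nat_lit 12, nat_lit 11, nat_lit 8],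
  [nat_lit 13, nat_lit 11, nat_lit 10, nat_lit 9],
  [nat_lit 5, nat_lit 10, nat_lit 8, nat_lit 5, nat_lit 13],
  [nat_lit 5, nat_lit 6, nat_lit 11, nat_lit 8, nat_lit 12, nat_lit 12],
  [nat_lit 6, nat_lit 11, nat_lit 8, nat_lit 5, nat_lit 12, nat_lit 12],
  [nat_lit 5, nat_lit 10, nat_lit 11, nat_lit 12, nat_lit 11, nat_lit 12],
  [nat_lit 10, nat_lit 9, nat_lit 11, nat_lit 13],
  [nat_lit 11, nat_lit 12, nat_lit 11, nat_lit 12, nat_lit 5],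
  [nat_lit 5, nat_lit 10, nat_lit 13, nat_lit 11, nat_lit 5],
  [nat_lit 5, nat_lit 11, nat_lit 12, nat_lit 11, nat_lit 12, nat_lit 5, nat_lit 11],
  [nat_lit 10, nat_lit 5, nat_lit 8, nat_lit 13],
  [nat_lit 9, nat_lit 12, nat_lit 12, nat_lit 10, nat_lit 5],
  [nat_lit 10, nat_lit 8, nat_lit 13],
  [nat_lit 5, nat_lit 9, nat_lit 10, nat_lit 12, nat_lit 5, nat_lit 12],
  [nat_lit 9, nat_lit 5, nat_lit 10, nat_lit 12, nat_lit 5, nat_lit 12],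
  [nat_lit 10, nat_lit 5, nat_lit 9, nat_lit 11, nat_lit 13],
  [nat_lit 6, nat_lit 13, nat_lit 5, nat_lit 10],
  [nat_lit 10, nat_lit 11, nat_lit 12, nat_lit 11, nat_lit 12, nat_lit 11],
  [nat_lit 8, nat_lit 11, nat_lit 12, nat_lit 5, nat_lit 12],
  [nat_lit 5, nat_lit 10, nat_lit 9, nat_lit 11, nat_lit 5, nat_lit 13],
  [nat_lit 5, nat_lit 6, nat_lit 10, nat_lit 13, nat_lit 5],
  [nat_lit 6, nat_lit 10, nat_lit 13, nat_lit 5, nat_lit 11],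
  [nat_lit 8, nat_lit 5, nat_lit 9, nat_lit 10],
  [nat_lit 11, nat_lit 8, nat_lit 10, nat_lit 5, nat_lit 13, nat_lit 12],
  [nat_lit 5, nat_lit 11, nat_lit 10, nat_lit 8, nat_lit 11],
  [nat_lit 5, nat_lit 7, nat_lit 11, nat_lit 8, nat_lit 10, nat_lit 13, nat_lit 12],
  [nat_lit 13, nat_lit 11, nat_lit 8, nat_lit 12, nat_lit 10],
  [nat_lit 11, nat_lit 10, nat_lit 13, nat_lit 11, nat_lit 12, nat_lit 11],
  [nat_lit 9, nat_lit 13, nat_lit 12, nat_lit 10, nat_lit 5],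
  [nat_lit 7, nat_lit 11, nat_lit 10, nat_lit 8, nat_lit 11],
  [nat_lit 6, nat_lit 7, nat_lit 10],
  [nat_lit 6, nat_lit 11, nat_lit 12, nat_lit 11, nat_lit 12, nat_lit 11, nat_lit 13],
  [nat_lit 7, nat_lit 11, nat_lit 10, nat_lit 9, nat_lit 11],
  [nat_lit 5, nat_lit 6, nat_lit 10],
  [nat_lit 5, nat_lit 11, nat_lit 8, nat_lit 5, nat_lit 10, nat_lit 13, nat_lit 12],
  [nat_lit 5, nat_lit 11, nat_lit 10, nat_lit 8, nat_lit 11, nat_lit 5],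
  [nat_lit 11, nat_lit 10, nat_lit 13, nat_lit 12, nat_lit 11, nat_lit 5],
  [nat_lit 9, nat_lit 13, nat_lit 12, nat_lit 10],
  [nat_lit 11, nat_lit 10, nat_lit 13, nat_lit 12, nat_lit 11],
  [nat_lit 5, nat_lit 10, nat_lit 13, nat_lit 11, nat_lit 13],
  [nat_lit 10, nat_lit 11, nat_lit 8, nat_lit 5, nat_lit 11],
  [nat_lit 10, nat_lit 11, nat_lit 9, nat_lit 5, nat_lit 11],
  [nat_lit 5, nat_lit 11, nat_lit 10, nat_lit 9, nat_lit 11],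
  [nat_lit 11, nat_lit 8, nat_lit 10, nat_lit 13, nat_lit 12],
  [nat_lit 5, nat_lit 6, nat_lit 9, nat_lit 13, nat_lit 5, nat_lit 12],
  [nat_lit 5, nat_lit 11, nat_lit 10, nat_lit 9, nat_lit 11, nat_lit 5],
  [nat_lit 8, nat_lit 11, nat_lit 10, nat_lit 12],
  [nat_lit 5, nat_lit 9, nat_lit 12, nat_lit 11, nat_lit 10, nat_lit 13, nat_lit 11],
  [nat_lit 7, nat_lit 9, nat_lit 12],
  [nat_lit 6, nat_lit 12, nat_lit 11, nat_lit 8, nat_lit 5, nat_lit 10, nat_lit 13],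
  [nat_lit 5, nat_lit 12, nat_lit 11, nat_lit 13, nat_lit 11, nat_lit 9, nat_lit 10],
  [nat_lit 9, nat_lit 10, nat_lit 5, nat_lit 11, nat_lit 8, nat_lit 12],
  [nat_lit 5, nat_lit 9, nat_lit 12, nat_lit 11, nat_lit 13, nat_lit 11],
  [nat_lit 12, nat_lit 11, nat_lit 8, nat_lit 5, nat_lit 13],
  [nat_lit 12, nat_lit 5, nat_lit 9, nat_lit 11, nat_lit 13],
  [nat_lit 6, nat_lit 12, nat_lit 13],
  [nat_lit 6, nat_lit 13, nat_lit 11, nat_lit 12, nat_lit 12],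
  [nat_lit 9, nat_lit 5, nat_lit 12, nat_lit 11, nat_lit 13, nat_lit 11],
  [nat_lit 9, nat_lit 12, nat_lit 10, nat_lit 8, nat_lit 13],
  [nat_lit 8, nat_lit 12, nat_lit 5, nat_lit 10, nat_lit 9, nat_lit 11],
  [nat_lit 5, nat_lit 8, nat_lit 5, nat_lit 10, nat_lit 11, nat_lit 12],
  [nat_lit 6, nat_lit 11, nat_lit 12, nat_lit 11, nat_lit 5],
  [nat_lit 8, nat_lit 10, nat_lit 5, nat_lit 11, nat_lit 12],
  [nat_lit 5, nat_lit 7, nat_lit 8, nat_lit 11, nat_lit 10, nat_lit 12],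
  [nat_lit 9, nat_lit 5, nat_lit 12],
  [nat_lit 5, nat_lit 11, nat_lit 12, nat_lit 5, nat_lit 11],
  [nat_lit 5, nat_lit 6, nat_lit 9, nat_lit 12, nat_lit 10],
  [nat_lit 12, nat_lit 10, nat_lit 13],
  [nat_lit 5, nat_lit 9, nat_lit 12],
  [nat_lit 12, nat_lit 11, nat_lit 10, nat_lit 8, nat_lit 5, nat_lit 13],
  [nat_lit 10, nat_lit 5, nat_lit 11, nat_lit 13, nat_lit 5],
  [nat_lit 5, nat_lit 11, nat_lit 12, nat_lit 11, nat_lit 8, nat_lit 10, nat_lit 12],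
  [nat_lit 9, nat_lit 12, nat_lit 5, nat_lit 10, nat_lit 11, nat_lit 12],
  [nat_lit 5, nat_lit 10, nat_lit 9, nat_lit 5, nat_lit 13],
  [nat_lit 11, nat_lit 12, nat_lit 12],
  [nat_lit 5, nat_lit 10, nat_lit 13, nat_lit 11, nat_lit 8],
  [nat_lit 5, nat_lit 6, nat_lit 11, nat_lit 12, nat_lit 12, nat_lit 11],
  [nat_lit 5, nat_lit 7, nat_lit 11, nat_lit 12, nat_lit 12],
  [nat_lit 10, nat_lit 11, nat_lit 13, nat_lit 11, nat_lit 5],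
  [nat_lit 6, nat_lit 7, nat_lit 10, nat_lit 9, nat_lit 13],
  [nat_lit 9, nat_lit 12, nat_lit 5, nat_lit 11, nat_lit 12, nat_lit 11],
  [nat_lit 9, nat_lit 12, nat_lit 11, nat_lit 5, nat_lit 12],
  [nat_lit 10, nat_lit 13, nat_lit 5, nat_lit 9],
  [nat_lit 5, nat_lit 7, nat_lit 11, nat_lit 12, nat_lit 11, nat_lit 8, nat_lit 12],
  [nat_lit 5, nat_lit 11, nat_lit 5, nat_lit 12, nat_lit 12, nat_lit 11],
  [nat_lit 5, nat_lit 6, nat_lit 9, nat_lit 12, nat_lit 5, nat_lit 11, nat_lit 12],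
  [nat_lit 10, nat_lit 11, nat_lit 13, nat_lit 5],
  [nat_lit 13, nat_lit 5, nat_lit 10, nat_lit 11, nat_lit 9],
  [nat_lit 10, nat_lit 9, nat_lit 13, nat_lit 11],
  [nat_lit 7, nat_lit 11, nat_lit 12, nat_lit 11, nat_lit 8, nat_lit 10, nat_lit 12],
  [nat_lit 11, nat_lit 12, nat_lit 11, nat_lit 8, nat_lit 12],
  [nat_lit 10, nat_lit 8, nat_lit 11, nat_lit 13, nat_lit 11],
  [nat_lit 5, nat_lit 11, nat_lit 10, nat_lit 13, nat_lit 5, nat_lit 11],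
  [nat_lit 5, nat_lit 13, nat_lit 5, nat_lit 10, nat_lit 9],
  [nat_lit 6, nat_lit 7, nat_lit 8, nat_lit 13, nat_lit 12, nat_lit 11],
  [nat_lit 5, nat_lit 6, nat_lit 8, nat_lit 13, nat_lit 12, nat_lit 11],
  [nat_lit 5, nat_lit 9, nat_lit 10, nat_lit 5],
  [nat_lit 8, nat_lit 11, nat_lit 5],
  [nat_lit 9, nat_lit 5, nat_lit 10],
  [nat_lit 8, nat_lit 5, nat_lit 10, nat_lit 8, nat_lit 11, nat_lit 8],
  [nat_lit 8, nat_lit 10, nat_lit 8, nat_lit 5, nat_lit 11, nat_lit 8],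
  [nat_lit 5, nat_lit 7, nat_lit 8, nat_lit 11],
  [nat_lit 6, nat_lit 13, nat_lit 12, nat_lit 10],
  [nat_lit 6, nat_lit 13, nat_lit 5, nat_lit 11, nat_lit 12],
  [nat_lit 5, nat_lit 6, nat_lit 8, nat_lit 5, nat_lit 11],
  [nat_lit 5, nat_lit 9, nat_lit 10],
  [nat_lit 8, nat_lit 5, nat_lit 13, nat_lit 12, nat_lit 11],
  [nat_lit 9, nat_lit 11, nat_lit 10, nat_lit 13, nat_lit 12, nat_lit 11],
  [nat_lit 5, nat_lit 8, nat_lit 10, nat_lit 8, nat_lit 11, nat_lit 13, nat_lit 12],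
  [nat_lit 5, nat_lit 13, nat_lit 11, nat_lit 5, nat_lit 12],
  [nat_lit 8, nat_lit 5, nat_lit 13, nat_lit 5, nat_lit 10, nat_lit 9, nat_lit 12],
  [nat_lit 7, nat_lit 9, nat_lit 10],
  [nat_lit 8, nat_lit 11],
  [nat_lit 5, nat_lit 8, nat_lit 11, nat_lit 10, nat_lit 9, nat_lit 11],
  [nat_lit 7, nat_lit 8, nat_lit 13, nat_lit 11, nat_lit 12, nat_lit 11],
  [nat_lit 5, nat_lit 13, nat_lit 5, nat_lit 12],
  [nat_lit 8, nat_lit 13, nat_lit 5, nat_lit 10, nat_lit 11, nat_lit 9, nat_lit 12],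
  [nat_lit 9, nat_lit 10, nat_lit 11, nat_lit 8, nat_lit 10],
  [nat_lit 12, nat_lit 11, nat_lit 10, nat_lit 9],
  [nat_lit 5, nat_lit 8, nat_lit 10, nat_lit 12, nat_lit 5, nat_lit 9],
  [nat_lit 5, nat_lit 9, nat_lit 11, nat_lit 12, nat_lit 11, nat_lit 13],
  [nat_lit 12, nat_lit 5, nat_lit 13],
  [nat_lit 13, nat_lit 11, nat_lit 5, nat_lit 12, nat_lit 12],
  [nat_lit 6, nat_lit 12, nat_lit 5, nat_lit 8],
  [nat_lit 6, nat_lit 12, nat_lit 11, nat_lit 8, nat_lit 13],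
  [nat_lit 9, nat_lit 5, nat_lit 11, nat_lit 12, nat_lit 11, nat_lit 13],
  [nat_lit 10, nat_lit 11, nat_lit 12, nat_lit 11, nat_lit 5],
  [nat_lit 7, nat_lit 12, nat_lit 11, nat_lit 8, nat_lit 10, nat_lit 13],
  [nat_lit 9, nat_lit 11, nat_lit 12, nat_lit 11, nat_lit 10, nat_lit 8],
  [nat_lit 12, nat_lit 5, nat_lit 9, nat_lit 10, nat_lit 8, nat_lit 13],
  [nat_lit 8, nat_lit 5, nat_lit 10, nat_lit 12, nat_lit 5, nat_lit 8, nat_lit 13],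
  [nat_lit 5, nat_lit 8, nat_lit 11, nat_lit 12],
  [nat_lit 6, nat_lit 8, nat_lit 5, nat_lit 11, nat_lit 12],
  [nat_lit 5, nat_lit 8, nat_lit 11, nat_lit 5, nat_lit 12],
  [nat_lit 8, nat_lit 10, nat_lit 12, nat_lit 10, nat_lit 5, nat_lit 9],
  [nat_lit 9, nat_lit 10, nat_lit 12],
  [nat_lit 9, nat_lit 10, nat_lit 5, nat_lit 12],
  [nat_lit 7, nat_lit 9, nat_lit 11, nat_lit 12, nat_lit 11, nat_lit 13],
  [nat_lit 5, nat_lit 12, nat_lit 11, nat_lit 8, nat_lit 10, nat_lit 13],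
  [nat_lit 5, nat_lit 9, nat_lit 5, nat_lit 10, nat_lit 12],
  [nat_lit 12, nat_lit 10, nat_lit 11, nat_lit 8, nat_lit 13],
  [nat_lit 5, nat_lit 7, nat_lit 12, nat_lit 5, nat_lit 13],
  [nat_lit 5, nat_lit 6, nat_lit 13, nat_lit 12, nat_lit 11, nat_lit 8],
  [nat_lit 5, nat_lit 13, nat_lit 12, nat_lit 11, nat_lit 5, nat_lit 8],
  [nat_lit 9, nat_lit 5, nat_lit 10, nat_lit 9, nat_lit 11],
  [nat_lit 10, nat_lit 8, nat_lit 5, nat_lit 10, nat_lit 11],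
  [nat_lit 8, nat_lit 5, nat_lit 10, nat_lit 8],
  [nat_lit 8, nat_lit 10, nat_lit 8, nat_lit 5],
  [nat_lit 5, nat_lit 9, nat_lit 5, nat_lit 11, nat_lit 8],
  [nat_lit 6, nat_lit 8, nat_lit 11, nat_lit 13, nat_lit 12, nat_lit 11],
  [nat_lit 5, nat_lit 7, nat_lit 9, nat_lit 11, nat_lit 8],
  [nat_lit 5, nat_lit 13, nat_lit 5, nat_lit 9, nat_lit 11, nat_lit 12, nat_lit 11],
  [nat_lit 5, nat_lit 9, nat_lit 10, nat_lit 9, nat_lit 11],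
  [nat_lit 6, nat_lit 9, nat_lit 11, nat_lit 5, nat_lit 8],
  [nat_lit 5, nat_lit 6, nat_lit 8, nat_lit 10, nat_lit 8],
  [nat_lit 13, nat_lit 12, nat_lit 11, nat_lit 8, nat_lit 5],
  [nat_lit 11, nat_lit 13, nat_lit 12, nat_lit 10],
  [nat_lit 5, nat_lit 13, nat_lit 5, nat_lit 9, nat_lit 12, nat_lit 11],
  [nat_lit 8, nat_lit 5, nat_lit 10, nat_lit 8, nat_lit 13, nat_lit 12],
  [nat_lit 11, nat_lit 13, nat_lit 5, nat_lit 12, nat_lit 5],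
  [nat_lit 6, nat_lit 11, nat_lit 13, nat_lit 5, nat_lit 11, nat_lit 12],
  [nat_lit 5, nat_lit 8, nat_lit 5, nat_lit 11, nat_lit 13, nat_lit 12, nat_lit 11],
  [nat_lit 5, nat_lit 11, nat_lit 13, nat_lit 11, nat_lit 5, nat_lit 12],
  [nat_lit 7, nat_lit 9, nat_lit 10, nat_lit 9, nat_lit 11],
  [nat_lit 6, nat_lit 7, nat_lit 8, nat_lit 10, nat_lit 8],
  [nat_lit 9, nat_lit 11, nat_lit 8],
  [nat_lit 10, nat_lit 5, nat_lit 9, nat_lit 12],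
  [nat_lit 9, nat_lit 12, nat_lit 5, nat_lit 11, nat_lit 13],
  [nat_lit 11, nat_lit 9, nat_lit 12, nat_lit 10, nat_lit 11, nat_lit 13],
  [nat_lit 10, nat_lit 8, nat_lit 11, nat_lit 12],
  [nat_lit 5, nat_lit 12, nat_lit 11, nat_lit 8, nat_lit 10, nat_lit 13, nat_lit 11],
  [nat_lit 6, nat_lit 11, nat_lit 12, nat_lit 11, nat_lit 8, nat_lit 10, nat_lit 13],
  [nat_lit 10, nat_lit 9, nat_lit 12],
  [nat_lit 5, nat_lit 6, nat_lit 9, nat_lit 12, nat_lit 11, nat_lit 5, nat_lit 13],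
  [nat_lit 6, nat_lit 10, nat_lit 9, nat_lit 5, nat_lit 12],
  [nat_lit 7, nat_lit 11, nat_lit 13, nat_lit 11, nat_lit 12, nat_lit 12],
  [nat_lit 12, nat_lit 5, nat_lit 13, nat_lit 11],
  [nat_lit 5, nat_lit 8, nat_lit 12, nat_lit 5, nat_lit 10, nat_lit 11, nat_lit 9],
  [nat_lit 7, nat_lit 11, nat_lit 10, nat_lit 12, nat_lit 5],
  [nat_lit 5, nat_lit 8, nat_lit 11, nat_lit 5, nat_lit 12, nat_lit 11],
  [nat_lit 5, nat_lit 9, nat_lit 5, nat_lit 12, nat_lit 5, nat_lit 11, nat_lit 13],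
  [nat_lit 8, nat_lit 5, nat_lit 12, nat_lit 11, nat_lit 5, nat_lit 9],
  [nat_lit 8, nat_lit 11, nat_lit 12, nat_lit 11, nat_lit 10],
  [nat_lit 5, nat_lit 11, nat_lit 13, nat_lit 11, nat_lit 12, nat_lit 12],
  [nat_lit 6, nat_lit 12, nat_lit 11, nat_lit 8, nat_lit 13, nat_lit 11],
  [nat_lit 5, nat_lit 8, nat_lit 11, nat_lit 12, nat_lit 11],
  [nat_lit 5, nat_lit 11, nat_lit 10, nat_lit 12, nat_lit 5],
  [nat_lit 11, nat_lit 12, nat_lit 11, nat_lit 10, nat_lit 8, nat_lit 13],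
  [nat_lit 5, nat_lit 10, nat_lit 9, nat_lit 12, nat_lit 10],
  [nat_lit 5, nat_lit 6, nat_lit 11, nat_lit 12, nat_lit 13],
  [nat_lit 5, nat_lit 7, nat_lit 8, nat_lit 12],
  [nat_lit 5, nat_lit 13, nat_lit 11, nat_lit 5, nat_lit 12, nat_lit 11, nat_lit 12],
  [nat_lit 10, nat_lit 12, nat_lit 5, nat_lit 11, nat_lit 13],
  [nat_lit 13, nat_lit 11, nat_lit 12, nat_lit 11, nat_lit 10, nat_lit 12],
  [nat_lit 5, nat_lit 12, nat_lit 11, nat_lit 5, nat_lit 13, nat_lit 5],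
  [nat_lit 8, nat_lit 12],
  [nat_lit 9, nat_lit 11, nat_lit 10, nat_lit 12, nat_lit 10, nat_lit 13],
  [nat_lit 10, nat_lit 12, nat_lit 11, nat_lit 5],
  [nat_lit 5, nat_lit 9, nat_lit 5, nat_lit 11, nat_lit 10, nat_lit 12, nat_lit 13],
  [nat_lit 5, nat_lit 9, nat_lit 10, nat_lit 5, nat_lit 11, nat_lit 12],
  [nat_lit 8, nat_lit 5, nat_lit 12, nat_lit 13],
  [nat_lit 9, nat_lit 5, nat_lit 10, nat_lit 11, nat_lit 12],
  [nat_lit 5, nat_lit 6, nat_lit 8, nat_lit 5, nat_lit 12],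
  [nat_lit 5, nat_lit 12, nat_lit 10, nat_lit 8, nat_lit 13],
  [nat_lit 8, nat_lit 5, nat_lit 10, nat_lit 11, nat_lit 9, nat_lit 12],
  [nat_lit 7, nat_lit 9, nat_lit 10, nat_lit 11, nat_lit 12],
  [nat_lit 9, nat_lit 12, nat_lit 11, nat_lit 10, nat_lit 8, nat_lit 5],
  [nat_lit 10, nat_lit 5, nat_lit 12, nat_lit 11, nat_lit 5],
  [nat_lit 5, nat_lit 9, nat_lit 10, nat_lit 11, nat_lit 12],
  [nat_lit 8, nat_lit 12, nat_lit 10],
  [nat_lit 5, nat_lit 6, nat_lit 8, nat_lit 12, nat_lit 10, nat_lit 13],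
  [nat_lit 12, nat_lit 10, nat_lit 11, nat_lit 13, nat_lit 11, nat_lit 8],
  [nat_lit 9, nat_lit 11, nat_lit 10, nat_lit 12, nat_lit 13],
  [nat_lit 5, nat_lit 6, nat_lit 8, nat_lit 12, nat_lit 13],
  [nat_lit 5, nat_lit 11, nat_lit 9, nat_lit 12, nat_lit 10, nat_lit 11, nat_lit 13],
  [nat_lit 9, nat_lit 5, nat_lit 12, nat_lit 5, nat_lit 11, nat_lit 13],
  [nat_lit 6, nat_lit 9, nat_lit 12, nat_lit 11, nat_lit 5, nat_lit 13],
  [nat_lit 8, nat_lit 11, nat_lit 12, nat_lit 11],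
  [nat_lit 9, nat_lit 11, nat_lit 5, nat_lit 8, nat_lit 10, nat_lit 12],
  [nat_lit 10, nat_lit 5, nat_lit 9, nat_lit 12, nat_lit 10],
  [nat_lit 5, nat_lit 9, nat_lit 12, nat_lit 5, nat_lit 11, nat_lit 13],
  [nat_lit 12, nat_lit 11, nat_lit 8, nat_lit 10, nat_lit 13, nat_lit 11],
  [nat_lit 6, nat_lit 11, nat_lit 12, nat_lit 13],
  [nat_lit 11, nat_lit 13, nat_lit 11, nat_lit 12, nat_lit 12],
  [nat_lit 9, nat_lit 10, nat_lit 5, nat_lit 12, nat_lit 5, nat_lit 9, nat_lit 13],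
  [nat_lit 5, nat_lit 8, nat_lit 11, nat_lit 12, nat_lit 11, nat_lit 10],
  [nat_lit 5, nat_lit 10, nat_lit 8, nat_lit 11, nat_lit 12],
  [nat_lit 7, nat_lit 10, nat_lit 9, nat_lit 12],
  [nat_lit 11, nat_lit 10, nat_lit 12, nat_lit 5],
  [nat_lit 11, nat_lit 10, nat_lit 12, nat_lit 10, nat_lit 5],
  [nat_lit 11, nat_lit 5, nat_lit 12, nat_lit 11, nat_lit 8, nat_lit 13],
  [nat_lit 11, nat_lit 5, nat_lit 12, nat_lit 13],
  [nat_lit 10, nat_lit 9, nat_lit 12, nat_lit 10],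
  [nat_lit 8, nat_lit 12, nat_lit 5, nat_lit 10, nat_lit 11, nat_lit 9],
  [nat_lit 9, nat_lit 5, nat_lit 12, nat_lit 5, nat_lit 8, nat_lit 13],
  [nat_lit 6, nat_lit 11, nat_lit 12, nat_lit 11, nat_lit 8, nat_lit 13],
  [nat_lit 8, nat_lit 11, nat_lit 5, nat_lit 12, nat_lit 11],
  [nat_lit 5, nat_lit 10, nat_lit 9, nat_lit 12],
  [nat_lit 8, nat_lit 5, nat_lit 9, nat_lit 12, nat_lit 5, nat_lit 11, nat_lit 13],
  [nat_lit 9, nat_lit 10, nat_lit 5, nat_lit 8, nat_lit 12, nat_lit 5, nat_lit 13],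
  [nat_lit 5, nat_lit 8, nat_lit 12, nat_lit 10, nat_lit 5],
  [nat_lit 5, nat_lit 8, nat_lit 10, nat_lit 12, nat_lit 13],
  [nat_lit 8, nat_lit 10, nat_lit 12, nat_lit 10, nat_lit 13],
  [nat_lit 12, nat_lit 11, nat_lit 5, nat_lit 9],
  [nat_lit 7, nat_lit 10, nat_lit 12, nat_lit 11],
  [nat_lit 12, nat_lit 11, nat_lit 5, nat_lit 13],
  [nat_lit 6, nat_lit 9, nat_lit 11, nat_lit 12, nat_lit 13],
  [nat_lit 5, nat_lit 8, nat_lit 5, nat_lit 12, nat_lit 13, nat_lit 5],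
  [nat_lit 8, nat_lit 12, nat_lit 5, nat_lit 10, nat_lit 8, nat_lit 13],
  [nat_lit 6, nat_lit 8, nat_lit 12, nat_lit 13, nat_lit 5],
  [nat_lit 5, nat_lit 12, nat_lit 11, nat_lit 5, nat_lit 9, nat_lit 10],
  [nat_lit 12, nat_lit 5, nat_lit 10, nat_lit 11, nat_lit 9],
  [nat_lit 9, nat_lit 5, nat_lit 12, nat_lit 11, nat_lit 8],
  [nat_lit 5, nat_lit 8, nat_lit 12, nat_lit 5],
  [nat_lit 12, nat_lit 10, nat_lit 13, nat_lit 11, nat_lit 8],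
  [nat_lit 8, nat_lit 10, nat_lit 12, nat_lit 10, nat_lit 9],
  [nat_lit 6, nat_lit 12, nat_lit 5, nat_lit 11, nat_lit 9, nat_lit 10],
  [nat_lit 7, nat_lit 8, nat_lit 12, nat_lit 5],
  [nat_lit 9, nat_lit 11, nat_lit 5, nat_lit 12, nat_lit 13],
  [nat_lit 8, nat_lit 12, nat_lit 5, nat_lit 10],
  [nat_lit 5, nat_lit 10, nat_lit 12, nat_lit 11],
  [nat_lit 12, nat_lit 5, nat_lit 10, nat_lit 11, nat_lit 13],
  [nat_lit 10, nat_lit 5, nat_lit 12],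
  [nat_lit 5, nat_lit 6, nat_lit 8, nat_lit 12, nat_lit 13, nat_lit 5, nat_lit 11],
  [nat_lit 10, nat_lit 12, nat_lit 10, nat_lit 8, nat_lit 5],
  [nat_lit 9, nat_lit 12, nat_lit 5, nat_lit 13],
  [nat_lit 5, nat_lit 9, nat_lit 5, nat_lit 12, nat_lit 5, nat_lit 13],
  [nat_lit 5, nat_lit 8, nat_lit 10, nat_lit 12, nat_lit 10, nat_lit 13, nat_lit 11],
  [nat_lit 8, nat_lit 5, nat_lit 9, nat_lit 11, nat_lit 12, nat_lit 11, nat_lit 13],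
  [nat_lit 5, nat_lit 8, nat_lit 12, nat_lit 5, nat_lit 10, nat_lit 11],
  [nat_lit 10, nat_lit 8, nat_lit 11, nat_lit 8, nat_lit 12],
  [nat_lit 8, nat_lit 12, nat_lit 5, nat_lit 11],
  [nat_lit 5, nat_lit 11, nat_lit 5, nat_lit 12, nat_lit 11, nat_lit 13],
  [nat_lit 11, nat_lit 9, nat_lit 12, nat_lit 10, nat_lit 13],
  [nat_lit 8, nat_lit 5, nat_lit 12, nat_lit 13, nat_lit 5, nat_lit 11],
  [nat_lit 8, nat_lit 5, nat_lit 12, nat_lit 11, nat_lit 5],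
  [nat_lit 8, nat_lit 11, nat_lit 12, nat_lit 11, nat_lit 10, nat_lit 8],
  [nat_lit 10, nat_lit 12, nat_lit 5, nat_lit 9, nat_lit 10],
  [nat_lit 8, nat_lit 10, nat_lit 12, nat_lit 13, nat_lit 11],
  [nat_lit 5, nat_lit 10, nat_lit 8, nat_lit 5, nat_lit 9, nat_lit 12],
  [nat_lit 11, nat_lit 12, nat_lit 11, nat_lit 10, nat_lit 13],
  [nat_lit 9, nat_lit 5, nat_lit 10, nat_lit 12, nat_lit 5, nat_lit 8, nat_lit 13],
  [nat_lit 8, nat_lit 12, nat_lit 10, nat_lit 11, nat_lit 9],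
  [nat_lit 10, nat_lit 12, nat_lit 10, nat_lit 5, nat_lit 9],
  [nat_lit 10, nat_lit 12],
  [nat_lit 5, nat_lit 6, nat_lit 11, nat_lit 9, nat_lit 12, nat_lit 13],
  [nat_lit 9, nat_lit 10, nat_lit 5, nat_lit 12, nat_lit 5, nat_lit 13],
  [nat_lit 10, nat_lit 9, nat_lit 11, nat_lit 5, nat_lit 12],
  [nat_lit 7, nat_lit 8, nat_lit 12, nat_lit 11],
  [nat_lit 11, nat_lit 13, nat_lit 11, nat_lit 12, nat_lit 11, nat_lit 12],
  [nat_lit 6, nat_lit 10, nat_lit 12, nat_lit 5],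
  [nat_lit 5, nat_lit 9, nat_lit 5, nat_lit 10, nat_lit 12, nat_lit 5, nat_lit 13],
  [nat_lit 5, nat_lit 11, nat_lit 12, nat_lit 11, nat_lit 13, nat_lit 5],
  [nat_lit 9, nat_lit 10, nat_lit 12, nat_lit 5, nat_lit 13],
  [nat_lit 8, nat_lit 12, nat_lit 13, nat_lit 11, nat_lit 10],
  [nat_lit 9, nat_lit 5, nat_lit 12, nat_lit 5, nat_lit 11, nat_lit 8, nat_lit 13],
  [nat_lit 10, nat_lit 11, nat_lit 12, nat_lit 11, nat_lit 13],
  [nat_lit 6, nat_lit 8, nat_lit 12, nat_lit 13, nat_lit 11],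
  [nat_lit 5, nat_lit 10, nat_lit 9, nat_lit 11, nat_lit 12],
  [nat_lit 10, nat_lit 8, nat_lit 5, nat_lit 12],
  [nat_lit 7, nat_lit 10, nat_lit 9, nat_lit 11, nat_lit 12],
  [nat_lit 5, nat_lit 8, nat_lit 5, nat_lit 12, nat_lit 13, nat_lit 11],
  [nat_lit 8, nat_lit 12, nat_lit 5, nat_lit 10, nat_lit 11, nat_lit 8],
  [nat_lit 10, nat_lit 9, nat_lit 5, nat_lit 8, nat_lit 12, nat_lit 5],
  [nat_lit 10, nat_lit 12, nat_lit 5, nat_lit 10],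
  [nat_lit 8, nat_lit 11, nat_lit 5, nat_lit 9, nat_lit 10, nat_lit 12],
  [nat_lit 11, nat_lit 5, nat_lit 8, nat_lit 12, nat_lit 13],
  [nat_lit 5, nat_lit 8, nat_lit 12, nat_lit 10, nat_lit 11],
  [nat_lit 5, nat_lit 8, nat_lit 12, nat_lit 11],
  [nat_lit 5, nat_lit 11, nat_lit 9, nat_lit 12, nat_lit 13, nat_lit 5],
  [nat_lit 12, nat_lit 11, nat_lit 10],
  [nat_lit 5, nat_lit 8, nat_lit 10, nat_lit 5, nat_lit 12, nat_lit 5, nat_lit 13],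
  [nat_lit 6, nat_lit 12, nat_lit 13, nat_lit 11, nat_lit 9, nat_lit 5],
  [nat_lit 5, nat_lit 9, nat_lit 12, nat_lit 10, nat_lit 13, nat_lit 11],
  [nat_lit 12, nat_lit 5, nat_lit 9, nat_lit 13],
  [nat_lit 9, nat_lit 10, nat_lit 5, nat_lit 8, nat_lit 12],
  [nat_lit 5, nat_lit 8, nat_lit 10, nat_lit 12, nat_lit 5, nat_lit 10],
  [nat_lit 5, nat_lit 8, nat_lit 12, nat_lit 5, nat_lit 13, nat_lit 5],
  [nat_lit 8, nat_lit 5, nat_lit 10, nat_lit 12, nat_lit 5, nat_lit 13],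
  [nat_lit 12, nat_lit 10, nat_lit 5, nat_lit 9, nat_lit 10],
  [nat_lit 9, nat_lit 5, nat_lit 12, nat_lit 13, nat_lit 5, nat_lit 9],
  [nat_lit 6, nat_lit 12, nat_lit 5, nat_lit 9],
  [nat_lit 12, nat_lit 11],
  [nat_lit 10, nat_lit 13, nat_lit 11, nat_lit 12, nat_lit 11, nat_lit 12],
  [nat_lit 7, nat_lit 8, nat_lit 10, nat_lit 12, nat_lit 5],
  [nat_lit 6, nat_lit 12, nat_lit 5, nat_lit 9, nat_lit 10],
  [nat_lit 8, nat_lit 10, nat_lit 12, nat_lit 10, nat_lit 5],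
  [nat_lit 6, nat_lit 12, nat_lit 11, nat_lit 13],
  [nat_lit 5, nat_lit 8, nat_lit 10, nat_lit 12, nat_lit 5],
  [nat_lit 12, nat_lit 10, nat_lit 5, nat_lit 9],
  [nat_lit 5, nat_lit 6, nat_lit 9, nat_lit 12, nat_lit 13, nat_lit 11],
  [nat_lit 8, nat_lit 12, nat_lit 10, nat_lit 9, nat_lit 11],
  [nat_lit 12, nat_lit 5, nat_lit 9, nat_lit 10, nat_lit 13],
  [nat_lit 12, nat_lit 10, nat_lit 11, nat_lit 13],
  [nat_lit 8, nat_lit 10, nat_lit 5, nat_lit 12, nat_lit 5, nat_lit 13],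
  [nat_lit 8, nat_lit 12, nat_lit 5, nat_lit 13, nat_lit 5],
  [nat_lit 5, nat_lit 9, nat_lit 10, nat_lit 5, nat_lit 8, nat_lit 12],
  [nat_lit 5, nat_lit 8, nat_lit 10, nat_lit 12, nat_lit 10, nat_lit 5],
  [nat_lit 8, nat_lit 11, nat_lit 8, nat_lit 12],
  [nat_lit 5, nat_lit 8, nat_lit 5, nat_lit 10, nat_lit 12, nat_lit 5, nat_lit 13],
  [nat_lit 5, nat_lit 6, nat_lit 12, nat_lit 13, nat_lit 11, nat_lit 9, nat_lit 5],
  [nat_lit 6, nat_lit 9, nat_lit 12, nat_lit 13, nat_lit 11],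
  [nat_lit 9, nat_lit 10, nat_lit 12, nat_lit 10, nat_lit 8, nat_lit 13],
  [nat_lit 8, nat_lit 5, nat_lit 9, nat_lit 12, nat_lit 11, nat_lit 13],
  [nat_lit 5, nat_lit 12, nat_lit 5, nat_lit 9, nat_lit 10, nat_lit 13],
  [nat_lit 5, nat_lit 7, nat_lit 8, nat_lit 10, nat_lit 12, nat_lit 5],
  [nat_lit 8, nat_lit 10, nat_lit 12, nat_lit 5],
  [nat_lit 9, nat_lit 5, nat_lit 8, nat_lit 12, nat_lit 11],
  [nat_lit 5, nat_lit 12, nat_lit 10, nat_lit 11, nat_lit 13],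
  [nat_lit 8, nat_lit 11, nat_lit 5, nat_lit 8, nat_lit 12],
  [nat_lit 8, nat_lit 10, nat_lit 12, nat_lit 5, nat_lit 10],
  [nat_lit 9, nat_lit 12, nat_lit 10, nat_lit 13, nat_lit 11],
  [nat_lit 8, nat_lit 11, nat_lit 8, nat_lit 12, nat_lit 10],
  [nat_lit 12, nat_lit 5, nat_lit 10, nat_lit 9],
  [nat_lit 5, nat_lit 12, nat_lit 5, nat_lit 9, nat_lit 13],
  [nat_lit 5, nat_lit 6, nat_lit 12, nat_lit 11, nat_lit 13],
  [nat_lit 7, nat_lit 12, nat_lit 11],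
  [nat_lit 5, nat_lit 12, nat_lit 11],
  [nat_lit 13, nat_lit 11, nat_lit 5, nat_lit 12, nat_lit 11, nat_lit 12],
  [nat_lit 9, nat_lit 10, nat_lit 5, nat_lit 11, nat_lit 12],
  [nat_lit 6, nat_lit 8, nat_lit 5, nat_lit 12],
  [nat_lit 6, nat_lit 10, nat_lit 12, nat_lit 5, nat_lit 11],
  [nat_lit 5, nat_lit 13, nat_lit 11, nat_lit 12, nat_lit 11, nat_lit 10, nat_lit 12],
  [nat_lit 12, nat_lit 11, nat_lit 5, nat_lit 13, nat_lit 5],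
  [nat_lit 5, nat_lit 10, nat_lit 12, nat_lit 5, nat_lit 11, nat_lit 13],
  [nat_lit 5, nat_lit 9, nat_lit 11, nat_lit 10, nat_lit 12, nat_lit 10, nat_lit 13],
  [nat_lit 6, nat_lit 8, nat_lit 12, nat_lit 10, nat_lit 13],
  [nat_lit 6, nat_lit 8, nat_lit 12, nat_lit 13],
  [nat_lit 9, nat_lit 5, nat_lit 11, nat_lit 10, nat_lit 12, nat_lit 13],
  [nat_lit 6, nat_lit 9, nat_lit 11, nat_lit 12, nat_lit 13, nat_lit 5],
  [nat_lit 5, nat_lit 9, nat_lit 5, nat_lit 10, nat_lit 11, nat_lit 12],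
  [nat_lit 8, nat_lit 10, nat_lit 5, nat_lit 11, nat_lit 9, nat_lit 12],
  [nat_lit 5, nat_lit 8, nat_lit 5, nat_lit 12, nat_lit 13],
  [nat_lit 5, nat_lit 10, nat_lit 12, nat_lit 11, nat_lit 5],
  [nat_lit 9, nat_lit 5, nat_lit 12, nat_lit 11, nat_lit 8, nat_lit 5],
  [nat_lit 7, nat_lit 8, nat_lit 12],
  [nat_lit 5, nat_lit 7, nat_lit 9, nat_lit 10, nat_lit 11, nat_lit 12],
  [nat_lit 9, nat_lit 10, nat_lit 11, nat_lit 12],
  [nat_lit 5, nat_lit 8, nat_lit 12, nat_lit 10],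
  [nat_lit 5, nat_lit 9, nat_lit 11, nat_lit 10, nat_lit 12, nat_lit 13],
  [nat_lit 12, nat_lit 10, nat_lit 8, nat_lit 13],
  [nat_lit 5, nat_lit 8, nat_lit 12],
  [nat_lit 5, nat_lit 6, nat_lit 13, nat_lit 12],
  [nat_lit 6, nat_lit 7, nat_lit 13, nat_lit 12],
  [nat_lit 5, nat_lit 8, nat_lit 10, nat_lit 5, nat_lit 11],
  [nat_lit 5, nat_lit 9, nat_lit 5],
  [nat_lit 5, nat_lit 9, nat_lit 10, nat_lit 5, nat_lit 11, nat_lit 8],
  [nat_lit 8, nat_lit 5, nat_lit 10, nat_lit 11],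
  [nat_lit 9, nat_lit 5, nat_lit 10, nat_lit 11, nat_lit 8],
  [nat_lit 13, nat_lit 12, nat_lit 11, nat_lit 10, nat_lit 8],
  [nat_lit 5, nat_lit 7, nat_lit 9],
  [nat_lit 13, nat_lit 11, nat_lit 12, nat_lit 11, nat_lit 10, nat_lit 8],
  [nat_lit 5, nat_lit 9, nat_lit 10, nat_lit 11, nat_lit 8],
  [nat_lit 7, nat_lit 9, nat_lit 5],
  [nat_lit 13, nat_lit 5, nat_lit 12, nat_lit 11, nat_lit 8, nat_lit 5],
  [nat_lit 8, nat_lit 5, nat_lit 13, nat_lit 5, nat_lit 12, nat_lit 11],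
  [nat_lit 8, nat_lit 13, nat_lit 12, nat_lit 10, nat_lit 11],
  [nat_lit 7, nat_lit 9, nat_lit 10, nat_lit 11, nat_lit 8],
  [nat_lit 5, nat_lit 8, nat_lit 11, nat_lit 10],
  [nat_lit 5, nat_lit 6, nat_lit 13, nat_lit 11, nat_lit 12],
  [nat_lit 8, nat_lit 13, nat_lit 11, nat_lit 12, nat_lit 11, nat_lit 10],
  [nat_lit 5, nat_lit 13, nat_lit 5, nat_lit 12, nat_lit 11, nat_lit 8],
  [nat_lit 7, nat_lit 8, nat_lit 11, nat_lit 10],
  [nat_lit 5, nat_lit 12, nat_lit 12, nat_lit 11, nat_lit 13],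
  [nat_lit 5, nat_lit 6, nat_lit 8, nat_lit 13, nat_lit 5, nat_lit 12, nat_lit 11],
  [nat_lit 9],
  [nat_lit 5, nat_lit 7, nat_lit 8, nat_lit 10, nat_lit 12],
  [nat_lit 10, nat_lit 5, nat_lit 12, nat_lit 11, nat_lit 13],
  [nat_lit 5, nat_lit 6, nat_lit 9, nat_lit 11, nat_lit 12],
  [nat_lit 8, nat_lit 12, nat_lit 10, nat_lit 5, nat_lit 13],
  [nat_lit 8, nat_lit 12, nat_lit 5, nat_lit 13],
  [nat_lit 6, nat_lit 9, nat_lit 5, nat_lit 11, nat_lit 12],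
  [nat_lit 5, nat_lit 9, nat_lit 10, nat_lit 12, nat_lit 10, nat_lit 13, nat_lit 11],
  [nat_lit 6, nat_lit 12, nat_lit 5, nat_lit 11],
  [nat_lit 6, nat_lit 9, nat_lit 10, nat_lit 12, nat_lit 13, nat_lit 11],
  [nat_lit 9, nat_lit 12, nat_lit 11, nat_lit 10, nat_lit 8, nat_lit 13],
  [nat_lit 8, nat_lit 12, nat_lit 5, nat_lit 8],
  [nat_lit 5, nat_lit 8, nat_lit 12, nat_lit 5, nat_lit 10, nat_lit 13],
  [nat_lit 13, nat_lit 11, nat_lit 12, nat_lit 11, nat_lit 12],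
  [nat_lit 9, nat_lit 5, nat_lit 8, nat_lit 12, nat_lit 11, nat_lit 5],
  [nat_lit 5, nat_lit 9, nat_lit 10, nat_lit 5, nat_lit 8, nat_lit 12, nat_lit 5],
  [nat_lit 5, nat_lit 9, nat_lit 11, nat_lit 5, nat_lit 12],
  [nat_lit 9, nat_lit 5, nat_lit 12, nat_lit 13, nat_lit 5, nat_lit 11],
  [nat_lit 6, nat_lit 8, nat_lit 10, nat_lit 5, nat_lit 12],
  [nat_lit 5, nat_lit 12, nat_lit 11, nat_lit 5],
  [nat_lit 8, nat_lit 10, nat_lit 12],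
  [nat_lit 5, nat_lit 9, nat_lit 12, nat_lit 13, nat_lit 5, nat_lit 11],
  [nat_lit 5, nat_lit 8, nat_lit 10, nat_lit 12, nat_lit 10],
  [nat_lit 10, nat_lit 12, nat_lit 11, nat_lit 13],
  [nat_lit 5, nat_lit 6, nat_lit 12, nat_lit 13, nat_lit 11, nat_lit 9],
  [nat_lit 12, nat_lit 10, nat_lit 12, nat_lit 13],
  [nat_lit 12, nat_lit 12, nat_lit 11, nat_lit 13],
  [nat_lit 8, nat_lit 10, nat_lit 5, nat_lit 11],
  [nat_lit 5, nat_lit 7, nat_lit 9, nat_lit 5],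
  [nat_lit 8, nat_lit 11, nat_lit 10],
  [nat_lit 7, nat_lit 9],
  [nat_lit 5, nat_lit 9, nat_lit 5, nat_lit 10, nat_lit 11, nat_lit 8],
  [nat_lit 8, nat_lit 13, nat_lit 11, nat_lit 5, nat_lit 12, nat_lit 11],
  [nat_lit 5, nat_lit 7, nat_lit 9, nat_lit 10, nat_lit 11, nat_lit 8],
  [nat_lit 8, nat_lit 5, nat_lit 13, nat_lit 12, nat_lit 11, nat_lit 10],
  [nat_lit 9, nat_lit 10, nat_lit 11, nat_lit 8],
  [nat_lit 5, nat_lit 9],
  [nat_lit 6, nat_lit 8, nat_lit 13, nat_lit 5, nat_lit 12, nat_lit 11],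
  [nat_lit 13, nat_lit 11, nat_lit 5, nat_lit 12, nat_lit 11, nat_lit 8],
  [nat_lit 13, nat_lit 12, nat_lit 11, nat_lit 10, nat_lit 8, nat_lit 5],
  [nat_lit 9, nat_lit 5],
  [nat_lit 6, nat_lit 13, nat_lit 11, nat_lit 12],
  [nat_lit 5, nat_lit 13, nat_lit 12, nat_lit 11, nat_lit 10, nat_lit 8],
  [nat_lit 9, nat_lit 10, nat_lit 5, nat_lit 11, nat_lit 8],
  [nat_lit 5, nat_lit 7, nat_lit 8, nat_lit 11, nat_lit 10],
  [nat_lit 6, nat_lit 13, nat_lit 12],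
  [nat_lit 13, nat_lit 5, nat_lit 12, nat_lit 11, nat_lit 8],
  [nat_lit 5, nat_lit 8, nat_lit 13, nat_lit 12, nat_lit 10, nat_lit 11],
  [nat_lit 5, nat_lit 8, nat_lit 5, nat_lit 10, nat_lit 11],
  [nat_lit 10, nat_lit 11, nat_lit 12, nat_lit 11, nat_lit 10],
  [nat_lit 5, nat_lit 10, nat_lit 13, nat_lit 5, nat_lit 11, nat_lit 12, nat_lit 12],
  [nat_lit 8, nat_lit 5, nat_lit 10, nat_lit 9, nat_lit 11, nat_lit 12],
  [nat_lit 6, nat_lit 10, nat_lit 9, nat_lit 11, nat_lit 5, nat_lit 12, nat_lit 13],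
  [nat_lit 5, nat_lit 9, nat_lit 10, nat_lit 12, nat_lit 10, nat_lit 5],
  [nat_lit 6, nat_lit 11, nat_lit 8, nat_lit 12, nat_lit 10],
  [nat_lit 11, nat_lit 10, nat_lit 12, nat_lit 11],
  [nat_lit 10, nat_lit 12, nat_lit 5, nat_lit 13],
  [nat_lit 5, nat_lit 10, nat_lit 9, nat_lit 5, nat_lit 11, nat_lit 12, nat_lit 13],
  [nat_lit 12, nat_lit 13, nat_lit 5, nat_lit 11, nat_lit 8],
  [nat_lit 13, nat_lit 5, nat_lit 10, nat_lit 11, nat_lit 12, nat_lit 12],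
  [nat_lit 12, nat_lit 13, nat_lit 5, nat_lit 9],
  [nat_lit 8, nat_lit 5, nat_lit 12, nat_lit 11, nat_lit 13],
  [nat_lit 5, nat_lit 11, nat_lit 8, nat_lit 5, nat_lit 12],
  [nat_lit 9, nat_lit 10, nat_lit 12, nat_lit 5, nat_lit 10],
  [nat_lit 11, nat_lit 9, nat_lit 10, nat_lit 12],
  [nat_lit 11, nat_lit 8, nat_lit 12],
  [nat_lit 9, nat_lit 12, nat_lit 5, nat_lit 10, nat_lit 11, nat_lit 8],
  [nat_lit 12, nat_lit 10, nat_lit 11, nat_lit 9, nat_lit 5],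
  [nat_lit 5, nat_lit 7, nat_lit 11, nat_lit 8, nat_lit 12],
  [nat_lit 10, nat_lit 12, nat_lit 10, nat_lit 8, nat_lit 13],
  [nat_lit 5, nat_lit 8, nat_lit 12, nat_lit 11, nat_lit 10, nat_lit 13],
  [nat_lit 10, nat_lit 12, nat_lit 10, nat_lit 13, nat_lit 11, nat_lit 8],
  [nat_lit 10, nat_lit 5, nat_lit 12, nat_lit 5, nat_lit 13],
  [nat_lit 5, nat_lit 13, nat_lit 11, nat_lit 9, nat_lit 10],
  [nat_lit 5, nat_lit 10, nat_lit 12, nat_lit 11, nat_lit 12],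
  [nat_lit 5, nat_lit 10, nat_lit 12, nat_lit 11, nat_lit 12, nat_lit 11],
  [nat_lit 9, nat_lit 10, nat_lit 8, nat_lit 13, nat_lit 5, nat_lit 11],
  [nat_lit 9, nat_lit 10, nat_lit 5, nat_lit 8, nat_lit 13, nat_lit 5],
  [nat_lit 9, nat_lit 10, nat_lit 13, nat_lit 11, nat_lit 9, nat_lit 5],
  [nat_lit 5, nat_lit 8, nat_lit 13, nat_lit 5, nat_lit 9],
  [nat_lit 6, nat_lit 9, nat_lit 11, nat_lit 13],
  [nat_lit 9, nat_lit 11, nat_lit 5, nat_lit 13],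
  [nat_lit 5, nat_lit 8, nat_lit 10, nat_lit 13, nat_lit 11],
  [nat_lit 12, nat_lit 5, nat_lit 9, nat_lit 12, nat_lit 5],
  [nat_lit 12, nat_lit 5, nat_lit 10, nat_lit 11, nat_lit 9, nat_lit 12],
  [nat_lit 5, nat_lit 8, nat_lit 10, nat_lit 13],
  [nat_lit 5, nat_lit 13, nat_lit 11, nat_lit 12, nat_lit 11, nat_lit 13],
  [nat_lit 6, nat_lit 8, nat_lit 12, nat_lit 12, nat_lit 10],
  [nat_lit 8, nat_lit 12, nat_lit 5, nat_lit 10, nat_lit 12],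
  [nat_lit 6, nat_lit 12, nat_lit 11, nat_lit 12, nat_lit 5],
  [nat_lit 12, nat_lit 5, nat_lit 9, nat_lit 12, nat_lit 5, nat_lit 11],
  [nat_lit 12, nat_lit 12, nat_lit 11, nat_lit 8, nat_lit 10],
  [nat_lit 7, nat_lit 8, nat_lit 10, nat_lit 13],
  [nat_lit 5, nat_lit 8, nat_lit 12, nat_lit 5, nat_lit 12],
  [nat_lit 12, nat_lit 5, nat_lit 9, nat_lit 10, nat_lit 12, nat_lit 5],
  [nat_lit 9, nat_lit 10, nat_lit 8, nat_lit 13, nat_lit 5],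
  [nat_lit 9, nat_lit 11, nat_lit 5, nat_lit 13, nat_lit 11],
  [nat_lit 6, nat_lit 9, nat_lit 5, nat_lit 13, nat_lit 12],
  [nat_lit 5, nat_lit 9, nat_lit 10, nat_lit 11, nat_lit 9],
  [nat_lit 5, nat_lit 6, nat_lit 9, nat_lit 13, nat_lit 12],
  [nat_lit 8, nat_lit 5, nat_lit 10, nat_lit 11, nat_lit 8],
  [nat_lit 8, nat_lit 5, nat_lit 8, nat_lit 13, nat_lit 12],
  [],
  [nat_lit 13, nat_lit 11, nat_lit 13],
  [nat_lit 8, nat_lit 11, nat_lit 10, nat_lit 8, nat_lit 5],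
  [nat_lit 7, nat_lit 8, nat_lit 11, nat_lit 10, nat_lit 8],
  [nat_lit 8, nat_lit 10, nat_lit 11, nat_lit 13, nat_lit 12],
  [nat_lit 8, nat_lit 13, nat_lit 11, nat_lit 12, nat_lit 11, nat_lit 10, nat_lit 8],
  [nat_lit 5, nat_lit 7],
  [nat_lit 7, nat_lit 9, nat_lit 5, nat_lit 8],
  [nat_lit 8, nat_lit 5, nat_lit 13, nat_lit 5, nat_lit 12, nat_lit 11, nat_lit 8],
  [nat_lit 8, nat_lit 13, nat_lit 12, nat_lit 10, nat_lit 11, nat_lit 8],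
  [nat_lit 7, nat_lit 9, nat_lit 10, nat_lit 11, nat_lit 9],
  [nat_lit 13, nat_lit 5, nat_lit 9, nat_lit 10, nat_lit 12, nat_lit 5],
  [nat_lit 5, nat_lit 13, nat_lit 5, nat_lit 9, nat_lit 10, nat_lit 12],
  [nat_lit 9, nat_lit 5, nat_lit 10, nat_lit 11, nat_lit 9],
  [nat_lit 8, nat_lit 11, nat_lit 10, nat_lit 13, nat_lit 11, nat_lit 12],
  [nat_lit 9, nat_lit 10, nat_lit 11, nat_lit 9, nat_lit 5],
  [nat_lit 5, nat_lit 10, nat_lit 11, nat_lit 13, nat_lit 12, nat_lit 11, nat_lit 10],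
  [nat_lit 5, nat_lit 8, nat_lit 11, nat_lit 10, nat_lit 8],
  [nat_lit 5, nat_lit 9, nat_lit 13, nat_lit 11, nat_lit 12],
  [nat_lit 5, nat_lit 6, nat_lit 8, nat_lit 10, nat_lit 13, nat_lit 12],
  [nat_lit 5, nat_lit 8, nat_lit 10, nat_lit 9, nat_lit 5],
  [nat_lit 8, nat_lit 11, nat_lit 8, nat_lit 10, nat_lit 5],
  [nat_lit 5, nat_lit 10, nat_lit 13, nat_lit 12, nat_lit 11, nat_lit 10],
  [nat_lit 5, nat_lit 11, nat_lit 8, nat_lit 5, nat_lit 11],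
  [nat_lit 9, nat_lit 11, nat_lit 13, nat_lit 12],
  [nat_lit 11, nat_lit 5, nat_lit 9, nat_lit 11, nat_lit 10],
  [nat_lit 5, nat_lit 8, nat_lit 10, nat_lit 5, nat_lit 13, nat_lit 12],
  [nat_lit 5, nat_lit 6, nat_lit 8, nat_lit 10, nat_lit 9],
  [nat_lit 8, nat_lit 12, nat_lit 12, nat_lit 5, nat_lit 13],
  [nat_lit 5, nat_lit 7, nat_lit 9, nat_lit 11, nat_lit 9],
  [nat_lit 13, nat_lit 5, nat_lit 10, nat_lit 11, nat_lit 12, nat_lit 11],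
  [nat_lit 9, nat_lit 11, nat_lit 13, nat_lit 11, nat_lit 12],
  [nat_lit 12, nat_lit 5, nat_lit 11, nat_lit 12, nat_lit 11, nat_lit 13],
  [nat_lit 8, nat_lit 5, nat_lit 10, nat_lit 13, nat_lit 12],
  [nat_lit 10, nat_lit 13, nat_lit 5, nat_lit 12, nat_lit 11],
  [nat_lit 5, nat_lit 9, nat_lit 5, nat_lit 11, nat_lit 9],
  [nat_lit 5, nat_lit 9, nat_lit 5, nat_lit 11, nat_lit 13, nat_lit 12],
  [nat_lit 9, nat_lit 11, nat_lit 9],
  [nat_lit 11, nat_lit 9, nat_lit 10, nat_lit 11],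
  [nat_lit 5, nat_lit 8, nat_lit 10, nat_lit 5, nat_lit 9],
  [nat_lit 6, nat_lit 9, nat_lit 11, nat_lit 5, nat_lit 13, nat_lit 12],
  [nat_lit 8, nat_lit 5, nat_lit 10, nat_lit 9],
  [nat_lit 5, nat_lit 8, nat_lit 11, nat_lit 8, nat_lit 5, nat_lit 10],
  [nat_lit 5, nat_lit 8, nat_lit 12, nat_lit 11, nat_lit 12],
  [nat_lit 9, nat_lit 5, nat_lit 13, nat_lit 5, nat_lit 10],
  [nat_lit 5, nat_lit 9, nat_lit 13, nat_lit 5, nat_lit 10],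
  [nat_lit 6, nat_lit 11, nat_lit 8, nat_lit 13],
  [nat_lit 5, nat_lit 11, nat_lit 8, nat_lit 10, nat_lit 9, nat_lit 13, nat_lit 11],
  [nat_lit 10, nat_lit 12, nat_lit 12, nat_lit 11, nat_lit 10],
  [nat_lit 10, nat_lit 8, nat_lit 5, nat_lit 12, nat_lit 12],
  [nat_lit 5, nat_lit 10, nat_lit 12, nat_lit 5, nat_lit 12, nat_lit 11],
  [nat_lit 11, nat_lit 13, nat_lit 11, nat_lit 8, nat_lit 10],
  [nat_lit 11, nat_lit 13, nat_lit 11, nat_lit 9],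
  [nat_lit 6, nat_lit 10, nat_lit 9, nat_lit 11, nat_lit 12, nat_lit 12, nat_lit 11],
  [nat_lit 12, nat_lit 5, nat_lit 12, nat_lit 5],
  [nat_lit 5, nat_lit 10, nat_lit 12, nat_lit 12, nat_lit 10],
  [nat_lit 5, nat_lit 8, nat_lit 10, nat_lit 9, nat_lit 11, nat_lit 13],
  [nat_lit 5, nat_lit 10, nat_lit 9, nat_lit 11, nat_lit 12, nat_lit 12],
  [nat_lit 7, nat_lit 11, nat_lit 8, nat_lit 13, nat_lit 11],
  [nat_lit 6, nat_lit 12, nat_lit 12, nat_lit 5, nat_lit 8],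
  [nat_lit 6, nat_lit 11, nat_lit 8, nat_lit 10, nat_lit 9, nat_lit 13],
  [nat_lit 7, nat_lit 10, nat_lit 9, nat_lit 11, nat_lit 12, nat_lit 12],
  [nat_lit 9, nat_lit 10, nat_lit 13, nat_lit 5],
  [nat_lit 10, nat_lit 9, nat_lit 11, nat_lit 5, nat_lit 12, nat_lit 12],
  [nat_lit 11, nat_lit 13, nat_lit 11, nat_lit 9, nat_lit 10, nat_lit 8],
  [nat_lit 10, nat_lit 12, nat_lit 12, nat_lit 11, nat_lit 8],
  [nat_lit 11, nat_lit 5, nat_lit 8, nat_lit 13],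
  [nat_lit 5, nat_lit 9, nat_lit 12, nat_lit 11, nat_lit 12],
  [nat_lit 11, nat_lit 13, nat_lit 5, nat_lit 11],
  [nat_lit 9, nat_lit 10, nat_lit 9, nat_lit 11, nat_lit 5, nat_lit 13],
  [nat_lit 9, nat_lit 12, nat_lit 11, nat_lit 12, nat_lit 11],
  [nat_lit 5, nat_lit 8, nat_lit 10, nat_lit 8, nat_lit 13],
  [nat_lit 7, nat_lit 9, nat_lit 12, nat_lit 11, nat_lit 12],
  [nat_lit 9, nat_lit 5, nat_lit 12, nat_lit 11, nat_lit 12],
  [nat_lit 12, nat_lit 11, nat_lit 12, nat_lit 11, nat_lit 10, nat_lit 8],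
  [nat_lit 7, nat_lit 8, nat_lit 10, nat_lit 8, nat_lit 13],
  [nat_lit 6, nat_lit 11, nat_lit 12, nat_lit 12, nat_lit 10],
  [nat_lit 5, nat_lit 13, nat_lit 11, nat_lit 9, nat_lit 10, nat_lit 9],
  [nat_lit 12, nat_lit 5, nat_lit 10, nat_lit 11, nat_lit 8, nat_lit 12],
  [nat_lit 12, nat_lit 11, nat_lit 5, nat_lit 8, nat_lit 10, nat_lit 12],
  [nat_lit 5, nat_lit 8, nat_lit 10, nat_lit 13, nat_lit 11, nat_lit 9],
  [nat_lit 7, nat_lit 11, nat_lit 13, nat_lit 5],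
  [nat_lit 5, nat_lit 11, nat_lit 12, nat_lit 5, nat_lit 12],
  [nat_lit 5, nat_lit 11, nat_lit 12, nat_lit 12, nat_lit 11, nat_lit 10],
  [nat_lit 10, nat_lit 8, nat_lit 11, nat_lit 10, nat_lit 13, nat_lit 11],
  [nat_lit 6, nat_lit 10, nat_lit 13, nat_lit 5, nat_lit 9, nat_lit 10],
  [nat_lit 8, nat_lit 13, nat_lit 5, nat_lit 11, nat_lit 8],
  [nat_lit 12, nat_lit 11, nat_lit 5, nat_lit 8, nat_lit 12],
  [nat_lit 11, nat_lit 12, nat_lit 5, nat_lit 12, nat_lit 11],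
  [nat_lit 5, nat_lit 10, nat_lit 8, nat_lit 11, nat_lit 10, nat_lit 13],
  [nat_lit 5, nat_lit 11, nat_lit 13, nat_lit 5],
  [nat_lit 5, nat_lit 10, nat_lit 9, nat_lit 5],
  [nat_lit 6, nat_lit 10, nat_lit 8, nat_lit 5, nat_lit 11],
  [nat_lit 5, nat_lit 9, nat_lit 5, nat_lit 11, nat_lit 8, nat_lit 10],
  [nat_lit 5, nat_lit 13, nat_lit 12, nat_lit 11, nat_lit 8, nat_lit 10, nat_lit 5],
  [nat_lit 6, nat_lit 11, nat_lit 13, nat_lit 11, nat_lit 12],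
  [nat_lit 6, nat_lit 11, nat_lit 8, nat_lit 13, nat_lit 12, nat_lit 11, nat_lit 5],
  [nat_lit 6, nat_lit 7, nat_lit 10, nat_lit 8, nat_lit 11],
  [nat_lit 9, nat_lit 11, nat_lit 8, nat_lit 10],
  [nat_lit 6, nat_lit 7, nat_lit 10, nat_lit 9],
  [nat_lit 11, nat_lit 8, nat_lit 13, nat_lit 12, nat_lit 11],
  [nat_lit 5, nat_lit 6, nat_lit 10, nat_lit 9],
  [nat_lit 5, nat_lit 11, nat_lit 8, nat_lit 5, nat_lit 13, nat_lit 12, nat_lit 11],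
  [nat_lit 11, nat_lit 5, nat_lit 13, nat_lit 11, nat_lit 12],
  [nat_lit 13, nat_lit 12, nat_lit 11, nat_lit 8, nat_lit 5, nat_lit 10],
  [nat_lit 5, nat_lit 7, nat_lit 11, nat_lit 13, nat_lit 12],
  [nat_lit 7, nat_lit 10, nat_lit 9, nat_lit 5],
  [nat_lit 5, nat_lit 6, nat_lit 10, nat_lit 8, nat_lit 11],
  [nat_lit 11, nat_lit 13, nat_lit 12, nat_lit 11, nat_lit 8],
  [nat_lit 5, nat_lit 7, nat_lit 11, nat_lit 8, nat_lit 13, nat_lit 12, nat_lit 11],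
  [nat_lit 5, nat_lit 10, nat_lit 8, nat_lit 11, nat_lit 5],
  [nat_lit 5, nat_lit 6, nat_lit 10, nat_lit 9, nat_lit 11, nat_lit 8],
  [nat_lit 11, nat_lit 13, nat_lit 12],
  [nat_lit 5, nat_lit 6, nat_lit 13, nat_lit 12, nat_lit 11, nat_lit 8, nat_lit 10],
  [nat_lit 6, nat_lit 9, nat_lit 11, nat_lit 5, nat_lit 8, nat_lit 10],
  [nat_lit 11, nat_lit 12, nat_lit 11, nat_lit 10, nat_lit 8],
  [nat_lit 5, nat_lit 8, nat_lit 11, nat_lit 12, nat_lit 11, nat_lit 13],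
  [nat_lit 10, nat_lit 5, nat_lit 9, nat_lit 12, nat_lit 13],
  [nat_lit 5, nat_lit 6, nat_lit 11, nat_lit 12],
  [nat_lit 10, nat_lit 5, nat_lit 12, nat_lit 13, nat_lit 11],
  [nat_lit 5, nat_lit 6, nat_lit 9, nat_lit 12, nat_lit 11, nat_lit 5],
  [nat_lit 5, nat_lit 9, nat_lit 5, nat_lit 12, nat_lit 5, nat_lit 11],
  [nat_lit 6, nat_lit 11, nat_lit 12, nat_lit 11, nat_lit 8, nat_lit 10],
  [nat_lit 8, nat_lit 5, nat_lit 9, nat_lit 11, nat_lit 12],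
  [nat_lit 10, nat_lit 8, nat_lit 11, nat_lit 12, nat_lit 13],
  [nat_lit 6, nat_lit 10, nat_lit 9, nat_lit 5, nat_lit 12, nat_lit 13],
  [nat_lit 13, nat_lit 11, nat_lit 10, nat_lit 12, nat_lit 5, nat_lit 12, nat_lit 11],
  [nat_lit 10, nat_lit 9, nat_lit 12, nat_lit 13],
  [nat_lit 10, nat_lit 12, nat_lit 13, nat_lit 11],
  [nat_lit 5, nat_lit 8, nat_lit 11, nat_lit 5, nat_lit 12, nat_lit 11, nat_lit 13],
  [nat_lit 9, nat_lit 12, nat_lit 5, nat_lit 11],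
  [nat_lit 11, nat_lit 9, nat_lit 12, nat_lit 10, nat_lit 11],
  [nat_lit 11, nat_lit 9, nat_lit 12, nat_lit 10, nat_lit 8],
  [nat_lit 5, nat_lit 11, nat_lit 5, nat_lit 12],
  [nat_lit 9, nat_lit 5, nat_lit 10, nat_lit 12, nat_lit 5, nat_lit 9],
  [nat_lit 5, nat_lit 11, nat_lit 5, nat_lit 12, nat_lit 11, nat_lit 8],
  [nat_lit 13, nat_lit 11, nat_lit 10, nat_lit 12, nat_lit 12, nat_lit 11],
  [nat_lit 8, nat_lit 11, nat_lit 12, nat_lit 11, nat_lit 10, nat_lit 13],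
  [nat_lit 5, nat_lit 10, nat_lit 9, nat_lit 12, nat_lit 10, nat_lit 13],
  [nat_lit 6, nat_lit 12, nat_lit 11, nat_lit 5, nat_lit 12, nat_lit 11, nat_lit 8],
  [nat_lit 6, nat_lit 11, nat_lit 12, nat_lit 5, nat_lit 12],
  [nat_lit 8, nat_lit 10, nat_lit 5, nat_lit 8, nat_lit 13],
  [nat_lit 11, nat_lit 12, nat_lit 12, nat_lit 10, nat_lit 11],
  [nat_lit 6, nat_lit 11, nat_lit 13, nat_lit 5],
  [nat_lit 12, nat_lit 11, nat_lit 10, nat_lit 12, nat_lit 10, nat_lit 8],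
  [nat_lit 9, nat_lit 10, nat_lit 9, nat_lit 5, nat_lit 11, nat_lit 13],
  [nat_lit 12, nat_lit 5, nat_lit 11, nat_lit 8, nat_lit 12],
  [nat_lit 12, nat_lit 5, nat_lit 11, nat_lit 8, nat_lit 10, nat_lit 12],
  [nat_lit 9, nat_lit 10, nat_lit 9, nat_lit 11, nat_lit 13],
  [nat_lit 5, nat_lit 11, nat_lit 12, nat_lit 12, nat_lit 10],
  [nat_lit 11, nat_lit 5, nat_lit 13, nat_lit 5],
  [nat_lit 6, nat_lit 10, nat_lit 5, nat_lit 9, nat_lit 10, nat_lit 13],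
  [nat_lit 8, nat_lit 13, nat_lit 11, nat_lit 10, nat_lit 9],
  [nat_lit 9, nat_lit 10, nat_lit 5, nat_lit 9, nat_lit 11, nat_lit 13],
  [nat_lit 9, nat_lit 11, nat_lit 12, nat_lit 12, nat_lit 11, nat_lit 8],
  [nat_lit 6, nat_lit 9, nat_lit 12, nat_lit 11, nat_lit 12],
  [nat_lit 5, nat_lit 10, nat_lit 13, nat_lit 5, nat_lit 9, nat_lit 10],
  [nat_lit 11, nat_lit 13, nat_lit 11, nat_lit 5],
  [nat_lit 6, nat_lit 8, nat_lit 10, nat_lit 8, nat_lit 13],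
  [nat_lit 9, nat_lit 12, nat_lit 10, nat_lit 11, nat_lit 12],
  [nat_lit 12, nat_lit 10, nat_lit 9, nat_lit 11, nat_lit 12],
  [nat_lit 8, nat_lit 13, nat_lit 11, nat_lit 5, nat_lit 8],
  [nat_lit 8, nat_lit 10, nat_lit 5, nat_lit 8, nat_lit 12, nat_lit 12],
  [nat_lit 6, nat_lit 12, nat_lit 11, nat_lit 5, nat_lit 12],
  [nat_lit 12, nat_lit 10, nat_lit 11, nat_lit 12, nat_lit 11, nat_lit 10],
  [nat_lit 12, nat_lit 11, nat_lit 13, nat_lit 5, nat_lit 12],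
  [nat_lit 5, nat_lit 9, nat_lit 5, nat_lit 11, nat_lit 12, nat_lit 12],
  [nat_lit 5, nat_lit 7, nat_lit 9, nat_lit 11, nat_lit 12, nat_lit 12],
  [nat_lit 6, nat_lit 8, nat_lit 13, nat_lit 5, nat_lit 11],
  [nat_lit 5, nat_lit 13, nat_lit 11, nat_lit 5, nat_lit 8, nat_lit 10],
  [nat_lit 8, nat_lit 5, nat_lit 13, nat_lit 5],
  [nat_lit 5, nat_lit 9, nat_lit 11, nat_lit 12, nat_lit 12, nat_lit 11],
  [nat_lit 5, nat_lit 12, nat_lit 5, nat_lit 11, nat_lit 12],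
  [nat_lit 12, nat_lit 5, nat_lit 11, nat_lit 12, nat_lit 11],
  [nat_lit 5, nat_lit 13, nat_lit 5, nat_lit 8, nat_lit 10],
  [nat_lit 8, nat_lit 5, nat_lit 10, nat_lit 9, nat_lit 13],
  [nat_lit 6, nat_lit 13, nat_lit 5, nat_lit 11, nat_lit 8, nat_lit 10],
  [nat_lit 9, nat_lit 11, nat_lit 9, nat_lit 13],
  [nat_lit 5, nat_lit 8, nat_lit 10, nat_lit 5, nat_lit 9, nat_lit 13],
  [nat_lit 5, nat_lit 6, nat_lit 8, nat_lit 10, nat_lit 9, nat_lit 13],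
  [nat_lit 8, nat_lit 12, nat_lit 12, nat_lit 5],
  [nat_lit 8, nat_lit 5, nat_lit 10, nat_lit 12, nat_lit 12],
  [nat_lit 9, nat_lit 11, nat_lit 12, nat_lit 12],
  [nat_lit 7, nat_lit 13, nat_lit 5, nat_lit 8, nat_lit 10],
  [nat_lit 5, nat_lit 6, nat_lit 8, nat_lit 13, nat_lit 5],
  [nat_lit 5, nat_lit 6, nat_lit 8, nat_lit 10, nat_lit 12, nat_lit 12],
  [nat_lit 5, nat_lit 8, nat_lit 10, nat_lit 5, nat_lit 12, nat_lit 12],
  [nat_lit 5, nat_lit 10, nat_lit 9, nat_lit 12, nat_lit 13],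
  [nat_lit 5, nat_lit 10, nat_lit 8, nat_lit 11, nat_lit 12, nat_lit 13],
  [nat_lit 5, nat_lit 10, nat_lit 12, nat_lit 13, nat_lit 11],
  [nat_lit 8, nat_lit 11, nat_lit 5, nat_lit 12, nat_lit 11, nat_lit 13],
  [nat_lit 10, nat_lit 5, nat_lit 9, nat_lit 12, nat_lit 10, nat_lit 13],
  [nat_lit 6, nat_lit 13, nat_lit 11, nat_lit 12, nat_lit 12, nat_lit 5, nat_lit 11],
  [nat_lit 6, nat_lit 12, nat_lit 13, nat_lit 5, nat_lit 8],
  [nat_lit 6, nat_lit 11, nat_lit 12, nat_lit 11, nat_lit 8],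
  [nat_lit 9, nat_lit 10, nat_lit 5, nat_lit 12, nat_lit 5, nat_lit 9],
  [nat_lit 5, nat_lit 8, nat_lit 11, nat_lit 12, nat_lit 11, nat_lit 10, nat_lit 13],
  [nat_lit 11, nat_lit 5, nat_lit 12, nat_lit 11, nat_lit 8],
  [nat_lit 9, nat_lit 5, nat_lit 12, nat_lit 5, nat_lit 8],
  [nat_lit 6, nat_lit 12, nat_lit 13, nat_lit 5, nat_lit 11],
  [nat_lit 6, nat_lit 11, nat_lit 12],
  [nat_lit 10, nat_lit 9, nat_lit 12, nat_lit 10, nat_lit 13],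
  [nat_lit 11, nat_lit 5, nat_lit 12],
  [nat_lit 5, nat_lit 11, nat_lit 9, nat_lit 12, nat_lit 10, nat_lit 11],
  [nat_lit 5, nat_lit 9, nat_lit 12, nat_lit 5, nat_lit 11],
  [nat_lit 9, nat_lit 5, nat_lit 12, nat_lit 5, nat_lit 11],
  [nat_lit 5, nat_lit 13, nat_lit 11, nat_lit 10, nat_lit 12, nat_lit 12, nat_lit 11],
  [nat_lit 8, nat_lit 11, nat_lit 12, nat_lit 11, nat_lit 13],
  [nat_lit 6, nat_lit 9, nat_lit 12, nat_lit 11, nat_lit 5],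
  [nat_lit 11, nat_lit 8, nat_lit 12, nat_lit 10, nat_lit 9],
  [nat_lit 11, nat_lit 9, nat_lit 10, nat_lit 9, nat_lit 5, nat_lit 12],
  [nat_lit 5, nat_lit 12, nat_lit 12, nat_lit 10, nat_lit 11, nat_lit 9, nat_lit 5],
  [nat_lit 8, nat_lit 12, nat_lit 12, nat_lit 10],
  [nat_lit 5, nat_lit 8, nat_lit 10, nat_lit 5, nat_lit 13],
  [nat_lit 5, nat_lit 9, nat_lit 5, nat_lit 11, nat_lit 13],
  [nat_lit 6, nat_lit 12, nat_lit 5, nat_lit 9, nat_lit 12, nat_lit 5],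
  [nat_lit 5, nat_lit 12, nat_lit 5, nat_lit 11, nat_lit 13, nat_lit 12],
  [nat_lit 6, nat_lit 12, nat_lit 12, nat_lit 11, nat_lit 8, nat_lit 10],
  [nat_lit 5, nat_lit 9, nat_lit 10, nat_lit 8, nat_lit 13, nat_lit 11, nat_lit 5],
  [nat_lit 8, nat_lit 5, nat_lit 12, nat_lit 5, nat_lit 12],
  [nat_lit 6, nat_lit 9, nat_lit 11, nat_lit 5, nat_lit 13],
  [nat_lit 5, nat_lit 12, nat_lit 5, nat_lit 11, nat_lit 9, nat_lit 12],
  [nat_lit 12, nat_lit 5, nat_lit 11, nat_lit 9, nat_lit 10, nat_lit 12],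
  [nat_lit 6, nat_lit 9, nat_lit 10, nat_lit 8, nat_lit 13, nat_lit 5],
  [nat_lit 6, nat_lit 9, nat_lit 10, nat_lit 8, nat_lit 13, nat_lit 5, nat_lit 11],
  [nat_lit 9, nat_lit 11, nat_lit 13],
  [nat_lit 5, nat_lit 6, nat_lit 8, nat_lit 10, nat_lit 13],
  [nat_lit 9, nat_lit 11, nat_lit 13, nat_lit 11],
  [nat_lit 6, nat_lit 7, nat_lit 8, nat_lit 10, nat_lit 13],
  [nat_lit 8, nat_lit 5, nat_lit 10, nat_lit 13],
  [nat_lit 8, nat_lit 5, nat_lit 10, nat_lit 9, nat_lit 12, nat_lit 12],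
  [nat_lit 8, nat_lit 12, nat_lit 12, nat_lit 10, nat_lit 11],
  [nat_lit 12, nat_lit 11, nat_lit 12, nat_lit 5, nat_lit 11],
  [nat_lit 10, nat_lit 12, nat_lit 10, nat_lit 11, nat_lit 12],
  [nat_lit 12, nat_lit 11, nat_lit 12, nat_lit 5],
  [nat_lit 12, nat_lit 10, nat_lit 11, nat_lit 8],
  [nat_lit 12, nat_lit 11, nat_lit 10, nat_lit 9, nat_lit 13],
  [nat_lit 9, nat_lit 5, nat_lit 11, nat_lit 12, nat_lit 11],
  [nat_lit 6, nat_lit 12, nat_lit 5, nat_lit 8, nat_lit 13],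
  [nat_lit 6, nat_lit 12, nat_lit 11, nat_lit 8],
  [nat_lit 5, nat_lit 8, nat_lit 11, nat_lit 5, nat_lit 12, nat_lit 13],
  [nat_lit 5, nat_lit 8, nat_lit 11, nat_lit 12, nat_lit 13],
  [nat_lit 6, nat_lit 10, nat_lit 12, nat_lit 11, nat_lit 13, nat_lit 11],
  [nat_lit 7, nat_lit 9, nat_lit 11, nat_lit 12, nat_lit 11],
  [nat_lit 9, nat_lit 10, nat_lit 12, nat_lit 13],
  [nat_lit 5, nat_lit 7, nat_lit 12, nat_lit 5],
  [nat_lit 6, nat_lit 8, nat_lit 5, nat_lit 11, nat_lit 12, nat_lit 13],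
  [nat_lit 8, nat_lit 5, nat_lit 11, nat_lit 9, nat_lit 12],
  [nat_lit 7, nat_lit 12, nat_lit 11, nat_lit 8, nat_lit 10],
  [nat_lit 5, nat_lit 9, nat_lit 5, nat_lit 10, nat_lit 12, nat_lit 13],
  [nat_lit 8, nat_lit 5, nat_lit 10, nat_lit 12, nat_lit 5, nat_lit 8],
  [nat_lit 9, nat_lit 10, nat_lit 5, nat_lit 12, nat_lit 13],
  [nat_lit 12, nat_lit 5, nat_lit 9, nat_lit 10, nat_lit 8],
  [nat_lit 6, nat_lit 13, nat_lit 11, nat_lit 12, nat_lit 11, nat_lit 12, nat_lit 11],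
  [nat_lit 12, nat_lit 5],
  [nat_lit 5, nat_lit 9, nat_lit 11, nat_lit 12, nat_lit 11],
  [nat_lit 9, nat_lit 11, nat_lit 12, nat_lit 11, nat_lit 10, nat_lit 8, nat_lit 13],
  [nat_lit 5, nat_lit 12, nat_lit 11, nat_lit 13, nat_lit 5, nat_lit 11],
  [nat_lit 5, nat_lit 12, nat_lit 11, nat_lit 8, nat_lit 10],
  [nat_lit 5, nat_lit 13, nat_lit 12, nat_lit 11],
  [nat_lit 8, nat_lit 11, nat_lit 8, nat_lit 10, nat_lit 13, nat_lit 12],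
  [nat_lit 5, nat_lit 9, nat_lit 11, nat_lit 10, nat_lit 8, nat_lit 11],
  [nat_lit 9, nat_lit 5, nat_lit 11, nat_lit 10, nat_lit 8, nat_lit 11],
  [nat_lit 13, nat_lit 5, nat_lit 8, nat_lit 11, nat_lit 10, nat_lit 12],
  [nat_lit 8, nat_lit 13, nat_lit 5, nat_lit 11, nat_lit 12],
  [nat_lit 6, nat_lit 8, nat_lit 13, nat_lit 12, nat_lit 10],
  [nat_lit 8, nat_lit 13, nat_lit 12, nat_lit 10, nat_lit 5],
  [nat_lit 8, nat_lit 10, nat_lit 5, nat_lit 11, nat_lit 9, nat_lit 10],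
  [nat_lit 9, nat_lit 5, nat_lit 9, nat_lit 10],
  [nat_lit 13, nat_lit 5, nat_lit 11, nat_lit 8, nat_lit 10, nat_lit 12],
  [nat_lit 6, nat_lit 9, nat_lit 11],
  [nat_lit 5, nat_lit 6, nat_lit 9, nat_lit 5, nat_lit 11],
  [nat_lit 5, nat_lit 8, nat_lit 10],
  [nat_lit 7, nat_lit 8, nat_lit 10],
  [nat_lit 5, nat_lit 13, nat_lit 11, nat_lit 12, nat_lit 11],
  [nat_lit 7, nat_lit 13, nat_lit 5, nat_lit 8, nat_lit 10, nat_lit 12, nat_lit 5],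
  [nat_lit 6, nat_lit 8, nat_lit 5, nat_lit 10],
  [nat_lit 8, nat_lit 11, nat_lit 8, nat_lit 10, nat_lit 8],
  [nat_lit 9, nat_lit 11, nat_lit 5],
  [nat_lit 5, nat_lit 6, nat_lit 7, nat_lit 9, nat_lit 11],
  [nat_lit 7, nat_lit 13, nat_lit 12, nat_lit 11],
  [nat_lit 7, nat_lit 13, nat_lit 11, nat_lit 12, nat_lit 11],
  [nat_lit 5, nat_lit 8, nat_lit 13, nat_lit 5, nat_lit 12],
  [nat_lit 13, nat_lit 11, nat_lit 10, nat_lit 12, nat_lit 5],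
  [nat_lit 6, nat_lit 9, nat_lit 10, nat_lit 8, nat_lit 11],
  [nat_lit 10, nat_lit 13, nat_lit 12, nat_lit 10, nat_lit 8],
  [nat_lit 5, nat_lit 6, nat_lit 11, nat_lit 9],
  [nat_lit 5, nat_lit 6, nat_lit 11, nat_lit 8, nat_lit 10],
  [nat_lit 5, nat_lit 10, nat_lit 8, nat_lit 5, nat_lit 13, nat_lit 12, nat_lit 10],
  [nat_lit 6, nat_lit 11, nat_lit 8, nat_lit 5, nat_lit 10],
  [nat_lit 10, nat_lit 8, nat_lit 13, nat_lit 12, nat_lit 10, nat_lit 5],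
  [nat_lit 10, nat_lit 8, nat_lit 13, nat_lit 12, nat_lit 10],
  [nat_lit 13, nat_lit 11, nat_lit 10, nat_lit 12, nat_lit 10, nat_lit 8],
  [nat_lit 5, nat_lit 11, nat_lit 5, nat_lit 9],
  [nat_lit 5, nat_lit 6, nat_lit 11, nat_lit 9, nat_lit 5],
  [nat_lit 5, nat_lit 11, nat_lit 5, nat_lit 9, nat_lit 5],
  [nat_lit 11, nat_lit 5, nat_lit 8, nat_lit 5, nat_lit 10],
  [nat_lit 6, nat_lit 9, nat_lit 10, nat_lit 5, nat_lit 8, nat_lit 11],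
  [nat_lit 10, nat_lit 13, nat_lit 12],
  [nat_lit 5, nat_lit 11, nat_lit 5, nat_lit 8, nat_lit 10],
  [nat_lit 5, nat_lit 13, nat_lit 12, nat_lit 10, nat_lit 8, nat_lit 11],
  [nat_lit 10, nat_lit 13, nat_lit 12, nat_lit 10, nat_lit 8, nat_lit 5],
  [nat_lit 5, nat_lit 6, nat_lit 11, nat_lit 9, nat_lit 10, nat_lit 8],
  [nat_lit 13, nat_lit 11, nat_lit 10, nat_lit 12],
  [nat_lit 10, nat_lit 5, nat_lit 8, nat_lit 13, nat_lit 12, nat_lit 10],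
  [nat_lit 8, nat_lit 10, nat_lit 5, nat_lit 9, nat_lit 10, nat_lit 11],
  [nat_lit 10, nat_lit 5, nat_lit 13, nat_lit 12],
  [nat_lit 8, nat_lit 12, nat_lit 12, nat_lit 11, nat_lit 13, nat_lit 11],
  [nat_lit 8, nat_lit 11, nat_lit 10, nat_lit 9, nat_lit 11],
  [nat_lit 8, nat_lit 13, nat_lit 11, nat_lit 12, nat_lit 11],
  [nat_lit 5, nat_lit 9, nat_lit 5, nat_lit 10],
  [nat_lit 7, nat_lit 8, nat_lit 11],
  [nat_lit 8, nat_lit 10, nat_lit 5, nat_lit 8, nat_lit 11, nat_lit 8],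
  [nat_lit 6, nat_lit 8, nat_lit 5, nat_lit 11],
  [nat_lit 8, nat_lit 10, nat_lit 8, nat_lit 11, nat_lit 5, nat_lit 13, nat_lit 12],
  [nat_lit 5, nat_lit 7, nat_lit 9, nat_lit 10],
  [nat_lit 8, nat_lit 5, nat_lit 10, nat_lit 13, nat_lit 5, nat_lit 9, nat_lit 12],
  [nat_lit 5, nat_lit 8, nat_lit 11],
  [nat_lit 9, nat_lit 10],
  [nat_lit 5, nat_lit 9, nat_lit 10, nat_lit 11, nat_lit 8, nat_lit 10],
  [nat_lit 6, nat_lit 8, nat_lit 13, nat_lit 12, nat_lit 11],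
  [nat_lit 12, nat_lit 5, nat_lit 12, nat_lit 11, nat_lit 13],
  [nat_lit 5, nat_lit 9, nat_lit 11, nat_lit 10, nat_lit 13, nat_lit 12, nat_lit 11],
  [nat_lit 13, nat_lit 11, nat_lit 5, nat_lit 12],
  [nat_lit 8, nat_lit 10, nat_lit 8, nat_lit 11, nat_lit 13, nat_lit 12],
  [nat_lit 13, nat_lit 5, nat_lit 12],
  [nat_lit 5, nat_lit 8, nat_lit 11, nat_lit 5],
  [nat_lit 9, nat_lit 5, nat_lit 10, nat_lit 11, nat_lit 8, nat_lit 10],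
  [nat_lit 6, nat_lit 8, nat_lit 13, nat_lit 12, nat_lit 11, nat_lit 5],
  [nat_lit 13, nat_lit 5, nat_lit 12, nat_lit 5],
  [nat_lit 9, nat_lit 10, nat_lit 5],
  [nat_lit 5, nat_lit 6, nat_lit 9, nat_lit 12, nat_lit 5],
  [nat_lit 5, nat_lit 10, nat_lit 8, nat_lit 5, nat_lit 12, nat_lit 5, nat_lit 13],
  [nat_lit 8, nat_lit 12, nat_lit 11, nat_lit 5, nat_lit 13],
  [nat_lit 13, nat_lit 11, nat_lit 12, nat_lit 12, nat_lit 5],
  [nat_lit 5, nat_lit 9, nat_lit 12, nat_lit 10, nat_lit 5],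
  [nat_lit 5, nat_lit 10, nat_lit 13, nat_lit 11, nat_lit 12, nat_lit 12],
  [nat_lit 13, nat_lit 11, nat_lit 13, nat_lit 11, nat_lit 12, nat_lit 11],
  [nat_lit 11, nat_lit 8, nat_lit 10, nat_lit 5, nat_lit 12],
  [nat_lit 11, nat_lit 9, nat_lit 12],
  [nat_lit 8, nat_lit 5, nat_lit 12, nat_lit 5, nat_lit 11, nat_lit 13],
  [nat_lit 10, nat_lit 12, nat_lit 5, nat_lit 9, nat_lit 13],
  [nat_lit 12, nat_lit 13, nat_lit 5],
  [nat_lit 5, nat_lit 7, nat_lit 11, nat_lit 8, nat_lit 10, nat_lit 12],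
  [nat_lit 5, nat_lit 7, nat_lit 11, nat_lit 12, nat_lit 11],
  [nat_lit 11, nat_lit 12, nat_lit 11],
  [nat_lit 11, nat_lit 8, nat_lit 10, nat_lit 12],
  [nat_lit 10, nat_lit 9, nat_lit 12, nat_lit 13, nat_lit 11, nat_lit 10],
  [nat_lit 5, nat_lit 11, nat_lit 8, nat_lit 5, nat_lit 10, nat_lit 12],
  [nat_lit 9, nat_lit 5, nat_lit 10, nat_lit 8, nat_lit 11, nat_lit 12],
  [nat_lit 5, nat_lit 10, nat_lit 9, nat_lit 5, nat_lit 12, nat_lit 13, nat_lit 11],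
  [nat_lit 10, nat_lit 5, nat_lit 12, nat_lit 5, nat_lit 9, nat_lit 13],
  [nat_lit 9, nat_lit 12, nat_lit 5, nat_lit 10],
  [nat_lit 10, nat_lit 12, nat_lit 10, nat_lit 13],
  [nat_lit 10, nat_lit 5, nat_lit 8, nat_lit 12, nat_lit 5, nat_lit 13],
  [nat_lit 5, nat_lit 10, nat_lit 12, nat_lit 12, nat_lit 11],
  [nat_lit 5, nat_lit 6, nat_lit 11, nat_lit 9, nat_lit 13],
  [nat_lit 9, nat_lit 5, nat_lit 10, nat_lit 13, nat_lit 5, nat_lit 9],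
  [nat_lit 5, nat_lit 9, nat_lit 10, nat_lit 13, nat_lit 5, nat_lit 9],
  [nat_lit 8, nat_lit 11, nat_lit 13, nat_lit 5, nat_lit 10],
  [nat_lit 9, nat_lit 13, nat_lit 5, nat_lit 10, nat_lit 9],
  [nat_lit 10, nat_lit 12, nat_lit 12, nat_lit 10, nat_lit 9],
  [nat_lit 10, nat_lit 5, nat_lit 12, nat_lit 12],
  [nat_lit 5, nat_lit 12, nat_lit 5, nat_lit 12, nat_lit 5, nat_lit 9],
  [nat_lit 6, nat_lit 11, nat_lit 8, nat_lit 5, nat_lit 10, nat_lit 13],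
  [nat_lit 5, nat_lit 11, nat_lit 13, nat_lit 11, nat_lit 8],
  [nat_lit 5, nat_lit 8, nat_lit 12, nat_lit 5, nat_lit 10, nat_lit 11, nat_lit 12],
  [nat_lit 12, nat_lit 5, nat_lit 12, nat_lit 5, nat_lit 9, nat_lit 11],
  [nat_lit 8, nat_lit 12, nat_lit 5, nat_lit 11, nat_lit 12],
  [nat_lit 10, nat_lit 12, nat_lit 5, nat_lit 9, nat_lit 10, nat_lit 12],
  [nat_lit 8, nat_lit 5, nat_lit 12, nat_lit 11, nat_lit 5, nat_lit 12],
  [nat_lit 13, nat_lit 11, nat_lit 8, nat_lit 5],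
  [nat_lit 5, nat_lit 6, nat_lit 11, nat_lit 8, nat_lit 10, nat_lit 13],
  [nat_lit 11, nat_lit 8, nat_lit 13, nat_lit 11, nat_lit 10],
  [nat_lit 10, nat_lit 5, nat_lit 8, nat_lit 12, nat_lit 12, nat_lit 10],
  [nat_lit 9, nat_lit 10, nat_lit 13, nat_lit 5, nat_lit 9, nat_lit 11],
  [nat_lit 9, nat_lit 13, nat_lit 5],
  [nat_lit 6, nat_lit 12, nat_lit 12, nat_lit 5, nat_lit 11],
  [nat_lit 10, nat_lit 12, nat_lit 12],
  [nat_lit 5, nat_lit 12, nat_lit 12, nat_lit 11, nat_lit 13, nat_lit 11],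
  [nat_lit 5, nat_lit 9, nat_lit 10, nat_lit 9, nat_lit 11, nat_lit 9],
  [nat_lit 5, nat_lit 6, nat_lit 13, nat_lit 12, nat_lit 11],
  [nat_lit 5, nat_lit 6, nat_lit 13, nat_lit 11, nat_lit 12, nat_lit 11],
  [nat_lit 5, nat_lit 9, nat_lit 5, nat_lit 11],
  [nat_lit 5, nat_lit 8, nat_lit 10, nat_lit 5],
  [nat_lit 9, nat_lit 11],
  [nat_lit 6, nat_lit 7, nat_lit 8, nat_lit 10],
  [nat_lit 8, nat_lit 5, nat_lit 10],
  [nat_lit 5, nat_lit 7, nat_lit 9, nat_lit 11],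
  [nat_lit 5, nat_lit 8, nat_lit 13, nat_lit 5, nat_lit 12, nat_lit 5],
  [nat_lit 7, nat_lit 13, nat_lit 5, nat_lit 8, nat_lit 10, nat_lit 12],
  [nat_lit 6, nat_lit 9, nat_lit 11, nat_lit 5],
  [nat_lit 5, nat_lit 13, nat_lit 12, nat_lit 11, nat_lit 5],
  [nat_lit 5, nat_lit 6, nat_lit 8, nat_lit 10],
  [nat_lit 6, nat_lit 13, nat_lit 5, nat_lit 11, nat_lit 8, nat_lit 10, nat_lit 12],
  [nat_lit 8, nat_lit 13, nat_lit 12, nat_lit 10],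
  [nat_lit 8, nat_lit 10, nat_lit 11, nat_lit 9, nat_lit 10],
  [nat_lit 8, nat_lit 5, nat_lit 13, nat_lit 5, nat_lit 12],
  [nat_lit 8, nat_lit 11, nat_lit 8, nat_lit 10, nat_lit 5, nat_lit 8],
  [nat_lit 5, nat_lit 13, nat_lit 5, nat_lit 8, nat_lit 10, nat_lit 12],
  [nat_lit 5, nat_lit 13, nat_lit 11, nat_lit 5, nat_lit 8, nat_lit 10, nat_lit 12],
  [nat_lit 5, nat_lit 6, nat_lit 8, nat_lit 13, nat_lit 5, nat_lit 12],
  [nat_lit 10, nat_lit 8, nat_lit 5, nat_lit 10, nat_lit 11, nat_lit 9],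
  [nat_lit 13, nat_lit 11, nat_lit 9, nat_lit 10, nat_lit 9],
  [nat_lit 9, nat_lit 12, nat_lit 11, nat_lit 12],
  [nat_lit 9, nat_lit 12, nat_lit 11, nat_lit 10, nat_lit 12],
  [nat_lit 5, nat_lit 10, nat_lit 8, nat_lit 11, nat_lit 10, nat_lit 13, nat_lit 11],
  [nat_lit 5, nat_lit 11, nat_lit 13, nat_lit 5, nat_lit 11],
  [nat_lit 5, nat_lit 7, nat_lit 11, nat_lit 13, nat_lit 5],
  [nat_lit 10, nat_lit 5, nat_lit 8, nat_lit 11, nat_lit 10, nat_lit 13],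
  [nat_lit 6, nat_lit 11, nat_lit 13, nat_lit 11, nat_lit 5],
  [nat_lit 10, nat_lit 8, nat_lit 11, nat_lit 10, nat_lit 13],
  [nat_lit 8, nat_lit 10, nat_lit 8, nat_lit 13],
  [nat_lit 11, nat_lit 12, nat_lit 12, nat_lit 11, nat_lit 10],
  [nat_lit 11, nat_lit 12, nat_lit 5, nat_lit 10, nat_lit 12],
  [nat_lit 8, nat_lit 10, nat_lit 13, nat_lit 11, nat_lit 9],
  [nat_lit 5, nat_lit 7, nat_lit 9, nat_lit 12, nat_lit 11, nat_lit 12],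
  [nat_lit 6, nat_lit 12, nat_lit 5, nat_lit 11, nat_lit 8, nat_lit 12],
  [nat_lit 5, nat_lit 12, nat_lit 11, nat_lit 5, nat_lit 8, nat_lit 12],
  [nat_lit 5, nat_lit 9, nat_lit 5, nat_lit 12, nat_lit 11, nat_lit 12],
  [nat_lit 12, nat_lit 11, nat_lit 5, nat_lit 12, nat_lit 11, nat_lit 8],
  [nat_lit 10, nat_lit 5, nat_lit 9, nat_lit 10, nat_lit 13],
  [nat_lit 11, nat_lit 12, nat_lit 5, nat_lit 12],
  [nat_lit 5, nat_lit 12, nat_lit 11, nat_lit 12, nat_lit 11, nat_lit 10, nat_lit 8],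
  [nat_lit 5, nat_lit 11, nat_lit 12, nat_lit 5, nat_lit 12, nat_lit 11],
  [nat_lit 10, nat_lit 13, nat_lit 5, nat_lit 9, nat_lit 11, nat_lit 10],
  [nat_lit 11, nat_lit 13, nat_lit 5],
  [nat_lit 5, nat_lit 6, nat_lit 9, nat_lit 10, nat_lit 13, nat_lit 12],
  [nat_lit 9, nat_lit 5, nat_lit 10, nat_lit 9],
  [nat_lit 7, nat_lit 10, nat_lit 9, nat_lit 11, nat_lit 10],
  [nat_lit 5, nat_lit 13, nat_lit 5, nat_lit 9, nat_lit 12],
  [nat_lit 8, nat_lit 11, nat_lit 5, nat_lit 9, nat_lit 5],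
  [nat_lit 11, nat_lit 13, nat_lit 12, nat_lit 10, nat_lit 11],
  [nat_lit 5, nat_lit 9, nat_lit 10, nat_lit 9],
  [nat_lit 11, nat_lit 13, nat_lit 11, nat_lit 12, nat_lit 11, nat_lit 10],
  [nat_lit 8, nat_lit 11, nat_lit 9, nat_lit 5],
  [nat_lit 5, nat_lit 13, nat_lit 5, nat_lit 9, nat_lit 11, nat_lit 12],
  [nat_lit 8, nat_lit 11, nat_lit 9],
  [nat_lit 7, nat_lit 9, nat_lit 10, nat_lit 9],
  [nat_lit 5, nat_lit 10, nat_lit 9, nat_lit 11, nat_lit 10],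
  [nat_lit 6, nat_lit 9, nat_lit 5, nat_lit 10, nat_lit 13, nat_lit 12],
  [nat_lit 9, nat_lit 12, nat_lit 12, nat_lit 5, nat_lit 13],
  [nat_lit 11, nat_lit 5, nat_lit 13, nat_lit 12, nat_lit 11, nat_lit 10],
  [nat_lit 8, nat_lit 10, nat_lit 8, nat_lit 5, nat_lit 11],
  [nat_lit 8, nat_lit 5, nat_lit 8, nat_lit 10, nat_lit 13, nat_lit 12],
  [nat_lit 5, nat_lit 8, nat_lit 5, nat_lit 11, nat_lit 13, nat_lit 12],
  [nat_lit 5, nat_lit 11, nat_lit 13, nat_lit 11, nat_lit 5, nat_lit 12, nat_lit 11],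
  [nat_lit 8, nat_lit 11, nat_lit 5, nat_lit 9],
  [nat_lit 10, nat_lit 8, nat_lit 5, nat_lit 10],
  [nat_lit 8, nat_lit 5, nat_lit 10, nat_lit 8, nat_lit 11],
  [nat_lit 6, nat_lit 8, nat_lit 11, nat_lit 13, nat_lit 12],
  [nat_lit 8, nat_lit 10, nat_lit 12, nat_lit 12],
  [nat_lit 5, nat_lit 7, nat_lit 8, nat_lit 13, nat_lit 5],
  [nat_lit 5, nat_lit 13, nat_lit 5, nat_lit 11, nat_lit 8, nat_lit 10],
  [nat_lit 8, nat_lit 10, nat_lit 13, nat_lit 11, nat_lit 8],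
  [nat_lit 5, nat_lit 8, nat_lit 10, nat_lit 12, nat_lit 10, nat_lit 12],
  [nat_lit 5, nat_lit 6, nat_lit 8, nat_lit 12, nat_lit 12, nat_lit 5],
  [nat_lit 8, nat_lit 5, nat_lit 12, nat_lit 12, nat_lit 5],
  [nat_lit 5, nat_lit 9, nat_lit 11, nat_lit 5, nat_lit 12, nat_lit 12],
  [nat_lit 6, nat_lit 12, nat_lit 5, nat_lit 11, nat_lit 12],
  [nat_lit 5, nat_lit 7, nat_lit 8, nat_lit 10, nat_lit 9, nat_lit 13],
  [nat_lit 13, nat_lit 11, nat_lit 9, nat_lit 10, nat_lit 8],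
  [nat_lit 5, nat_lit 6, nat_lit 9, nat_lit 11, nat_lit 12, nat_lit 12],
  [nat_lit 12, nat_lit 11, nat_lit 5, nat_lit 12, nat_lit 11],
  [nat_lit 8, nat_lit 10, nat_lit 9, nat_lit 13],
  [nat_lit 5, nat_lit 12, nat_lit 11, nat_lit 5, nat_lit 12],
  [nat_lit 5, nat_lit 12, nat_lit 11, nat_lit 12, nat_lit 11, nat_lit 10],
  [nat_lit 6, nat_lit 8, nat_lit 13, nat_lit 11, nat_lit 5],
  [nat_lit 6, nat_lit 13, nat_lit 5, nat_lit 8, nat_lit 10],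
  [nat_lit 8, nat_lit 12, nat_lit 5, nat_lit 8, nat_lit 12],
  [nat_lit 6, nat_lit 9, nat_lit 5, nat_lit 11, nat_lit 12, nat_lit 12],
  [nat_lit 6, nat_lit 13, nat_lit 11, nat_lit 5, nat_lit 8, nat_lit 10],
  [nat_lit 13, nat_lit 11, nat_lit 9, nat_lit 5],
  [nat_lit 5, nat_lit 8, nat_lit 11, nat_lit 8, nat_lit 10, nat_lit 13],
  [nat_lit 8, nat_lit 13, nat_lit 5],
  [nat_lit 6, nat_lit 13],
  [nat_lit 5, nat_lit 9, nat_lit 12, nat_lit 12],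
  [nat_lit 9, nat_lit 5, nat_lit 12, nat_lit 12],
  [nat_lit 12, nat_lit 5, nat_lit 12, nat_lit 11, nat_lit 8, nat_lit 5],
  [nat_lit 9, nat_lit 10, nat_lit 9, nat_lit 5, nat_lit 13, nat_lit 5],
  [nat_lit 5, nat_lit 9, nat_lit 11, nat_lit 10, nat_lit 9, nat_lit 13],
  [nat_lit 8, nat_lit 10, nat_lit 11, nat_lit 8, nat_lit 5, nat_lit 13],
  [nat_lit 6, nat_lit 11, nat_lit 12, nat_lit 11, nat_lit 5, nat_lit 12, nat_lit 11],
  [nat_lit 8, nat_lit 11, nat_lit 10, nat_lit 12, nat_lit 12, nat_lit 11],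
  [nat_lit 5, nat_lit 11, nat_lit 12, nat_lit 5, nat_lit 11, nat_lit 12],
  [nat_lit 9, nat_lit 5, nat_lit 11, nat_lit 10, nat_lit 9, nat_lit 13],
  [nat_lit 13, nat_lit 5, nat_lit 9, nat_lit 10, nat_lit 9],
  [nat_lit 9, nat_lit 10, nat_lit 9, nat_lit 13, nat_lit 5],
  [nat_lit 6, nat_lit 11, nat_lit 12, nat_lit 11, nat_lit 5, nat_lit 12],
  [nat_lit 6, nat_lit 13, nat_lit 11],
  [nat_lit 5, nat_lit 8, nat_lit 10, nat_lit 11, nat_lit 8, nat_lit 13],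
  [nat_lit 5, nat_lit 6, nat_lit 7, nat_lit 13],
  [nat_lit 5, nat_lit 11, nat_lit 12, nat_lit 5, nat_lit 11, nat_lit 12, nat_lit 11],
  [nat_lit 8, nat_lit 13, nat_lit 11, nat_lit 8],
  [nat_lit 7, nat_lit 9, nat_lit 12, nat_lit 12],
  [nat_lit 8, nat_lit 5, nat_lit 11, nat_lit 12, nat_lit 12, nat_lit 5],
  [nat_lit 8, nat_lit 11, nat_lit 10, nat_lit 12, nat_lit 12],
  [nat_lit 8, nat_lit 5, nat_lit 11, nat_lit 10, nat_lit 8, nat_lit 13],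
  [nat_lit 7, nat_lit 9, nat_lit 12, nat_lit 12, nat_lit 11],
  [nat_lit 5, nat_lit 7, nat_lit 13, nat_lit 5],
  [nat_lit 8, nat_lit 10, nat_lit 8, nat_lit 11, nat_lit 13],
  [nat_lit 8, nat_lit 12, nat_lit 12, nat_lit 10, nat_lit 5, nat_lit 9],
  [nat_lit 10, nat_lit 13, nat_lit 11, nat_lit 9, nat_lit 10],
  [nat_lit 8, nat_lit 12, nat_lit 5, nat_lit 12, nat_lit 5, nat_lit 9, nat_lit 11],
  [nat_lit 12, nat_lit 11, nat_lit 10, nat_lit 9, nat_lit 12],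
  [nat_lit 9, nat_lit 10, nat_lit 12, nat_lit 12],
  [nat_lit 5, nat_lit 8, nat_lit 11, nat_lit 5, nat_lit 12, nat_lit 12],
  [nat_lit 5, nat_lit 12, nat_lit 12, nat_lit 10, nat_lit 11, nat_lit 8],
  [nat_lit 5, nat_lit 8, nat_lit 11, nat_lit 12, nat_lit 12],
  [nat_lit 8, nat_lit 5, nat_lit 12, nat_lit 5, nat_lit 12, nat_lit 5, nat_lit 9],
  [nat_lit 9, nat_lit 13, nat_lit 11, nat_lit 10, nat_lit 8],
  [nat_lit 6, nat_lit 9, nat_lit 10, nat_lit 5, nat_lit 9, nat_lit 13],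
  [nat_lit 13, nat_lit 5],
  [nat_lit 5, nat_lit 8, nat_lit 10, nat_lit 12, nat_lit 5, nat_lit 9, nat_lit 12],
  [nat_lit 8, nat_lit 10, nat_lit 13, nat_lit 5, nat_lit 9, nat_lit 11],
  [nat_lit 8, nat_lit 5, nat_lit 10, nat_lit 13, nat_lit 5, nat_lit 9],
  [nat_lit 5, nat_lit 6, nat_lit 13, nat_lit 5, nat_lit 11],
  [nat_lit 6, nat_lit 9, nat_lit 10, nat_lit 9, nat_lit 13],
  [nat_lit 6, nat_lit 12, nat_lit 5, nat_lit 8, nat_lit 12],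
  [nat_lit 9, nat_lit 10, nat_lit 5, nat_lit 12, nat_lit 12],
  [nat_lit 8, nat_lit 10, nat_lit 8, nat_lit 11, nat_lit 5, nat_lit 13],
  [nat_lit 9, nat_lit 12, nat_lit 12, nat_lit 5, nat_lit 11],
  [nat_lit 13, nat_lit 11, nat_lit 5],
  [nat_lit 10, nat_lit 13, nat_lit 11, nat_lit 13, nat_lit 11],
  [nat_lit 5, nat_lit 7, nat_lit 11, nat_lit 10, nat_lit 9],
  [nat_lit 5, nat_lit 11, nat_lit 10, nat_lit 8, nat_lit 13, nat_lit 12],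
  [nat_lit 13, nat_lit 11, nat_lit 10, nat_lit 8, nat_lit 5, nat_lit 12],
  [nat_lit 7, nat_lit 11, nat_lit 10, nat_lit 13, nat_lit 11, nat_lit 12],
  [nat_lit 10, nat_lit 9, nat_lit 13, nat_lit 5, nat_lit 12],
  [nat_lit 7, nat_lit 10, nat_lit 11, nat_lit 9, nat_lit 5],
  [nat_lit 10, nat_lit 11, nat_lit 8, nat_lit 5, nat_lit 13, nat_lit 12],
  [nat_lit 7, nat_lit 11, nat_lit 10, nat_lit 13, nat_lit 12],
  [nat_lit 10, nat_lit 9, nat_lit 5, nat_lit 8, nat_lit 11],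
  [nat_lit 5, nat_lit 10, nat_lit 11, nat_lit 8, nat_lit 5],
  [nat_lit 5, nat_lit 7, nat_lit 11, nat_lit 10, nat_lit 8],
  [nat_lit 5, nat_lit 11, nat_lit 10, nat_lit 13, nat_lit 11, nat_lit 9, nat_lit 12],
  [nat_lit 11, nat_lit 10, nat_lit 9],
  [nat_lit 7, nat_lit 11, nat_lit 10, nat_lit 8, nat_lit 13, nat_lit 12],
  [nat_lit 5, nat_lit 11, nat_lit 10, nat_lit 13, nat_lit 12],
  [nat_lit 9, nat_lit 5, nat_lit 13, nat_lit 12, nat_lit 10, nat_lit 11],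
  [nat_lit 5, nat_lit 11, nat_lit 10, nat_lit 13, nat_lit 11, nat_lit 12],
  [nat_lit 5, nat_lit 10, nat_lit 11, nat_lit 9, nat_lit 5],
  [nat_lit 11, nat_lit 10, nat_lit 8],
  [nat_lit 11, nat_lit 10],
  [nat_lit 7, nat_lit 10, nat_lit 11, nat_lit 8, nat_lit 5],
  [nat_lit 5, nat_lit 7, nat_lit 11, nat_lit 10],
  [nat_lit 5, nat_lit 9, nat_lit 13, nat_lit 12, nat_lit 10, nat_lit 11],
  [nat_lit 12, nat_lit 10],
  [nat_lit 12, nat_lit 11, nat_lit 10, nat_lit 13, nat_lit 11],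
  [nat_lit 9, nat_lit 5, nat_lit 11, nat_lit 10, nat_lit 9, nat_lit 12],
  [nat_lit 8, nat_lit 11, nat_lit 10, nat_lit 12, nat_lit 13],
  [nat_lit 5, nat_lit 9, nat_lit 12, nat_lit 13],
  [nat_lit 7, nat_lit 9, nat_lit 12, nat_lit 13],
  [nat_lit 6, nat_lit 12],
  [nat_lit 9, nat_lit 5, nat_lit 12, nat_lit 13],
  [nat_lit 12, nat_lit 11, nat_lit 8, nat_lit 5],
  [nat_lit 12, nat_lit 11, nat_lit 13, nat_lit 11],
  [nat_lit 12, nat_lit 11, nat_lit 10, nat_lit 8, nat_lit 5],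
  [nat_lit 5, nat_lit 8, nat_lit 5, nat_lit 10, nat_lit 11, nat_lit 12, nat_lit 13],
  [nat_lit 8, nat_lit 5, nat_lit 11, nat_lit 8, nat_lit 12, nat_lit 11],
  [nat_lit 9, nat_lit 12, nat_lit 10, nat_lit 8],
  [nat_lit 5, nat_lit 6, nat_lit 9, nat_lit 12, nat_lit 10, nat_lit 13],
  [nat_lit 5, nat_lit 7, nat_lit 12, nat_lit 5, nat_lit 9, nat_lit 11],
  [nat_lit 5, nat_lit 6, nat_lit 8, nat_lit 11, nat_lit 12, nat_lit 13, nat_lit 5],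
  [nat_lit 6, nat_lit 8, nat_lit 12, nat_lit 10, nat_lit 9],
  [nat_lit 12, nat_lit 5, nat_lit 9, nat_lit 10, nat_lit 11],
  [nat_lit 8, nat_lit 5, nat_lit 11, nat_lit 12, nat_lit 13, nat_lit 5],
  [nat_lit 9, nat_lit 5, nat_lit 11, nat_lit 12, nat_lit 13, nat_lit 5, nat_lit 9],
  [nat_lit 8, nat_lit 12, nat_lit 5, nat_lit 10, nat_lit 9, nat_lit 11, nat_lit 13],
  [nat_lit 6, nat_lit 12, nat_lit 11, nat_lit 8, nat_lit 5, nat_lit 10],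
  [nat_lit 12, nat_lit 5, nat_lit 9, nat_lit 11],
  [nat_lit 8, nat_lit 10, nat_lit 13, nat_lit 11, nat_lit 12],
  [nat_lit 7, nat_lit 8, nat_lit 11, nat_lit 8, nat_lit 10],
  [nat_lit 5, nat_lit 6, nat_lit 9, nat_lit 11, nat_lit 9],
  [nat_lit 10, nat_lit 13, nat_lit 12, nat_lit 10, nat_lit 11],
  [nat_lit 6, nat_lit 9, nat_lit 5, nat_lit 11, nat_lit 13, nat_lit 12],
  [nat_lit 5, nat_lit 7, nat_lit 8, nat_lit 10, nat_lit 9],
  [nat_lit 6, nat_lit 8, nat_lit 10, nat_lit 5, nat_lit 9],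
  [nat_lit 12, nat_lit 11, nat_lit 5, nat_lit 12, nat_lit 11, nat_lit 13],
  [nat_lit 5, nat_lit 8, nat_lit 11, nat_lit 8, nat_lit 10],
  [nat_lit 13, nat_lit 11, nat_lit 9, nat_lit 10, nat_lit 12],
  [nat_lit 5, nat_lit 9, nat_lit 11, nat_lit 5, nat_lit 9],
  [nat_lit 8, nat_lit 13, nat_lit 5, nat_lit 13],
  [nat_lit 5, nat_lit 6, nat_lit 9, nat_lit 11, nat_lit 13, nat_lit 12],
  [nat_lit 5, nat_lit 11, nat_lit 9, nat_lit 5, nat_lit 11, nat_lit 10],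
  [nat_lit 10, nat_lit 13, nat_lit 11, nat_lit 12, nat_lit 11, nat_lit 10],
  [nat_lit 8, nat_lit 13, nat_lit 5, nat_lit 9, nat_lit 12],
  [nat_lit 5, nat_lit 9, nat_lit 11, nat_lit 5, nat_lit 13, nat_lit 12],
  [nat_lit 8, nat_lit 10, nat_lit 5, nat_lit 9, nat_lit 5],
  [nat_lit 5, nat_lit 9, nat_lit 11, nat_lit 9, nat_lit 5],
  [nat_lit 5, nat_lit 8, nat_lit 11, nat_lit 5, nat_lit 8, nat_lit 10],
  [nat_lit 8, nat_lit 10, nat_lit 13, nat_lit 12],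
  [nat_lit 5, nat_lit 12, nat_lit 11, nat_lit 5, nat_lit 12, nat_lit 13],
  [nat_lit 8, nat_lit 10, nat_lit 9],
  [nat_lit 5, nat_lit 7, nat_lit 8, nat_lit 10, nat_lit 13, nat_lit 12],
  [nat_lit 5, nat_lit 10, nat_lit 8, nat_lit 13, nat_lit 12],
  [nat_lit 11, nat_lit 5, nat_lit 9, nat_lit 10],
  [nat_lit 6, nat_lit 10, nat_lit 13, nat_lit 5, nat_lit 12],
  [nat_lit 10, nat_lit 13, nat_lit 11, nat_lit 5, nat_lit 12],
  [nat_lit 6, nat_lit 11, nat_lit 9, nat_lit 5, nat_lit 10],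
  [nat_lit 9, nat_lit 11, nat_lit 5, nat_lit 13, nat_lit 12, nat_lit 11],
  [nat_lit 5, nat_lit 10, nat_lit 13, nat_lit 12, nat_lit 10],
  [nat_lit 11, nat_lit 5, nat_lit 9, nat_lit 5, nat_lit 10],
  [nat_lit 6, nat_lit 11, nat_lit 8],
  [nat_lit 6, nat_lit 9, nat_lit 11, nat_lit 13, nat_lit 12, nat_lit 11],
  [nat_lit 8, nat_lit 13, nat_lit 12, nat_lit 10, nat_lit 5, nat_lit 9, nat_lit 11],
  [nat_lit 8, nat_lit 5, nat_lit 10, nat_lit 9, nat_lit 5, nat_lit 11],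
  [nat_lit 5, nat_lit 8, nat_lit 10, nat_lit 9, nat_lit 11],
  [nat_lit 6, nat_lit 11, nat_lit 8, nat_lit 10, nat_lit 9],
  [nat_lit 5, nat_lit 11, nat_lit 5, nat_lit 8, nat_lit 5],
  [nat_lit 11, nat_lit 5, nat_lit 8],
  [nat_lit 7, nat_lit 10, nat_lit 8, nat_lit 13, nat_lit 12],
  [nat_lit 10, nat_lit 8, nat_lit 5, nat_lit 13, nat_lit 12],
  [nat_lit 5, nat_lit 13, nat_lit 11, nat_lit 10, nat_lit 12, nat_lit 10],
  [nat_lit 5, nat_lit 10, nat_lit 9, nat_lit 11, nat_lit 13, nat_lit 12],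
  [nat_lit 10, nat_lit 8, nat_lit 13, nat_lit 11, nat_lit 12],
  [nat_lit 6, nat_lit 11, nat_lit 9, nat_lit 10],
  [nat_lit 6, nat_lit 8, nat_lit 5, nat_lit 10, nat_lit 9, nat_lit 11],
  [nat_lit 5, nat_lit 6, nat_lit 11, nat_lit 8, nat_lit 5],
  [nat_lit 5, nat_lit 10, nat_lit 11, nat_lit 12, nat_lit 5],
  [nat_lit 6, nat_lit 10, nat_lit 5, nat_lit 9, nat_lit 12],
  [nat_lit 5, nat_lit 11, nat_lit 12, nat_lit 11, nat_lit 8, nat_lit 13],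
  [nat_lit 12, nat_lit 5, nat_lit 8, nat_lit 11],
  [nat_lit 11, nat_lit 8, nat_lit 5, nat_lit 9, nat_lit 12, nat_lit 13],
  [nat_lit 5, nat_lit 11, nat_lit 12, nat_lit 13],
  [nat_lit 5, nat_lit 12, nat_lit 11, nat_lit 8, nat_lit 13, nat_lit 11, nat_lit 10],
  [nat_lit 6, nat_lit 9, nat_lit 12, nat_lit 5, nat_lit 11, nat_lit 13],
  [nat_lit 9, nat_lit 5, nat_lit 12, nat_lit 11, nat_lit 5, nat_lit 13],
  [nat_lit 5, nat_lit 9, nat_lit 12, nat_lit 5, nat_lit 10, nat_lit 11, nat_lit 13],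
  [nat_lit 12, nat_lit 11, nat_lit 8, nat_lit 13, nat_lit 11],
  [nat_lit 10, nat_lit 8, nat_lit 5, nat_lit 12, nat_lit 5, nat_lit 9],
  [nat_lit 7, nat_lit 11, nat_lit 12, nat_lit 13],
  [nat_lit 8, nat_lit 5, nat_lit 11, nat_lit 12, nat_lit 11],
  [nat_lit 7, nat_lit 10, nat_lit 11, nat_lit 12, nat_lit 5],
  [nat_lit 6, nat_lit 10, nat_lit 9, nat_lit 12],
  [nat_lit 5, nat_lit 12, nat_lit 5, nat_lit 8, nat_lit 11, nat_lit 10],
  [nat_lit 5, nat_lit 10, nat_lit 12, nat_lit 5, nat_lit 8],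
  [nat_lit 10, nat_lit 9, nat_lit 5, nat_lit 12],
  [nat_lit 9, nat_lit 5, nat_lit 8, nat_lit 11, nat_lit 12, nat_lit 13],
  [nat_lit 11, nat_lit 12, nat_lit 11, nat_lit 8, nat_lit 10, nat_lit 13],
  [nat_lit 8, nat_lit 12, nat_lit 11, nat_lit 10, nat_lit 8],
  [nat_lit 9, nat_lit 5, nat_lit 11, nat_lit 8, nat_lit 10, nat_lit 12],
  [nat_lit 5, nat_lit 9, nat_lit 12, nat_lit 11, nat_lit 5, nat_lit 13],
  [nat_lit 7, nat_lit 13, nat_lit 12, nat_lit 11, nat_lit 8, nat_lit 5],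
  [nat_lit 13, nat_lit 12, nat_lit 11, nat_lit 5, nat_lit 8],
  [nat_lit 7, nat_lit 9, nat_lit 11, nat_lit 8],
  [nat_lit 8, nat_lit 10, nat_lit 5, nat_lit 8],
  [nat_lit 6, nat_lit 8, nat_lit 10, nat_lit 8],
  [nat_lit 9, nat_lit 11, nat_lit 5, nat_lit 8, nat_lit 5],
  [nat_lit 9, nat_lit 10, nat_lit 9, nat_lit 5, nat_lit 11],
  [nat_lit 10, nat_lit 5, nat_lit 8, nat_lit 10, nat_lit 11],
  [nat_lit 8, nat_lit 13, nat_lit 11, nat_lit 5, nat_lit 8, nat_lit 12],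
  [nat_lit 11, nat_lit 13, nat_lit 11, nat_lit 5, nat_lit 12],
  [nat_lit 9, nat_lit 10, nat_lit 9, nat_lit 11],
  [nat_lit 5, nat_lit 9, nat_lit 11, nat_lit 8],
  [nat_lit 5, nat_lit 13, nat_lit 12, nat_lit 11, nat_lit 8, nat_lit 5],
  [nat_lit 13, nat_lit 5, nat_lit 9, nat_lit 11, nat_lit 12, nat_lit 11],
  [nat_lit 13, nat_lit 5, nat_lit 12, nat_lit 5, nat_lit 9, nat_lit 11],
  [nat_lit 6, nat_lit 10, nat_lit 5, nat_lit 9, nat_lit 10],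
  [nat_lit 6, nat_lit 13, nat_lit 12, nat_lit 11, nat_lit 8],
  [nat_lit 5, nat_lit 11, nat_lit 13, nat_lit 12, nat_lit 10],
  [nat_lit 6, nat_lit 11, nat_lit 13, nat_lit 5, nat_lit 12],
  [nat_lit 8, nat_lit 5, nat_lit 11, nat_lit 13, nat_lit 12, nat_lit 11],
  [nat_lit 9, nat_lit 5, nat_lit 11, nat_lit 8],
  [nat_lit 9, nat_lit 10, nat_lit 5, nat_lit 9, nat_lit 11],
  [nat_lit 13, nat_lit 5, nat_lit 9, nat_lit 12, nat_lit 11],
  [nat_lit 10, nat_lit 9, nat_lit 5, nat_lit 10],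
  [nat_lit 5, nat_lit 7, nat_lit 11, nat_lit 9, nat_lit 10],
  [nat_lit 5, nat_lit 6, nat_lit 10, nat_lit 8, nat_lit 13, nat_lit 12],
  [nat_lit 6, nat_lit 10, nat_lit 8, nat_lit 5, nat_lit 13, nat_lit 12],
  [nat_lit 5, nat_lit 10, nat_lit 13, nat_lit 11, nat_lit 9, nat_lit 12],
  [nat_lit 11, nat_lit 8, nat_lit 10, nat_lit 9],
  [nat_lit 5, nat_lit 8, nat_lit 10, nat_lit 5, nat_lit 9, nat_lit 11],
  [nat_lit 8, nat_lit 5, nat_lit 10, nat_lit 9, nat_lit 11],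
  [nat_lit 11, nat_lit 8],
  [nat_lit 7, nat_lit 11, nat_lit 8, nat_lit 5],
  [nat_lit 10, nat_lit 13, nat_lit 5, nat_lit 12],
  [nat_lit 6, nat_lit 9, nat_lit 11, nat_lit 5, nat_lit 13, nat_lit 12, nat_lit 11],
  [nat_lit 5, nat_lit 7, nat_lit 11, nat_lit 8],
  [nat_lit 5, nat_lit 11, nat_lit 8, nat_lit 5],
  [nat_lit 5, nat_lit 10, nat_lit 13, nat_lit 5, nat_lit 11, nat_lit 12],
  [nat_lit 11, nat_lit 9, nat_lit 10],
  [nat_lit 9, nat_lit 11, nat_lit 13, nat_lit 12, nat_lit 11],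
  [nat_lit 13, nat_lit 5, nat_lit 10, nat_lit 11, nat_lit 12],
  [nat_lit 9, nat_lit 11, nat_lit 13, nat_lit 11, nat_lit 12, nat_lit 11],
  [nat_lit 5, nat_lit 11, nat_lit 9, nat_lit 10, nat_lit 5],
  [nat_lit 5, nat_lit 6, nat_lit 8, nat_lit 10, nat_lit 9, nat_lit 11],
  [nat_lit 12, nat_lit 12, nat_lit 5, nat_lit 8, nat_lit 13],
  [nat_lit 5, nat_lit 9, nat_lit 5, nat_lit 11, nat_lit 13, nat_lit 12, nat_lit 11],
  [nat_lit 11, nat_lit 9, nat_lit 5, nat_lit 10],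
  [nat_lit 5, nat_lit 13, nat_lit 5, nat_lit 10, nat_lit 12],
  [nat_lit 10, nat_lit 12, nat_lit 11, nat_lit 12, nat_lit 11],
  [nat_lit 8, nat_lit 13, nat_lit 5, nat_lit 9],
  [nat_lit 5, nat_lit 9, nat_lit 10, nat_lit 8, nat_lit 13, nat_lit 5],
  [nat_lit 10, nat_lit 12, nat_lit 11, nat_lit 12],
  [nat_lit 8, nat_lit 10, nat_lit 13],
  [nat_lit 10, nat_lit 5, nat_lit 12, nat_lit 11, nat_lit 12],
  [nat_lit 13, nat_lit 11, nat_lit 12, nat_lit 11, nat_lit 13],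
  [nat_lit 13, nat_lit 11, nat_lit 9, nat_lit 10],
  [nat_lit 5, nat_lit 8, nat_lit 12, nat_lit 5, nat_lit 10, nat_lit 12],
  [nat_lit 5, nat_lit 7, nat_lit 8, nat_lit 10, nat_lit 13],
  [nat_lit 5, nat_lit 12, nat_lit 5, nat_lit 9, nat_lit 10, nat_lit 12, nat_lit 5],
  [nat_lit 8, nat_lit 5, nat_lit 12, nat_lit 12, nat_lit 10],
  [nat_lit 8, nat_lit 12, nat_lit 5, nat_lit 12, nat_lit 11],
  [nat_lit 8, nat_lit 10, nat_lit 13, nat_lit 11],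
  [nat_lit 6, nat_lit 12, nat_lit 5, nat_lit 11, nat_lit 13, nat_lit 12],
  [nat_lit 8, nat_lit 12, nat_lit 5, nat_lit 12],
  [nat_lit 5, nat_lit 12, nat_lit 5, nat_lit 9, nat_lit 12, nat_lit 5],
  [nat_lit 6, nat_lit 9, nat_lit 5, nat_lit 11, nat_lit 13],
  [nat_lit 6, nat_lit 12, nat_lit 5, nat_lit 11, nat_lit 9, nat_lit 12],
  [nat_lit 12, nat_lit 11, nat_lit 5, nat_lit 9, nat_lit 10, nat_lit 12],
  [nat_lit 5, nat_lit 9, nat_lit 11, nat_lit 5, nat_lit 13],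
  [nat_lit 5, nat_lit 6, nat_lit 9, nat_lit 11, nat_lit 13],
  [nat_lit 9, nat_lit 5, nat_lit 10, nat_lit 8, nat_lit 13, nat_lit 5],
  [nat_lit 5, nat_lit 9, nat_lit 10, nat_lit 5, nat_lit 8, nat_lit 13, nat_lit 5],
  [nat_lit 7, nat_lit 8, nat_lit 10, nat_lit 9, nat_lit 13],
  [nat_lit 8, nat_lit 10, nat_lit 12, nat_lit 10, nat_lit 12],
  [nat_lit 5, nat_lit 8, nat_lit 10, nat_lit 12, nat_lit 12],
  [nat_lit 7, nat_lit 8, nat_lit 13, nat_lit 5],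
  [nat_lit 6, nat_lit 8, nat_lit 5, nat_lit 13, nat_lit 5],
  [nat_lit 5, nat_lit 8, nat_lit 13, nat_lit 5],
  [nat_lit 8, nat_lit 11, nat_lit 8, nat_lit 10, nat_lit 13],
  [nat_lit 13, nat_lit 5, nat_lit 8, nat_lit 11, nat_lit 10],
  [nat_lit 8, nat_lit 11, nat_lit 13, nat_lit 11, nat_lit 9, nat_lit 10],
  [nat_lit 8, nat_lit 10, nat_lit 9, nat_lit 13, nat_lit 11],
  [nat_lit 9, nat_lit 11, nat_lit 5, nat_lit 12, nat_lit 12],
  [nat_lit 5, nat_lit 8, nat_lit 12, nat_lit 5, nat_lit 8, nat_lit 12],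
  [nat_lit 5, nat_lit 8, nat_lit 10, nat_lit 9, nat_lit 13],
  [nat_lit 5, nat_lit 12, nat_lit 11, nat_lit 5, nat_lit 12, nat_lit 11],
  [nat_lit 12, nat_lit 11, nat_lit 12, nat_lit 11, nat_lit 10],
  [nat_lit 6, nat_lit 8, nat_lit 12, nat_lit 12, nat_lit 5],
  [nat_lit 12, nat_lit 12, nat_lit 11, nat_lit 8, nat_lit 5],
  [nat_lit 8, nat_lit 12, nat_lit 5, nat_lit 8, nat_lit 12, nat_lit 11],
  [nat_lit 5, nat_lit 13, nat_lit 11, nat_lit 9, nat_lit 10, nat_lit 8],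
  [nat_lit 12, nat_lit 11, nat_lit 5, nat_lit 12],
  [nat_lit 6, nat_lit 9, nat_lit 11, nat_lit 12, nat_lit 12],
  [nat_lit 12, nat_lit 5, nat_lit 10, nat_lit 11, nat_lit 12],
  [nat_lit 13, nat_lit 5, nat_lit 11, nat_lit 8, nat_lit 10],
  [nat_lit 8, nat_lit 13, nat_lit 5, nat_lit 11],
  [nat_lit 11, nat_lit 10, nat_lit 12, nat_lit 10, nat_lit 8],
  [nat_lit 10, nat_lit 9, nat_lit 12, nat_lit 5, nat_lit 10, nat_lit 13],
  [nat_lit 10, nat_lit 13, nat_lit 11, nat_lit 13, nat_lit 11, nat_lit 12],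
  [nat_lit 5, nat_lit 8, nat_lit 12, nat_lit 11, nat_lit 10, nat_lit 13, nat_lit 11],
  [nat_lit 5, nat_lit 10, nat_lit 9, nat_lit 12, nat_lit 5, nat_lit 10],
  [nat_lit 10, nat_lit 9, nat_lit 12, nat_lit 5, nat_lit 13],
  [nat_lit 8, nat_lit 5, nat_lit 12, nat_lit 11, nat_lit 13, nat_lit 11],
  [nat_lit 11, nat_lit 8, nat_lit 12, nat_lit 11, nat_lit 10],
  [nat_lit 11, nat_lit 8, nat_lit 12, nat_lit 11],
  [nat_lit 5, nat_lit 10, nat_lit 9, nat_lit 12, nat_lit 10, nat_lit 5, nat_lit 13],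
  [nat_lit 6, nat_lit 11, nat_lit 12, nat_lit 13, nat_lit 5],
  [nat_lit 12, nat_lit 13, nat_lit 5, nat_lit 9, nat_lit 11],
  [nat_lit 5, nat_lit 10, nat_lit 11, nat_lit 8, nat_lit 5, nat_lit 12],
  [nat_lit 11, nat_lit 10, nat_lit 9, nat_lit 12],
  [nat_lit 11, nat_lit 10, nat_lit 12],
  [nat_lit 5, nat_lit 10, nat_lit 9, nat_lit 12, nat_lit 5],
  [nat_lit 11, nat_lit 10, nat_lit 12, nat_lit 10],
  [nat_lit 5, nat_lit 11, nat_lit 8, nat_lit 12, nat_lit 11, nat_lit 13],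
  [nat_lit 5, nat_lit 11, nat_lit 10, nat_lit 13, nat_lit 11, nat_lit 12, nat_lit 12],
  [nat_lit 10, nat_lit 9, nat_lit 12, nat_lit 10, nat_lit 5],
  [nat_lit 11, nat_lit 13, nat_lit 11, nat_lit 12, nat_lit 12, nat_lit 5],
  [nat_lit 10, nat_lit 9, nat_lit 5, nat_lit 8, nat_lit 11, nat_lit 12],
  [nat_lit 5, nat_lit 11, nat_lit 10, nat_lit 12, nat_lit 13],
  [nat_lit 5, nat_lit 11, nat_lit 10, nat_lit 9, nat_lit 12, nat_lit 13],
  [nat_lit 6, nat_lit 10, nat_lit 9, nat_lit 12, nat_lit 12],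
  [nat_lit 5, nat_lit 6, nat_lit 11, nat_lit 13, nat_lit 11],
  [nat_lit 5, nat_lit 8, nat_lit 10, nat_lit 8, nat_lit 13, nat_lit 5],
  [nat_lit 10, nat_lit 11, nat_lit 8, nat_lit 5, nat_lit 10, nat_lit 13],
  [nat_lit 6, nat_lit 9, nat_lit 13, nat_lit 5, nat_lit 10, nat_lit 8],
  [nat_lit 12, nat_lit 5, nat_lit 8, nat_lit 11, nat_lit 12],
  [nat_lit 9, nat_lit 13, nat_lit 5, nat_lit 10, nat_lit 8, nat_lit 11],
  [nat_lit 5, nat_lit 10, nat_lit 12, nat_lit 5, nat_lit 8, nat_lit 12],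
  [nat_lit 10, nat_lit 9, nat_lit 5, nat_lit 12, nat_lit 12],
  [nat_lit 12, nat_lit 5, nat_lit 12, nat_lit 5, nat_lit 11, nat_lit 8],
  [nat_lit 10, nat_lit 11, nat_lit 9, nat_lit 5, nat_lit 10, nat_lit 13],
  [nat_lit 8, nat_lit 5, nat_lit 11, nat_lit 12, nat_lit 11, nat_lit 12],
  [nat_lit 5, nat_lit 11, nat_lit 13],
  [nat_lit 11, nat_lit 10, nat_lit 12, nat_lit 12, nat_lit 10],
  [nat_lit 10, nat_lit 11, nat_lit 12, nat_lit 12, nat_lit 10, nat_lit 11],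
  [nat_lit 7, nat_lit 11, nat_lit 13],
  [nat_lit 5, nat_lit 11, nat_lit 10, nat_lit 12, nat_lit 5, nat_lit 12, nat_lit 11],
  [nat_lit 11, nat_lit 8, nat_lit 5, nat_lit 10, nat_lit 8, nat_lit 13],
  [nat_lit 5, nat_lit 11, nat_lit 9, nat_lit 10, nat_lit 9, nat_lit 13],
  [nat_lit 5, nat_lit 10, nat_lit 11, nat_lit 12, nat_lit 5, nat_lit 12],
  [nat_lit 10, nat_lit 9, nat_lit 13, nat_lit 5, nat_lit 10],
  [nat_lit 5, nat_lit 11, nat_lit 5, nat_lit 13, nat_lit 11],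
  [nat_lit 5, nat_lit 12, nat_lit 12, nat_lit 5, nat_lit 9],
  [nat_lit 10, nat_lit 9, nat_lit 12, nat_lit 12, nat_lit 11],
  [nat_lit 5, nat_lit 6, nat_lit 10, nat_lit 13, nat_lit 12],
  [nat_lit 9, nat_lit 5, nat_lit 10, nat_lit 8, nat_lit 11],
  [nat_lit 11, nat_lit 8, nat_lit 10],
  [nat_lit 5, nat_lit 13, nat_lit 5, nat_lit 8, nat_lit 12, nat_lit 11],
  [nat_lit 10, nat_lit 8, nat_lit 13, nat_lit 5, nat_lit 12],
  [nat_lit 11, nat_lit 9, nat_lit 5],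
  [nat_lit 5, nat_lit 9, nat_lit 10, nat_lit 8, nat_lit 11],
  [nat_lit 10, nat_lit 13, nat_lit 5, nat_lit 8, nat_lit 12, nat_lit 5],
  [nat_lit 7, nat_lit 10, nat_lit 13, nat_lit 11, nat_lit 12],
  [nat_lit 13, nat_lit 5, nat_lit 10, nat_lit 11, nat_lit 8, nat_lit 12],
  [nat_lit 5, nat_lit 7, nat_lit 11, nat_lit 9],
  [nat_lit 5, nat_lit 7, nat_lit 11, nat_lit 9, nat_lit 5],
  [nat_lit 10, nat_lit 8, nat_lit 13, nat_lit 5, nat_lit 12, nat_lit 5],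
  [nat_lit 5, nat_lit 10, nat_lit 8, nat_lit 5, nat_lit 13, nat_lit 5, nat_lit 12],
  [nat_lit 11, nat_lit 9],
  [nat_lit 11, nat_lit 9, nat_lit 10, nat_lit 8],
  [nat_lit 11, nat_lit 8, nat_lit 10, nat_lit 5],
  [nat_lit 5, nat_lit 9, nat_lit 10, nat_lit 5, nat_lit 8, nat_lit 11],
  [nat_lit 5, nat_lit 7, nat_lit 11, nat_lit 8, nat_lit 10],
  [nat_lit 12, nat_lit 12, nat_lit 5, nat_lit 13],
  [nat_lit 5, nat_lit 10, nat_lit 13, nat_lit 11, nat_lit 12],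
  [nat_lit 10, nat_lit 13, nat_lit 5, nat_lit 8, nat_lit 12],
  [nat_lit 10, nat_lit 5, nat_lit 8, nat_lit 13, nat_lit 5, nat_lit 12],
  [nat_lit 5, nat_lit 11, nat_lit 8, nat_lit 5, nat_lit 10],
  [nat_lit 6, nat_lit 13, nat_lit 11, nat_lit 8],
  [nat_lit 5, nat_lit 12, nat_lit 10, nat_lit 12, nat_lit 11],
  [nat_lit 5, nat_lit 12, nat_lit 12],
  [nat_lit 8, nat_lit 5, nat_lit 11, nat_lit 10, nat_lit 13],
  [nat_lit 5, nat_lit 9, nat_lit 11, nat_lit 10, nat_lit 8, nat_lit 13],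
  [nat_lit 7, nat_lit 9, nat_lit 10, nat_lit 11, nat_lit 8, nat_lit 13, nat_lit 11],
  [nat_lit 5, nat_lit 12, nat_lit 5, nat_lit 9, nat_lit 11, nat_lit 10, nat_lit 12],
  [nat_lit 8, nat_lit 11, nat_lit 8, nat_lit 12, nat_lit 11, nat_lit 12],
  [nat_lit 12, nat_lit 11, nat_lit 8, nat_lit 10, nat_lit 5, nat_lit 12],
  [nat_lit 7, nat_lit 9, nat_lit 11, nat_lit 10, nat_lit 8, nat_lit 13],
  [nat_lit 12, nat_lit 11, nat_lit 8, nat_lit 12, nat_lit 10],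
  [nat_lit 9, nat_lit 5, nat_lit 11, nat_lit 10, nat_lit 8, nat_lit 13],
  [nat_lit 6, nat_lit 9, nat_lit 13],
  [nat_lit 5, nat_lit 12, nat_lit 11, nat_lit 8, nat_lit 5, nat_lit 10, nat_lit 12],
  [nat_lit 5, nat_lit 8, nat_lit 10, nat_lit 11, nat_lit 13],
  [nat_lit 13, nat_lit 5, nat_lit 9, nat_lit 10],
  [nat_lit 9, nat_lit 13, nat_lit 11],
  [nat_lit 5, nat_lit 12, nat_lit 5, nat_lit 9, nat_lit 11, nat_lit 12, nat_lit 11],
  [nat_lit 12, nat_lit 5, nat_lit 10, nat_lit 9, nat_lit 11, nat_lit 12],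
  [nat_lit 13, nat_lit 5, nat_lit 9, nat_lit 11, nat_lit 10],
  [nat_lit 8, nat_lit 13, nat_lit 11, nat_lit 9],
  [nat_lit 5, nat_lit 6, nat_lit 12, nat_lit 12, nat_lit 11],
  [nat_lit 12, nat_lit 11, nat_lit 8, nat_lit 12, nat_lit 11, nat_lit 10],
  [nat_lit 7, nat_lit 12, nat_lit 12],
  [nat_lit 5, nat_lit 8, nat_lit 13, nat_lit 5, nat_lit 10],
  [nat_lit 8, nat_lit 11, nat_lit 13, nat_lit 11, nat_lit 9],
  [nat_lit 12, nat_lit 12, nat_lit 11, nat_lit 8, nat_lit 5, nat_lit 10],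
  [nat_lit 5, nat_lit 9, nat_lit 10, nat_lit 8, nat_lit 13],
  [nat_lit 12, nat_lit 11, nat_lit 12, nat_lit 11],
  [nat_lit 8, nat_lit 12, nat_lit 5, nat_lit 12, nat_lit 5],
  [nat_lit 12, nat_lit 11, nat_lit 10, nat_lit 12, nat_lit 11],
  [nat_lit 5, nat_lit 12, nat_lit 5, nat_lit 9, nat_lit 10, nat_lit 12],
  [nat_lit 5, nat_lit 8, nat_lit 10, nat_lit 12, nat_lit 12, nat_lit 10],
  [nat_lit 6, nat_lit 12, nat_lit 12, nat_lit 10, nat_lit 9],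
  [nat_lit 12, nat_lit 12, nat_lit 11, nat_lit 10, nat_lit 9],
  [nat_lit 8, nat_lit 5, nat_lit 12, nat_lit 12, nat_lit 10, nat_lit 5],
  [nat_lit 13, nat_lit 5, nat_lit 11, nat_lit 8],
  [nat_lit 7, nat_lit 9, nat_lit 10, nat_lit 8, nat_lit 13],
  [nat_lit 8, nat_lit 10, nat_lit 13, nat_lit 5],
  [nat_lit 8, nat_lit 10, nat_lit 13, nat_lit 11, nat_lit 5],
  [nat_lit 13, nat_lit 5, nat_lit 8, nat_lit 11],
  [nat_lit 9, nat_lit 5, nat_lit 10, nat_lit 8, nat_lit 13],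
  [nat_lit 5, nat_lit 12, nat_lit 5, nat_lit 9, nat_lit 12],
  [nat_lit 13, nat_lit 11, nat_lit 9, nat_lit 10, nat_lit 5],
  [nat_lit 8, nat_lit 11, nat_lit 8, nat_lit 13],
  [nat_lit 5, nat_lit 9, nat_lit 10, nat_lit 5, nat_lit 8, nat_lit 13],
  [nat_lit 5, nat_lit 6, nat_lit 12, nat_lit 11, nat_lit 12],
  [nat_lit 5, nat_lit 12, nat_lit 10, nat_lit 11, nat_lit 12],
  [nat_lit 6, nat_lit 7, nat_lit 10, nat_lit 8, nat_lit 5],
  [nat_lit 11, nat_lit 8, nat_lit 5, nat_lit 13, nat_lit 12],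
  [nat_lit 5, nat_lit 11, nat_lit 13, nat_lit 12, nat_lit 11],
  [nat_lit 13, nat_lit 11, nat_lit 8, nat_lit 10, nat_lit 12, nat_lit 10],
  [nat_lit 5, nat_lit 10, nat_lit 13, nat_lit 5, nat_lit 13],
  [nat_lit 5, nat_lit 13, nat_lit 5, nat_lit 10, nat_lit 11, nat_lit 13],
  [nat_lit 5, nat_lit 11, nat_lit 5, nat_lit 13, nat_lit 11, nat_lit 12, nat_lit 11],
  [nat_lit 9, nat_lit 10, nat_lit 13, nat_lit 12, nat_lit 10],
  [nat_lit 10, nat_lit 9, nat_lit 5, nat_lit 9],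
  [nat_lit 7, nat_lit 11, nat_lit 8, nat_lit 13, nat_lit 12],
  [nat_lit 10, nat_lit 9, nat_lit 5, nat_lit 11],
  [nat_lit 9, nat_lit 10, nat_lit 5, nat_lit 13, nat_lit 12, nat_lit 10],
  [nat_lit 6, nat_lit 11, nat_lit 8, nat_lit 13, nat_lit 11, nat_lit 12],
  [nat_lit 7, nat_lit 11, nat_lit 13, nat_lit 12, nat_lit 11],
  [nat_lit 13, nat_lit 5, nat_lit 10, nat_lit 13],
  [nat_lit 8, nat_lit 5, nat_lit 11, nat_lit 9, nat_lit 10],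
  [nat_lit 6, nat_lit 10, nat_lit 8],
  [nat_lit 6, nat_lit 10, nat_lit 9, nat_lit 11],
  [nat_lit 6, nat_lit 10, nat_lit 5, nat_lit 8],
  [nat_lit 5, nat_lit 11, nat_lit 8, nat_lit 13, nat_lit 12],
  [nat_lit 6, nat_lit 10, nat_lit 5, nat_lit 9, nat_lit 11],
  [nat_lit 5, nat_lit 6, nat_lit 11, nat_lit 13, nat_lit 11, nat_lit 12, nat_lit 11],
  [nat_lit 5, nat_lit 11, nat_lit 9, nat_lit 10, nat_lit 13, nat_lit 12],
  [nat_lit 10, nat_lit 5, nat_lit 9, nat_lit 5, nat_lit 11],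
  [nat_lit 5, nat_lit 9, nat_lit 13, nat_lit 12],
  [nat_lit 8, nat_lit 13, nat_lit 5, nat_lit 11, nat_lit 12, nat_lit 11, nat_lit 8],
  [nat_lit 13, nat_lit 5, nat_lit 12, nat_lit 11, nat_lit 5, nat_lit 9],
  [nat_lit 5, nat_lit 9, nat_lit 11, nat_lit 10, nat_lit 9],
  [nat_lit 9, nat_lit 11, nat_lit 10, nat_lit 9, nat_lit 5],
  [nat_lit 6],
  [nat_lit 8, nat_lit 11, nat_lit 10, nat_lit 13, nat_lit 12],
  [nat_lit 8, nat_lit 13, nat_lit 12, nat_lit 11, nat_lit 10, nat_lit 8],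
  [nat_lit 8, nat_lit 13, nat_lit 5, nat_lit 12, nat_lit 11, nat_lit 5, nat_lit 8],
  [nat_lit 9, nat_lit 5, nat_lit 11, nat_lit 10, nat_lit 9],
  [nat_lit 8, nat_lit 10, nat_lit 11, nat_lit 8, nat_lit 5],
  [nat_lit 8, nat_lit 10, nat_lit 5, nat_lit 11, nat_lit 13, nat_lit 12],
  [nat_lit 5, nat_lit 8, nat_lit 10, nat_lit 11, nat_lit 8],
  [nat_lit 7, nat_lit 8, nat_lit 10, nat_lit 11, nat_lit 8],
  [nat_lit 6, nat_lit 13, nat_lit 11, nat_lit 13],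
  [nat_lit 8, nat_lit 10, nat_lit 11, nat_lit 13, nat_lit 11, nat_lit 12],
  [nat_lit 7, nat_lit 9, nat_lit 11, nat_lit 10, nat_lit 9],
  [nat_lit 8, nat_lit 5, nat_lit 11, nat_lit 10, nat_lit 8],
  [nat_lit 5, nat_lit 6, nat_lit 7],
  [nat_lit 7, nat_lit 13, nat_lit 11, nat_lit 8, nat_lit 12],
  [nat_lit 7, nat_lit 9, nat_lit 13, nat_lit 12],
  [nat_lit 5, nat_lit 8, nat_lit 13, nat_lit 5, nat_lit 12, nat_lit 11, nat_lit 8],
  [nat_lit 9, nat_lit 5, nat_lit 13, nat_lit 12],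
  [nat_lit 5, nat_lit 8, nat_lit 5, nat_lit 9],
  [nat_lit 12, nat_lit 10, nat_lit 9, nat_lit 11],
  [nat_lit 5, nat_lit 6, nat_lit 12, nat_lit 11, nat_lit 5, nat_lit 8, nat_lit 13],
  [nat_lit 5, nat_lit 13, nat_lit 11, nat_lit 12, nat_lit 12, nat_lit 11],
  [nat_lit 6, nat_lit 9, nat_lit 12, nat_lit 11],
  [nat_lit 9, nat_lit 5, nat_lit 11, nat_lit 8, nat_lit 12],
  [nat_lit 6, nat_lit 11, nat_lit 12, nat_lit 5],
  [nat_lit 6, nat_lit 9, nat_lit 12, nat_lit 11, nat_lit 13],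
  [nat_lit 7, nat_lit 12, nat_lit 13, nat_lit 11],
  [nat_lit 5, nat_lit 12, nat_lit 13, nat_lit 11],
  [nat_lit 12, nat_lit 5, nat_lit 11, nat_lit 8, nat_lit 13],
  [nat_lit 6, nat_lit 8, nat_lit 12, nat_lit 10, nat_lit 5, nat_lit 9],
  [nat_lit 12, nat_lit 5, nat_lit 11, nat_lit 8, nat_lit 10, nat_lit 13],
  [nat_lit 9, nat_lit 10, nat_lit 5, nat_lit 9, nat_lit 11, nat_lit 12],
  [nat_lit 9, nat_lit 10, nat_lit 5, nat_lit 9, nat_lit 11, nat_lit 12, nat_lit 13],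
  [nat_lit 8, nat_lit 10, nat_lit 5, nat_lit 8, nat_lit 12, nat_lit 13],
  [nat_lit 12, nat_lit 5, nat_lit 11, nat_lit 8, nat_lit 10],
  [nat_lit 11, nat_lit 5, nat_lit 12, nat_lit 5],
  [nat_lit 9, nat_lit 12, nat_lit 10, nat_lit 11, nat_lit 13],
  [nat_lit 9, nat_lit 12, nat_lit 10, nat_lit 11],
  [nat_lit 5, nat_lit 6, nat_lit 12, nat_lit 11, nat_lit 5, nat_lit 8],
  [nat_lit 7, nat_lit 13, nat_lit 11, nat_lit 12, nat_lit 12, nat_lit 11],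
  [nat_lit 12, nat_lit 5, nat_lit 11, nat_lit 8],
  [nat_lit 8, nat_lit 10, nat_lit 5, nat_lit 8, nat_lit 12],
  [nat_lit 12, nat_lit 10, nat_lit 9, nat_lit 11, nat_lit 13],
  [nat_lit 9, nat_lit 10, nat_lit 5, nat_lit 13, nat_lit 12],
  [nat_lit 6, nat_lit 9, nat_lit 10, nat_lit 9],
  [nat_lit 10, nat_lit 5, nat_lit 9, nat_lit 10, nat_lit 11],
  [nat_lit 5, nat_lit 11, nat_lit 13, nat_lit 5, nat_lit 11, nat_lit 12, nat_lit 11],
  [nat_lit 13, nat_lit 5, nat_lit 13, nat_lit 5],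
  [nat_lit 6, nat_lit 13, nat_lit 5, nat_lit 9, nat_lit 12],
  [nat_lit 6, nat_lit 8, nat_lit 10, nat_lit 5, nat_lit 8, nat_lit 11],
  [nat_lit 9, nat_lit 10, nat_lit 13, nat_lit 12],
  [nat_lit 8, nat_lit 5, nat_lit 11, nat_lit 9],
  [nat_lit 13, nat_lit 5, nat_lit 13],
  [nat_lit 5, nat_lit 8, nat_lit 11, nat_lit 13, nat_lit 12],
  [nat_lit 8, nat_lit 10, nat_lit 8, nat_lit 11],
  [nat_lit 6, nat_lit 10, nat_lit 5, nat_lit 8, nat_lit 10],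
  [nat_lit 13, nat_lit 11, nat_lit 8, nat_lit 10, nat_lit 12],
  [nat_lit 5, nat_lit 8, nat_lit 11, nat_lit 5, nat_lit 13, nat_lit 12],
  [nat_lit 6, nat_lit 9, nat_lit 10, nat_lit 9, nat_lit 5],
  [nat_lit 5, nat_lit 11, nat_lit 13, nat_lit 12, nat_lit 11, nat_lit 10],
  [nat_lit 6, nat_lit 11, nat_lit 13, nat_lit 11, nat_lit 5, nat_lit 12, nat_lit 11],
  [nat_lit 11, nat_lit 13, nat_lit 5, nat_lit 12, nat_lit 11],
  [nat_lit 5, nat_lit 8, nat_lit 11, nat_lit 13, nat_lit 11, nat_lit 12],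
  [nat_lit 8, nat_lit 5, nat_lit 11, nat_lit 9, nat_lit 5],
  [nat_lit 8, nat_lit 10, nat_lit 8, nat_lit 11, nat_lit 5],
  [nat_lit 6, nat_lit 9, nat_lit 10, nat_lit 5, nat_lit 9],
  [nat_lit 9, nat_lit 10, nat_lit 13, nat_lit 11, nat_lit 12],
  [nat_lit 12, nat_lit 10, nat_lit 11],
  [nat_lit 12, nat_lit 11, nat_lit 10, nat_lit 13],
  [nat_lit 5, nat_lit 6, nat_lit 8, nat_lit 10, nat_lit 12, nat_lit 5],
  [nat_lit 12, nat_lit 5, nat_lit 9],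
  [nat_lit 9, nat_lit 10, nat_lit 5, nat_lit 8, nat_lit 12, nat_lit 13],
  [nat_lit 5, nat_lit 9, nat_lit 12, nat_lit 13, nat_lit 11, nat_lit 10],
  [nat_lit 5, nat_lit 9, nat_lit 12, nat_lit 13, nat_lit 11],
  [nat_lit 8, nat_lit 5, nat_lit 12, nat_lit 5, nat_lit 13, nat_lit 5],
  [nat_lit 12, nat_lit 13, nat_lit 11, nat_lit 9, nat_lit 5],
  [nat_lit 5, nat_lit 8, nat_lit 10, nat_lit 12, nat_lit 5, nat_lit 10, nat_lit 13],
  [nat_lit 12, nat_lit 11, nat_lit 13],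
  [nat_lit 12, nat_lit 5, nat_lit 9, nat_lit 10],
  [nat_lit 5, nat_lit 7, nat_lit 12, nat_lit 5, nat_lit 9],
  [nat_lit 12, nat_lit 11, nat_lit 8, nat_lit 5, nat_lit 11],
  [nat_lit 8, nat_lit 5, nat_lit 11, nat_lit 8, nat_lit 12],
  [nat_lit 9, nat_lit 12, nat_lit 10, nat_lit 8, nat_lit 11],
  [nat_lit 9, nat_lit 5, nat_lit 12, nat_lit 13, nat_lit 11],
  [nat_lit 8, nat_lit 12, nat_lit 10, nat_lit 9, nat_lit 11, nat_lit 13],
  [nat_lit 5, nat_lit 8, nat_lit 10, nat_lit 5, nat_lit 12, nat_lit 5],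
  [nat_lit 5, nat_lit 9, nat_lit 10, nat_lit 12, nat_lit 10, nat_lit 8],
  [nat_lit 6, nat_lit 12, nat_lit 5, nat_lit 9, nat_lit 13],
  [nat_lit 8, nat_lit 5, nat_lit 10, nat_lit 12, nat_lit 5],
  [nat_lit 6, nat_lit 12, nat_lit 11],
  [nat_lit 5, nat_lit 8, nat_lit 10, nat_lit 12, nat_lit 5, nat_lit 13],
  [nat_lit 10, nat_lit 8, nat_lit 11, nat_lit 5, nat_lit 8],
  [nat_lit 5, nat_lit 9, nat_lit 13, nat_lit 12, nat_lit 10, nat_lit 5],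
  [nat_lit 5, nat_lit 7, nat_lit 11, nat_lit 10, nat_lit 8, nat_lit 11],
  [nat_lit 11, nat_lit 8, nat_lit 5, nat_lit 10, nat_lit 13, nat_lit 12],
  [nat_lit 7, nat_lit 11, nat_lit 10, nat_lit 13, nat_lit 11, nat_lit 12, nat_lit 11],
  [nat_lit 5, nat_lit 9, nat_lit 13, nat_lit 12, nat_lit 10],
  [nat_lit 7, nat_lit 11, nat_lit 8, nat_lit 10, nat_lit 13, nat_lit 12],
  [nat_lit 10, nat_lit 9, nat_lit 5, nat_lit 11, nat_lit 9],
  [nat_lit 11, nat_lit 10, nat_lit 9, nat_lit 11, nat_lit 5],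
  [nat_lit 7, nat_lit 11, nat_lit 10, nat_lit 13, nat_lit 12, nat_lit 11],
  [nat_lit 10, nat_lit 9, nat_lit 5, nat_lit 8],
  [nat_lit 5, nat_lit 7, nat_lit 11, nat_lit 10, nat_lit 9, nat_lit 11],
  [nat_lit 11, nat_lit 10, nat_lit 8, nat_lit 11],
  [nat_lit 6, nat_lit 9, nat_lit 13, nat_lit 5, nat_lit 12],
  [nat_lit 5, nat_lit 11, nat_lit 10, nat_lit 13, nat_lit 12, nat_lit 11],
  [nat_lit 6, nat_lit 10, nat_lit 5],
  [nat_lit 9, nat_lit 5, nat_lit 13, nat_lit 12, nat_lit 10],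
  [nat_lit 5, nat_lit 11, nat_lit 8, nat_lit 10, nat_lit 13, nat_lit 12],
  [nat_lit 11, nat_lit 8, nat_lit 10, nat_lit 13, nat_lit 11, nat_lit 12],
  [nat_lit 5, nat_lit 11, nat_lit 10, nat_lit 13, nat_lit 11, nat_lit 12, nat_lit 11],
  [nat_lit 11, nat_lit 10, nat_lit 8, nat_lit 11, nat_lit 5],
  [nat_lit 11, nat_lit 10, nat_lit 9, nat_lit 11],
  [nat_lit 6, nat_lit 10],
  [nat_lit 10, nat_lit 13, nat_lit 11, nat_lit 13],
  [nat_lit 6, nat_lit 8, nat_lit 13, nat_lit 11],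
  [nat_lit 8, nat_lit 5, nat_lit 12, nat_lit 12],
  [nat_lit 5, nat_lit 8, nat_lit 12, nat_lit 12, nat_lit 11],
  [nat_lit 10, nat_lit 12, nat_lit 5, nat_lit 11, nat_lit 12],
  [nat_lit 5, nat_lit 8, nat_lit 11, nat_lit 10, nat_lit 9, nat_lit 13],
  [nat_lit 7, nat_lit 9, nat_lit 10, nat_lit 11, nat_lit 13],
  [nat_lit 9, nat_lit 5, nat_lit 10, nat_lit 11, nat_lit 13],
  [nat_lit 9, nat_lit 11, nat_lit 10, nat_lit 12, nat_lit 10, nat_lit 12],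
  [nat_lit 5, nat_lit 9, nat_lit 10, nat_lit 5, nat_lit 11, nat_lit 13],
  [nat_lit 5, nat_lit 6, nat_lit 9, nat_lit 11, nat_lit 12, nat_lit 12, nat_lit 5],
  [nat_lit 13, nat_lit 11, nat_lit 12, nat_lit 11, nat_lit 10, nat_lit 13],
  [nat_lit 9, nat_lit 10, nat_lit 11, nat_lit 12, nat_lit 12, nat_lit 11],
  [nat_lit 8, nat_lit 10, nat_lit 13, nat_lit 11, nat_lit 8, nat_lit 5],
  [nat_lit 8, nat_lit 5, nat_lit 10, nat_lit 11, nat_lit 9, nat_lit 13],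
  [nat_lit 5, nat_lit 9, nat_lit 10, nat_lit 11, nat_lit 13],
  [nat_lit 5, nat_lit 7, nat_lit 8, nat_lit 13],
  [nat_lit 10, nat_lit 12, nat_lit 11, nat_lit 12, nat_lit 11, nat_lit 10],
  [nat_lit 8, nat_lit 10, nat_lit 9, nat_lit 13, nat_lit 5],
  [nat_lit 13, nat_lit 11, nat_lit 9],
  [nat_lit 9, nat_lit 11, nat_lit 10, nat_lit 12, nat_lit 12],
  [nat_lit 8, nat_lit 13],
  [nat_lit 5, nat_lit 12, nat_lit 11, nat_lit 5, nat_lit 12, nat_lit 5],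
  [nat_lit 5, nat_lit 6, nat_lit 8, nat_lit 12, nat_lit 12],
  [nat_lit 7, nat_lit 12, nat_lit 12, nat_lit 11, nat_lit 8],
  [nat_lit 8, nat_lit 5, nat_lit 11, nat_lit 13],
  [nat_lit 8, nat_lit 5, nat_lit 10, nat_lit 13, nat_lit 5, nat_lit 8],
  [nat_lit 5, nat_lit 9, nat_lit 11, nat_lit 5, nat_lit 12, nat_lit 11, nat_lit 12],
  [nat_lit 6, nat_lit 9, nat_lit 10, nat_lit 5, nat_lit 13],
  [nat_lit 12, nat_lit 11, nat_lit 8, nat_lit 12, nat_lit 11],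
  [nat_lit 5, nat_lit 6, nat_lit 9, nat_lit 11, nat_lit 12, nat_lit 11, nat_lit 12],
  [nat_lit 12, nat_lit 11, nat_lit 8, nat_lit 12],
  [nat_lit 6, nat_lit 12, nat_lit 5, nat_lit 12],
  [nat_lit 8, nat_lit 12, nat_lit 5, nat_lit 8, nat_lit 11, nat_lit 12],
  [nat_lit 5, nat_lit 12, nat_lit 12, nat_lit 10],
  [nat_lit 5, nat_lit 12, nat_lit 12, nat_lit 10, nat_lit 11],
  [nat_lit 9, nat_lit 13, nat_lit 11, nat_lit 10],
  [nat_lit 6, nat_lit 12, nat_lit 5, nat_lit 12, nat_lit 11],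
  [nat_lit 13, nat_lit 5, nat_lit 9, nat_lit 11],
  [nat_lit 6, nat_lit 13, nat_lit 11, nat_lit 8, nat_lit 10],
  [nat_lit 5, nat_lit 6, nat_lit 8, nat_lit 10, nat_lit 13, nat_lit 5, nat_lit 8],
  [nat_lit 6, nat_lit 9, nat_lit 10, nat_lit 13],
  [nat_lit 8, nat_lit 5, nat_lit 12, nat_lit 11, nat_lit 12, nat_lit 5],
  [nat_lit 9, nat_lit 11, nat_lit 12, nat_lit 11, nat_lit 10, nat_lit 12],
  [nat_lit 6, nat_lit 8, nat_lit 13, nat_lit 5, nat_lit 10, nat_lit 8],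
  [nat_lit 13, nat_lit 5, nat_lit 9],
  [nat_lit 8, nat_lit 10, nat_lit 13, nat_lit 5, nat_lit 11, nat_lit 8],
  [nat_lit 5, nat_lit 6, nat_lit 8, nat_lit 11, nat_lit 13],
  [nat_lit 9, nat_lit 10, nat_lit 5, nat_lit 9, nat_lit 12, nat_lit 12],
  [nat_lit 10, nat_lit 5, nat_lit 9, nat_lit 5],
  [nat_lit 8, nat_lit 5, nat_lit 11, nat_lit 9, nat_lit 10, nat_lit 11],
  [nat_lit 10, nat_lit 8, nat_lit 11, nat_lit 5],
  [nat_lit 11, nat_lit 8, nat_lit 5, nat_lit 13, nat_lit 12, nat_lit 11],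
  [nat_lit 5, nat_lit 13, nat_lit 12, nat_lit 11, nat_lit 8, nat_lit 5, nat_lit 10],
  [nat_lit 5, nat_lit 11, nat_lit 5, nat_lit 13, nat_lit 11, nat_lit 12],
  [nat_lit 10, nat_lit 5, nat_lit 8, nat_lit 11, nat_lit 5],
  [nat_lit 9, nat_lit 5, nat_lit 11, nat_lit 8, nat_lit 10],
  [nat_lit 10, nat_lit 9, nat_lit 5],
  [nat_lit 13, nat_lit 12, nat_lit 11, nat_lit 8, nat_lit 10, nat_lit 5],
  [nat_lit 5, nat_lit 9, nat_lit 11, nat_lit 8, nat_lit 10],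
  [nat_lit 7, nat_lit 11, nat_lit 13, nat_lit 12],
  [nat_lit 6, nat_lit 13, nat_lit 12, nat_lit 11, nat_lit 8, nat_lit 10],
  [nat_lit 7, nat_lit 11, nat_lit 8, nat_lit 13, nat_lit 12, nat_lit 11],
  [nat_lit 5, nat_lit 11, nat_lit 13, nat_lit 12],
  [nat_lit 6, nat_lit 10, nat_lit 9, nat_lit 11, nat_lit 8],
  [nat_lit 6, nat_lit 10, nat_lit 5, nat_lit 9],
  [nat_lit 5, nat_lit 6, nat_lit 11, nat_lit 13, nat_lit 11, nat_lit 12],
  [nat_lit 6, nat_lit 10, nat_lit 9],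
  [nat_lit 5, nat_lit 11, nat_lit 8, nat_lit 13, nat_lit 12, nat_lit 11],
  [nat_lit 6, nat_lit 10, nat_lit 5, nat_lit 8, nat_lit 11],
  [nat_lit 6, nat_lit 11, nat_lit 8, nat_lit 13, nat_lit 11, nat_lit 12, nat_lit 11],
  [nat_lit 6, nat_lit 10, nat_lit 8, nat_lit 11],
  [nat_lit 5, nat_lit 11, nat_lit 13, nat_lit 12, nat_lit 11, nat_lit 8],
  [nat_lit 12, nat_lit 10, nat_lit 8],
  [nat_lit 5, nat_lit 9, nat_lit 11, nat_lit 12, nat_lit 13, nat_lit 5],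
  [nat_lit 5, nat_lit 9, nat_lit 11, nat_lit 10, nat_lit 12],
  [nat_lit 6, nat_lit 10, nat_lit 12, nat_lit 11, nat_lit 5],
  [nat_lit 9, nat_lit 5, nat_lit 11, nat_lit 12, nat_lit 13, nat_lit 5],
  [nat_lit 5, nat_lit 8, nat_lit 12, nat_lit 13],
  [nat_lit 6, nat_lit 8, nat_lit 5, nat_lit 12, nat_lit 13],
  [nat_lit 9, nat_lit 5, nat_lit 12, nat_lit 11, nat_lit 8, nat_lit 5, nat_lit 13],
  [nat_lit 12, nat_lit 5, nat_lit 11, nat_lit 13, nat_lit 5],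
  [nat_lit 9, nat_lit 10, nat_lit 11, nat_lit 12, nat_lit 13],
  [nat_lit 13, nat_lit 5, nat_lit 11, nat_lit 12, nat_lit 11, nat_lit 12],
  [nat_lit 5, nat_lit 9, nat_lit 5, nat_lit 10, nat_lit 11, nat_lit 12, nat_lit 13],
  [nat_lit 8, nat_lit 5, nat_lit 11, nat_lit 10, nat_lit 9, nat_lit 12],
  [nat_lit 7, nat_lit 9, nat_lit 11, nat_lit 10, nat_lit 12],
  [nat_lit 6, nat_lit 8, nat_lit 12, nat_lit 10],
  [nat_lit 5, nat_lit 9, nat_lit 11, nat_lit 10, nat_lit 12, nat_lit 10],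
  [nat_lit 7, nat_lit 8, nat_lit 12, nat_lit 13],
  [nat_lit 6, nat_lit 8, nat_lit 12],
  [nat_lit 5, nat_lit 10, nat_lit 12, nat_lit 5, nat_lit 11],
  [nat_lit 9, nat_lit 12, nat_lit 10, nat_lit 11, nat_lit 8, nat_lit 5],
  [nat_lit 9, nat_lit 5, nat_lit 11, nat_lit 10, nat_lit 12],
  [nat_lit 5, nat_lit 8, nat_lit 5, nat_lit 12],
  [nat_lit 5, nat_lit 8, nat_lit 12, nat_lit 10, nat_lit 13],
  [nat_lit 5, nat_lit 10, nat_lit 12, nat_lit 11, nat_lit 5, nat_lit 13],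
  [nat_lit 5, nat_lit 8, nat_lit 13, nat_lit 12, nat_lit 11],
  [nat_lit 6, nat_lit 8, nat_lit 5, nat_lit 13, nat_lit 12, nat_lit 11],
  [nat_lit 5, nat_lit 8, nat_lit 5, nat_lit 11],
  [nat_lit 6, nat_lit 7, nat_lit 9, nat_lit 10],
  [nat_lit 13, nat_lit 12, nat_lit 10],
  [nat_lit 8, nat_lit 10, nat_lit 8, nat_lit 5, nat_lit 11, nat_lit 13, nat_lit 12],
  [nat_lit 12, nat_lit 12, nat_lit 10, nat_lit 11, nat_lit 13],
  [nat_lit 8, nat_lit 5, nat_lit 8, nat_lit 10],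
  [nat_lit 8, nat_lit 10, nat_lit 13, nat_lit 5, nat_lit 9, nat_lit 12],
  [nat_lit 6, nat_lit 8, nat_lit 11, nat_lit 5],
  [nat_lit 6, nat_lit 8, nat_lit 11],
  [nat_lit 9, nat_lit 11, nat_lit 9, nat_lit 10, nat_lit 9],
  [nat_lit 5, nat_lit 8, nat_lit 10, nat_lit 8, nat_lit 11, nat_lit 8],
  [nat_lit 5, nat_lit 11, nat_lit 8, nat_lit 5, nat_lit 11, nat_lit 10, nat_lit 9],
  [nat_lit 6, nat_lit 9, nat_lit 5, nat_lit 10],
  [nat_lit 5, nat_lit 8, nat_lit 13, nat_lit 12, nat_lit 11, nat_lit 5],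
  [nat_lit 5, nat_lit 6, nat_lit 9, nat_lit 10],
  [nat_lit 8, nat_lit 5, nat_lit 10, nat_lit 8, nat_lit 11, nat_lit 13, nat_lit 12],
  [nat_lit 13, nat_lit 5, nat_lit 11, nat_lit 12],
  [nat_lit 5, nat_lit 8, nat_lit 13, nat_lit 5, nat_lit 10, nat_lit 9, nat_lit 12],
  [nat_lit 8, nat_lit 5, nat_lit 11, nat_lit 10, nat_lit 9, nat_lit 11],
  [nat_lit 5, nat_lit 6, nat_lit 7, nat_lit 8, nat_lit 11],
  [nat_lit 7, nat_lit 8, nat_lit 13, nat_lit 12, nat_lit 11],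
  [nat_lit 13, nat_lit 12, nat_lit 10, nat_lit 5],
  [nat_lit 6, nat_lit 10, nat_lit 5, nat_lit 12, nat_lit 11],
  [nat_lit 9, nat_lit 12, nat_lit 10, nat_lit 11, nat_lit 8],
  [nat_lit 5, nat_lit 6, nat_lit 12, nat_lit 11, nat_lit 5, nat_lit 13],
  [nat_lit 8, nat_lit 10, nat_lit 5, nat_lit 9, nat_lit 12],
  [nat_lit 9, nat_lit 5, nat_lit 11, nat_lit 12, nat_lit 13],
  [nat_lit 5, nat_lit 12, nat_lit 5, nat_lit 11, nat_lit 9, nat_lit 10],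
  [nat_lit 12, nat_lit 5, nat_lit 11, nat_lit 13],
  [nat_lit 6, nat_lit 8, nat_lit 12, nat_lit 5],
  [nat_lit 5, nat_lit 9, nat_lit 11, nat_lit 12, nat_lit 13],
  [nat_lit 9, nat_lit 10, nat_lit 5, nat_lit 12, nat_lit 13, nat_lit 11, nat_lit 9],
  [nat_lit 8, nat_lit 5, nat_lit 9, nat_lit 12, nat_lit 11, nat_lit 5, nat_lit 13],
  [nat_lit 8, nat_lit 10, nat_lit 5, nat_lit 12, nat_lit 13],
  [nat_lit 6, nat_lit 12, nat_lit 11, nat_lit 5, nat_lit 9, nat_lit 10],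
  [nat_lit 7, nat_lit 9, nat_lit 11, nat_lit 12, nat_lit 13],
  [nat_lit 12, nat_lit 13, nat_lit 11, nat_lit 9, nat_lit 10, nat_lit 9],
  [nat_lit 5, nat_lit 8, nat_lit 5, nat_lit 10, nat_lit 12, nat_lit 13],
  [nat_lit 6, nat_lit 8, nat_lit 10, nat_lit 12, nat_lit 13],
  [nat_lit 6, nat_lit 8, nat_lit 12, nat_lit 10, nat_lit 5],
  [nat_lit 5, nat_lit 8, nat_lit 5, nat_lit 12, nat_lit 5],
  [nat_lit 12, nat_lit 10, nat_lit 8, nat_lit 5],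
  [nat_lit 5, nat_lit 6, nat_lit 12, nat_lit 11, nat_lit 5, nat_lit 9],
  [nat_lit 6, nat_lit 10, nat_lit 12, nat_lit 11],
  [nat_lit 12, nat_lit 5, nat_lit 11, nat_lit 9],
  [nat_lit 5, nat_lit 8, nat_lit 12, nat_lit 13, nat_lit 5],
  [nat_lit 5, nat_lit 8, nat_lit 10, nat_lit 13, nat_lit 5, nat_lit 9, nat_lit 12],
  [nat_lit 6, nat_lit 13, nat_lit 5, nat_lit 12],
  [nat_lit 5, nat_lit 9, nat_lit 11, nat_lit 9, nat_lit 10, nat_lit 9],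
  [nat_lit 8, nat_lit 13, nat_lit 5, nat_lit 10, nat_lit 9, nat_lit 12, nat_lit 5],
  [nat_lit 5, nat_lit 13, nat_lit 12, nat_lit 10],
  [nat_lit 11, nat_lit 8, nat_lit 5, nat_lit 11, nat_lit 10, nat_lit 9],
  [nat_lit 5, nat_lit 13, nat_lit 5, nat_lit 11, nat_lit 12],
  [nat_lit 6, nat_lit 13, nat_lit 11, nat_lit 5, nat_lit 12],
  [nat_lit 8, nat_lit 10, nat_lit 8, nat_lit 11, nat_lit 8],
  [nat_lit 6, nat_lit 9, nat_lit 10, nat_lit 5],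
  [nat_lit 8, nat_lit 5, nat_lit 11],
  [nat_lit 5, nat_lit 6, nat_lit 8, nat_lit 11],
  [nat_lit 5, nat_lit 6, nat_lit 7, nat_lit 9, nat_lit 10],
  [nat_lit 6, nat_lit 8, nat_lit 13, nat_lit 11, nat_lit 12, nat_lit 11],
  [nat_lit 8, nat_lit 13, nat_lit 12, nat_lit 11],
  [nat_lit 8, nat_lit 13, nat_lit 12, nat_lit 11, nat_lit 5],
  [nat_lit 8, nat_lit 13, nat_lit 5, nat_lit 10, nat_lit 9, nat_lit 12],
  [nat_lit 8, nat_lit 10, nat_lit 5, nat_lit 8, nat_lit 11, nat_lit 13, nat_lit 12],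
  [nat_lit 8, nat_lit 10, nat_lit 8, nat_lit 11, nat_lit 5, nat_lit 8],
  [nat_lit 6, nat_lit 7, nat_lit 8, nat_lit 11],
  [nat_lit 5, nat_lit 6, nat_lit 9, nat_lit 5, nat_lit 10],
  [nat_lit 6, nat_lit 9, nat_lit 10],
  [nat_lit 5, nat_lit 6, nat_lit 8, nat_lit 11, nat_lit 5],
  [nat_lit 5, nat_lit 7, nat_lit 8, nat_lit 13, nat_lit 12, nat_lit 11],
  [nat_lit 5, nat_lit 11, nat_lit 9, nat_lit 10, nat_lit 12],
  [nat_lit 7, nat_lit 10, nat_lit 12, nat_lit 5, nat_lit 13],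
  [nat_lit 5, nat_lit 9, nat_lit 10, nat_lit 12, nat_lit 5, nat_lit 10],
  [nat_lit 5, nat_lit 13, nat_lit 5, nat_lit 10, nat_lit 11, nat_lit 12, nat_lit 12],
  [nat_lit 8, nat_lit 12, nat_lit 11, nat_lit 10, nat_lit 13],
  [nat_lit 8, nat_lit 10, nat_lit 5, nat_lit 9, nat_lit 11, nat_lit 12],
  [nat_lit 11, nat_lit 8, nat_lit 5, nat_lit 12],
  [nat_lit 6, nat_lit 8, nat_lit 12, nat_lit 11, nat_lit 13],
  [nat_lit 9, nat_lit 10, nat_lit 12, nat_lit 10, nat_lit 5],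
  [nat_lit 10, nat_lit 13, nat_lit 5, nat_lit 11, nat_lit 12, nat_lit 12],
  [nat_lit 5, nat_lit 8, nat_lit 5, nat_lit 12, nat_lit 11, nat_lit 13],
  [nat_lit 10, nat_lit 9, nat_lit 5, nat_lit 11, nat_lit 12, nat_lit 13],
  [nat_lit 7, nat_lit 11, nat_lit 8, nat_lit 12],
  [nat_lit 7, nat_lit 11, nat_lit 10, nat_lit 12, nat_lit 11],
  [nat_lit 10, nat_lit 5, nat_lit 9, nat_lit 5, nat_lit 11, nat_lit 12, nat_lit 13],
  [nat_lit 9, nat_lit 5, nat_lit 12, nat_lit 11, nat_lit 5, nat_lit 8],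
  [nat_lit 9, nat_lit 12, nat_lit 10, nat_lit 5, nat_lit 9],
  [nat_lit 5, nat_lit 11, nat_lit 8, nat_lit 12],
  [nat_lit 5, nat_lit 11, nat_lit 10, nat_lit 12, nat_lit 11],
  [nat_lit 5, nat_lit 12, nat_lit 13, nat_lit 5, nat_lit 11, nat_lit 8],
  [nat_lit 6, nat_lit 10, nat_lit 9, nat_lit 11, nat_lit 12, nat_lit 13],
  [nat_lit 7, nat_lit 11, nat_lit 9, nat_lit 10, nat_lit 12],
  [nat_lit 5, nat_lit 12, nat_lit 13, nat_lit 5, nat_lit 9],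
  [nat_lit 5, nat_lit 10, nat_lit 12, nat_lit 5, nat_lit 13],
  [nat_lit 12, nat_lit 10, nat_lit 11, nat_lit 9],
  [nat_lit 12, nat_lit 11, nat_lit 10, nat_lit 8, nat_lit 13],
  [nat_lit 5, nat_lit 6, nat_lit 8, nat_lit 11, nat_lit 12],
  [nat_lit 5, nat_lit 13, nat_lit 5, nat_lit 11, nat_lit 12, nat_lit 12],
  [nat_lit 9, nat_lit 5, nat_lit 11, nat_lit 12, nat_lit 11, nat_lit 8],
  [nat_lit 12, nat_lit 5, nat_lit 8],
  [nat_lit 9, nat_lit 11, nat_lit 12, nat_lit 11, nat_lit 10, nat_lit 13],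
  [nat_lit 8, nat_lit 5, nat_lit 12, nat_lit 11, nat_lit 13, nat_lit 5],
  [nat_lit 5, nat_lit 9, nat_lit 11, nat_lit 5, nat_lit 12, nat_lit 11, nat_lit 13],
  [nat_lit 8, nat_lit 5, nat_lit 11, nat_lit 12],
  [nat_lit 12, nat_lit 10, nat_lit 5, nat_lit 13],
  [nat_lit 6, nat_lit 13, nat_lit 11, nat_lit 5, nat_lit 12, nat_lit 12],
  [nat_lit 6, nat_lit 12, nat_lit 5, nat_lit 13],
  [nat_lit 12, nat_lit 11, nat_lit 8, nat_lit 13],
  [nat_lit 8, nat_lit 12, nat_lit 5, nat_lit 8, nat_lit 11, nat_lit 13],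
  [nat_lit 12, nat_lit 5, nat_lit 9, nat_lit 10, nat_lit 9],
  [nat_lit 11, nat_lit 10, nat_lit 12, nat_lit 11, nat_lit 5],
  [nat_lit 6, nat_lit 9, nat_lit 10, nat_lit 12],
  [nat_lit 9, nat_lit 10, nat_lit 5, nat_lit 9, nat_lit 12, nat_lit 13],
  [nat_lit 5, nat_lit 6, nat_lit 9, nat_lit 11, nat_lit 12, nat_lit 11, nat_lit 13],
  [nat_lit 6, nat_lit 9, nat_lit 10, nat_lit 5, nat_lit 12],
  [nat_lit 8, nat_lit 5, nat_lit 10, nat_lit 12, nat_lit 5, nat_lit 9],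
  [nat_lit 5, nat_lit 9, nat_lit 11, nat_lit 12, nat_lit 11, nat_lit 8],
  [nat_lit 5, nat_lit 9, nat_lit 10, nat_lit 12, nat_lit 10],
  [nat_lit 12, nat_lit 10, nat_lit 9],
  [nat_lit 12, nat_lit 11, nat_lit 13, nat_lit 11, nat_lit 9],
  [nat_lit 12, nat_lit 11, nat_lit 10, nat_lit 13, nat_lit 11, nat_lit 9],
  [nat_lit 9, nat_lit 12, nat_lit 10],
  [nat_lit 6, nat_lit 11, nat_lit 12, nat_lit 5, nat_lit 11],
  [nat_lit 5, nat_lit 12, nat_lit 13],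
  [nat_lit 5, nat_lit 13, nat_lit 11, nat_lit 12, nat_lit 12],
  [nat_lit 5, nat_lit 6, nat_lit 9, nat_lit 5, nat_lit 12],
  [nat_lit 8, nat_lit 5, nat_lit 11, nat_lit 10, nat_lit 12],
  [nat_lit 12, nat_lit 11, nat_lit 8, nat_lit 10, nat_lit 5, nat_lit 13],
  [nat_lit 5, nat_lit 12, nat_lit 11, nat_lit 8, nat_lit 5, nat_lit 10, nat_lit 13],
  [nat_lit 5, nat_lit 11, nat_lit 12, nat_lit 11, nat_lit 5],
  [nat_lit 5, nat_lit 8, nat_lit 10, nat_lit 11, nat_lit 12],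
  [nat_lit 6, nat_lit 9, nat_lit 12],
  [nat_lit 7, nat_lit 12, nat_lit 13],
  [nat_lit 5, nat_lit 12, nat_lit 5, nat_lit 9, nat_lit 11, nat_lit 10, nat_lit 13],
  [nat_lit 5, nat_lit 8, nat_lit 11, nat_lit 10, nat_lit 12, nat_lit 10],
  [nat_lit 7, nat_lit 13, nat_lit 11, nat_lit 12, nat_lit 12],
  [nat_lit 5, nat_lit 9, nat_lit 11, nat_lit 10, nat_lit 12, nat_lit 10, nat_lit 8],
  [nat_lit 6, nat_lit 9, nat_lit 12, nat_lit 11, nat_lit 13, nat_lit 11],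
  [nat_lit 9, nat_lit 12, nat_lit 10, nat_lit 11, nat_lit 13, nat_lit 11],
  [nat_lit 7, nat_lit 8, nat_lit 10, nat_lit 11, nat_lit 12],
  [nat_lit 12, nat_lit 5, nat_lit 10, nat_lit 9, nat_lit 11, nat_lit 13],
  [nat_lit 9, nat_lit 5, nat_lit 11, nat_lit 8, nat_lit 12, nat_lit 11],
  [nat_lit 5, nat_lit 13, nat_lit 12],
  [nat_lit 7, nat_lit 13, nat_lit 11, nat_lit 12],
  [nat_lit 7, nat_lit 9, nat_lit 11, nat_lit 10, nat_lit 8],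
  [nat_lit 5, nat_lit 8, nat_lit 5, nat_lit 8],
  [nat_lit 13, nat_lit 12, nat_lit 10, nat_lit 11, nat_lit 8],
  [nat_lit 8, nat_lit 13, nat_lit 5, nat_lit 11, nat_lit 12, nat_lit 11],
  [nat_lit 8, nat_lit 13, nat_lit 12, nat_lit 11, nat_lit 10],
  [nat_lit 5, nat_lit 6, nat_lit 9, nat_lit 5],
  [nat_lit 6, nat_lit 13, nat_lit 5, nat_lit 12, nat_lit 11, nat_lit 8, nat_lit 5],
  [nat_lit 8, nat_lit 5, nat_lit 8, nat_lit 10, nat_lit 11, nat_lit 8],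
  [nat_lit 7, nat_lit 8, nat_lit 10, nat_lit 11],
  [nat_lit 5, nat_lit 8, nat_lit 10, nat_lit 11],
  [nat_lit 9, nat_lit 5, nat_lit 9, nat_lit 10, nat_lit 11],
  [nat_lit 6, nat_lit 9],
  [nat_lit 9, nat_lit 5, nat_lit 11, nat_lit 10, nat_lit 8],
  [nat_lit 13, nat_lit 5, nat_lit 11, nat_lit 12, nat_lit 11, nat_lit 8],
  [nat_lit 8, nat_lit 13, nat_lit 5, nat_lit 12, nat_lit 11, nat_lit 5],
  [nat_lit 8, nat_lit 5, nat_lit 11, nat_lit 10],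
  [nat_lit 5, nat_lit 6, nat_lit 7, nat_lit 9],
  [nat_lit 7, nat_lit 13, nat_lit 12],
  [nat_lit 13, nat_lit 5, nat_lit 12, nat_lit 11, nat_lit 5, nat_lit 8],
  [nat_lit 5, nat_lit 9, nat_lit 11, nat_lit 10, nat_lit 8],
  [nat_lit 5, nat_lit 13, nat_lit 11, nat_lit 12],
  [nat_lit 5, nat_lit 8, nat_lit 13, nat_lit 5, nat_lit 12, nat_lit 11],
  [nat_lit 6, nat_lit 8, nat_lit 10, nat_lit 13, nat_lit 12],
  [nat_lit 5, nat_lit 9, nat_lit 11, nat_lit 9],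
  [nat_lit 13, nat_lit 12, nat_lit 11, nat_lit 5, nat_lit 9],
  [nat_lit 8, nat_lit 10, nat_lit 5, nat_lit 13, nat_lit 12],
  [nat_lit 8, nat_lit 5, nat_lit 11, nat_lit 8, nat_lit 10],
  [nat_lit 6, nat_lit 8, nat_lit 10, nat_lit 9],
  [nat_lit 8, nat_lit 10, nat_lit 5, nat_lit 9],
  [nat_lit 5, nat_lit 8, nat_lit 5, nat_lit 10, nat_lit 9],
  [nat_lit 8, nat_lit 11, nat_lit 8, nat_lit 5, nat_lit 10],
  [nat_lit 10, nat_lit 13, nat_lit 12, nat_lit 11, nat_lit 10],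
  [nat_lit 9, nat_lit 5, nat_lit 11, nat_lit 13, nat_lit 12],
  [nat_lit 5, nat_lit 11, nat_lit 9, nat_lit 10, nat_lit 11],
  [nat_lit 7, nat_lit 11, nat_lit 9, nat_lit 10, nat_lit 11],
  [nat_lit 10, nat_lit 13, nat_lit 5, nat_lit 11, nat_lit 12, nat_lit 11],
  [nat_lit 8, nat_lit 13, nat_lit 5, nat_lit 12, nat_lit 5, nat_lit 9],
  [nat_lit 5, nat_lit 13, nat_lit 5, nat_lit 10, nat_lit 11, nat_lit 12, nat_lit 11],
  [nat_lit 9, nat_lit 5, nat_lit 11, nat_lit 9],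
  [nat_lit 5, nat_lit 9, nat_lit 11, nat_lit 13, nat_lit 12],
  [nat_lit 7, nat_lit 9, nat_lit 11, nat_lit 9],
  [nat_lit 8, nat_lit 10, nat_lit 9, nat_lit 5],
  [nat_lit 8, nat_lit 13, nat_lit 11, nat_lit 10, nat_lit 12],
  [nat_lit 7, nat_lit 9, nat_lit 11, nat_lit 13, nat_lit 12],
  [nat_lit 11, nat_lit 8, nat_lit 5, nat_lit 11],
  [nat_lit 5, nat_lit 10, nat_lit 13, nat_lit 5, nat_lit 12, nat_lit 11],
  [nat_lit 5, nat_lit 13, nat_lit 12, nat_lit 11, nat_lit 8],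
  [nat_lit 7, nat_lit 13, nat_lit 11, nat_lit 12, nat_lit 11, nat_lit 8],
  [nat_lit 7, nat_lit 10, nat_lit 8, nat_lit 11, nat_lit 10],
  [nat_lit 9, nat_lit 11, nat_lit 5, nat_lit 8],
  [nat_lit 8, nat_lit 13, nat_lit 5, nat_lit 11, nat_lit 8, nat_lit 12],
  [nat_lit 8, nat_lit 11, nat_lit 13, nat_lit 12, nat_lit 11],
  [nat_lit 6, nat_lit 11, nat_lit 13, nat_lit 12, nat_lit 10],
  [nat_lit 9, nat_lit 5, nat_lit 11, nat_lit 8, nat_lit 5],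
  [nat_lit 8, nat_lit 11, nat_lit 13, nat_lit 11, nat_lit 12, nat_lit 11],
  [nat_lit 9, nat_lit 10, nat_lit 9, nat_lit 11, nat_lit 5],
  [nat_lit 6, nat_lit 9, nat_lit 5, nat_lit 10, nat_lit 9, nat_lit 11],
  [nat_lit 6, nat_lit 9, nat_lit 11, nat_lit 8],
  [nat_lit 7, nat_lit 8, nat_lit 10, nat_lit 8],
  [nat_lit 5, nat_lit 8, nat_lit 10, nat_lit 8],
  [nat_lit 6, nat_lit 8, nat_lit 10, nat_lit 8, nat_lit 5],
  [nat_lit 5, nat_lit 11, nat_lit 13, nat_lit 5, nat_lit 13],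
  [nat_lit 7, nat_lit 13, nat_lit 12, nat_lit 11, nat_lit 8],
  [nat_lit 8, nat_lit 11, nat_lit 5, nat_lit 13, nat_lit 12, nat_lit 11],
  [nat_lit 11, nat_lit 13, nat_lit 5, nat_lit 11, nat_lit 12],
  [nat_lit 13, nat_lit 12, nat_lit 10, nat_lit 5, nat_lit 9, nat_lit 11],
  [nat_lit 5, nat_lit 10, nat_lit 8, nat_lit 11, nat_lit 10],
  [nat_lit 5, nat_lit 13, nat_lit 11, nat_lit 12, nat_lit 11, nat_lit 8],
  [nat_lit 5, nat_lit 11, nat_lit 13, nat_lit 5, nat_lit 12],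
  [nat_lit 6, nat_lit 8, nat_lit 5, nat_lit 10, nat_lit 8],
  [nat_lit 8, nat_lit 12, nat_lit 12, nat_lit 11, nat_lit 13],
  [nat_lit 9, nat_lit 10, nat_lit 5, nat_lit 11],
  [nat_lit 6, nat_lit 8, nat_lit 5],
  [nat_lit 5, nat_lit 7, nat_lit 9, nat_lit 10, nat_lit 11],
  [nat_lit 13, nat_lit 5, nat_lit 12, nat_lit 11],
  [nat_lit 5, nat_lit 7, nat_lit 8, nat_lit 11, nat_lit 10, nat_lit 9],
  [nat_lit 5, nat_lit 13, nat_lit 11, nat_lit 12, nat_lit 11, nat_lit 10],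
  [nat_lit 5, nat_lit 13, nat_lit 12, nat_lit 11, nat_lit 10],
  [nat_lit 8, nat_lit 5, nat_lit 8, nat_lit 10, nat_lit 11, nat_lit 13, nat_lit 12],
  [nat_lit 9, nat_lit 10, nat_lit 11],
  [nat_lit 5, nat_lit 8],
  [nat_lit 8, nat_lit 13, nat_lit 11, nat_lit 12],
  [nat_lit 6, nat_lit 13, nat_lit 11, nat_lit 9, nat_lit 12],
  [nat_lit 5, nat_lit 9, nat_lit 11, nat_lit 10, nat_lit 13, nat_lit 12],
  [nat_lit 13, nat_lit 11, nat_lit 5, nat_lit 12, nat_lit 11],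
  [nat_lit 6, nat_lit 8, nat_lit 13, nat_lit 12],
  [nat_lit 8, nat_lit 11, nat_lit 10, nat_lit 9],
  [nat_lit 7, nat_lit 9, nat_lit 11, nat_lit 10, nat_lit 13, nat_lit 12],
  [nat_lit 5, nat_lit 8, nat_lit 5, nat_lit 10, nat_lit 11, nat_lit 9],
  [nat_lit 8, nat_lit 10, nat_lit 5, nat_lit 11, nat_lit 9],
  [nat_lit 9, nat_lit 5, nat_lit 9],
  [nat_lit 5, nat_lit 9, nat_lit 5, nat_lit 10, nat_lit 11],
  [nat_lit 9, nat_lit 5, nat_lit 11, nat_lit 10, nat_lit 13, nat_lit 12],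
  [nat_lit 7, nat_lit 8],
  [nat_lit 5, nat_lit 11, nat_lit 13, nat_lit 5, nat_lit 11, nat_lit 12],
  [nat_lit 5, nat_lit 8, nat_lit 11, nat_lit 13, nat_lit 12, nat_lit 11],
  [nat_lit 11, nat_lit 13, nat_lit 12, nat_lit 10, nat_lit 5],
  [nat_lit 6, nat_lit 13, nat_lit 5, nat_lit 9, nat_lit 12, nat_lit 11],
  [nat_lit 6, nat_lit 8, nat_lit 10, nat_lit 5, nat_lit 8],
  [nat_lit 10, nat_lit 5, nat_lit 9, nat_lit 10],
  [nat_lit 6, nat_lit 11, nat_lit 13, nat_lit 11, nat_lit 5, nat_lit 12],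
  [nat_lit 11, nat_lit 13, nat_lit 5, nat_lit 12],
  [nat_lit 11, nat_lit 13, nat_lit 5, nat_lit 13],
  [nat_lit 6, nat_lit 10, nat_lit 9, nat_lit 5, nat_lit 10],
  [nat_lit 6, nat_lit 9, nat_lit 10, nat_lit 9, nat_lit 5, nat_lit 11],
  [nat_lit 5, nat_lit 8, nat_lit 11, nat_lit 13, nat_lit 11, nat_lit 12, nat_lit 11],
  [nat_lit 5, nat_lit 8, nat_lit 11, nat_lit 5, nat_lit 13, nat_lit 12, nat_lit 11],
  [nat_lit 8, nat_lit 10, nat_lit 8],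
  [nat_lit 5, nat_lit 9, nat_lit 11, nat_lit 5, nat_lit 8],
  [nat_lit 5, nat_lit 9, nat_lit 10, nat_lit 9, nat_lit 11, nat_lit 5],
  [nat_lit 6, nat_lit 9, nat_lit 5, nat_lit 11, nat_lit 8],
  [nat_lit 10, nat_lit 8, nat_lit 11, nat_lit 10],
  [nat_lit 9, nat_lit 11, nat_lit 8, nat_lit 5],
  [nat_lit 10, nat_lit 5, nat_lit 8, nat_lit 11, nat_lit 10],
  [nat_lit 13, nat_lit 11, nat_lit 12, nat_lit 11, nat_lit 8],
  [nat_lit 13, nat_lit 12, nat_lit 11, nat_lit 8],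
  [nat_lit 8, nat_lit 10, nat_lit 13, nat_lit 11, nat_lit 9, nat_lit 12],
  [nat_lit 5, nat_lit 7, nat_lit 13, nat_lit 12, nat_lit 11, nat_lit 8],
  [nat_lit 9, nat_lit 13, nat_lit 11, nat_lit 12, nat_lit 11],
  [nat_lit 11, nat_lit 9, nat_lit 10, nat_lit 5, nat_lit 9],
  [nat_lit 11, nat_lit 8, nat_lit 5, nat_lit 9],
  [nat_lit 5, nat_lit 10, nat_lit 13, nat_lit 5, nat_lit 9, nat_lit 12],
  [nat_lit 13, nat_lit 5, nat_lit 10, nat_lit 9, nat_lit 12],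
  [nat_lit 5, nat_lit 11, nat_lit 8, nat_lit 10, nat_lit 8],
  [nat_lit 5, nat_lit 11, nat_lit 9, nat_lit 10, nat_lit 9],
  [nat_lit 11, nat_lit 10, nat_lit 13, nat_lit 5, nat_lit 11, nat_lit 12],
  [nat_lit 7, nat_lit 11, nat_lit 9, nat_lit 10, nat_lit 9],
  [nat_lit 5, nat_lit 13, nat_lit 5, nat_lit 10, nat_lit 11, nat_lit 9, nat_lit 12],
  [nat_lit 5, nat_lit 11],
  [nat_lit 11, nat_lit 10, nat_lit 13, nat_lit 12, nat_lit 10],
  [nat_lit 10, nat_lit 11, nat_lit 9, nat_lit 5, nat_lit 10],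
  [nat_lit 11, nat_lit 8, nat_lit 5, nat_lit 10, nat_lit 8],
  [nat_lit 9, nat_lit 5, nat_lit 8, nat_lit 11],
  [nat_lit 10, nat_lit 13, nat_lit 11, nat_lit 8, nat_lit 12],
  [nat_lit 9, nat_lit 13, nat_lit 12, nat_lit 11, nat_lit 5],
  [nat_lit 5, nat_lit 10, nat_lit 11, nat_lit 13, nat_lit 5, nat_lit 12],
  [nat_lit 10, nat_lit 11, nat_lit 8, nat_lit 5, nat_lit 10],
  [nat_lit 6, nat_lit 9, nat_lit 13, nat_lit 12, nat_lit 11],
  [nat_lit 10, nat_lit 8, nat_lit 11, nat_lit 5, nat_lit 13, nat_lit 12],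
  [nat_lit 5, nat_lit 10, nat_lit 11, nat_lit 13, nat_lit 11, nat_lit 5, nat_lit 12],
  [nat_lit 7, nat_lit 11, nat_lit 8, nat_lit 10, nat_lit 8],
  [nat_lit 7, nat_lit 11],
  [nat_lit 12, nat_lit 10, nat_lit 8, nat_lit 11],
  [nat_lit 5, nat_lit 8, nat_lit 12, nat_lit 10, nat_lit 13, nat_lit 11],
  [nat_lit 8, nat_lit 12, nat_lit 11, nat_lit 10],
  [nat_lit 5, nat_lit 9, nat_lit 12, nat_lit 5, nat_lit 13, nat_lit 5],
  [nat_lit 6, nat_lit 11, nat_lit 9, nat_lit 12, nat_lit 13, nat_lit 5],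
  [nat_lit 5, nat_lit 8, nat_lit 5, nat_lit 12, nat_lit 11],
  [nat_lit 8, nat_lit 5, nat_lit 11, nat_lit 9, nat_lit 10, nat_lit 12],
  [nat_lit 5, nat_lit 8, nat_lit 12, nat_lit 13, nat_lit 11],
  [nat_lit 6, nat_lit 10, nat_lit 9, nat_lit 11, nat_lit 12],
  [nat_lit 9, nat_lit 5, nat_lit 12, nat_lit 5, nat_lit 13, nat_lit 5],
  [nat_lit 5, nat_lit 9, nat_lit 10, nat_lit 12, nat_lit 5, nat_lit 10, nat_lit 13],
  [nat_lit 9, nat_lit 5, nat_lit 12, nat_lit 11, nat_lit 5, nat_lit 8, nat_lit 13],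
  [nat_lit 10, nat_lit 5, nat_lit 9, nat_lit 5, nat_lit 11, nat_lit 12],
  [nat_lit 6, nat_lit 11, nat_lit 12, nat_lit 11, nat_lit 13, nat_lit 5],
  [nat_lit 5, nat_lit 10, nat_lit 12, nat_lit 5],
  [nat_lit 5, nat_lit 8, nat_lit 12, nat_lit 11, nat_lit 5, nat_lit 8],
  [nat_lit 7, nat_lit 10, nat_lit 12, nat_lit 5],
  [nat_lit 5, nat_lit 11, nat_lit 10, nat_lit 12, nat_lit 11, nat_lit 13],
  [nat_lit 6, nat_lit 8, nat_lit 12, nat_lit 11],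
  [nat_lit 11, nat_lit 8, nat_lit 5, nat_lit 12, nat_lit 13],
  [nat_lit 8, nat_lit 10, nat_lit 5, nat_lit 9, nat_lit 11, nat_lit 12, nat_lit 13],
  [nat_lit 7, nat_lit 8, nat_lit 12, nat_lit 13, nat_lit 11],
  [nat_lit 9, nat_lit 5, nat_lit 8, nat_lit 10, nat_lit 12, nat_lit 5],
  [nat_lit 10, nat_lit 9, nat_lit 5, nat_lit 11, nat_lit 12],
  [nat_lit 5, nat_lit 11, nat_lit 10, nat_lit 12],
  [nat_lit 11, nat_lit 10, nat_lit 9, nat_lit 12, nat_lit 13],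
  [nat_lit 10, nat_lit 9, nat_lit 12, nat_lit 10, nat_lit 5, nat_lit 13],
  [nat_lit 11, nat_lit 10, nat_lit 13, nat_lit 11, nat_lit 12, nat_lit 12],
  [nat_lit 5, nat_lit 10, nat_lit 9, nat_lit 12, nat_lit 10, nat_lit 5],
  [nat_lit 11, nat_lit 10, nat_lit 12, nat_lit 13],
  [nat_lit 10, nat_lit 11, nat_lit 8, nat_lit 5, nat_lit 12],
  [nat_lit 8, nat_lit 5, nat_lit 9, nat_lit 10, nat_lit 11, nat_lit 12],
  [nat_lit 9, nat_lit 5, nat_lit 8, nat_lit 11, nat_lit 10, nat_lit 12],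
  [nat_lit 5, nat_lit 10, nat_lit 9, nat_lit 12, nat_lit 5, nat_lit 10, nat_lit 13],
  [nat_lit 5, nat_lit 11, nat_lit 13, nat_lit 11, nat_lit 12, nat_lit 12, nat_lit 5],
  [nat_lit 5, nat_lit 8, nat_lit 5, nat_lit 12, nat_lit 11, nat_lit 13, nat_lit 11],
  [nat_lit 5, nat_lit 11, nat_lit 10, nat_lit 9, nat_lit 12],
  [nat_lit 5, nat_lit 11, nat_lit 8, nat_lit 12, nat_lit 11],
  [nat_lit 10, nat_lit 9, nat_lit 12, nat_lit 5, nat_lit 10],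
  [nat_lit 5, nat_lit 11, nat_lit 8, nat_lit 12, nat_lit 11, nat_lit 10],
  [nat_lit 11, nat_lit 8, nat_lit 12, nat_lit 11, nat_lit 13],
  [nat_lit 7, nat_lit 11, nat_lit 10, nat_lit 12],
  [nat_lit 11, nat_lit 10, nat_lit 12, nat_lit 10, nat_lit 13],
  [nat_lit 7, nat_lit 11, nat_lit 8, nat_lit 12, nat_lit 11],
  [nat_lit 8, nat_lit 12, nat_lit 11, nat_lit 10, nat_lit 13, nat_lit 11],
  [nat_lit 10, nat_lit 9, nat_lit 12, nat_lit 5],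
  [nat_lit 5, nat_lit 12, nat_lit 13, nat_lit 5, nat_lit 9, nat_lit 11],
  [nat_lit 5, nat_lit 10, nat_lit 9, nat_lit 12, nat_lit 5, nat_lit 13],
  [nat_lit 5, nat_lit 8, nat_lit 11, nat_lit 9],
  [nat_lit 9, nat_lit 13, nat_lit 11, nat_lit 10, nat_lit 12],
  [nat_lit 6, nat_lit 9, nat_lit 10, nat_lit 13, nat_lit 12],
  [nat_lit 6, nat_lit 13, nat_lit 11, nat_lit 8, nat_lit 10, nat_lit 12],
  [nat_lit 8, nat_lit 10, nat_lit 5, nat_lit 8, nat_lit 11],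
  [nat_lit 9, nat_lit 10, nat_lit 5, nat_lit 9],
  [nat_lit 10, nat_lit 9, nat_lit 5, nat_lit 10, nat_lit 11],
  [nat_lit 9, nat_lit 10, nat_lit 9, nat_lit 5],
  [nat_lit 10, nat_lit 9, nat_lit 11, nat_lit 10],
  [nat_lit 13, nat_lit 5, nat_lit 9, nat_lit 12],
  [nat_lit 5, nat_lit 11, nat_lit 13, nat_lit 11, nat_lit 12, nat_lit 11, nat_lit 10],
  [nat_lit 10, nat_lit 5, nat_lit 8, nat_lit 10],
  [nat_lit 9, nat_lit 10, nat_lit 9],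
  [nat_lit 6, nat_lit 11, nat_lit 13, nat_lit 5, nat_lit 12, nat_lit 11],
  [nat_lit 5, nat_lit 8, nat_lit 11, nat_lit 5, nat_lit 9],
  [nat_lit 13, nat_lit 5, nat_lit 9, nat_lit 11, nat_lit 12],
  [nat_lit 11, nat_lit 13, nat_lit 11, nat_lit 5, nat_lit 12, nat_lit 11],
  [nat_lit 6, nat_lit 8, nat_lit 5, nat_lit 11, nat_lit 9],
  [nat_lit 13, nat_lit 5, nat_lit 12, nat_lit 5, nat_lit 9],
  [nat_lit 8, nat_lit 5, nat_lit 11, nat_lit 13, nat_lit 12],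
  [nat_lit 6, nat_lit 13, nat_lit 5, nat_lit 13],
  [nat_lit 5, nat_lit 11, nat_lit 13, nat_lit 12, nat_lit 10, nat_lit 11],
  [nat_lit 10, nat_lit 5, nat_lit 9, nat_lit 11, nat_lit 10],
  [nat_lit 6, nat_lit 9, nat_lit 10, nat_lit 5, nat_lit 13, nat_lit 12],
  [nat_lit 5, nat_lit 7, nat_lit 8, nat_lit 10, nat_lit 11],
  [nat_lit 5, nat_lit 13, nat_lit 12, nat_lit 10, nat_lit 11, nat_lit 8],
  [nat_lit 5, nat_lit 8, nat_lit 13, nat_lit 5, nat_lit 12, nat_lit 11, nat_lit 5],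
  [nat_lit 6, nat_lit 13, nat_lit 5, nat_lit 12, nat_lit 11, nat_lit 8],
  [nat_lit 5, nat_lit 8, nat_lit 13, nat_lit 12, nat_lit 11, nat_lit 10],
  [nat_lit 6, nat_lit 8, nat_lit 10, nat_lit 5, nat_lit 11],
  [nat_lit 13, nat_lit 12],
  [nat_lit 5, nat_lit 6, nat_lit 9],
  [nat_lit 5, nat_lit 7, nat_lit 9, nat_lit 11, nat_lit 10, nat_lit 8],
  [nat_lit 13, nat_lit 11, nat_lit 12],
  [nat_lit 5, nat_lit 7, nat_lit 13, nat_lit 11, nat_lit 12],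
  [nat_lit 8, nat_lit 13, nat_lit 5, nat_lit 12, nat_lit 11],
  [nat_lit 8, nat_lit 5, nat_lit 13, nat_lit 12, nat_lit 10, nat_lit 11],
  [nat_lit 6, nat_lit 7, nat_lit 9],
  [nat_lit 5, nat_lit 9, nat_lit 5, nat_lit 11, nat_lit 10, nat_lit 8],
  [nat_lit 5, nat_lit 8, nat_lit 5, nat_lit 11, nat_lit 10],
  [nat_lit 13, nat_lit 12, nat_lit 10, nat_lit 11, nat_lit 8, nat_lit 5],
  [nat_lit 6, nat_lit 13, nat_lit 11, nat_lit 5, nat_lit 12, nat_lit 11, nat_lit 8],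
  [nat_lit 6, nat_lit 9, nat_lit 10, nat_lit 5, nat_lit 11, nat_lit 8],
  [nat_lit 8, nat_lit 10, nat_lit 11],
  [nat_lit 8, nat_lit 5, nat_lit 8],
  [nat_lit 5, nat_lit 7, nat_lit 13, nat_lit 12],
  [nat_lit 6, nat_lit 9, nat_lit 5],
  [nat_lit 9, nat_lit 11, nat_lit 10, nat_lit 8],
  [nat_lit 5, nat_lit 11, nat_lit 8, nat_lit 10, nat_lit 12],
  [nat_lit 6, nat_lit 8, nat_lit 12, nat_lit 5, nat_lit 11, nat_lit 13],
  [nat_lit 11, nat_lit 8, nat_lit 5, nat_lit 9, nat_lit 12, nat_lit 11],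
  [nat_lit 6, nat_lit 10, nat_lit 9, nat_lit 12, nat_lit 13, nat_lit 11],
  [nat_lit 5, nat_lit 9, nat_lit 12, nat_lit 5, nat_lit 10],
  [nat_lit 11, nat_lit 8, nat_lit 5, nat_lit 10, nat_lit 12],
  [nat_lit 5, nat_lit 11, nat_lit 8, nat_lit 10, nat_lit 5, nat_lit 12],
  [nat_lit 5, nat_lit 8, nat_lit 5, nat_lit 12, nat_lit 5, nat_lit 11, nat_lit 13],
  [nat_lit 5, nat_lit 10, nat_lit 9, nat_lit 12, nat_lit 13, nat_lit 11, nat_lit 10],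
  [nat_lit 10, nat_lit 8, nat_lit 5, nat_lit 12, nat_lit 5, nat_lit 13],
  [nat_lit 5, nat_lit 13, nat_lit 11, nat_lit 12, nat_lit 12, nat_lit 5],
  [nat_lit 10, nat_lit 9, nat_lit 5, nat_lit 12, nat_lit 13, nat_lit 11],
  [nat_lit 7, nat_lit 11, nat_lit 8, nat_lit 10, nat_lit 12],
  [nat_lit 9, nat_lit 12, nat_lit 10, nat_lit 5],
  [nat_lit 9, nat_lit 5, nat_lit 8, nat_lit 11, nat_lit 12, nat_lit 11],
  [nat_lit 7, nat_lit 11, nat_lit 12, nat_lit 11],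
  [nat_lit 10, nat_lit 13, nat_lit 11, nat_lit 12, nat_lit 12],
  [nat_lit 6, nat_lit 9, nat_lit 12, nat_lit 5],
  [nat_lit 5, nat_lit 11, nat_lit 9, nat_lit 12],
  [nat_lit 5, nat_lit 11, nat_lit 12, nat_lit 11],
  [nat_lit 5, nat_lit 10, nat_lit 12, nat_lit 5, nat_lit 9, nat_lit 13],
  [nat_lit 6, nat_lit 10, nat_lit 12, nat_lit 13],
  [nat_lit 5, nat_lit 12, nat_lit 13, nat_lit 5],
  [nat_lit 5, nat_lit 8, nat_lit 12, nat_lit 11, nat_lit 5, nat_lit 13],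
  [nat_lit 12, nat_lit 10, nat_lit 9, nat_lit 11, nat_lit 9],
  [nat_lit 12, nat_lit 5, nat_lit 10, nat_lit 9, nat_lit 13, nat_lit 5],
  [nat_lit 5, nat_lit 6, nat_lit 12, nat_lit 11, nat_lit 5],
  [nat_lit 5, nat_lit 8, nat_lit 5, nat_lit 12, nat_lit 5, nat_lit 13],
  [nat_lit 12, nat_lit 5, nat_lit 11],
  [nat_lit 9, nat_lit 5, nat_lit 11, nat_lit 12],
  [nat_lit 6, nat_lit 13, nat_lit 11, nat_lit 12, nat_lit 11, nat_lit 12],
  [nat_lit 9, nat_lit 12, nat_lit 10, nat_lit 11, nat_lit 8, nat_lit 13],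
  [nat_lit 8, nat_lit 5, nat_lit 9, nat_lit 12, nat_lit 11, nat_lit 5],
  [nat_lit 5, nat_lit 9, nat_lit 5, nat_lit 10, nat_lit 12, nat_lit 13, nat_lit 11],
  [nat_lit 5, nat_lit 12, nat_lit 13, nat_lit 11, nat_lit 9],
  [nat_lit 12, nat_lit 13, nat_lit 11, nat_lit 9, nat_lit 10],
  [nat_lit 6, nat_lit 8, nat_lit 12, nat_lit 5, nat_lit 13],
  [nat_lit 9, nat_lit 10, nat_lit 12, nat_lit 13, nat_lit 11],
  [nat_lit 5, nat_lit 6, nat_lit 9, nat_lit 11, nat_lit 5, nat_lit 12],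
  [nat_lit 5, nat_lit 9, nat_lit 11, nat_lit 12],
  [nat_lit 7, nat_lit 9, nat_lit 11, nat_lit 12],
  [nat_lit 8, nat_lit 10, nat_lit 5, nat_lit 12],
  [nat_lit 6, nat_lit 10, nat_lit 12, nat_lit 11, nat_lit 13],
  [nat_lit 9, nat_lit 10, nat_lit 12, nat_lit 10, nat_lit 8, nat_lit 5],
  [nat_lit 6, nat_lit 8, nat_lit 10, nat_lit 12],
  [nat_lit 9, nat_lit 10, nat_lit 5, nat_lit 12, nat_lit 13, nat_lit 11],
  [nat_lit 5, nat_lit 8, nat_lit 5, nat_lit 10, nat_lit 12],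
  [nat_lit 5, nat_lit 12, nat_lit 11, nat_lit 13, nat_lit 5],
  [nat_lit 5, nat_lit 12, nat_lit 12, nat_lit 5, nat_lit 8, nat_lit 13],
  [nat_lit 7, nat_lit 11, nat_lit 8],
  [nat_lit 5, nat_lit 8, nat_lit 5, nat_lit 10, nat_lit 9, nat_lit 11],
  [nat_lit 5, nat_lit 9, nat_lit 11, nat_lit 13, nat_lit 12, nat_lit 11],
  [nat_lit 7, nat_lit 11, nat_lit 9, nat_lit 10],
  [nat_lit 5, nat_lit 13, nat_lit 5, nat_lit 10, nat_lit 11, nat_lit 12],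
  [nat_lit 5, nat_lit 11, nat_lit 8],
  [nat_lit 10, nat_lit 13, nat_lit 5, nat_lit 11, nat_lit 12],
  [nat_lit 8, nat_lit 13, nat_lit 5, nat_lit 12, nat_lit 5, nat_lit 9, nat_lit 11],
  [nat_lit 5, nat_lit 11, nat_lit 9, nat_lit 10],
  [nat_lit 11, nat_lit 9, nat_lit 10, nat_lit 5],
  [nat_lit 5, nat_lit 7, nat_lit 11, nat_lit 8, nat_lit 5],
  [nat_lit 6, nat_lit 10, nat_lit 9, nat_lit 11, nat_lit 13, nat_lit 12],
  [nat_lit 10, nat_lit 13, nat_lit 11, nat_lit 9, nat_lit 12],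
  [nat_lit 13, nat_lit 5, nat_lit 10, nat_lit 12],
  [nat_lit 5, nat_lit 11, nat_lit 9, nat_lit 5, nat_lit 10],
  [nat_lit 11, nat_lit 8, nat_lit 5],
  [nat_lit 8, nat_lit 10, nat_lit 5, nat_lit 9, nat_lit 11],
  [nat_lit 5, nat_lit 11, nat_lit 8, nat_lit 10, nat_lit 9],
  [nat_lit 8, nat_lit 13, nat_lit 11, nat_lit 10, nat_lit 12, nat_lit 11],
  [nat_lit 6, nat_lit 10, nat_lit 8, nat_lit 13, nat_lit 12],
  [nat_lit 5, nat_lit 10, nat_lit 13, nat_lit 5, nat_lit 12],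
  [nat_lit 6, nat_lit 8, nat_lit 10, nat_lit 9, nat_lit 11],
  [nat_lit 9, nat_lit 5, nat_lit 11, nat_lit 13, nat_lit 12, nat_lit 11],
  [nat_lit 10, nat_lit 13, nat_lit 11, nat_lit 12],
  [nat_lit 5, nat_lit 11, nat_lit 9],
  [nat_lit 5, nat_lit 12, nat_lit 12, nat_lit 5, nat_lit 13],
  [nat_lit 5, nat_lit 11, nat_lit 8, nat_lit 10, nat_lit 5],
  [nat_lit 6, nat_lit 10, nat_lit 13, nat_lit 12],
  [nat_lit 5, nat_lit 9, nat_lit 5, nat_lit 10, nat_lit 8, nat_lit 11],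
  [nat_lit 7, nat_lit 11, nat_lit 8, nat_lit 10],
  [nat_lit 9, nat_lit 10, nat_lit 5, nat_lit 8, nat_lit 11],
  [nat_lit 11, nat_lit 8, nat_lit 5, nat_lit 10],
  [nat_lit 5, nat_lit 11, nat_lit 9, nat_lit 10, nat_lit 8],
  [nat_lit 10, nat_lit 8, nat_lit 13, nat_lit 11, nat_lit 5, nat_lit 12],
  [nat_lit 13, nat_lit 5, nat_lit 8, nat_lit 12, nat_lit 11],
  [nat_lit 9, nat_lit 10, nat_lit 8, nat_lit 11],
  [nat_lit 5, nat_lit 11, nat_lit 8, nat_lit 10],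
  [nat_lit 10, nat_lit 5, nat_lit 13, nat_lit 11, nat_lit 12],
  [nat_lit 7, nat_lit 11, nat_lit 9, nat_lit 5],
  [nat_lit 10, nat_lit 8, nat_lit 5, nat_lit 13, nat_lit 5, nat_lit 12],
  [nat_lit 13, nat_lit 5, nat_lit 8, nat_lit 12, nat_lit 11, nat_lit 5],
  [nat_lit 6, nat_lit 10, nat_lit 8, nat_lit 13, nat_lit 12, nat_lit 10],
  [nat_lit 5, nat_lit 11, nat_lit 9, nat_lit 5],
  [nat_lit 5, nat_lit 10, nat_lit 13, nat_lit 5, nat_lit 8, nat_lit 12],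
  [nat_lit 10, nat_lit 13, nat_lit 5, nat_lit 11, nat_lit 8, nat_lit 12],
  [nat_lit 7, nat_lit 11, nat_lit 9],
  [nat_lit 5, nat_lit 10, nat_lit 8, nat_lit 13, nat_lit 5, nat_lit 12],
  [nat_lit 13, nat_lit 12, nat_lit 11, nat_lit 5],
  [nat_lit 5, nat_lit 8, nat_lit 5, nat_lit 10],
  [nat_lit 7, nat_lit 9, nat_lit 11],
  [nat_lit 5, nat_lit 8, nat_lit 13, nat_lit 12, nat_lit 10],
  [nat_lit 6, nat_lit 13, nat_lit 5, nat_lit 8, nat_lit 10, nat_lit 12, nat_lit 5],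
  [nat_lit 9, nat_lit 10, nat_lit 9, nat_lit 11, nat_lit 9],
  [nat_lit 5, nat_lit 9, nat_lit 11],
  [nat_lit 6, nat_lit 8, nat_lit 13, nat_lit 5, nat_lit 12],
  [nat_lit 6, nat_lit 13, nat_lit 11, nat_lit 12, nat_lit 11],
  [nat_lit 5, nat_lit 8, nat_lit 10, nat_lit 11, nat_lit 9, nat_lit 10],
  [nat_lit 8, nat_lit 13, nat_lit 5, nat_lit 12, nat_lit 5],
  [nat_lit 8, nat_lit 5, nat_lit 11, nat_lit 8, nat_lit 10, nat_lit 8],
  [nat_lit 5, nat_lit 6, nat_lit 7, nat_lit 8, nat_lit 10],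
  [nat_lit 6, nat_lit 13, nat_lit 12, nat_lit 11],
  [nat_lit 12, nat_lit 12, nat_lit 11, nat_lit 13, nat_lit 11],
  [nat_lit 8, nat_lit 13, nat_lit 11, nat_lit 5, nat_lit 12],
  [nat_lit 5, nat_lit 7, nat_lit 13, nat_lit 5, nat_lit 8, nat_lit 10, nat_lit 12],
  [nat_lit 13, nat_lit 11, nat_lit 5, nat_lit 8, nat_lit 10, nat_lit 12],
  [nat_lit 13, nat_lit 5, nat_lit 8, nat_lit 10, nat_lit 12],
  [nat_lit 8, nat_lit 11, nat_lit 8, nat_lit 5, nat_lit 10, nat_lit 8],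
  [nat_lit 9, nat_lit 5, nat_lit 11],
  [nat_lit 8, nat_lit 10, nat_lit 5],
  [nat_lit 5, nat_lit 6, nat_lit 9, nat_lit 11, nat_lit 5],
  [nat_lit 6, nat_lit 8, nat_lit 10],
  [nat_lit 5, nat_lit 10, nat_lit 12, nat_lit 5, nat_lit 9],
  [nat_lit 6, nat_lit 10, nat_lit 5, nat_lit 12],
  [nat_lit 5, nat_lit 11, nat_lit 12, nat_lit 11, nat_lit 13],
  [nat_lit 9, nat_lit 12, nat_lit 10, nat_lit 5, nat_lit 13],
  [nat_lit 5, nat_lit 8, nat_lit 5, nat_lit 12, nat_lit 5, nat_lit 11],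
  [nat_lit 7, nat_lit 10, nat_lit 12, nat_lit 5, nat_lit 9],
  [nat_lit 11, nat_lit 8, nat_lit 5, nat_lit 9, nat_lit 12, nat_lit 11, nat_lit 13],
  [nat_lit 8, nat_lit 5, nat_lit 11, nat_lit 12, nat_lit 11, nat_lit 8],
  [nat_lit 8, nat_lit 10, nat_lit 5, nat_lit 12, nat_lit 13, nat_lit 11],
  [nat_lit 5, nat_lit 8, nat_lit 5, nat_lit 10, nat_lit 12, nat_lit 13, nat_lit 11],
  [nat_lit 5, nat_lit 11, nat_lit 9, nat_lit 12, nat_lit 13],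
  [nat_lit 6, nat_lit 9, nat_lit 12, nat_lit 5, nat_lit 13],
  [nat_lit 5, nat_lit 9, nat_lit 12, nat_lit 5, nat_lit 10, nat_lit 13],
  [nat_lit 7, nat_lit 11, nat_lit 12, nat_lit 11, nat_lit 13],
  [nat_lit 9, nat_lit 5, nat_lit 8, nat_lit 11, nat_lit 12, nat_lit 11, nat_lit 13],
  [nat_lit 6, nat_lit 8, nat_lit 12, nat_lit 5, nat_lit 11],
  [nat_lit 10, nat_lit 9, nat_lit 5, nat_lit 8, nat_lit 12],
  [nat_lit 5, nat_lit 8, nat_lit 12, nat_lit 11, nat_lit 5],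
  [nat_lit 10, nat_lit 8, nat_lit 5, nat_lit 12, nat_lit 5],
  [nat_lit 8, nat_lit 12, nat_lit 11, nat_lit 10, nat_lit 9],
  [nat_lit 6, nat_lit 10, nat_lit 12, nat_lit 5, nat_lit 9, nat_lit 10],
  [nat_lit 6, nat_lit 8, nat_lit 10, nat_lit 12, nat_lit 13, nat_lit 11],
  [nat_lit 5, nat_lit 8, nat_lit 12, nat_lit 13, nat_lit 5, nat_lit 11],
  [nat_lit 6, nat_lit 10, nat_lit 12],
  [nat_lit 9, nat_lit 13, nat_lit 11, nat_lit 12],
  [nat_lit 7],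
  [nat_lit 5, nat_lit 8, nat_lit 5, nat_lit 10, nat_lit 11, nat_lit 8],
  [nat_lit 5, nat_lit 8, nat_lit 13, nat_lit 12, nat_lit 10, nat_lit 11, nat_lit 8],
  [nat_lit 9, nat_lit 10, nat_lit 11, nat_lit 9],
  [nat_lit 13, nat_lit 5, nat_lit 9, nat_lit 11, nat_lit 10, nat_lit 12],
  [nat_lit 5],
  [nat_lit 5, nat_lit 7, nat_lit 8, nat_lit 11, nat_lit 10, nat_lit 8],
  [nat_lit 8, nat_lit 13, nat_lit 11, nat_lit 9, nat_lit 12],
  [nat_lit 6, nat_lit 9, nat_lit 13, nat_lit 12],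
  [nat_lit 5, nat_lit 7, nat_lit 9, nat_lit 10, nat_lit 11, nat_lit 9],
  [nat_lit 8, nat_lit 5, nat_lit 13, nat_lit 12, nat_lit 11, nat_lit 10, nat_lit 8],
  [nat_lit 5, nat_lit 8, nat_lit 10, nat_lit 11, nat_lit 13, nat_lit 12],
  [nat_lit 8, nat_lit 5, nat_lit 11, nat_lit 10, nat_lit 13, nat_lit 12],
  [nat_lit 9, nat_lit 5, nat_lit 8],
  [nat_lit 9, nat_lit 10, nat_lit 5, nat_lit 11, nat_lit 9],
  [nat_lit 8, nat_lit 11, nat_lit 10, nat_lit 8],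
  [nat_lit 6, nat_lit 13, nat_lit 11, nat_lit 8, nat_lit 12],
  [nat_lit 10, nat_lit 11, nat_lit 13, nat_lit 12, nat_lit 11, nat_lit 10],
  [nat_lit 8, nat_lit 13, nat_lit 11, nat_lit 5, nat_lit 12, nat_lit 11, nat_lit 8],
  [nat_lit 5, nat_lit 9, nat_lit 5, nat_lit 10, nat_lit 11, nat_lit 9],
  [nat_lit 13, nat_lit 5, nat_lit 9, nat_lit 10, nat_lit 12],
  [nat_lit 6, nat_lit 8, nat_lit 5, nat_lit 9],
  [nat_lit 8, nat_lit 10, nat_lit 5, nat_lit 11, nat_lit 8],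
  [nat_lit 12, nat_lit 10, nat_lit 11, nat_lit 12, nat_lit 13],
  [nat_lit 5, nat_lit 11, nat_lit 9, nat_lit 5, nat_lit 11],
  [nat_lit 9, nat_lit 10, nat_lit 5, nat_lit 8],
  [nat_lit 5, nat_lit 11, nat_lit 8, nat_lit 10, nat_lit 11],
  [nat_lit 13, nat_lit 5, nat_lit 8, nat_lit 12],
  [nat_lit 13, nat_lit 5, nat_lit 12, nat_lit 5, nat_lit 8],
  [nat_lit 8, nat_lit 5, nat_lit 10, nat_lit 13, nat_lit 5, nat_lit 12],
  [nat_lit 9, nat_lit 10, nat_lit 8],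
  [nat_lit 5, nat_lit 7, nat_lit 9, nat_lit 10, nat_lit 8],
  [nat_lit 13, nat_lit 12, nat_lit 10, nat_lit 8, nat_lit 5],
  [nat_lit 5, nat_lit 8, nat_lit 11, nat_lit 8],
  [nat_lit 6, nat_lit 10, nat_lit 13, nat_lit 12, nat_lit 11],
  [nat_lit 13, nat_lit 11, nat_lit 5, nat_lit 8, nat_lit 12],
  [nat_lit 7, nat_lit 11, nat_lit 8, nat_lit 10, nat_lit 11],
  [nat_lit 8, nat_lit 10, nat_lit 13, nat_lit 12, nat_lit 10],
  [nat_lit 8, nat_lit 10, nat_lit 13, nat_lit 5, nat_lit 11, nat_lit 12],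
  [nat_lit 5, nat_lit 9, nat_lit 11, nat_lit 9, nat_lit 5, nat_lit 10],
  [nat_lit 9, nat_lit 11, nat_lit 9, nat_lit 10, nat_lit 5],
  [nat_lit 5, nat_lit 8, nat_lit 11, nat_lit 5, nat_lit 8],
  [nat_lit 7, nat_lit 8, nat_lit 11, nat_lit 8],
  [nat_lit 7, nat_lit 12, nat_lit 11, nat_lit 12, nat_lit 11, nat_lit 13],
  [nat_lit 10, nat_lit 13, nat_lit 11, nat_lit 12, nat_lit 11],
  [nat_lit 5, nat_lit 6, nat_lit 8, nat_lit 10, nat_lit 13, nat_lit 5, nat_lit 12],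
  [nat_lit 5, nat_lit 9, nat_lit 5, nat_lit 10, nat_lit 8],
  [nat_lit 10, nat_lit 8, nat_lit 13, nat_lit 12],
  [nat_lit 11, nat_lit 5, nat_lit 8, nat_lit 5],
  [nat_lit 5, nat_lit 6, nat_lit 11, nat_lit 8, nat_lit 10, nat_lit 9],
  [nat_lit 10, nat_lit 13, nat_lit 12, nat_lit 10],
  [nat_lit 5, nat_lit 6, nat_lit 11, nat_lit 9, nat_lit 10],
  [nat_lit 6, nat_lit 9, nat_lit 5, nat_lit 11, nat_lit 13, nat_lit 12, nat_lit 11],
  [nat_lit 6, nat_lit 8, nat_lit 10, nat_lit 5, nat_lit 9, nat_lit 11],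
  [nat_lit 5, nat_lit 10, nat_lit 8, nat_lit 5, nat_lit 13, nat_lit 12],
  [nat_lit 6, nat_lit 11, nat_lit 9, nat_lit 10, nat_lit 5],
  [nat_lit 11, nat_lit 5, nat_lit 9, nat_lit 10, nat_lit 5],
  [nat_lit 10, nat_lit 5, nat_lit 9, nat_lit 11, nat_lit 13, nat_lit 12],
  [nat_lit 8, nat_lit 10, nat_lit 5, nat_lit 9, nat_lit 5, nat_lit 11],
  [nat_lit 13, nat_lit 11, nat_lit 10, nat_lit 12, nat_lit 10],
  [nat_lit 5, nat_lit 10, nat_lit 13, nat_lit 11, nat_lit 5, nat_lit 12],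
  [nat_lit 5, nat_lit 9, nat_lit 11, nat_lit 5, nat_lit 13, nat_lit 12, nat_lit 11],
  [nat_lit 5, nat_lit 11, nat_lit 5, nat_lit 9, nat_lit 10],
  [nat_lit 5, nat_lit 11, nat_lit 5, nat_lit 8],
  [nat_lit 8, nat_lit 10, nat_lit 9, nat_lit 11],
  [nat_lit 5, nat_lit 6, nat_lit 11, nat_lit 8],
  [nat_lit 13, nat_lit 11, nat_lit 10, nat_lit 9, nat_lit 12],
  [nat_lit 10, nat_lit 9, nat_lit 11, nat_lit 13, nat_lit 12],
  [nat_lit 10, nat_lit 5, nat_lit 13, nat_lit 12, nat_lit 10],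
  [nat_lit 6, nat_lit 11, nat_lit 8, nat_lit 5],
  [nat_lit 10, nat_lit 5, nat_lit 8, nat_lit 13, nat_lit 12],
  [nat_lit 5, nat_lit 12, nat_lit 11, nat_lit 12],
  [nat_lit 6, nat_lit 8, nat_lit 10, nat_lit 13, nat_lit 5],
  [nat_lit 12, nat_lit 5, nat_lit 9, nat_lit 12, nat_lit 11],
  [nat_lit 8, nat_lit 10, nat_lit 12, nat_lit 5, nat_lit 12],
  [nat_lit 7, nat_lit 12, nat_lit 11, nat_lit 12],
  [nat_lit 5, nat_lit 9, nat_lit 13, nat_lit 11, nat_lit 10, nat_lit 9],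
  [nat_lit 8, nat_lit 5, nat_lit 10, nat_lit 12, nat_lit 12, nat_lit 10],
  [nat_lit 5, nat_lit 6, nat_lit 8, nat_lit 13, nat_lit 5, nat_lit 10],
  [nat_lit 12, nat_lit 5, nat_lit 10, nat_lit 9, nat_lit 12],
  [nat_lit 8, nat_lit 13, nat_lit 5, nat_lit 10, nat_lit 11],
  [nat_lit 5, nat_lit 13, nat_lit 11, nat_lit 5, nat_lit 8],
  [nat_lit 7, nat_lit 13, nat_lit 5, nat_lit 8],
  [nat_lit 6, nat_lit 9, nat_lit 5, nat_lit 10, nat_lit 8, nat_lit 13],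
  [nat_lit 5, nat_lit 8, nat_lit 5, nat_lit 12, nat_lit 5, nat_lit 12, nat_lit 5],
  [nat_lit 9, nat_lit 10, nat_lit 8, nat_lit 13, nat_lit 11],
  [nat_lit 5, nat_lit 8, nat_lit 12, nat_lit 12, nat_lit 10, nat_lit 5],
  [nat_lit 6, nat_lit 13, nat_lit 5, nat_lit 11, nat_lit 8],
  [nat_lit 9, nat_lit 10, nat_lit 8, nat_lit 5, nat_lit 13],
  [nat_lit 12, nat_lit 12, nat_lit 10, nat_lit 11, nat_lit 9],
  [nat_lit 12, nat_lit 10, nat_lit 11, nat_lit 12, nat_lit 11],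
  [nat_lit 12, nat_lit 12, nat_lit 10, nat_lit 9],
  [nat_lit 8, nat_lit 5, nat_lit 13, nat_lit 5, nat_lit 10],
  [nat_lit 6, nat_lit 12, nat_lit 11, nat_lit 12, nat_lit 11],
  [nat_lit 5, nat_lit 13, nat_lit 5, nat_lit 8],
  [nat_lit 5, nat_lit 13, nat_lit 5, nat_lit 10, nat_lit 9, nat_lit 11],
  [nat_lit 10, nat_lit 11, nat_lit 13, nat_lit 5, nat_lit 11],
  [nat_lit 5, nat_lit 7, nat_lit 11, nat_lit 12, nat_lit 12, nat_lit 11],
  [nat_lit 10, nat_lit 13, nat_lit 5, nat_lit 9, nat_lit 11],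
  [nat_lit 5, nat_lit 11, nat_lit 12, nat_lit 11, nat_lit 12, nat_lit 11, nat_lit 8],
  [nat_lit 11, nat_lit 13, nat_lit 5, nat_lit 10],
  [nat_lit 9, nat_lit 12, nat_lit 11, nat_lit 5, nat_lit 12, nat_lit 11],
  [nat_lit 5, nat_lit 11, nat_lit 5, nat_lit 12, nat_lit 12],
  [nat_lit 11, nat_lit 12, nat_lit 12, nat_lit 11],
  [nat_lit 10, nat_lit 5, nat_lit 9, nat_lit 13],
  [nat_lit 7, nat_lit 11, nat_lit 12, nat_lit 11, nat_lit 12, nat_lit 11, nat_lit 8],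
  [nat_lit 9, nat_lit 12, nat_lit 12, nat_lit 10, nat_lit 5, nat_lit 9],
  [nat_lit 5, nat_lit 6, nat_lit 11, nat_lit 12, nat_lit 12],
  [nat_lit 9, nat_lit 12, nat_lit 5, nat_lit 11, nat_lit 12],
  [nat_lit 13, nat_lit 11, nat_lit 10, nat_lit 8],
  [nat_lit 5, nat_lit 11, nat_lit 10, nat_lit 13, nat_lit 5],
  [nat_lit 9, nat_lit 12, nat_lit 11, nat_lit 10, nat_lit 12, nat_lit 10],
  [nat_lit 11, nat_lit 12, nat_lit 11, nat_lit 8, nat_lit 12, nat_lit 11],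
  [nat_lit 10, nat_lit 5, nat_lit 8, nat_lit 11, nat_lit 13],
  [nat_lit 10, nat_lit 8, nat_lit 11, nat_lit 13],
  [nat_lit 5, nat_lit 11, nat_lit 10, nat_lit 13, nat_lit 11, nat_lit 5],
  [nat_lit 6, nat_lit 10, nat_lit 9, nat_lit 5, nat_lit 13],
  [nat_lit 10, nat_lit 9, nat_lit 13],
  [nat_lit 5, nat_lit 6, nat_lit 9, nat_lit 12, nat_lit 11, nat_lit 5, nat_lit 12],
  [nat_lit 5, nat_lit 11, nat_lit 12, nat_lit 13, nat_lit 5],
  [nat_lit 5, nat_lit 11, nat_lit 12, nat_lit 13, nat_lit 5, nat_lit 9],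
  [nat_lit 5, nat_lit 10, nat_lit 9, nat_lit 5, nat_lit 12, nat_lit 5, nat_lit 13],
  [nat_lit 8, nat_lit 12, nat_lit 10, nat_lit 11, nat_lit 13, nat_lit 11],
  [nat_lit 5, nat_lit 11, nat_lit 12, nat_lit 13, nat_lit 5, nat_lit 8],
  [nat_lit 5, nat_lit 10, nat_lit 11, nat_lit 9, nat_lit 12, nat_lit 10],
  [nat_lit 10, nat_lit 11, nat_lit 13, nat_lit 11, nat_lit 12, nat_lit 12],
  [nat_lit 5, nat_lit 10, nat_lit 11, nat_lit 8, nat_lit 12, nat_lit 10],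
  [nat_lit 7, nat_lit 10, nat_lit 11, nat_lit 12],
  [nat_lit 10, nat_lit 9, nat_lit 5, nat_lit 12, nat_lit 5],
  [nat_lit 6, nat_lit 10, nat_lit 9, nat_lit 12, nat_lit 5],
  [nat_lit 10, nat_lit 11, nat_lit 9, nat_lit 12, nat_lit 13],
  [nat_lit 10, nat_lit 11, nat_lit 9, nat_lit 12, nat_lit 10, nat_lit 13],
  [nat_lit 10, nat_lit 11, nat_lit 12, nat_lit 13],
  [nat_lit 5, nat_lit 10, nat_lit 11, nat_lit 12],
  [nat_lit 9, nat_lit 5, nat_lit 8, nat_lit 10, nat_lit 11, nat_lit 12],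
  [nat_lit 7, nat_lit 10, nat_lit 11, nat_lit 8, nat_lit 12],
  [nat_lit 5, nat_lit 10, nat_lit 8, nat_lit 5, nat_lit 12, nat_lit 13, nat_lit 11],
  [nat_lit 5, nat_lit 10, nat_lit 11, nat_lit 8, nat_lit 12],
  [nat_lit 9, nat_lit 5, nat_lit 8, nat_lit 11, nat_lit 12, nat_lit 13, nat_lit 5],
  [nat_lit 5, nat_lit 10, nat_lit 11, nat_lit 9, nat_lit 12],
  [nat_lit 8, nat_lit 12, nat_lit 11, nat_lit 13, nat_lit 11],
  [nat_lit 8, nat_lit 5, nat_lit 9, nat_lit 11, nat_lit 10, nat_lit 12],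
  [nat_lit 11, nat_lit 10, nat_lit 8, nat_lit 5, nat_lit 12],
  [nat_lit 5, nat_lit 8, nat_lit 13, nat_lit 12],
  [nat_lit 7, nat_lit 8, nat_lit 13, nat_lit 12],
  [nat_lit 5, nat_lit 8, nat_lit 10, nat_lit 11, nat_lit 9],
  [nat_lit 5, nat_lit 13, nat_lit 11, nat_lit 9, nat_lit 12],
  [nat_lit 5, nat_lit 8, nat_lit 5],
  [nat_lit 7, nat_lit 9, nat_lit 11, nat_lit 10],
  [nat_lit 13, nat_lit 12, nat_lit 10, nat_lit 11],
  [nat_lit 8, nat_lit 10, nat_lit 5, nat_lit 11, nat_lit 9, nat_lit 5],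
  [nat_lit 9, nat_lit 10, nat_lit 5, nat_lit 11, nat_lit 13, nat_lit 12],
  [nat_lit 7, nat_lit 8, nat_lit 10, nat_lit 11, nat_lit 9],
  [nat_lit 9, nat_lit 5, nat_lit 11, nat_lit 10],
  [nat_lit 8, nat_lit 5, nat_lit 8, nat_lit 10, nat_lit 11],
  [nat_lit 7, nat_lit 8, nat_lit 5],
  [nat_lit 6, nat_lit 8],
  [nat_lit 5, nat_lit 9, nat_lit 5, nat_lit 10, nat_lit 11, nat_lit 13, nat_lit 12],
  [nat_lit 8, nat_lit 5, nat_lit 11, nat_lit 10, nat_lit 9],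
  [nat_lit 9, nat_lit 10, nat_lit 11, nat_lit 13, nat_lit 12],
  [nat_lit 12, nat_lit 12, nat_lit 10, nat_lit 11, nat_lit 13, nat_lit 11],
  [nat_lit 13, nat_lit 5, nat_lit 11, nat_lit 12, nat_lit 11],
  [nat_lit 9, nat_lit 11, nat_lit 10, nat_lit 13, nat_lit 11, nat_lit 12],
  [nat_lit 5, nat_lit 9, nat_lit 11, nat_lit 10],
  [nat_lit 5, nat_lit 6, nat_lit 7, nat_lit 8],
  [nat_lit 6, nat_lit 8, nat_lit 5, nat_lit 13, nat_lit 12],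
  [nat_lit 13, nat_lit 5, nat_lit 12, nat_lit 11, nat_lit 5],
  [nat_lit 9, nat_lit 10, nat_lit 9, nat_lit 13, nat_lit 11],
  [nat_lit 6, nat_lit 9, nat_lit 12, nat_lit 12, nat_lit 5],
  [nat_lit 5, nat_lit 9, nat_lit 10, nat_lit 12, nat_lit 12],
  [nat_lit 6, nat_lit 13, nat_lit 5, nat_lit 11],
  [nat_lit 5, nat_lit 13, nat_lit 5],
  [nat_lit 6, nat_lit 8, nat_lit 10, nat_lit 13, nat_lit 5, nat_lit 9],
  [nat_lit 8, nat_lit 10, nat_lit 12, nat_lit 5, nat_lit 9, nat_lit 12],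
  [nat_lit 5, nat_lit 8, nat_lit 12, nat_lit 12, nat_lit 10, nat_lit 5, nat_lit 9],
  [nat_lit 8, nat_lit 11, nat_lit 12, nat_lit 12],
  [nat_lit 12, nat_lit 5, nat_lit 8, nat_lit 12, nat_lit 11],
  [nat_lit 7, nat_lit 13, nat_lit 5],
  [nat_lit 12, nat_lit 12, nat_lit 10, nat_lit 11, nat_lit 8],
  [nat_lit 6, nat_lit 10, nat_lit 8, nat_lit 5, nat_lit 10, nat_lit 13],
  [nat_lit 5, nat_lit 13, nat_lit 11, nat_lit 5],
  [nat_lit 5, nat_lit 8, nat_lit 10, nat_lit 8, nat_lit 11, nat_lit 13],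
  [nat_lit 8, nat_lit 13, nat_lit 5, nat_lit 10, nat_lit 11, nat_lit 9],
  [nat_lit 5, nat_lit 9, nat_lit 13, nat_lit 11, nat_lit 10, nat_lit 8],
  [nat_lit 8, nat_lit 5, nat_lit 10, nat_lit 12, nat_lit 12, nat_lit 10, nat_lit 9],
  [nat_lit 5, nat_lit 6, nat_lit 9, nat_lit 10, nat_lit 9, nat_lit 13],
  [nat_lit 9, nat_lit 5, nat_lit 10, nat_lit 12, nat_lit 12],
  [nat_lit 8, nat_lit 11, nat_lit 5, nat_lit 12, nat_lit 12],
  [nat_lit 8, nat_lit 10, nat_lit 12, nat_lit 12, nat_lit 10, nat_lit 9, nat_lit 11],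
  [nat_lit 8, nat_lit 5, nat_lit 13, nat_lit 5, nat_lit 10, nat_lit 9],
  [nat_lit 5, nat_lit 9, nat_lit 10, nat_lit 5, nat_lit 12, nat_lit 12],
  [nat_lit 9, nat_lit 10, nat_lit 11, nat_lit 9, nat_lit 13],
  [nat_lit 8, nat_lit 11, nat_lit 10, nat_lit 8, nat_lit 13],
  [nat_lit 6, nat_lit 11, nat_lit 12, nat_lit 5, nat_lit 11, nat_lit 12],
  [nat_lit 5, nat_lit 13, nat_lit 11],
  [nat_lit 7, nat_lit 13],
  [nat_lit 5, nat_lit 11, nat_lit 12, nat_lit 11, nat_lit 5, nat_lit 12],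
  [nat_lit 5, nat_lit 13],
  [nat_lit 6, nat_lit 9, nat_lit 12, nat_lit 12],
  [nat_lit 6, nat_lit 9, nat_lit 12, nat_lit 12, nat_lit 11],
  [nat_lit 12, nat_lit 12, nat_lit 10, nat_lit 11, nat_lit 8, nat_lit 5],
  [nat_lit 8, nat_lit 11, nat_lit 12, nat_lit 12, nat_lit 5],
  [nat_lit 5, nat_lit 8, nat_lit 10, nat_lit 11, nat_lit 12, nat_lit 12],
  [nat_lit 11, nat_lit 12, nat_lit 11, nat_lit 12, nat_lit 11, nat_lit 10],
  [nat_lit 7, nat_lit 13, nat_lit 11],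
  [nat_lit 8, nat_lit 10, nat_lit 5, nat_lit 11, nat_lit 8, nat_lit 13],
  [nat_lit 5, nat_lit 11, nat_lit 12, nat_lit 11, nat_lit 5, nat_lit 12, nat_lit 11],
  [nat_lit 9, nat_lit 12, nat_lit 10, nat_lit 12],
  [nat_lit 9, nat_lit 10, nat_lit 5, nat_lit 11, nat_lit 9, nat_lit 13],
  [nat_lit 8, nat_lit 10, nat_lit 11, nat_lit 13, nat_lit 11, nat_lit 9],
  [nat_lit 10, nat_lit 13, nat_lit 11, nat_lit 9, nat_lit 5, nat_lit 10],
  [nat_lit 8, nat_lit 5, nat_lit 11, nat_lit 10, nat_lit 12, nat_lit 12],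
  [nat_lit 12, nat_lit 10, nat_lit 9, nat_lit 12],
  [nat_lit 9, nat_lit 11, nat_lit 10, nat_lit 13, nat_lit 11, nat_lit 8],
  [nat_lit 8, nat_lit 11, nat_lit 10, nat_lit 8, nat_lit 13, nat_lit 11],
  [nat_lit 5, nat_lit 9, nat_lit 10, nat_lit 13, nat_lit 12],
  [nat_lit 5, nat_lit 13, nat_lit 5, nat_lit 13],
  [nat_lit 5, nat_lit 11, nat_lit 13, nat_lit 5, nat_lit 12, nat_lit 11],
  [nat_lit 8, nat_lit 11, nat_lit 13, nat_lit 12],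
  [nat_lit 6, nat_lit 8, nat_lit 11, nat_lit 5, nat_lit 9],
  [nat_lit 6, nat_lit 9, nat_lit 5, nat_lit 10, nat_lit 9],
  [nat_lit 8, nat_lit 10, nat_lit 13, nat_lit 11, nat_lit 5, nat_lit 8, nat_lit 12],
  [nat_lit 11, nat_lit 13, nat_lit 5, nat_lit 11, nat_lit 12, nat_lit 11],
  [nat_lit 6, nat_lit 8, nat_lit 11, nat_lit 9],
  [nat_lit 8, nat_lit 11, nat_lit 5, nat_lit 13, nat_lit 12],
  [nat_lit 8, nat_lit 11, nat_lit 13, nat_lit 11, nat_lit 12],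
  [nat_lit 7, nat_lit 8, nat_lit 10, nat_lit 8, nat_lit 11],
  [nat_lit 6, nat_lit 8, nat_lit 10, nat_lit 8, nat_lit 5, nat_lit 11],
  [nat_lit 5, nat_lit 8, nat_lit 10, nat_lit 8, nat_lit 11],
  [nat_lit 6, nat_lit 10, nat_lit 8, nat_lit 5, nat_lit 10],
  [nat_lit 5, nat_lit 9, nat_lit 10, nat_lit 5, nat_lit 13, nat_lit 12],
  [nat_lit 5, nat_lit 6, nat_lit 9, nat_lit 10, nat_lit 9],
  [nat_lit 9, nat_lit 5, nat_lit 10, nat_lit 13, nat_lit 12],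
  [nat_lit 11, nat_lit 13, nat_lit 12, nat_lit 11, nat_lit 10],
  [nat_lit 13, nat_lit 12, nat_lit 10, nat_lit 5, nat_lit 9],
  [nat_lit 5, nat_lit 8, nat_lit 5, nat_lit 11, nat_lit 9],
  [nat_lit 5, nat_lit 8, nat_lit 10, nat_lit 8, nat_lit 11, nat_lit 5],
  [nat_lit 7, nat_lit 9, nat_lit 10, nat_lit 13, nat_lit 12],
  [nat_lit 6, nat_lit 7, nat_lit 9, nat_lit 10, nat_lit 9],
  [nat_lit 11, nat_lit 5, nat_lit 12, nat_lit 11],
  [nat_lit 5, nat_lit 11, nat_lit 9, nat_lit 12, nat_lit 10],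
  [nat_lit 6, nat_lit 11, nat_lit 8, nat_lit 10, nat_lit 5, nat_lit 12],
  [nat_lit 8, nat_lit 12, nat_lit 5, nat_lit 10, nat_lit 11, nat_lit 13],
  [nat_lit 5, nat_lit 10, nat_lit 12, nat_lit 13],
  [nat_lit 12, nat_lit 5, nat_lit 13, nat_lit 5, nat_lit 8],
  [nat_lit 5, nat_lit 13, nat_lit 11, nat_lit 10, nat_lit 12, nat_lit 12],
  [nat_lit 5, nat_lit 10, nat_lit 9, nat_lit 12, nat_lit 13, nat_lit 11],
  [nat_lit 5, nat_lit 8, nat_lit 12, nat_lit 5, nat_lit 11, nat_lit 13],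
  [nat_lit 5, nat_lit 8, nat_lit 5, nat_lit 12, nat_lit 11, nat_lit 5, nat_lit 13],
  [nat_lit 6, nat_lit 8, nat_lit 12, nat_lit 11, nat_lit 5, nat_lit 13],
  [nat_lit 6, nat_lit 13, nat_lit 11, nat_lit 12, nat_lit 12, nat_lit 5],
  [nat_lit 5, nat_lit 10, nat_lit 12, nat_lit 5, nat_lit 9, nat_lit 10, nat_lit 13],
  [nat_lit 6, nat_lit 11, nat_lit 12, nat_lit 11],
  [nat_lit 5, nat_lit 11, nat_lit 8, nat_lit 10, nat_lit 12, nat_lit 10],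
  [nat_lit 9, nat_lit 5, nat_lit 12, nat_lit 5],
  [nat_lit 6, nat_lit 12, nat_lit 13, nat_lit 5],
  [nat_lit 5, nat_lit 9, nat_lit 12, nat_lit 5],
  [nat_lit 11, nat_lit 5, nat_lit 8, nat_lit 10, nat_lit 12],
  [nat_lit 6, nat_lit 11, nat_lit 8, nat_lit 10, nat_lit 12],
  [nat_lit 10, nat_lit 9, nat_lit 12, nat_lit 10, nat_lit 13, nat_lit 11],
  [nat_lit 9, nat_lit 5, nat_lit 12, nat_lit 5, nat_lit 8, nat_lit 11],
  [nat_lit 6, nat_lit 11, nat_lit 9, nat_lit 12],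
  [nat_lit 11, nat_lit 8, nat_lit 12, nat_lit 10, nat_lit 9, nat_lit 11],
  [nat_lit 9, nat_lit 10, nat_lit 11, nat_lit 8, nat_lit 13, nat_lit 11],
  [nat_lit 5, nat_lit 13, nat_lit 5, nat_lit 9, nat_lit 11, nat_lit 10],
  [nat_lit 12, nat_lit 5, nat_lit 9, nat_lit 11, nat_lit 12, nat_lit 11],
  [nat_lit 5, nat_lit 9, nat_lit 13, nat_lit 11],
  [nat_lit 12, nat_lit 10, nat_lit 5, nat_lit 9, nat_lit 11, nat_lit 12],
  [nat_lit 5, nat_lit 7, nat_lit 12, nat_lit 12],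
  [nat_lit 6, nat_lit 12, nat_lit 12, nat_lit 11],
  [nat_lit 5, nat_lit 12, nat_lit 11, nat_lit 8, nat_lit 10, nat_lit 5, nat_lit 12],
  [nat_lit 5, nat_lit 12, nat_lit 11, nat_lit 8, nat_lit 12, nat_lit 10],
  [nat_lit 12, nat_lit 11, nat_lit 8, nat_lit 5, nat_lit 10, nat_lit 12],
  [nat_lit 12, nat_lit 5, nat_lit 9, nat_lit 11, nat_lit 10, nat_lit 12],
  [nat_lit 6, nat_lit 9, nat_lit 5, nat_lit 13],
  [nat_lit 9, nat_lit 11, nat_lit 10, nat_lit 8, nat_lit 13],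
  [nat_lit 8, nat_lit 5, nat_lit 8, nat_lit 13],
  [nat_lit 5, nat_lit 6, nat_lit 9, nat_lit 13],
  [nat_lit 6, nat_lit 12, nat_lit 11, nat_lit 8, nat_lit 5, nat_lit 12],
  [nat_lit 12, nat_lit 10, nat_lit 12, nat_lit 11],
  [nat_lit 5, nat_lit 13, nat_lit 5, nat_lit 9, nat_lit 10],
  [nat_lit 6, nat_lit 12, nat_lit 5, nat_lit 9, nat_lit 11, nat_lit 12],
  [nat_lit 8, nat_lit 11, nat_lit 10, nat_lit 13, nat_lit 11],
  [nat_lit 8, nat_lit 10, nat_lit 11, nat_lit 13],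
  [nat_lit 6, nat_lit 9, nat_lit 10, nat_lit 5, nat_lit 11, nat_lit 8, nat_lit 13],
  [nat_lit 12, nat_lit 12],
  [nat_lit 9, nat_lit 10, nat_lit 11, nat_lit 13, nat_lit 11, nat_lit 9],
  [nat_lit 13, nat_lit 11, nat_lit 8, nat_lit 12, nat_lit 11],
  [nat_lit 7, nat_lit 10, nat_lit 11, nat_lit 8, nat_lit 10],
  [nat_lit 5, nat_lit 11, nat_lit 13, nat_lit 11, nat_lit 13],
  [nat_lit 5, nat_lit 11, nat_lit 10, nat_lit 13, nat_lit 11, nat_lit 5, nat_lit 12],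
  [nat_lit 10, nat_lit 8, nat_lit 11, nat_lit 13, nat_lit 12],
  [nat_lit 5, nat_lit 11, nat_lit 8, nat_lit 10, nat_lit 8, nat_lit 5],
  [nat_lit 10, nat_lit 11, nat_lit 13, nat_lit 5, nat_lit 11, nat_lit 12],
  [nat_lit 5, nat_lit 10, nat_lit 11, nat_lit 8, nat_lit 10],
  [nat_lit 6, nat_lit 9, nat_lit 13, nat_lit 12, nat_lit 11, nat_lit 5],
  [nat_lit 7, nat_lit 10, nat_lit 11, nat_lit 9, nat_lit 10],
  [nat_lit 11, nat_lit 10, nat_lit 9, nat_lit 5, nat_lit 10],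
  [nat_lit 5, nat_lit 10, nat_lit 11, nat_lit 9, nat_lit 10],
  [nat_lit 10, nat_lit 5, nat_lit 8, nat_lit 11, nat_lit 13, nat_lit 12],
  [nat_lit 5, nat_lit 11, nat_lit 9, nat_lit 10, nat_lit 9, nat_lit 5],
  [nat_lit 5, nat_lit 6, nat_lit 11],
  [nat_lit 13, nat_lit 5, nat_lit 10, nat_lit 9, nat_lit 12, nat_lit 5],
  [nat_lit 9, nat_lit 13, nat_lit 12, nat_lit 11],
  [nat_lit 5, nat_lit 11, nat_lit 10, nat_lit 13, nat_lit 5, nat_lit 12],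
  [nat_lit 5, nat_lit 11, nat_lit 5],
  [nat_lit 10, nat_lit 11, nat_lit 13, nat_lit 12, nat_lit 10],
  [nat_lit 10, nat_lit 13, nat_lit 5, nat_lit 9, nat_lit 11, nat_lit 12],
  [nat_lit 11, nat_lit 10, nat_lit 8, nat_lit 5, nat_lit 10],
  [nat_lit 8, nat_lit 5, nat_lit 9, nat_lit 11],
  [nat_lit 10, nat_lit 5, nat_lit 9, nat_lit 13, nat_lit 12],
  [nat_lit 5, nat_lit 9, nat_lit 5, nat_lit 12, nat_lit 5, nat_lit 12],
  [nat_lit 6, nat_lit 13, nat_lit 5, nat_lit 10, nat_lit 8],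
  [nat_lit 5, nat_lit 11, nat_lit 12, nat_lit 11, nat_lit 12, nat_lit 11],
  [nat_lit 10, nat_lit 13],
  [nat_lit 5, nat_lit 11, nat_lit 5, nat_lit 12, nat_lit 11, nat_lit 12],
  [nat_lit 13, nat_lit 11, nat_lit 10],
  [nat_lit 11, nat_lit 12, nat_lit 11, nat_lit 10, nat_lit 12],
  [nat_lit 5, nat_lit 6, nat_lit 11, nat_lit 8, nat_lit 10, nat_lit 12, nat_lit 12],
  [nat_lit 5, nat_lit 10, nat_lit 13, nat_lit 11, nat_lit 5, nat_lit 8],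
  [nat_lit 10, nat_lit 9, nat_lit 11, nat_lit 9, nat_lit 13],
  [nat_lit 10, nat_lit 5, nat_lit 13],
  [nat_lit 5, nat_lit 11, nat_lit 8, nat_lit 5, nat_lit 12, nat_lit 12, nat_lit 5],
  [nat_lit 11, nat_lit 8, nat_lit 10, nat_lit 12, nat_lit 10, nat_lit 12],
  [nat_lit 11, nat_lit 9, nat_lit 12, nat_lit 10, nat_lit 12],
  [nat_lit 9, nat_lit 12, nat_lit 5, nat_lit 12],
  [nat_lit 5, nat_lit 6, nat_lit 9, nat_lit 12, nat_lit 12, nat_lit 10],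
  [nat_lit 5, nat_lit 10, nat_lit 13, nat_lit 11, nat_lit 9, nat_lit 5],
  [nat_lit 13, nat_lit 5, nat_lit 10, nat_lit 8, nat_lit 11],
  [nat_lit 5, nat_lit 7, nat_lit 13, nat_lit 11, nat_lit 10],
  [nat_lit 7, nat_lit 11, nat_lit 12, nat_lit 11, nat_lit 12, nat_lit 11],
  [nat_lit 11, nat_lit 8, nat_lit 12, nat_lit 12, nat_lit 5],
  [nat_lit 6, nat_lit 10, nat_lit 13, nat_lit 5, nat_lit 11, nat_lit 8],
  [nat_lit 5, nat_lit 6, nat_lit 10, nat_lit 8, nat_lit 13, nat_lit 5],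
  [nat_lit 5, nat_lit 10, nat_lit 8, nat_lit 13, nat_lit 5, nat_lit 11],
  [nat_lit 10, nat_lit 5, nat_lit 13, nat_lit 11, nat_lit 9],
  [nat_lit 6, nat_lit 11, nat_lit 12, nat_lit 11, nat_lit 12, nat_lit 5],
  [nat_lit 5, nat_lit 13, nat_lit 5, nat_lit 10, nat_lit 11],
  [nat_lit 6, nat_lit 10, nat_lit 9, nat_lit 11, nat_lit 13],
  [nat_lit 5, nat_lit 10, nat_lit 13, nat_lit 5],
  [nat_lit 5, nat_lit 10, nat_lit 8, nat_lit 13, nat_lit 5, nat_lit 9],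
  [nat_lit 11, nat_lit 8, nat_lit 5, nat_lit 12, nat_lit 12],
  [nat_lit 6, nat_lit 10, nat_lit 8, nat_lit 13],
  [nat_lit 8, nat_lit 10, nat_lit 5, nat_lit 9, nat_lit 11, nat_lit 12, nat_lit 12],
  [nat_lit 5, nat_lit 11, nat_lit 10, nat_lit 12, nat_lit 11, nat_lit 12],
  [nat_lit 9, nat_lit 10, nat_lit 12, nat_lit 12, nat_lit 10],
  [nat_lit 10, nat_lit 13, nat_lit 5, nat_lit 11],
  [nat_lit 9, nat_lit 12, nat_lit 5, nat_lit 12, nat_lit 5, nat_lit 11],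
  [nat_lit 11, nat_lit 10, nat_lit 12, nat_lit 11, nat_lit 12, nat_lit 11],
  [nat_lit 6, nat_lit 11, nat_lit 12, nat_lit 12, nat_lit 11, nat_lit 8],
  [nat_lit 10, nat_lit 9, nat_lit 5, nat_lit 11, nat_lit 13],
  [nat_lit 5, nat_lit 11, nat_lit 8, nat_lit 12, nat_lit 12],
  [nat_lit 9, nat_lit 5, nat_lit 12, nat_lit 5, nat_lit 12, nat_lit 5],
  [nat_lit 6, nat_lit 10, nat_lit 5, nat_lit 8, nat_lit 13],
  [nat_lit 10, nat_lit 5, nat_lit 9, nat_lit 5, nat_lit 11, nat_lit 13],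
  [nat_lit 13, nat_lit 5, nat_lit 10],
  [nat_lit 7, nat_lit 11, nat_lit 8, nat_lit 12, nat_lit 12],
  [nat_lit 10, nat_lit 13, nat_lit 11, nat_lit 9],
  [nat_lit 5, nat_lit 9, nat_lit 12, nat_lit 5, nat_lit 12, nat_lit 5],
  [nat_lit 12, nat_lit 5, nat_lit 10, nat_lit 8, nat_lit 13],
  [nat_lit 5, nat_lit 6, nat_lit 12, nat_lit 11, nat_lit 8],
  [nat_lit 7, nat_lit 12, nat_lit 5],
  [nat_lit 9, nat_lit 5, nat_lit 10, nat_lit 12, nat_lit 13],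
  [nat_lit 5, nat_lit 9, nat_lit 10, nat_lit 12, nat_lit 13],
  [nat_lit 9, nat_lit 11, nat_lit 5, nat_lit 12, nat_lit 11, nat_lit 8, nat_lit 13],
  [nat_lit 6, nat_lit 9, nat_lit 12, nat_lit 13, nat_lit 5],
  [nat_lit 9, nat_lit 10, nat_lit 12, nat_lit 10, nat_lit 9],
  [nat_lit 9, nat_lit 5, nat_lit 8, nat_lit 12, nat_lit 5],
  [nat_lit 8, nat_lit 11, nat_lit 13, nat_lit 11, nat_lit 12, nat_lit 12],
  [nat_lit 5, nat_lit 9, nat_lit 10, nat_lit 5, nat_lit 12, nat_lit 13],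
  [nat_lit 5, nat_lit 7, nat_lit 9, nat_lit 11, nat_lit 12, nat_lit 11],
  [nat_lit 5, nat_lit 9, nat_lit 5, nat_lit 11, nat_lit 12, nat_lit 11],
  [nat_lit 12, nat_lit 11, nat_lit 8, nat_lit 10],
  [nat_lit 5, nat_lit 12, nat_lit 5],
  [nat_lit 12, nat_lit 11, nat_lit 13, nat_lit 5, nat_lit 11],
  [nat_lit 10, nat_lit 12, nat_lit 10, nat_lit 11, nat_lit 13, nat_lit 11],
  [nat_lit 5, nat_lit 12, nat_lit 10, nat_lit 11, nat_lit 8],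
  [nat_lit 8, nat_lit 11, nat_lit 5, nat_lit 12, nat_lit 13],
  [nat_lit 5, nat_lit 12, nat_lit 5, nat_lit 9, nat_lit 10, nat_lit 8],
  [nat_lit 8, nat_lit 11, nat_lit 12, nat_lit 13],
  [nat_lit 8, nat_lit 5, nat_lit 10, nat_lit 9, nat_lit 12, nat_lit 13, nat_lit 11],
  [nat_lit 9, nat_lit 11, nat_lit 12, nat_lit 11],
  [nat_lit 6, nat_lit 9, nat_lit 11, nat_lit 5, nat_lit 12, nat_lit 11],
  [nat_lit 5, nat_lit 8, nat_lit 13, nat_lit 5, nat_lit 10, nat_lit 8],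
  [nat_lit 8, nat_lit 11, nat_lit 13],
  [nat_lit 7, nat_lit 9, nat_lit 10, nat_lit 13],
  [nat_lit 5, nat_lit 9, nat_lit 10, nat_lit 5, nat_lit 13],
  [nat_lit 6, nat_lit 12, nat_lit 12, nat_lit 10],
  [nat_lit 5, nat_lit 9, nat_lit 10, nat_lit 13],
  [nat_lit 12, nat_lit 11, nat_lit 8, nat_lit 10, nat_lit 12],
  [nat_lit 5, nat_lit 12, nat_lit 5, nat_lit 12, nat_lit 11],
  [nat_lit 12, nat_lit 11, nat_lit 12, nat_lit 11, nat_lit 8],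
  [nat_lit 9, nat_lit 11, nat_lit 12, nat_lit 11, nat_lit 12, nat_lit 11],
  [nat_lit 6, nat_lit 9, nat_lit 11, nat_lit 5, nat_lit 12, nat_lit 11, nat_lit 12],
  [nat_lit 12, nat_lit 12, nat_lit 11, nat_lit 10],
  [nat_lit 5, nat_lit 7, nat_lit 9, nat_lit 11, nat_lit 12, nat_lit 11, nat_lit 12],
  [nat_lit 9, nat_lit 11, nat_lit 12, nat_lit 11, nat_lit 12],
  [nat_lit 8, nat_lit 10, nat_lit 13, nat_lit 5, nat_lit 8],
  [nat_lit 8, nat_lit 11, nat_lit 5, nat_lit 13],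
  [nat_lit 5, nat_lit 12, nat_lit 5, nat_lit 12],
  [nat_lit 5, nat_lit 6, nat_lit 13, nat_lit 5, nat_lit 9],
  [nat_lit 8, nat_lit 11, nat_lit 13, nat_lit 11],
  [nat_lit 8, nat_lit 10, nat_lit 13, nat_lit 5, nat_lit 8, nat_lit 11],
  [nat_lit 8, nat_lit 10, nat_lit 13, nat_lit 11, nat_lit 5, nat_lit 8],
  [nat_lit 9, nat_lit 5, nat_lit 10, nat_lit 13],
  [nat_lit 8, nat_lit 12, nat_lit 11, nat_lit 12, nat_lit 5],
  [nat_lit 5, nat_lit 6, nat_lit 12, nat_lit 11, nat_lit 8, nat_lit 12],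
  [nat_lit 5, nat_lit 12, nat_lit 12, nat_lit 11],
  [nat_lit 5, nat_lit 12, nat_lit 11, nat_lit 8, nat_lit 10, nat_lit 12, nat_lit 10],
  [nat_lit 6, nat_lit 13, nat_lit 5, nat_lit 9, nat_lit 10],
  [nat_lit 6, nat_lit 12, nat_lit 11, nat_lit 8, nat_lit 12, nat_lit 10],
  [nat_lit 5, nat_lit 12, nat_lit 10, nat_lit 12],
  [nat_lit 13, nat_lit 11, nat_lit 8],
  [nat_lit 13, nat_lit 5, nat_lit 9, nat_lit 10, nat_lit 11],
  [nat_lit 7, nat_lit 12, nat_lit 5, nat_lit 9, nat_lit 11, nat_lit 12],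
  [nat_lit 5, nat_lit 12, nat_lit 5, nat_lit 9, nat_lit 11, nat_lit 12],
  [nat_lit 5, nat_lit 9, nat_lit 10, nat_lit 5, nat_lit 11, nat_lit 8, nat_lit 13],
  [nat_lit 8, nat_lit 5, nat_lit 10, nat_lit 11, nat_lit 13],
  [nat_lit 5, nat_lit 12, nat_lit 5, nat_lit 9, nat_lit 10, nat_lit 11, nat_lit 12],
  [nat_lit 5, nat_lit 7, nat_lit 9, nat_lit 13],
  [nat_lit 7, nat_lit 9, nat_lit 5, nat_lit 13],
  [nat_lit 5, nat_lit 9, nat_lit 10, nat_lit 11, nat_lit 8, nat_lit 13],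
  [nat_lit 5, nat_lit 12, nat_lit 11, nat_lit 12, nat_lit 11, nat_lit 8, nat_lit 10],
  [nat_lit 9, nat_lit 13],
  [nat_lit 5, nat_lit 12, nat_lit 11, nat_lit 8, nat_lit 5, nat_lit 12],
  [nat_lit 7, nat_lit 12, nat_lit 12, nat_lit 11],
  [nat_lit 9, nat_lit 5, nat_lit 10, nat_lit 11, nat_lit 8, nat_lit 13],
  [nat_lit 7, nat_lit 12, nat_lit 5, nat_lit 9, nat_lit 10, nat_lit 11, nat_lit 12],
  [nat_lit 7, nat_lit 9, nat_lit 10, nat_lit 11, nat_lit 8, nat_lit 13],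
  [nat_lit 5, nat_lit 8, nat_lit 11, nat_lit 10, nat_lit 13],
  [nat_lit 5, nat_lit 6, nat_lit 12, nat_lit 12],
  [nat_lit 5, nat_lit 6, nat_lit 12],
  [nat_lit 5, nat_lit 7, nat_lit 9, nat_lit 12, nat_lit 13],
  [nat_lit 7, nat_lit 12, nat_lit 11, nat_lit 13, nat_lit 11],
  [nat_lit 6, nat_lit 9, nat_lit 5, nat_lit 8, nat_lit 12],
  [nat_lit 7, nat_lit 12, nat_lit 5, nat_lit 9, nat_lit 11],
  [nat_lit 9, nat_lit 5, nat_lit 8, nat_lit 12, nat_lit 11, nat_lit 13, nat_lit 11],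
  [nat_lit 7, nat_lit 12, nat_lit 5, nat_lit 9, nat_lit 10, nat_lit 11],
  [nat_lit 5, nat_lit 8, nat_lit 5, nat_lit 11, nat_lit 12, nat_lit 13, nat_lit 5],
  [nat_lit 5, nat_lit 12, nat_lit 11, nat_lit 13, nat_lit 11],
  [nat_lit 6, nat_lit 9, nat_lit 12, nat_lit 10, nat_lit 13],
  [nat_lit 9, nat_lit 12, nat_lit 13],
  [nat_lit 8, nat_lit 5, nat_lit 10, nat_lit 11, nat_lit 12, nat_lit 13],
  [nat_lit 5, nat_lit 12, nat_lit 5, nat_lit 9, nat_lit 10, nat_lit 11],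
  [nat_lit 7, nat_lit 12, nat_lit 11, nat_lit 8, nat_lit 5],
  [nat_lit 5, nat_lit 9, nat_lit 5, nat_lit 12, nat_lit 13],
  [nat_lit 6, nat_lit 12, nat_lit 11, nat_lit 8, nat_lit 10, nat_lit 5],
  [nat_lit 5, nat_lit 12, nat_lit 11, nat_lit 8, nat_lit 5],
  [nat_lit 8, nat_lit 12, nat_lit 10, nat_lit 5, nat_lit 9, nat_lit 11, nat_lit 13],
  [nat_lit 9, nat_lit 5, nat_lit 10, nat_lit 9, nat_lit 12, nat_lit 5],
  [nat_lit 8, nat_lit 5, nat_lit 9, nat_lit 12],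
  [nat_lit 6, nat_lit 8, nat_lit 11, nat_lit 12, nat_lit 13, nat_lit 5],
  [nat_lit 5, nat_lit 12, nat_lit 5, nat_lit 9, nat_lit 11],
  [nat_lit 5, nat_lit 12, nat_lit 10],
  [nat_lit 5, nat_lit 8, nat_lit 11, nat_lit 10, nat_lit 12, nat_lit 13],
  [nat_lit 5, nat_lit 10, nat_lit 13, nat_lit 11, nat_lit 12, nat_lit 12, nat_lit 11],
  [nat_lit 5, nat_lit 9, nat_lit 5, nat_lit 12, nat_lit 11, nat_lit 5],
  [nat_lit 5, nat_lit 8, nat_lit 5, nat_lit 11, nat_lit 12, nat_lit 11, nat_lit 13],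
  [nat_lit 7, nat_lit 11, nat_lit 12, nat_lit 11, nat_lit 8, nat_lit 10],
  [nat_lit 11, nat_lit 12],
  [nat_lit 13, nat_lit 11, nat_lit 13, nat_lit 11, nat_lit 12],
  [nat_lit 6, nat_lit 10, nat_lit 9, nat_lit 12, nat_lit 10, nat_lit 13],
  [nat_lit 11, nat_lit 12, nat_lit 11, nat_lit 8],
  [nat_lit 9, nat_lit 12, nat_lit 11, nat_lit 5],
  [nat_lit 12, nat_lit 13, nat_lit 5, nat_lit 8],
  [nat_lit 10, nat_lit 12, nat_lit 5, nat_lit 8, nat_lit 13],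
  [nat_lit 12, nat_lit 13, nat_lit 5, nat_lit 11],
  [nat_lit 5, nat_lit 6, nat_lit 9, nat_lit 12, nat_lit 5, nat_lit 11],
  [nat_lit 9, nat_lit 12, nat_lit 5, nat_lit 10, nat_lit 11],
  [nat_lit 5, nat_lit 10, nat_lit 9, nat_lit 5, nat_lit 12, nat_lit 13],
  [nat_lit 5, nat_lit 11, nat_lit 12, nat_lit 11, nat_lit 8, nat_lit 10],
  [nat_lit 5, nat_lit 7, nat_lit 11, nat_lit 12, nat_lit 11, nat_lit 8],
  [nat_lit 13, nat_lit 11, nat_lit 12, nat_lit 12, nat_lit 5, nat_lit 11],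
  [nat_lit 10, nat_lit 12, nat_lit 10, nat_lit 13, nat_lit 11],
  [nat_lit 12, nat_lit 5, nat_lit 8, nat_lit 11, nat_lit 10, nat_lit 13],
  [nat_lit 5, nat_lit 7, nat_lit 11, nat_lit 12],
  [nat_lit 9, nat_lit 12, nat_lit 5, nat_lit 10, nat_lit 8],
  [nat_lit 10, nat_lit 12, nat_lit 10, nat_lit 9, nat_lit 13],
  [nat_lit 5, nat_lit 12, nat_lit 5, nat_lit 8, nat_lit 11, nat_lit 13],
  [nat_lit 5, nat_lit 8, nat_lit 12, nat_lit 12],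
  [nat_lit 9, nat_lit 11, nat_lit 10, nat_lit 12, nat_lit 12, nat_lit 11],
  [nat_lit 8, nat_lit 13, nat_lit 11, nat_lit 10, nat_lit 8, nat_lit 5],
  [nat_lit 13, nat_lit 5, nat_lit 11, nat_lit 12, nat_lit 11, nat_lit 13],
  [nat_lit 5, nat_lit 8, nat_lit 12, nat_lit 10, nat_lit 12],
  [nat_lit 8, nat_lit 13, nat_lit 11],
  [nat_lit 10, nat_lit 12, nat_lit 5, nat_lit 11, nat_lit 12, nat_lit 11],
  [nat_lit 5, nat_lit 8, nat_lit 10, nat_lit 11, nat_lit 9, nat_lit 13],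
  [nat_lit 5, nat_lit 9, nat_lit 11, nat_lit 12, nat_lit 12, nat_lit 5],
  [nat_lit 13, nat_lit 5, nat_lit 9, nat_lit 10, nat_lit 8],
  [nat_lit 7, nat_lit 9, nat_lit 11, nat_lit 10, nat_lit 13],
  [nat_lit 6, nat_lit 13, nat_lit 11, nat_lit 9],
  [nat_lit 12, nat_lit 5, nat_lit 11, nat_lit 12, nat_lit 5],
  [nat_lit 6, nat_lit 8, nat_lit 13],
  [nat_lit 9, nat_lit 5, nat_lit 11, nat_lit 10, nat_lit 13],
  [nat_lit 9, nat_lit 13, nat_lit 11, nat_lit 8],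
  [nat_lit 9, nat_lit 10, nat_lit 11, nat_lit 12, nat_lit 12],
  [nat_lit 5, nat_lit 10, nat_lit 12, nat_lit 11, nat_lit 5, nat_lit 12],
  [nat_lit 6, nat_lit 8, nat_lit 5, nat_lit 12, nat_lit 12],
  [nat_lit 8, nat_lit 5, nat_lit 8, nat_lit 10, nat_lit 11, nat_lit 13],
  [nat_lit 9, nat_lit 5, nat_lit 11, nat_lit 12, nat_lit 12, nat_lit 5],
  [nat_lit 7, nat_lit 8, nat_lit 12, nat_lit 12],
  [nat_lit 5, nat_lit 9, nat_lit 11, nat_lit 10, nat_lit 13],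
  [nat_lit 8, nat_lit 5, nat_lit 11, nat_lit 10, nat_lit 9, nat_lit 13],
  [nat_lit 5, nat_lit 6, nat_lit 13, nat_lit 11, nat_lit 5],
  [nat_lit 8, nat_lit 10, nat_lit 8, nat_lit 5, nat_lit 11, nat_lit 13],
  [nat_lit 9, nat_lit 5, nat_lit 10, nat_lit 9, nat_lit 13],
  [nat_lit 12, nat_lit 12, nat_lit 11, nat_lit 10, nat_lit 8],
  [nat_lit 7, nat_lit 9, nat_lit 10, nat_lit 9, nat_lit 13],
  [nat_lit 5, nat_lit 12, nat_lit 5, nat_lit 8, nat_lit 12],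
  [nat_lit 5, nat_lit 9, nat_lit 10, nat_lit 9, nat_lit 13],
  [nat_lit 9, nat_lit 10, nat_lit 12, nat_lit 10, nat_lit 12],
  [nat_lit 9, nat_lit 10, nat_lit 12, nat_lit 12, nat_lit 11],
  [nat_lit 8, nat_lit 12, nat_lit 5, nat_lit 12, nat_lit 5, nat_lit 9],
  [nat_lit 6, nat_lit 8, nat_lit 11, nat_lit 12, nat_lit 12],
  [nat_lit 5, nat_lit 8, nat_lit 10, nat_lit 12, nat_lit 12, nat_lit 10, nat_lit 9],
  [nat_lit 8, nat_lit 12, nat_lit 12, nat_lit 10, nat_lit 5, nat_lit 9, nat_lit 11],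
  [nat_lit 5, nat_lit 12, nat_lit 5, nat_lit 12, nat_lit 11, nat_lit 8],
  [nat_lit 8, nat_lit 5, nat_lit 10, nat_lit 8, nat_lit 11, nat_lit 13],
  [nat_lit 13, nat_lit 5, nat_lit 11],
  [nat_lit 6, nat_lit 7, nat_lit 13, nat_lit 5],
  [nat_lit 8, nat_lit 10, nat_lit 13, nat_lit 5, nat_lit 9],
  [nat_lit 10, nat_lit 8, nat_lit 5, nat_lit 10, nat_lit 13],
  [nat_lit 9, nat_lit 12, nat_lit 12, nat_lit 5],
  [nat_lit 8, nat_lit 5, nat_lit 12, nat_lit 12, nat_lit 10, nat_lit 5, nat_lit 9],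
  [nat_lit 5, nat_lit 6, nat_lit 13, nat_lit 5],
  [nat_lit 5, nat_lit 8, nat_lit 13, nat_lit 5, nat_lit 10, nat_lit 9],
  [nat_lit 5, nat_lit 6, nat_lit 9, nat_lit 10, nat_lit 12, nat_lit 12],
  [nat_lit 5, nat_lit 12, nat_lit 10, nat_lit 9, nat_lit 12],
  [nat_lit 5, nat_lit 8, nat_lit 11, nat_lit 10, nat_lit 8, nat_lit 13],
  [nat_lit 11, nat_lit 12, nat_lit 11, nat_lit 5, nat_lit 12],
  [nat_lit 8, nat_lit 10, nat_lit 11, nat_lit 12, nat_lit 12],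
  [nat_lit 5, nat_lit 9, nat_lit 12, nat_lit 10, nat_lit 12],
  [nat_lit 13],
  [nat_lit 11, nat_lit 12, nat_lit 11, nat_lit 5, nat_lit 12, nat_lit 11],
  [nat_lit 8, nat_lit 5, nat_lit 10, nat_lit 11, nat_lit 8, nat_lit 13],
  [nat_lit 5, nat_lit 9, nat_lit 10, nat_lit 11, nat_lit 9, nat_lit 13],
  [nat_lit 5, nat_lit 8, nat_lit 11, nat_lit 12, nat_lit 12, nat_lit 5],
  [nat_lit 8, nat_lit 11, nat_lit 10, nat_lit 8, nat_lit 5, nat_lit 13],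
  [nat_lit 5, nat_lit 8, nat_lit 5, nat_lit 11, nat_lit 10, nat_lit 12, nat_lit 12],
  [nat_lit 5, nat_lit 7, nat_lit 13, nat_lit 11],
  [nat_lit 9, nat_lit 10, nat_lit 11, nat_lit 9, nat_lit 5, nat_lit 13],
  [nat_lit 5, nat_lit 7, nat_lit 13],
  [nat_lit 8, nat_lit 11, nat_lit 10, nat_lit 12, nat_lit 10, nat_lit 12],
  [nat_lit 9, nat_lit 5, nat_lit 10, nat_lit 11, nat_lit 9, nat_lit 13],
  [nat_lit 11, nat_lit 12, nat_lit 11, nat_lit 10, nat_lit 12, nat_lit 10],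
  [nat_lit 6, nat_lit 13, nat_lit 5, nat_lit 9, nat_lit 10, nat_lit 9],
  [nat_lit 13, nat_lit 11],
  [nat_lit 5, nat_lit 11, nat_lit 12, nat_lit 11, nat_lit 12, nat_lit 11, nat_lit 10],
  [nat_lit 6, nat_lit 9, nat_lit 5, nat_lit 12, nat_lit 12],
  [nat_lit 5, nat_lit 6, nat_lit 9, nat_lit 12, nat_lit 12],
  [nat_lit 6, nat_lit 9, nat_lit 10, nat_lit 9, nat_lit 13, nat_lit 5],
  [nat_lit 5, nat_lit 6, nat_lit 9, nat_lit 12, nat_lit 11],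
  [nat_lit 12, nat_lit 13, nat_lit 11, nat_lit 10],
  [nat_lit 6, nat_lit 12, nat_lit 11, nat_lit 5, nat_lit 8],
  [nat_lit 6, nat_lit 9, nat_lit 5, nat_lit 12, nat_lit 11, nat_lit 13],
  [nat_lit 6, nat_lit 9, nat_lit 5, nat_lit 12, nat_lit 11],
  [nat_lit 6, nat_lit 12, nat_lit 11, nat_lit 5, nat_lit 8, nat_lit 13],
  [nat_lit 5, nat_lit 12, nat_lit 5, nat_lit 11, nat_lit 8, nat_lit 10],
  [nat_lit 5, nat_lit 12, nat_lit 5, nat_lit 11, nat_lit 8, nat_lit 13],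
  [nat_lit 5, nat_lit 12, nat_lit 5, nat_lit 11, nat_lit 8, nat_lit 10, nat_lit 13],
  [nat_lit 13, nat_lit 11, nat_lit 12, nat_lit 12, nat_lit 11, nat_lit 10],
  [nat_lit 8, nat_lit 12, nat_lit 13, nat_lit 5, nat_lit 9],
  [nat_lit 5, nat_lit 12, nat_lit 5, nat_lit 11, nat_lit 8],
  [nat_lit 8, nat_lit 5, nat_lit 12, nat_lit 5, nat_lit 9],
  [nat_lit 5, nat_lit 12, nat_lit 10, nat_lit 9, nat_lit 11],
  [nat_lit 5, nat_lit 9, nat_lit 12, nat_lit 10, nat_lit 11, nat_lit 13],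
  [nat_lit 9, nat_lit 11, nat_lit 8, nat_lit 12],
  [nat_lit 6, nat_lit 12, nat_lit 11, nat_lit 5, nat_lit 8, nat_lit 10],
  [nat_lit 12, nat_lit 13, nat_lit 11],
  [nat_lit 13, nat_lit 11, nat_lit 12, nat_lit 12, nat_lit 11],
  [nat_lit 6, nat_lit 12, nat_lit 11, nat_lit 5, nat_lit 8, nat_lit 10, nat_lit 13],
  [nat_lit 5, nat_lit 6, nat_lit 11, nat_lit 12, nat_lit 5],
  [nat_lit 5, nat_lit 6, nat_lit 9, nat_lit 12, nat_lit 11, nat_lit 13],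
  [nat_lit 5, nat_lit 9, nat_lit 12, nat_lit 10, nat_lit 11],
  [nat_lit 6, nat_lit 9, nat_lit 11, nat_lit 5, nat_lit 8, nat_lit 12],
  [nat_lit 8, nat_lit 5, nat_lit 10, nat_lit 13, nat_lit 5],
  [nat_lit 5, nat_lit 7, nat_lit 13, nat_lit 5, nat_lit 8],
  [nat_lit 5, nat_lit 12, nat_lit 12, nat_lit 10, nat_lit 11, nat_lit 9],
  [nat_lit 5, nat_lit 9, nat_lit 10, nat_lit 8, nat_lit 13, nat_lit 11],
  [nat_lit 6, nat_lit 9, nat_lit 10, nat_lit 8, nat_lit 13],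
  [nat_lit 6, nat_lit 12, nat_lit 5, nat_lit 9, nat_lit 12],
  [nat_lit 6, nat_lit 13, nat_lit 11, nat_lit 8, nat_lit 10, nat_lit 9],
  [nat_lit 12, nat_lit 11, nat_lit 10, nat_lit 12],
  [nat_lit 12, nat_lit 11, nat_lit 12],
  [nat_lit 5, nat_lit 8, nat_lit 5, nat_lit 10, nat_lit 12, nat_lit 12, nat_lit 10],
  [nat_lit 8, nat_lit 5, nat_lit 12, nat_lit 5, nat_lit 12, nat_lit 5],
  [nat_lit 5, nat_lit 12, nat_lit 12, nat_lit 10, nat_lit 9],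
  [nat_lit 8, nat_lit 12, nat_lit 12, nat_lit 10, nat_lit 5],
  [nat_lit 9, nat_lit 13, nat_lit 11, nat_lit 10, nat_lit 9],
  [nat_lit 8, nat_lit 10, nat_lit 13, nat_lit 5, nat_lit 11],
  [nat_lit 5, nat_lit 8, nat_lit 10, nat_lit 12, nat_lit 5, nat_lit 12],
  [nat_lit 5, nat_lit 12, nat_lit 10, nat_lit 11, nat_lit 12, nat_lit 11],
  [nat_lit 8, nat_lit 11, nat_lit 8, nat_lit 5, nat_lit 13],
  [nat_lit 5, nat_lit 12, nat_lit 5, nat_lit 9, nat_lit 12, nat_lit 11],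
  [nat_lit 5, nat_lit 6, nat_lit 12, nat_lit 11, nat_lit 12, nat_lit 11],
  [nat_lit 13, nat_lit 11, nat_lit 5, nat_lit 8],
  [nat_lit 13, nat_lit 5, nat_lit 8],
  [nat_lit 5, nat_lit 6, nat_lit 8, nat_lit 10, nat_lit 13, nat_lit 5],
  [nat_lit 6, nat_lit 8, nat_lit 13, nat_lit 5, nat_lit 10],
  [nat_lit 5, nat_lit 12, nat_lit 5, nat_lit 12, nat_lit 5, nat_lit 11],
  [nat_lit 6, nat_lit 10, nat_lit 9, nat_lit 11, nat_lit 5, nat_lit 12, nat_lit 12],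
  [nat_lit 5, nat_lit 8, nat_lit 12, nat_lit 11, nat_lit 10, nat_lit 12],
  [nat_lit 11, nat_lit 8, nat_lit 10, nat_lit 9, nat_lit 13],
  [nat_lit 10, nat_lit 9, nat_lit 11, nat_lit 12, nat_lit 12, nat_lit 11],
  [nat_lit 9, nat_lit 13, nat_lit 5, nat_lit 10, nat_lit 11],
  [nat_lit 10, nat_lit 12, nat_lit 5, nat_lit 12],
  [nat_lit 11, nat_lit 8, nat_lit 13],
  [nat_lit 12, nat_lit 12, nat_lit 5, nat_lit 8],
  [nat_lit 5, nat_lit 6, nat_lit 10, nat_lit 9, nat_lit 11, nat_lit 12, nat_lit 12],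
  [nat_lit 8, nat_lit 12, nat_lit 11, nat_lit 5, nat_lit 8, nat_lit 12],
  [nat_lit 10, nat_lit 12, nat_lit 12, nat_lit 10, nat_lit 11],
  [nat_lit 5, nat_lit 12, nat_lit 12, nat_lit 10, nat_lit 5],
  [nat_lit 5, nat_lit 11, nat_lit 8, nat_lit 5, nat_lit 13],
  [nat_lit 11, nat_lit 9, nat_lit 5, nat_lit 10, nat_lit 13],
  [nat_lit 5, nat_lit 11, nat_lit 9, nat_lit 10, nat_lit 5, nat_lit 13],
  [nat_lit 5, nat_lit 7, nat_lit 11, nat_lit 8, nat_lit 13],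
  [nat_lit 5, nat_lit 8, nat_lit 10, nat_lit 5, nat_lit 9, nat_lit 11, nat_lit 13],
  [nat_lit 8, nat_lit 5, nat_lit 10, nat_lit 9, nat_lit 11, nat_lit 13],
  [nat_lit 6, nat_lit 11, nat_lit 13, nat_lit 11, nat_lit 9],
  [nat_lit 5, nat_lit 6, nat_lit 8, nat_lit 10, nat_lit 9, nat_lit 11, nat_lit 13],
  [nat_lit 11, nat_lit 9, nat_lit 10, nat_lit 13],
  [nat_lit 8, nat_lit 5, nat_lit 12, nat_lit 11, nat_lit 12],
  [nat_lit 8, nat_lit 12, nat_lit 11, nat_lit 12, nat_lit 11],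
  [nat_lit 10, nat_lit 13, nat_lit 12, nat_lit 11, nat_lit 5],
  [nat_lit 5, nat_lit 9, nat_lit 10, nat_lit 5, nat_lit 8],
  [nat_lit 8, nat_lit 11, nat_lit 8],
  [nat_lit 11, nat_lit 5, nat_lit 8, nat_lit 11, nat_lit 10],
  [nat_lit 8, nat_lit 13, nat_lit 5, nat_lit 10, nat_lit 11, nat_lit 12],
  [nat_lit 5, nat_lit 7, nat_lit 8, nat_lit 11, nat_lit 8],
  [nat_lit 6, nat_lit 8, nat_lit 10, nat_lit 13, nat_lit 5, nat_lit 12],
  [nat_lit 5, nat_lit 8, nat_lit 10, nat_lit 13, nat_lit 12, nat_lit 10],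
  [nat_lit 5, nat_lit 13, nat_lit 12, nat_lit 10, nat_lit 8, nat_lit 5],
  [nat_lit 11, nat_lit 9, nat_lit 5, nat_lit 11],
  [nat_lit 5, nat_lit 9, nat_lit 10, nat_lit 8],
  [nat_lit 8, nat_lit 5, nat_lit 13, nat_lit 5, nat_lit 10, nat_lit 12],
  [nat_lit 12, nat_lit 11, nat_lit 12, nat_lit 11, nat_lit 13],
  [nat_lit 9, nat_lit 11, nat_lit 5, nat_lit 9, nat_lit 10],
  [nat_lit 12, nat_lit 12, nat_lit 5, nat_lit 13, nat_lit 11],
  [nat_lit 7, nat_lit 10, nat_lit 13, nat_lit 11, nat_lit 12, nat_lit 11],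
  [nat_lit 5, nat_lit 13, nat_lit 5, nat_lit 8, nat_lit 12],
  [nat_lit 5, nat_lit 13, nat_lit 11, nat_lit 5, nat_lit 8, nat_lit 12],
  [nat_lit 6, nat_lit 13, nat_lit 12, nat_lit 10, nat_lit 8],
  [nat_lit 9, nat_lit 11, nat_lit 9, nat_lit 5, nat_lit 10],
  [nat_lit 11, nat_lit 8, nat_lit 10, nat_lit 11],
  [nat_lit 7, nat_lit 9, nat_lit 10, nat_lit 8],
  [nat_lit 9, nat_lit 5, nat_lit 10, nat_lit 8],
  [nat_lit 8, nat_lit 11, nat_lit 5, nat_lit 8],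
  [nat_lit 6, nat_lit 8, nat_lit 12, nat_lit 11, nat_lit 12],
  [nat_lit 7, nat_lit 10, nat_lit 9, nat_lit 11, nat_lit 12, nat_lit 12, nat_lit 11],
  [nat_lit 6, nat_lit 9, nat_lit 13, nat_lit 5, nat_lit 10],
  [nat_lit 12, nat_lit 12, nat_lit 10, nat_lit 5],
  [nat_lit 11, nat_lit 8, nat_lit 5, nat_lit 13],
  [nat_lit 5, nat_lit 11, nat_lit 8, nat_lit 10, nat_lit 9, nat_lit 13],
  [nat_lit 8, nat_lit 10, nat_lit 5, nat_lit 9, nat_lit 11, nat_lit 13],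
  [nat_lit 5, nat_lit 8, nat_lit 12, nat_lit 11, nat_lit 5, nat_lit 8, nat_lit 12],
  [nat_lit 12, nat_lit 5, nat_lit 12, nat_lit 5, nat_lit 11],
  [nat_lit 12, nat_lit 12, nat_lit 5, nat_lit 11, nat_lit 8],
  [nat_lit 11, nat_lit 8, nat_lit 10, nat_lit 13, nat_lit 11, nat_lit 8],
  [nat_lit 11, nat_lit 9, nat_lit 10, nat_lit 5, nat_lit 13],
  [nat_lit 10, nat_lit 9, nat_lit 5, nat_lit 11, nat_lit 12, nat_lit 12],
  [nat_lit 5, nat_lit 11, nat_lit 8, nat_lit 13],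
  [nat_lit 5, nat_lit 10, nat_lit 12, nat_lit 12, nat_lit 10, nat_lit 11],
  [nat_lit 6, nat_lit 8, nat_lit 10, nat_lit 9, nat_lit 11, nat_lit 13],
  [nat_lit 5, nat_lit 10, nat_lit 12, nat_lit 5, nat_lit 12],
  [nat_lit 8, nat_lit 12, nat_lit 11, nat_lit 10, nat_lit 12],
  [nat_lit 5, nat_lit 11, nat_lit 9, nat_lit 5, nat_lit 10, nat_lit 13],
  [nat_lit 7, nat_lit 11, nat_lit 8, nat_lit 13],
  [nat_lit 6, nat_lit 10, nat_lit 9, nat_lit 11, nat_lit 12, nat_lit 12],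
  [nat_lit 5, nat_lit 12, nat_lit 12, nat_lit 5, nat_lit 8],
  [nat_lit 6, nat_lit 11, nat_lit 8, nat_lit 13, nat_lit 11],
  [nat_lit 5, nat_lit 11, nat_lit 9, nat_lit 10, nat_lit 13],
  [nat_lit 12, nat_lit 5, nat_lit 10, nat_lit 9, nat_lit 11],
  [nat_lit 5, nat_lit 6, nat_lit 12, nat_lit 11, nat_lit 8, nat_lit 5],
  [nat_lit 5, nat_lit 12, nat_lit 11, nat_lit 8, nat_lit 5, nat_lit 10],
  [nat_lit 9, nat_lit 12, nat_lit 10, nat_lit 13],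
  [nat_lit 8, nat_lit 11, nat_lit 8, nat_lit 12, nat_lit 11],
  [nat_lit 5, nat_lit 8, nat_lit 10, nat_lit 11, nat_lit 12, nat_lit 13],
  [nat_lit 5, nat_lit 12, nat_lit 10, nat_lit 11, nat_lit 13, nat_lit 11],
  [nat_lit 9, nat_lit 5, nat_lit 11, nat_lit 8, nat_lit 12, nat_lit 11, nat_lit 13],
  [nat_lit 5, nat_lit 6, nat_lit 9, nat_lit 5, nat_lit 12, nat_lit 13],
  [nat_lit 5, nat_lit 8, nat_lit 11, nat_lit 10, nat_lit 12, nat_lit 10, nat_lit 13],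
  [nat_lit 6, nat_lit 9, nat_lit 12, nat_lit 13],
  [nat_lit 8, nat_lit 11, nat_lit 12, nat_lit 13, nat_lit 5],
  [nat_lit 8, nat_lit 5, nat_lit 9, nat_lit 12, nat_lit 11, nat_lit 13, nat_lit 11],
  [nat_lit 7, nat_lit 12, nat_lit 5, nat_lit 9, nat_lit 11, nat_lit 10],
  [nat_lit 9, nat_lit 5, nat_lit 8, nat_lit 12],
  [nat_lit 5, nat_lit 12, nat_lit 5, nat_lit 9, nat_lit 11, nat_lit 10],
  [nat_lit 12, nat_lit 11, nat_lit 8, nat_lit 10, nat_lit 5],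
  [nat_lit 5, nat_lit 6, nat_lit 12, nat_lit 11, nat_lit 13, nat_lit 11],
  [nat_lit 6, nat_lit 8, nat_lit 5, nat_lit 9, nat_lit 12],
  [nat_lit 8, nat_lit 5, nat_lit 11, nat_lit 10, nat_lit 12, nat_lit 13],
  [nat_lit 8, nat_lit 10, nat_lit 12, nat_lit 5, nat_lit 11],
  [nat_lit 7, nat_lit 12],
  [nat_lit 12, nat_lit 10, nat_lit 9, nat_lit 13],
  [nat_lit 5, nat_lit 12],
  [nat_lit 8, nat_lit 12, nat_lit 10, nat_lit 11, nat_lit 12],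
  [nat_lit 11, nat_lit 8, nat_lit 13, nat_lit 11, nat_lit 10, nat_lit 8],
  [nat_lit 5, nat_lit 9, nat_lit 10, nat_lit 13, nat_lit 5],
  [nat_lit 5, nat_lit 6, nat_lit 11, nat_lit 8, nat_lit 13],
  [nat_lit 8, nat_lit 11, nat_lit 13, nat_lit 5],
  [nat_lit 10, nat_lit 5, nat_lit 8, nat_lit 12, nat_lit 12],
  [nat_lit 11, nat_lit 8, nat_lit 13, nat_lit 11],
  [nat_lit 6, nat_lit 10, nat_lit 9, nat_lit 5, nat_lit 11, nat_lit 12, nat_lit 12],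
  [nat_lit 10, nat_lit 5, nat_lit 9, nat_lit 11, nat_lit 12, nat_lit 12],
  [nat_lit 5, nat_lit 10, nat_lit 9, nat_lit 11, nat_lit 5, nat_lit 12, nat_lit 12],
  [nat_lit 9, nat_lit 13, nat_lit 5, nat_lit 10],
  [nat_lit 10, nat_lit 12, nat_lit 12, nat_lit 10],
  [nat_lit 10, nat_lit 9, nat_lit 11, nat_lit 12, nat_lit 12],
  [nat_lit 10, nat_lit 12, nat_lit 5, nat_lit 12, nat_lit 11],
  [nat_lit 11, nat_lit 8, nat_lit 10, nat_lit 9, nat_lit 13, nat_lit 11],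
  [nat_lit 13, nat_lit 11, nat_lit 8, nat_lit 5, nat_lit 10],
  [nat_lit 5, nat_lit 10, nat_lit 12, nat_lit 12, nat_lit 11, nat_lit 10],
  [nat_lit 5, nat_lit 6, nat_lit 11, nat_lit 8, nat_lit 10, nat_lit 9, nat_lit 13],
  [nat_lit 8, nat_lit 12, nat_lit 11, nat_lit 12],
  [nat_lit 8, nat_lit 10, nat_lit 9, nat_lit 11, nat_lit 13],
  [nat_lit 5, nat_lit 12, nat_lit 5, nat_lit 12, nat_lit 5],
  [nat_lit 6, nat_lit 11, nat_lit 8, nat_lit 5, nat_lit 13],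
  [nat_lit 5, nat_lit 10, nat_lit 8, nat_lit 5, nat_lit 12, nat_lit 12],
  [nat_lit 9, nat_lit 5, nat_lit 10, nat_lit 13, nat_lit 5],
  [nat_lit 5, nat_lit 6, nat_lit 11, nat_lit 12, nat_lit 5, nat_lit 11],
  [nat_lit 5, nat_lit 6, nat_lit 9, nat_lit 12],
  [nat_lit 5, nat_lit 7, nat_lit 12, nat_lit 13],
  [nat_lit 6, nat_lit 12, nat_lit 11, nat_lit 8, nat_lit 5, nat_lit 13],
  [nat_lit 9, nat_lit 11, nat_lit 10, nat_lit 12, nat_lit 10, nat_lit 8],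
  [nat_lit 8, nat_lit 10, nat_lit 11, nat_lit 12],
  [nat_lit 13, nat_lit 11, nat_lit 12, nat_lit 12],
  [nat_lit 6, nat_lit 12, nat_lit 5, nat_lit 9, nat_lit 11, nat_lit 13],
  [nat_lit 8, nat_lit 5, nat_lit 12, nat_lit 5, nat_lit 9, nat_lit 11],
  [nat_lit 5, nat_lit 9, nat_lit 12, nat_lit 10, nat_lit 11, nat_lit 13, nat_lit 11],
  [nat_lit 5, nat_lit 12, nat_lit 11, nat_lit 13, nat_lit 11, nat_lit 9],
  [nat_lit 12, nat_lit 11, nat_lit 8, nat_lit 5, nat_lit 10, nat_lit 13],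
  [nat_lit 5, nat_lit 12, nat_lit 11, nat_lit 8, nat_lit 10, nat_lit 5, nat_lit 13],
  [nat_lit 5, nat_lit 7, nat_lit 13, nat_lit 11, nat_lit 12, nat_lit 12],
  [nat_lit 12, nat_lit 13],
  [nat_lit 5, nat_lit 8, nat_lit 5, nat_lit 11, nat_lit 10, nat_lit 12],
  [nat_lit 5, nat_lit 12, nat_lit 10, nat_lit 9],
  [nat_lit 11, nat_lit 12, nat_lit 11, nat_lit 5],
  [nat_lit 12, nat_lit 5, nat_lit 9, nat_lit 11, nat_lit 10, nat_lit 13],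
  [nat_lit 12, nat_lit 10, nat_lit 5, nat_lit 9, nat_lit 11, nat_lit 13],
  [nat_lit 6, nat_lit 9, nat_lit 5, nat_lit 12],
  [nat_lit 5, nat_lit 7, nat_lit 8, nat_lit 10, nat_lit 11, nat_lit 12],
  [nat_lit 8, nat_lit 11, nat_lit 10, nat_lit 12, nat_lit 10],
  [nat_lit 5, nat_lit 9, nat_lit 12, nat_lit 10],
  [nat_lit 5, nat_lit 7, nat_lit 9, nat_lit 12, nat_lit 11],
  [nat_lit 5, nat_lit 7, nat_lit 9, nat_lit 12, nat_lit 11, nat_lit 13],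
  [nat_lit 11, nat_lit 12, nat_lit 5, nat_lit 13],
  [nat_lit 5, nat_lit 12, nat_lit 11, nat_lit 5, nat_lit 8, nat_lit 10, nat_lit 13],
  [nat_lit 9, nat_lit 12, nat_lit 11, nat_lit 13],
  [nat_lit 6, nat_lit 12, nat_lit 5, nat_lit 11, nat_lit 8],
  [nat_lit 5, nat_lit 8, nat_lit 12, nat_lit 5, nat_lit 10, nat_lit 9],
  [nat_lit 5, nat_lit 9, nat_lit 5, nat_lit 12, nat_lit 11],
  [nat_lit 9, nat_lit 12, nat_lit 11, nat_lit 10, nat_lit 13],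
  [nat_lit 8, nat_lit 12, nat_lit 10, nat_lit 5, nat_lit 9],
  [nat_lit 6, nat_lit 12, nat_lit 5, nat_lit 11, nat_lit 8, nat_lit 10],
  [nat_lit 5, nat_lit 9, nat_lit 5, nat_lit 12, nat_lit 11, nat_lit 13],
  [nat_lit 11, nat_lit 12, nat_lit 5, nat_lit 10],
  [nat_lit 5, nat_lit 12, nat_lit 11, nat_lit 5, nat_lit 8, nat_lit 10],
  [nat_lit 11, nat_lit 12, nat_lit 5],
  [nat_lit 9, nat_lit 12, nat_lit 11],
  [nat_lit 8, nat_lit 5, nat_lit 9, nat_lit 12, nat_lit 13, nat_lit 11],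
  [nat_lit 5, nat_lit 12, nat_lit 11, nat_lit 5, nat_lit 8],
  [nat_lit 5, nat_lit 6, nat_lit 12, nat_lit 13, nat_lit 11],
  [nat_lit 5, nat_lit 12, nat_lit 11, nat_lit 5, nat_lit 8, nat_lit 13],
  [nat_lit 6, nat_lit 12, nat_lit 5, nat_lit 11, nat_lit 8, nat_lit 10, nat_lit 13],
  [nat_lit 9, nat_lit 12, nat_lit 11, nat_lit 10],
  [nat_lit 5, nat_lit 6, nat_lit 13, nat_lit 11, nat_lit 12, nat_lit 12, nat_lit 11],
  [nat_lit 6, nat_lit 12, nat_lit 5, nat_lit 11, nat_lit 8, nat_lit 13],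
  [nat_lit 10, nat_lit 12, nat_lit 10],
  [nat_lit 9, nat_lit 12, nat_lit 5, nat_lit 10, nat_lit 13],
  [nat_lit 5, nat_lit 6, nat_lit 9, nat_lit 12, nat_lit 5, nat_lit 13],
  [nat_lit 8, nat_lit 5, nat_lit 9, nat_lit 10, nat_lit 12],
  [nat_lit 11, nat_lit 12, nat_lit 11, nat_lit 13],
  [nat_lit 6, nat_lit 7, nat_lit 10, nat_lit 12],
  [nat_lit 10, nat_lit 8, nat_lit 11, nat_lit 8, nat_lit 12, nat_lit 10],
  [nat_lit 5, nat_lit 7, nat_lit 11, nat_lit 12, nat_lit 11, nat_lit 13],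
  [nat_lit 8, nat_lit 5, nat_lit 12, nat_lit 5, nat_lit 11],
  [nat_lit 11, nat_lit 9, nat_lit 12, nat_lit 13],
  [nat_lit 5, nat_lit 9, nat_lit 12, nat_lit 10, nat_lit 5, nat_lit 13],
  [nat_lit 10, nat_lit 5, nat_lit 8, nat_lit 12, nat_lit 5],
  [nat_lit 10, nat_lit 5, nat_lit 12, nat_lit 5, nat_lit 9],
  [nat_lit 5, nat_lit 8, nat_lit 12, nat_lit 11, nat_lit 10, nat_lit 9],
  [nat_lit 10, nat_lit 12, nat_lit 10, nat_lit 5, nat_lit 9, nat_lit 10],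
  [nat_lit 5, nat_lit 8, nat_lit 10, nat_lit 5, nat_lit 12, nat_lit 13, nat_lit 11],
  [nat_lit 8, nat_lit 12, nat_lit 13, nat_lit 5, nat_lit 11],
  [nat_lit 5, nat_lit 6, nat_lit 8, nat_lit 10, nat_lit 12, nat_lit 13, nat_lit 11],
  [nat_lit 5, nat_lit 10, nat_lit 8, nat_lit 5, nat_lit 12, nat_lit 5],
  [nat_lit 9, nat_lit 5, nat_lit 10, nat_lit 8, nat_lit 11, nat_lit 12, nat_lit 13],
  [nat_lit 8, nat_lit 12, nat_lit 11, nat_lit 5],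
  [nat_lit 8, nat_lit 5, nat_lit 10, nat_lit 12, nat_lit 13, nat_lit 11],
  [nat_lit 11, nat_lit 10, nat_lit 13, nat_lit 11, nat_lit 12, nat_lit 11, nat_lit 12],
  [nat_lit 10, nat_lit 12, nat_lit 5, nat_lit 9],
  [nat_lit 5, nat_lit 6, nat_lit 8, nat_lit 12],
  [nat_lit 5, nat_lit 7, nat_lit 8, nat_lit 12, nat_lit 13],
  [nat_lit 10, nat_lit 5, nat_lit 12, nat_lit 5, nat_lit 11],
  [nat_lit 9, nat_lit 11, nat_lit 10, nat_lit 12, nat_lit 10],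
  [nat_lit 8, nat_lit 12, nat_lit 13],
  [nat_lit 5, nat_lit 9, nat_lit 10, nat_lit 11, nat_lit 12, nat_lit 13],
  [nat_lit 5, nat_lit 9, nat_lit 5, nat_lit 11, nat_lit 12, nat_lit 13, nat_lit 5],
  [nat_lit 5, nat_lit 13, nat_lit 5, nat_lit 11, nat_lit 12, nat_lit 11, nat_lit 12],
  [nat_lit 6, nat_lit 13, nat_lit 11, nat_lit 5, nat_lit 12, nat_lit 11, nat_lit 12],
  [nat_lit 10, nat_lit 12, nat_lit 11, nat_lit 5, nat_lit 13],
  [nat_lit 5, nat_lit 6, nat_lit 8, nat_lit 5, nat_lit 12, nat_lit 13],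
  [nat_lit 8, nat_lit 12, nat_lit 10, nat_lit 13],
  [nat_lit 5, nat_lit 8, nat_lit 5, nat_lit 11, nat_lit 10, nat_lit 9, nat_lit 12],
  [nat_lit 5, nat_lit 9, nat_lit 5, nat_lit 11, nat_lit 10, nat_lit 12],
  [nat_lit 8, nat_lit 5, nat_lit 12],
  [nat_lit 9, nat_lit 11, nat_lit 10, nat_lit 12],
  [nat_lit 5, nat_lit 7, nat_lit 9, nat_lit 11, nat_lit 10, nat_lit 12],
  [nat_lit 10, nat_lit 12, nat_lit 5, nat_lit 11],
  [nat_lit 9, nat_lit 11, nat_lit 12, nat_lit 13, nat_lit 5],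
  [nat_lit 5, nat_lit 12, nat_lit 10, nat_lit 8],
  [nat_lit 8, nat_lit 5, nat_lit 10, nat_lit 9, nat_lit 12, nat_lit 5],
  [nat_lit 9, nat_lit 5, nat_lit 10, nat_lit 11, nat_lit 12, nat_lit 13],
  [nat_lit 5, nat_lit 6, nat_lit 8, nat_lit 12, nat_lit 10],
  [nat_lit 5, nat_lit 12, nat_lit 5, nat_lit 11, nat_lit 13, nat_lit 5],
  [nat_lit 10, nat_lit 5, nat_lit 9, nat_lit 11, nat_lit 12, nat_lit 13],
  [nat_lit 10, nat_lit 5, nat_lit 8, nat_lit 12, nat_lit 13],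
  [nat_lit 13, nat_lit 11, nat_lit 10, nat_lit 12, nat_lit 10, nat_lit 12],
  [nat_lit 5, nat_lit 12, nat_lit 5, nat_lit 13, nat_lit 5],
  [nat_lit 6, nat_lit 11, nat_lit 8, nat_lit 5, nat_lit 12],
  [nat_lit 5, nat_lit 10, nat_lit 9, nat_lit 11, nat_lit 5, nat_lit 12, nat_lit 13],
  [nat_lit 5, nat_lit 11, nat_lit 8, nat_lit 12, nat_lit 10],
  [nat_lit 8, nat_lit 12, nat_lit 10, nat_lit 11, nat_lit 13],
  [nat_lit 8, nat_lit 11, nat_lit 12, nat_lit 5],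
  [nat_lit 11, nat_lit 9, nat_lit 12, nat_lit 10, nat_lit 11, nat_lit 8],
  [nat_lit 7, nat_lit 9, nat_lit 10, nat_lit 12, nat_lit 5],
  [nat_lit 5, nat_lit 10, nat_lit 13, nat_lit 11, nat_lit 5, nat_lit 12, nat_lit 12],
  [nat_lit 7, nat_lit 12, nat_lit 5, nat_lit 13, nat_lit 5],
  [nat_lit 10, nat_lit 9, nat_lit 11, nat_lit 12, nat_lit 13],
  [nat_lit 5, nat_lit 10, nat_lit 8, nat_lit 5, nat_lit 12, nat_lit 13],
  [nat_lit 5, nat_lit 6, nat_lit 11, nat_lit 8, nat_lit 12],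
  [nat_lit 9, nat_lit 5, nat_lit 10, nat_lit 12, nat_lit 5],
  [nat_lit 7, nat_lit 10, nat_lit 11, nat_lit 12, nat_lit 11],
  [nat_lit 5, nat_lit 9, nat_lit 10, nat_lit 12, nat_lit 5],
  [nat_lit 8, nat_lit 12, nat_lit 11, nat_lit 13],
  [nat_lit 5, nat_lit 9, nat_lit 10, nat_lit 5, nat_lit 12, nat_lit 5],
  [nat_lit 5, nat_lit 10, nat_lit 11, nat_lit 12, nat_lit 11],
  [nat_lit 6, nat_lit 10, nat_lit 9, nat_lit 5, nat_lit 11, nat_lit 12, nat_lit 13],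
  [nat_lit 11, nat_lit 8, nat_lit 10, nat_lit 12, nat_lit 10, nat_lit 9],
  [nat_lit 10, nat_lit 5, nat_lit 11, nat_lit 9, nat_lit 12],
  [nat_lit 10, nat_lit 11, nat_lit 8, nat_lit 12, nat_lit 10],
  [nat_lit 10, nat_lit 11, nat_lit 8, nat_lit 12, nat_lit 10, nat_lit 9],
  [nat_lit 5, nat_lit 10, nat_lit 11, nat_lit 9, nat_lit 12, nat_lit 10, nat_lit 13],
  [nat_lit 5, nat_lit 10, nat_lit 11, nat_lit 12, nat_lit 13],
  [nat_lit 5, nat_lit 8, nat_lit 12, nat_lit 10, nat_lit 11, nat_lit 13, nat_lit 11],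
  [nat_lit 11, nat_lit 12, nat_lit 13, nat_lit 5],
  [nat_lit 5, nat_lit 8, nat_lit 12, nat_lit 11, nat_lit 13, nat_lit 11],
  [nat_lit 5, nat_lit 10, nat_lit 11, nat_lit 9, nat_lit 12, nat_lit 13],
  [nat_lit 11, nat_lit 12, nat_lit 13, nat_lit 5, nat_lit 8],
  [nat_lit 10, nat_lit 9, nat_lit 5, nat_lit 12, nat_lit 5, nat_lit 13],
  [nat_lit 10, nat_lit 8, nat_lit 5, nat_lit 12, nat_lit 13, nat_lit 11],
  [nat_lit 6, nat_lit 11, nat_lit 13, nat_lit 11, nat_lit 12, nat_lit 12, nat_lit 5],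
  [nat_lit 10, nat_lit 11, nat_lit 8, nat_lit 12],
  [nat_lit 5, nat_lit 10, nat_lit 11, nat_lit 13, nat_lit 11, nat_lit 12, nat_lit 12],
  [nat_lit 10, nat_lit 11, nat_lit 12],
  [nat_lit 10, nat_lit 11, nat_lit 9, nat_lit 12, nat_lit 10],
  [nat_lit 5, nat_lit 11, nat_lit 10, nat_lit 8, nat_lit 5, nat_lit 12],
  [nat_lit 10, nat_lit 11, nat_lit 9, nat_lit 12, nat_lit 10, nat_lit 8],
  [nat_lit 10, nat_lit 11, nat_lit 9, nat_lit 12],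
  [nat_lit 11, nat_lit 12, nat_lit 13, nat_lit 5, nat_lit 9],
  [nat_lit 5, nat_lit 10, nat_lit 9, nat_lit 5, nat_lit 12, nat_lit 5],
  [nat_lit 10, nat_lit 5, nat_lit 11, nat_lit 12],
  [nat_lit 10, nat_lit 5, nat_lit 11, nat_lit 8, nat_lit 12],
  [nat_lit 5, nat_lit 9, nat_lit 13, nat_lit 12, nat_lit 11],
  [nat_lit 9, nat_lit 5, nat_lit 13, nat_lit 12, nat_lit 11],
  [nat_lit 10, nat_lit 5, nat_lit 11, nat_lit 9, nat_lit 10],
  [nat_lit 7, nat_lit 9, nat_lit 13, nat_lit 12, nat_lit 11],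
  [nat_lit 5, nat_lit 8, nat_lit 5, nat_lit 9, nat_lit 11],
  [nat_lit 10, nat_lit 11, nat_lit 8, nat_lit 10],
  [nat_lit 5, nat_lit 10, nat_lit 11, nat_lit 13, nat_lit 5, nat_lit 11, nat_lit 12],
  [nat_lit 10, nat_lit 11, nat_lit 9, nat_lit 10],
  [nat_lit 6, nat_lit 10, nat_lit 13, nat_lit 5, nat_lit 9, nat_lit 12],
  [nat_lit 11, nat_lit 8, nat_lit 10, nat_lit 8, nat_lit 5],
  [nat_lit 11, nat_lit 13, nat_lit 11, nat_lit 13],
  [nat_lit 6, nat_lit 11],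
  [nat_lit 5, nat_lit 11, nat_lit 10, nat_lit 8, nat_lit 5, nat_lit 10],
  [nat_lit 11, nat_lit 9, nat_lit 10, nat_lit 9, nat_lit 5],
  [nat_lit 13, nat_lit 5, nat_lit 10, nat_lit 9, nat_lit 11, nat_lit 12],
  [nat_lit 11, nat_lit 10, nat_lit 13, nat_lit 5, nat_lit 12],
  [nat_lit 10, nat_lit 8, nat_lit 5, nat_lit 11, nat_lit 13, nat_lit 12],
  [nat_lit 5, nat_lit 11, nat_lit 10, nat_lit 9, nat_lit 5, nat_lit 10],
  [nat_lit 11, nat_lit 10, nat_lit 13, nat_lit 11, nat_lit 5, nat_lit 12],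
  [nat_lit 5, nat_lit 10, nat_lit 8, nat_lit 11, nat_lit 13, nat_lit 12],
  [nat_lit 5, nat_lit 10, nat_lit 11, nat_lit 13, nat_lit 12, nat_lit 10],
  [nat_lit 10, nat_lit 5, nat_lit 11, nat_lit 8, nat_lit 10],
  [nat_lit 11, nat_lit 5],
  [nat_lit 7, nat_lit 13, nat_lit 11, nat_lit 8, nat_lit 12, nat_lit 11],
  [nat_lit 7, nat_lit 13, nat_lit 11, nat_lit 10, nat_lit 8],
  [nat_lit 9, nat_lit 12, nat_lit 11, nat_lit 12, nat_lit 11, nat_lit 10],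
  [nat_lit 5, nat_lit 10, nat_lit 11, nat_lit 13, nat_lit 5, nat_lit 11],
  [nat_lit 11, nat_lit 10, nat_lit 13, nat_lit 11, nat_lit 5],
  [nat_lit 10, nat_lit 8, nat_lit 5, nat_lit 11, nat_lit 13],
  [nat_lit 6, nat_lit 10, nat_lit 13, nat_lit 5, nat_lit 9],
  [nat_lit 11, nat_lit 5, nat_lit 12, nat_lit 11, nat_lit 8, nat_lit 12],
  [nat_lit 11, nat_lit 5, nat_lit 12, nat_lit 12],
  [nat_lit 5, nat_lit 10, nat_lit 9, nat_lit 13],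
  [nat_lit 9, nat_lit 5, nat_lit 12, nat_lit 5, nat_lit 11, nat_lit 12],
  [nat_lit 6, nat_lit 9, nat_lit 12, nat_lit 11, nat_lit 5, nat_lit 12],
  [nat_lit 6, nat_lit 11, nat_lit 12, nat_lit 12],
  [nat_lit 11, nat_lit 12, nat_lit 11, nat_lit 12, nat_lit 11, nat_lit 8],
  [nat_lit 5, nat_lit 11, nat_lit 12, nat_lit 12, nat_lit 11],
  [nat_lit 5, nat_lit 9, nat_lit 12, nat_lit 5, nat_lit 11, nat_lit 12],
  [nat_lit 5, nat_lit 10, nat_lit 8, nat_lit 11, nat_lit 13],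
  [nat_lit 9, nat_lit 10, nat_lit 12, nat_lit 12, nat_lit 11, nat_lit 10, nat_lit 9],
  [nat_lit 5, nat_lit 11, nat_lit 13, nat_lit 5, nat_lit 10],
  [nat_lit 5, nat_lit 13, nat_lit 11, nat_lit 10, nat_lit 8],
  [nat_lit 13, nat_lit 5, nat_lit 10, nat_lit 9, nat_lit 11],
  [nat_lit 11, nat_lit 10, nat_lit 13, nat_lit 5],
  [nat_lit 6, nat_lit 11, nat_lit 12, nat_lit 11, nat_lit 8, nat_lit 12],
  [nat_lit 7, nat_lit 10, nat_lit 9, nat_lit 13],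
  [nat_lit 7, nat_lit 11, nat_lit 12, nat_lit 12, nat_lit 11],
  [nat_lit 5, nat_lit 9, nat_lit 10, nat_lit 9, nat_lit 13, nat_lit 5],
  [nat_lit 8, nat_lit 11, nat_lit 10, nat_lit 13, nat_lit 11, nat_lit 9],
  [nat_lit 12, nat_lit 12, nat_lit 11, nat_lit 10, nat_lit 8, nat_lit 5],
  [nat_lit 6, nat_lit 7, nat_lit 13, nat_lit 11],
  [nat_lit 5, nat_lit 7, nat_lit 9, nat_lit 12, nat_lit 12],
  [nat_lit 6, nat_lit 8, nat_lit 11, nat_lit 12, nat_lit 12, nat_lit 5],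
  [nat_lit 6, nat_lit 9, nat_lit 12, nat_lit 10, nat_lit 12],
  [nat_lit 8, nat_lit 5, nat_lit 10, nat_lit 11, nat_lit 12, nat_lit 12],
  [nat_lit 11, nat_lit 12, nat_lit 5, nat_lit 11, nat_lit 12],
  [nat_lit 11, nat_lit 12, nat_lit 5, nat_lit 10, nat_lit 11, nat_lit 12],
  [nat_lit 8, nat_lit 12, nat_lit 10, nat_lit 5, nat_lit 9, nat_lit 11, nat_lit 12],
  [nat_lit 5, nat_lit 8, nat_lit 11, nat_lit 10, nat_lit 12, nat_lit 12],
  [nat_lit 6, nat_lit 7, nat_lit 13],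
  [nat_lit 9, nat_lit 5, nat_lit 10, nat_lit 9, nat_lit 13, nat_lit 5],
  [nat_lit 13, nat_lit 5, nat_lit 10, nat_lit 11, nat_lit 8, nat_lit 10],
  [nat_lit 9, nat_lit 11, nat_lit 10, nat_lit 9, nat_lit 13],
  [nat_lit 5, nat_lit 13, nat_lit 5, nat_lit 9, nat_lit 10, nat_lit 9],
  [nat_lit 5, nat_lit 6, nat_lit 13],
  [nat_lit 5, nat_lit 6, nat_lit 13, nat_lit 11],
  [nat_lit 11, nat_lit 12, nat_lit 5, nat_lit 11, nat_lit 12, nat_lit 11],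
  [nat_lit 8, nat_lit 10, nat_lit 11, nat_lit 8, nat_lit 13],
  [nat_lit 10, nat_lit 8, nat_lit 5, nat_lit 10, nat_lit 13, nat_lit 5],
  [nat_lit 9, nat_lit 12, nat_lit 12],
  [nat_lit 9, nat_lit 12, nat_lit 12, nat_lit 11],
  [nat_lit 8, nat_lit 5, nat_lit 10, nat_lit 9, nat_lit 13, nat_lit 5],
  [nat_lit 9, nat_lit 10, nat_lit 11, nat_lit 13, nat_lit 11],
  [nat_lit 8, nat_lit 5, nat_lit 13],
  [nat_lit 7, nat_lit 8, nat_lit 13, nat_lit 11],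
  [nat_lit 5, nat_lit 9, nat_lit 5, nat_lit 11, nat_lit 12, nat_lit 12, nat_lit 5],
  [nat_lit 6, nat_lit 7, nat_lit 8, nat_lit 13],
  [nat_lit 5, nat_lit 7, nat_lit 8, nat_lit 12, nat_lit 12],
  [nat_lit 9, nat_lit 5, nat_lit 10, nat_lit 11, nat_lit 12, nat_lit 12],
  [nat_lit 6, nat_lit 12, nat_lit 12, nat_lit 11, nat_lit 8],
  [nat_lit 10, nat_lit 12, nat_lit 11, nat_lit 5, nat_lit 12],
  [nat_lit 12, nat_lit 5, nat_lit 11, nat_lit 12, nat_lit 11, nat_lit 5],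
  [nat_lit 5, nat_lit 9, nat_lit 10, nat_lit 11, nat_lit 12, nat_lit 12],
  [nat_lit 5, nat_lit 10, nat_lit 12, nat_lit 5, nat_lit 11, nat_lit 12, nat_lit 11],
  [nat_lit 5, nat_lit 12, nat_lit 5, nat_lit 11, nat_lit 12, nat_lit 5],
  [nat_lit 8, nat_lit 10, nat_lit 11, nat_lit 9, nat_lit 13],
  [nat_lit 9, nat_lit 11, nat_lit 10, nat_lit 13],
  [nat_lit 5, nat_lit 6, nat_lit 8, nat_lit 13],
  [nat_lit 8, nat_lit 12, nat_lit 12],
  [nat_lit 9, nat_lit 11, nat_lit 12, nat_lit 12, nat_lit 5],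
  [nat_lit 5, nat_lit 9, nat_lit 5, nat_lit 11, nat_lit 10, nat_lit 13],
  [nat_lit 6, nat_lit 9, nat_lit 10, nat_lit 5, nat_lit 11, nat_lit 13],
  [nat_lit 5, nat_lit 13, nat_lit 5, nat_lit 9, nat_lit 10, nat_lit 8],
  [nat_lit 8, nat_lit 11, nat_lit 10, nat_lit 13, nat_lit 11, nat_lit 8],
  [nat_lit 8, nat_lit 12, nat_lit 10, nat_lit 12],
  [nat_lit 9, nat_lit 13, nat_lit 12],
  [nat_lit 6, nat_lit 9, nat_lit 5, nat_lit 8],
  [nat_lit 5, nat_lit 7, nat_lit 9, nat_lit 11, nat_lit 10, nat_lit 9],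
  [nat_lit 5, nat_lit 7, nat_lit 8, nat_lit 10, nat_lit 11, nat_lit 8],
  [nat_lit 6, nat_lit 13, nat_lit 5, nat_lit 9, nat_lit 10, nat_lit 12],
  [nat_lit 9, nat_lit 5, nat_lit 10, nat_lit 11, nat_lit 8, nat_lit 13, nat_lit 12],
  [nat_lit 5, nat_lit 8, nat_lit 10, nat_lit 11, nat_lit 8, nat_lit 5],
  [nat_lit 13, nat_lit 11, nat_lit 8, nat_lit 12],
  [nat_lit 5, nat_lit 6],
  [nat_lit 8, nat_lit 13, nat_lit 5, nat_lit 12, nat_lit 11, nat_lit 8],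
  [nat_lit 5, nat_lit 9, nat_lit 5, nat_lit 11, nat_lit 10, nat_lit 9],
  [nat_lit 5, nat_lit 9, nat_lit 11, nat_lit 10, nat_lit 9, nat_lit 5],
  [nat_lit 5, nat_lit 8, nat_lit 11, nat_lit 10, nat_lit 13, nat_lit 12],
  [nat_lit 8, nat_lit 5, nat_lit 9],
  [nat_lit 7, nat_lit 9, nat_lit 5, nat_lit 13, nat_lit 12],
  [nat_lit 5, nat_lit 8, nat_lit 13, nat_lit 12, nat_lit 11, nat_lit 10, nat_lit 8],
  [nat_lit 5, nat_lit 8, nat_lit 5, nat_lit 11, nat_lit 10, nat_lit 8],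
  [nat_lit 8, nat_lit 5, nat_lit 13, nat_lit 12, nat_lit 10, nat_lit 11, nat_lit 8],
  [nat_lit 8, nat_lit 5, nat_lit 10, nat_lit 11, nat_lit 13, nat_lit 12],
  [nat_lit 13, nat_lit 5, nat_lit 9, nat_lit 10, nat_lit 11, nat_lit 12],
  [nat_lit 9, nat_lit 11, nat_lit 10, nat_lit 9],
  [nat_lit 8, nat_lit 10, nat_lit 11, nat_lit 8],
  [nat_lit 6, nat_lit 7],
  [nat_lit 5, nat_lit 7, nat_lit 9, nat_lit 13, nat_lit 12],
  [nat_lit 9, nat_lit 5, nat_lit 12, nat_lit 12, nat_lit 5],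
  [nat_lit 12, nat_lit 5, nat_lit 12, nat_lit 11, nat_lit 8],
  [nat_lit 5, nat_lit 8, nat_lit 10, nat_lit 13, nat_lit 5, nat_lit 9],
  [nat_lit 12, nat_lit 5, nat_lit 8, nat_lit 12],
  [nat_lit 5, nat_lit 9, nat_lit 10, nat_lit 12, nat_lit 10, nat_lit 12],
  [nat_lit 9, nat_lit 10, nat_lit 5, nat_lit 9, nat_lit 13],
  [nat_lit 8, nat_lit 10, nat_lit 5, nat_lit 8, nat_lit 11, nat_lit 13],
  [nat_lit 8, nat_lit 10, nat_lit 12, nat_lit 5, nat_lit 9, nat_lit 12, nat_lit 11],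
  [nat_lit 5, nat_lit 6, nat_lit 7, nat_lit 13, nat_lit 5],
  [nat_lit 5, nat_lit 8, nat_lit 12, nat_lit 5, nat_lit 12, nat_lit 5, nat_lit 9],
  [nat_lit 8, nat_lit 13, nat_lit 5, nat_lit 10, nat_lit 9],
  [nat_lit 6, nat_lit 13, nat_lit 11, nat_lit 5],
  [nat_lit 9, nat_lit 10, nat_lit 13, nat_lit 11, nat_lit 8],
  [nat_lit 8, nat_lit 10, nat_lit 12, nat_lit 12, nat_lit 10, nat_lit 9],
  [nat_lit 9, nat_lit 10, nat_lit 9, nat_lit 13],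
  [nat_lit 8, nat_lit 11, nat_lit 12, nat_lit 12, nat_lit 11],
  [nat_lit 8, nat_lit 5, nat_lit 10, nat_lit 12, nat_lit 5, nat_lit 9, nat_lit 12],
  [nat_lit 6, nat_lit 13, nat_lit 5],
  [nat_lit 10, nat_lit 9, nat_lit 5, nat_lit 10, nat_lit 11, nat_lit 13],
  [nat_lit 9, nat_lit 10, nat_lit 9, nat_lit 5, nat_lit 13],
  [nat_lit 8, nat_lit 5, nat_lit 11, nat_lit 12, nat_lit 12],
  [nat_lit 5, nat_lit 9, nat_lit 12, nat_lit 12, nat_lit 5],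
  [nat_lit 5, nat_lit 13, nat_lit 5, nat_lit 11],
  [nat_lit 6, nat_lit 9, nat_lit 10, nat_lit 12, nat_lit 12],
  [nat_lit 5, nat_lit 10, nat_lit 8, nat_lit 13, nat_lit 5],
  [nat_lit 5, nat_lit 13, nat_lit 5, nat_lit 10, nat_lit 11, nat_lit 8],
  [nat_lit 5, nat_lit 11, nat_lit 8, nat_lit 10, nat_lit 5, nat_lit 12, nat_lit 12],
  [nat_lit 6, nat_lit 9, nat_lit 12, nat_lit 5, nat_lit 12],
  [nat_lit 10, nat_lit 13, nat_lit 5, nat_lit 11, nat_lit 8],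
  [nat_lit 5, nat_lit 11, nat_lit 12, nat_lit 11, nat_lit 12],
  [nat_lit 10, nat_lit 8, nat_lit 13, nat_lit 11, nat_lit 5],
  [nat_lit 7, nat_lit 11, nat_lit 12, nat_lit 11, nat_lit 12],
  [nat_lit 10, nat_lit 5, nat_lit 13, nat_lit 11],
  [nat_lit 9, nat_lit 12, nat_lit 5, nat_lit 12, nat_lit 11],
  [nat_lit 5, nat_lit 11, nat_lit 5, nat_lit 12, nat_lit 11, nat_lit 12, nat_lit 11],
  [nat_lit 5, nat_lit 9, nat_lit 12, nat_lit 12, nat_lit 10],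
  [nat_lit 6, nat_lit 10, nat_lit 5, nat_lit 13],
  [nat_lit 10, nat_lit 13, nat_lit 11],
  [nat_lit 6, nat_lit 10, nat_lit 13],
  [nat_lit 6, nat_lit 11, nat_lit 8, nat_lit 12, nat_lit 12, nat_lit 5],
  [nat_lit 9, nat_lit 5, nat_lit 12, nat_lit 12, nat_lit 10],
  [nat_lit 5, nat_lit 11, nat_lit 8, nat_lit 10, nat_lit 12, nat_lit 12],
  [nat_lit 10, nat_lit 8, nat_lit 5, nat_lit 13, nat_lit 5],
  [nat_lit 11, nat_lit 12, nat_lit 11, nat_lit 10, nat_lit 12, nat_lit 11],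
  [nat_lit 11, nat_lit 8, nat_lit 5, nat_lit 10, nat_lit 12, nat_lit 12],
  [nat_lit 13, nat_lit 5, nat_lit 10, nat_lit 8],
  [nat_lit 5, nat_lit 10, nat_lit 13, nat_lit 5, nat_lit 8],
  [nat_lit 7, nat_lit 10, nat_lit 8, nat_lit 13, nat_lit 5],
  [nat_lit 5, nat_lit 10, nat_lit 13, nat_lit 12],
  [nat_lit 10, nat_lit 8, nat_lit 13, nat_lit 5, nat_lit 11, nat_lit 12],
  [nat_lit 11, nat_lit 5, nat_lit 9],
  [nat_lit 6, nat_lit 11, nat_lit 9],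
  [nat_lit 10, nat_lit 8, nat_lit 5, nat_lit 13, nat_lit 12, nat_lit 10],
  [nat_lit 13, nat_lit 12, nat_lit 10, nat_lit 8, nat_lit 11],
  [nat_lit 5, nat_lit 10, nat_lit 8, nat_lit 13, nat_lit 12, nat_lit 10],
  [nat_lit 10, nat_lit 13, nat_lit 11, nat_lit 5, nat_lit 8, nat_lit 12],
  [nat_lit 13, nat_lit 5, nat_lit 8, nat_lit 12, nat_lit 5, nat_lit 11],
  [nat_lit 11, nat_lit 5, nat_lit 9, nat_lit 5],
  [nat_lit 6, nat_lit 11, nat_lit 8, nat_lit 10],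
  [nat_lit 6, nat_lit 9, nat_lit 5, nat_lit 10, nat_lit 8, nat_lit 11],
  [nat_lit 8, nat_lit 5, nat_lit 8, nat_lit 10, nat_lit 8, nat_lit 11],
  [nat_lit 11, nat_lit 5, nat_lit 8, nat_lit 10, nat_lit 5],
  [nat_lit 11, nat_lit 5, nat_lit 8, nat_lit 10],
  [nat_lit 7, nat_lit 10, nat_lit 13, nat_lit 12],
  [nat_lit 6, nat_lit 10, nat_lit 8, nat_lit 13, nat_lit 5, nat_lit 12],
  [nat_lit 9, nat_lit 10, nat_lit 8, nat_lit 5, nat_lit 11],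
  [nat_lit 7, nat_lit 13, nat_lit 11, nat_lit 10, nat_lit 12],
  [nat_lit 5, nat_lit 13, nat_lit 11, nat_lit 10, nat_lit 12],
  [nat_lit 5, nat_lit 10, nat_lit 13, nat_lit 12, nat_lit 10, nat_lit 8],
  [nat_lit 6, nat_lit 11, nat_lit 9, nat_lit 5],
  [nat_lit 6, nat_lit 11, nat_lit 8, nat_lit 10, nat_lit 5],
  [nat_lit 6, nat_lit 11, nat_lit 9, nat_lit 10, nat_lit 8],
  [nat_lit 10, nat_lit 13, nat_lit 11, nat_lit 5],
  [nat_lit 7, nat_lit 11, nat_lit 12, nat_lit 12, nat_lit 11, nat_lit 8],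
  [nat_lit 11, nat_lit 13, nat_lit 11, nat_lit 12, nat_lit 11, nat_lit 13],
  [nat_lit 10, nat_lit 8, nat_lit 13, nat_lit 11],
  [nat_lit 9, nat_lit 10, nat_lit 12, nat_lit 5, nat_lit 12],
  [nat_lit 5, nat_lit 6, nat_lit 13, nat_lit 5, nat_lit 10],
  [nat_lit 9, nat_lit 10, nat_lit 12, nat_lit 12, nat_lit 11, nat_lit 10],
  [nat_lit 5, nat_lit 10, nat_lit 8, nat_lit 13],
  [nat_lit 9, nat_lit 5, nat_lit 12, nat_lit 12, nat_lit 10, nat_lit 5],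
  [nat_lit 10, nat_lit 11, nat_lit 12, nat_lit 11, nat_lit 12],
  [nat_lit 10, nat_lit 8, nat_lit 5, nat_lit 13],
  [nat_lit 5, nat_lit 10, nat_lit 9, nat_lit 11, nat_lit 13],
  [nat_lit 5, nat_lit 11, nat_lit 12, nat_lit 11, nat_lit 12, nat_lit 5],
  [nat_lit 11, nat_lit 8, nat_lit 12, nat_lit 10, nat_lit 12],
  [nat_lit 11, nat_lit 12, nat_lit 11, nat_lit 12, nat_lit 5, nat_lit 11],
  [nat_lit 5, nat_lit 9, nat_lit 12, nat_lit 12, nat_lit 10, nat_lit 5],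
  [nat_lit 6, nat_lit 10, nat_lit 13, nat_lit 5],
  [nat_lit 7, nat_lit 10, nat_lit 9, nat_lit 11, nat_lit 13],
  [nat_lit 11, nat_lit 5, nat_lit 8, nat_lit 12, nat_lit 12],
  [nat_lit 6, nat_lit 11, nat_lit 8, nat_lit 12, nat_lit 12],
  [nat_lit 10, nat_lit 5, nat_lit 9, nat_lit 11, nat_lit 5, nat_lit 13],
  [nat_lit 10, nat_lit 5, nat_lit 13, nat_lit 11, nat_lit 5],
  [nat_lit 10, nat_lit 9, nat_lit 11, nat_lit 5, nat_lit 13],
  [nat_lit 7, nat_lit 10, nat_lit 8, nat_lit 13],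
  [nat_lit 8, nat_lit 5, nat_lit 8, nat_lit 10, nat_lit 13],
  [nat_lit 5, nat_lit 12, nat_lit 11, nat_lit 8, nat_lit 12],
  [nat_lit 7, nat_lit 12, nat_lit 11, nat_lit 8, nat_lit 12],
  [nat_lit 5, nat_lit 9, nat_lit 11, nat_lit 12, nat_lit 11, nat_lit 10, nat_lit 12],
  [nat_lit 5, nat_lit 13, nat_lit 5, nat_lit 9],
  [nat_lit 8, nat_lit 5, nat_lit 13, nat_lit 5, nat_lit 10, nat_lit 8],
  [nat_lit 5, nat_lit 13, nat_lit 5, nat_lit 9, nat_lit 11],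
  [nat_lit 12, nat_lit 5, nat_lit 10, nat_lit 12, nat_lit 11],
  [nat_lit 5, nat_lit 8, nat_lit 5, nat_lit 11, nat_lit 13],
  [nat_lit 9, nat_lit 11, nat_lit 5, nat_lit 12, nat_lit 11, nat_lit 12],
  [nat_lit 12, nat_lit 12, nat_lit 10, nat_lit 11],
  [nat_lit 8, nat_lit 13, nat_lit 5, nat_lit 10, nat_lit 11, nat_lit 8],
  [nat_lit 12, nat_lit 12, nat_lit 10],
  [nat_lit 6, nat_lit 9, nat_lit 5, nat_lit 10, nat_lit 13],
  [nat_lit 6, nat_lit 8, nat_lit 11, nat_lit 13],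
  [nat_lit 5, nat_lit 6, nat_lit 8, nat_lit 13, nat_lit 5, nat_lit 10, nat_lit 8],
  [nat_lit 5, nat_lit 8, nat_lit 12, nat_lit 5, nat_lit 8, nat_lit 11, nat_lit 12],
  [nat_lit 6, nat_lit 8, nat_lit 10, nat_lit 13, nat_lit 5, nat_lit 8],
  [nat_lit 5, nat_lit 6, nat_lit 9, nat_lit 10, nat_lit 13],
  [nat_lit 6, nat_lit 9, nat_lit 11, nat_lit 12, nat_lit 11, nat_lit 12],
  [nat_lit 5, nat_lit 9, nat_lit 13, nat_lit 11, nat_lit 10],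
  [nat_lit 12, nat_lit 5, nat_lit 10, nat_lit 12],
  [nat_lit 6, nat_lit 12, nat_lit 11, nat_lit 8, nat_lit 10, nat_lit 12],
  [nat_lit 6, nat_lit 12, nat_lit 11, nat_lit 12, nat_lit 11, nat_lit 8],
  [nat_lit 13, nat_lit 11, nat_lit 10, nat_lit 12, nat_lit 11],
  [nat_lit 6, nat_lit 9, nat_lit 10, nat_lit 8],
  [nat_lit 8, nat_lit 11, nat_lit 8, nat_lit 5],
  [nat_lit 6, nat_lit 13, nat_lit 5, nat_lit 8, nat_lit 12],
  [nat_lit 8, nat_lit 13, nat_lit 11, nat_lit 10, nat_lit 12, nat_lit 10],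
  [nat_lit 11, nat_lit 8, nat_lit 5, nat_lit 11, nat_lit 10],
  [nat_lit 5, nat_lit 13, nat_lit 5, nat_lit 11, nat_lit 8, nat_lit 12],
  [nat_lit 8, nat_lit 13, nat_lit 5, nat_lit 10, nat_lit 12],
  [nat_lit 7, nat_lit 9, nat_lit 11, nat_lit 9, nat_lit 10],
  [nat_lit 5, nat_lit 9, nat_lit 11, nat_lit 9, nat_lit 10],
  [nat_lit 9, nat_lit 5, nat_lit 11, nat_lit 9, nat_lit 10],
  [nat_lit 8, nat_lit 5, nat_lit 11, nat_lit 8],
  [nat_lit 8, nat_lit 10, nat_lit 5, nat_lit 9, nat_lit 10],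
  [nat_lit 7, nat_lit 9, nat_lit 10, nat_lit 8, nat_lit 5],
  [nat_lit 8, nat_lit 10, nat_lit 5, nat_lit 13, nat_lit 12, nat_lit 10],
  [nat_lit 9, nat_lit 10, nat_lit 5, nat_lit 8, nat_lit 13, nat_lit 12],
  [nat_lit 6, nat_lit 9, nat_lit 10, nat_lit 5, nat_lit 8],
  [nat_lit 5, nat_lit 13, nat_lit 12, nat_lit 10, nat_lit 8],
  [nat_lit 5, nat_lit 6, nat_lit 8, nat_lit 11, nat_lit 8],
  [nat_lit 10, nat_lit 13, nat_lit 12, nat_lit 11],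
  [nat_lit 5, nat_lit 13, nat_lit 5, nat_lit 8, nat_lit 12, nat_lit 5],
  [nat_lit 13, nat_lit 5, nat_lit 8, nat_lit 13],
  [nat_lit 5, nat_lit 8, nat_lit 10, nat_lit 13, nat_lit 5, nat_lit 12],
  [nat_lit 10, nat_lit 5, nat_lit 13, nat_lit 12, nat_lit 11],
  [nat_lit 10],
  [nat_lit 10, nat_lit 8, nat_lit 11, nat_lit 8, nat_lit 5],
  [nat_lit 5, nat_lit 10, nat_lit 11, nat_lit 13, nat_lit 12, nat_lit 11],
  [nat_lit 5, nat_lit 11, nat_lit 12, nat_lit 11, nat_lit 12, nat_lit 11, nat_lit 13],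
  [nat_lit 10, nat_lit 5, nat_lit 8, nat_lit 11, nat_lit 8],
  [nat_lit 10, nat_lit 5],
  [nat_lit 8, nat_lit 10, nat_lit 11, nat_lit 13, nat_lit 12, nat_lit 10],
  [nat_lit 9, nat_lit 13, nat_lit 5, nat_lit 12],
  [nat_lit 9, nat_lit 13, nat_lit 5, nat_lit 12, nat_lit 5],
  [nat_lit 11, nat_lit 8, nat_lit 13, nat_lit 11, nat_lit 10, nat_lit 12],
  [nat_lit 10, nat_lit 9, nat_lit 11, nat_lit 9, nat_lit 5],
  [nat_lit 10, nat_lit 5, nat_lit 9, nat_lit 11, nat_lit 9],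
  [nat_lit 10, nat_lit 9, nat_lit 11, nat_lit 9],
  [nat_lit 5, nat_lit 11, nat_lit 10, nat_lit 9, nat_lit 5, nat_lit 11],
  [nat_lit 5, nat_lit 11, nat_lit 10, nat_lit 8, nat_lit 5, nat_lit 11],
  [nat_lit 13, nat_lit 11, nat_lit 10, nat_lit 13],
  [nat_lit 5, nat_lit 10, nat_lit 11, nat_lit 13, nat_lit 11, nat_lit 12, nat_lit 11],
  [nat_lit 13, nat_lit 11, nat_lit 8, nat_lit 5, nat_lit 12],
  [nat_lit 5, nat_lit 6, nat_lit 11, nat_lit 8, nat_lit 10, nat_lit 13, nat_lit 12],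
  [nat_lit 10, nat_lit 8, nat_lit 11, nat_lit 8],
  [nat_lit 7, nat_lit 10, nat_lit 11, nat_lit 13, nat_lit 12, nat_lit 11],
  [nat_lit 6, nat_lit 11, nat_lit 8, nat_lit 5, nat_lit 10, nat_lit 13, nat_lit 12],
  [nat_lit 5, nat_lit 6, nat_lit 9, nat_lit 13, nat_lit 12, nat_lit 10],
  [nat_lit 5, nat_lit 10, nat_lit 8, nat_lit 5, nat_lit 9],
  [nat_lit 11, nat_lit 12, nat_lit 12, nat_lit 10],
  [nat_lit 6, nat_lit 12, nat_lit 11, nat_lit 5, nat_lit 8, nat_lit 12],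
  [nat_lit 8, nat_lit 5, nat_lit 10, nat_lit 8, nat_lit 13],
  [nat_lit 9, nat_lit 5, nat_lit 10, nat_lit 9, nat_lit 11, nat_lit 13],
  [nat_lit 12, nat_lit 5, nat_lit 11, nat_lit 12, nat_lit 11, nat_lit 8],
  [nat_lit 5, nat_lit 6, nat_lit 11, nat_lit 12, nat_lit 5, nat_lit 12],
  [nat_lit 6, nat_lit 11, nat_lit 13, nat_lit 5, nat_lit 11],
  [nat_lit 5, nat_lit 11, nat_lit 13, nat_lit 11, nat_lit 5],
  [nat_lit 5, nat_lit 9, nat_lit 10, nat_lit 9, nat_lit 11, nat_lit 13],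
  [nat_lit 5, nat_lit 12, nat_lit 5, nat_lit 11, nat_lit 8, nat_lit 12],
  [nat_lit 6, nat_lit 11, nat_lit 12, nat_lit 5, nat_lit 12, nat_lit 11],
  [nat_lit 5, nat_lit 11, nat_lit 12, nat_lit 12, nat_lit 10, nat_lit 11],
  [nat_lit 9, nat_lit 11, nat_lit 8, nat_lit 13],
  [nat_lit 5, nat_lit 6, nat_lit 11, nat_lit 13, nat_lit 5],
  [nat_lit 10, nat_lit 8, nat_lit 5, nat_lit 10, nat_lit 11, nat_lit 13],
  [nat_lit 6, nat_lit 7, nat_lit 8, nat_lit 10, nat_lit 8, nat_lit 13],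
  [nat_lit 10, nat_lit 9, nat_lit 13, nat_lit 11, nat_lit 10],
  [nat_lit 6, nat_lit 9, nat_lit 5, nat_lit 12, nat_lit 11, nat_lit 12],
  [nat_lit 6, nat_lit 12, nat_lit 11, nat_lit 5, nat_lit 8, nat_lit 10, nat_lit 12],
  [nat_lit 8, nat_lit 10, nat_lit 8, nat_lit 5, nat_lit 13],
  [nat_lit 10, nat_lit 13, nat_lit 5, nat_lit 9, nat_lit 10],
  [nat_lit 8, nat_lit 12, nat_lit 12, nat_lit 5, nat_lit 8],
  [nat_lit 5, nat_lit 6, nat_lit 9, nat_lit 12, nat_lit 11, nat_lit 12],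
  [nat_lit 5, nat_lit 9, nat_lit 12, nat_lit 10, nat_lit 11, nat_lit 12],
  [nat_lit 5, nat_lit 10, nat_lit 8, nat_lit 11, nat_lit 9],
  [nat_lit 7, nat_lit 10, nat_lit 9, nat_lit 11],
  [nat_lit 10, nat_lit 5, nat_lit 8, nat_lit 5],
  [nat_lit 10, nat_lit 9, nat_lit 11, nat_lit 5],
  [nat_lit 7, nat_lit 10, nat_lit 8],
  [nat_lit 11, nat_lit 13, nat_lit 11, nat_lit 8, nat_lit 10, nat_lit 12],
  [nat_lit 11, nat_lit 13, nat_lit 11, nat_lit 12, nat_lit 11],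
  [nat_lit 9, nat_lit 5, nat_lit 13, nat_lit 5, nat_lit 10, nat_lit 12],
  [nat_lit 8, nat_lit 11, nat_lit 5, nat_lit 9, nat_lit 10],
  [nat_lit 6, nat_lit 11, nat_lit 13, nat_lit 12, nat_lit 11],
  [nat_lit 5, nat_lit 10, nat_lit 9, nat_lit 11],
  [nat_lit 10, nat_lit 5, nat_lit 9, nat_lit 11, nat_lit 5],
  [nat_lit 10, nat_lit 8, nat_lit 5],
  [nat_lit 5, nat_lit 10, nat_lit 8],
  [nat_lit 7, nat_lit 11, nat_lit 8, nat_lit 13, nat_lit 11, nat_lit 12],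
  [nat_lit 5, nat_lit 7, nat_lit 11, nat_lit 13, nat_lit 11, nat_lit 12, nat_lit 11],
  [nat_lit 9, nat_lit 10, nat_lit 13, nat_lit 5, nat_lit 12],
  [nat_lit 6, nat_lit 11, nat_lit 8, nat_lit 13, nat_lit 12],
  [nat_lit 11, nat_lit 5, nat_lit 13, nat_lit 12, nat_lit 11],
  [nat_lit 8, nat_lit 11, nat_lit 9, nat_lit 10],
  [nat_lit 11, nat_lit 5, nat_lit 8, nat_lit 13, nat_lit 12],
  [nat_lit 11, nat_lit 13, nat_lit 11, nat_lit 9, nat_lit 12],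
  [nat_lit 8, nat_lit 11, nat_lit 5, nat_lit 9, nat_lit 5, nat_lit 10],
  [nat_lit 5, nat_lit 9, nat_lit 13, nat_lit 5, nat_lit 10, nat_lit 12],
  [nat_lit 10, nat_lit 12, nat_lit 10, nat_lit 8],
  [nat_lit 5, nat_lit 6, nat_lit 10, nat_lit 9, nat_lit 11, nat_lit 12],
  [nat_lit 5, nat_lit 7, nat_lit 8, nat_lit 12, nat_lit 13, nat_lit 11],
  [nat_lit 9, nat_lit 12, nat_lit 5, nat_lit 13, nat_lit 5],
  [nat_lit 10, nat_lit 12, nat_lit 5],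
  [nat_lit 6, nat_lit 10, nat_lit 9, nat_lit 11, nat_lit 5, nat_lit 12],
  [nat_lit 6, nat_lit 11, nat_lit 13, nat_lit 11, nat_lit 12, nat_lit 11, nat_lit 12],
  [nat_lit 5, nat_lit 10, nat_lit 9, nat_lit 5, nat_lit 11, nat_lit 12],
  [nat_lit 8, nat_lit 12, nat_lit 10, nat_lit 13, nat_lit 11],
  [nat_lit 11, nat_lit 10, nat_lit 12, nat_lit 11, nat_lit 13],
  [nat_lit 12, nat_lit 10, nat_lit 11, nat_lit 9, nat_lit 5, nat_lit 13],
  [nat_lit 5, nat_lit 9, nat_lit 5, nat_lit 12, nat_lit 5, nat_lit 13, nat_lit 5],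
  [nat_lit 9, nat_lit 10, nat_lit 12, nat_lit 5, nat_lit 10, nat_lit 13],
  [nat_lit 5, nat_lit 11, nat_lit 8, nat_lit 5, nat_lit 12, nat_lit 13],
  [nat_lit 10, nat_lit 5, nat_lit 12, nat_lit 5],
  [nat_lit 8, nat_lit 12, nat_lit 10, nat_lit 11, nat_lit 9, nat_lit 5],
  [nat_lit 5, nat_lit 8, nat_lit 5, nat_lit 11, nat_lit 9, nat_lit 10, nat_lit 12],
  [nat_lit 8, nat_lit 5, nat_lit 12, nat_lit 11],
  [nat_lit 8, nat_lit 12, nat_lit 13, nat_lit 11],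
  [nat_lit 5, nat_lit 12, nat_lit 10, nat_lit 8, nat_lit 11],
  [nat_lit 9, nat_lit 12, nat_lit 5, nat_lit 10, nat_lit 11, nat_lit 8, nat_lit 13],
  [nat_lit 8, nat_lit 12, nat_lit 11, nat_lit 5, nat_lit 8],
  [nat_lit 5, nat_lit 8, nat_lit 12, nat_lit 11, nat_lit 10],
  [nat_lit 10, nat_lit 11, nat_lit 12, nat_lit 11, nat_lit 10, nat_lit 13],
  [nat_lit 5, nat_lit 11, nat_lit 12, nat_lit 5],
  [nat_lit 12, nat_lit 5, nat_lit 10, nat_lit 11, nat_lit 8],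
  [nat_lit 12, nat_lit 11, nat_lit 5, nat_lit 8],
  [nat_lit 12, nat_lit 11, nat_lit 5, nat_lit 8, nat_lit 13],
  [nat_lit 9, nat_lit 11, nat_lit 5, nat_lit 8, nat_lit 12],
  [nat_lit 5, nat_lit 9, nat_lit 12, nat_lit 11, nat_lit 13],
  [nat_lit 9, nat_lit 11, nat_lit 5, nat_lit 8, nat_lit 12, nat_lit 13],
  [nat_lit 12, nat_lit 11, nat_lit 5, nat_lit 8, nat_lit 10, nat_lit 13],
  [nat_lit 8, nat_lit 11, nat_lit 13, nat_lit 11, nat_lit 12, nat_lit 11, nat_lit 12],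
  [nat_lit 7, nat_lit 9, nat_lit 12, nat_lit 11, nat_lit 13],
  [nat_lit 9, nat_lit 5, nat_lit 12, nat_lit 11, nat_lit 13],
  [nat_lit 6, nat_lit 12, nat_lit 13, nat_lit 11],
  [nat_lit 6, nat_lit 13, nat_lit 11, nat_lit 12, nat_lit 12, nat_lit 11],
  [nat_lit 7, nat_lit 11, nat_lit 12, nat_lit 5],
  [nat_lit 7, nat_lit 9, nat_lit 12, nat_lit 11],
  [nat_lit 12, nat_lit 5, nat_lit 10, nat_lit 11, nat_lit 8, nat_lit 10],
  [nat_lit 9, nat_lit 5, nat_lit 12, nat_lit 11],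
  [nat_lit 8, nat_lit 12, nat_lit 5, nat_lit 10, nat_lit 9],
  [nat_lit 12, nat_lit 11, nat_lit 5, nat_lit 8, nat_lit 10],
  [nat_lit 12, nat_lit 10, nat_lit 13, nat_lit 11],
  [nat_lit 5, nat_lit 9, nat_lit 12, nat_lit 11, nat_lit 10],
  [nat_lit 5, nat_lit 9, nat_lit 12, nat_lit 11, nat_lit 10, nat_lit 13],
  [nat_lit 12, nat_lit 5, nat_lit 10, nat_lit 11, nat_lit 8, nat_lit 13],
  [nat_lit 5, nat_lit 9, nat_lit 12, nat_lit 11],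
  [nat_lit 12, nat_lit 11, nat_lit 10, nat_lit 8],
  [nat_lit 10, nat_lit 5, nat_lit 12, nat_lit 11, nat_lit 13, nat_lit 11],
  [nat_lit 9, nat_lit 11, nat_lit 12, nat_lit 11, nat_lit 10],
  [nat_lit 10, nat_lit 12, nat_lit 11, nat_lit 13, nat_lit 11],
  [nat_lit 9, nat_lit 5, nat_lit 11, nat_lit 12, nat_lit 11, nat_lit 8, nat_lit 13],
  [nat_lit 9, nat_lit 10, nat_lit 9, nat_lit 5, nat_lit 12],
  [nat_lit 6, nat_lit 12, nat_lit 5],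
  [nat_lit 12, nat_lit 5, nat_lit 8, nat_lit 13],
  [nat_lit 5, nat_lit 9, nat_lit 11, nat_lit 5, nat_lit 12, nat_lit 11],
  [nat_lit 9, nat_lit 5, nat_lit 12, nat_lit 13, nat_lit 5],
  [nat_lit 6, nat_lit 8, nat_lit 5, nat_lit 11, nat_lit 9, nat_lit 12],
  [nat_lit 13, nat_lit 11, nat_lit 12, nat_lit 11, nat_lit 12, nat_lit 11],
  [nat_lit 6, nat_lit 9, nat_lit 10, nat_lit 12, nat_lit 13],
  [nat_lit 12, nat_lit 5, nat_lit 9, nat_lit 10, nat_lit 9, nat_lit 13],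
  [nat_lit 9, nat_lit 12, nat_lit 10, nat_lit 8, nat_lit 5],
  [nat_lit 8, nat_lit 12, nat_lit 5, nat_lit 8, nat_lit 11],
  [nat_lit 5, nat_lit 6, nat_lit 9, nat_lit 11, nat_lit 12, nat_lit 11],
  [nat_lit 12, nat_lit 11, nat_lit 8],
  [nat_lit 8, nat_lit 5, nat_lit 11, nat_lit 12, nat_lit 13],
  [nat_lit 12, nat_lit 10, nat_lit 5],
  [nat_lit 5, nat_lit 9, nat_lit 10, nat_lit 12, nat_lit 10, nat_lit 13],
  [nat_lit 9, nat_lit 10, nat_lit 5, nat_lit 9, nat_lit 12],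
  [nat_lit 5, nat_lit 6, nat_lit 8, nat_lit 11, nat_lit 12, nat_lit 13],
  [nat_lit 5, nat_lit 9, nat_lit 12, nat_lit 13, nat_lit 5],
  [nat_lit 10, nat_lit 12, nat_lit 5, nat_lit 9, nat_lit 12, nat_lit 11],
  [nat_lit 6, nat_lit 10, nat_lit 12, nat_lit 12],
  [nat_lit 12, nat_lit 12, nat_lit 10, nat_lit 5, nat_lit 9],
  [nat_lit 8, nat_lit 12, nat_lit 11, nat_lit 10, nat_lit 12, nat_lit 10],
  [nat_lit 11, nat_lit 8, nat_lit 10, nat_lit 13, nat_lit 11],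
  [nat_lit 5, nat_lit 11, nat_lit 9, nat_lit 13],
  [nat_lit 12, nat_lit 12, nat_lit 5, nat_lit 11, nat_lit 8, nat_lit 10],
  [nat_lit 12, nat_lit 12, nat_lit 5, nat_lit 11],
  [nat_lit 9, nat_lit 10, nat_lit 5, nat_lit 8, nat_lit 11, nat_lit 13],
  [nat_lit 5, nat_lit 8, nat_lit 12, nat_lit 11, nat_lit 5, nat_lit 12],
  [nat_lit 6, nat_lit 8, nat_lit 12, nat_lit 5, nat_lit 11, nat_lit 12],
  [nat_lit 5, nat_lit 10, nat_lit 12, nat_lit 5, nat_lit 9, nat_lit 12],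
  [nat_lit 12, nat_lit 5, nat_lit 12, nat_lit 5, nat_lit 11, nat_lit 9],
  [nat_lit 5, nat_lit 11, nat_lit 9, nat_lit 10, nat_lit 8, nat_lit 13],
  [nat_lit 5, nat_lit 11, nat_lit 9, nat_lit 5, nat_lit 13],
  [nat_lit 9, nat_lit 10, nat_lit 8, nat_lit 11, nat_lit 13],
  [nat_lit 7, nat_lit 11, nat_lit 8, nat_lit 10, nat_lit 13],
  [nat_lit 6, nat_lit 9, nat_lit 13, nat_lit 5],
  [nat_lit 11, nat_lit 9, nat_lit 10, nat_lit 8, nat_lit 13, nat_lit 11],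
  [nat_lit 11, nat_lit 8, nat_lit 5, nat_lit 10, nat_lit 13],
  [nat_lit 10, nat_lit 12, nat_lit 10, nat_lit 12, nat_lit 11],
  [nat_lit 5, nat_lit 12, nat_lit 12, nat_lit 5],
  [nat_lit 5, nat_lit 11, nat_lit 8, nat_lit 10, nat_lit 13],
  [nat_lit 7, nat_lit 11, nat_lit 9, nat_lit 5, nat_lit 13],
  [nat_lit 5, nat_lit 12, nat_lit 5, nat_lit 9],
  [nat_lit 5, nat_lit 6, nat_lit 12, nat_lit 11],
  [nat_lit 12, nat_lit 5, nat_lit 10, nat_lit 9, nat_lit 13],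
  [nat_lit 5, nat_lit 8, nat_lit 5, nat_lit 10, nat_lit 12, nat_lit 5],
  [nat_lit 5, nat_lit 9, nat_lit 10, nat_lit 5, nat_lit 8, nat_lit 12, nat_lit 13],
  [nat_lit 5, nat_lit 12, nat_lit 11, nat_lit 13],
  [nat_lit 9, nat_lit 12, nat_lit 13, nat_lit 11],
  [nat_lit 8, nat_lit 10, nat_lit 12, nat_lit 5, nat_lit 10, nat_lit 13],
  [nat_lit 5, nat_lit 8, nat_lit 5, nat_lit 12, nat_lit 5, nat_lit 13, nat_lit 5],
  [nat_lit 8, nat_lit 10, nat_lit 12, nat_lit 5, nat_lit 13],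
  [nat_lit 9, nat_lit 12, nat_lit 13, nat_lit 11, nat_lit 10],
  [nat_lit 9, nat_lit 5, nat_lit 8, nat_lit 12, nat_lit 11, nat_lit 13],
  [nat_lit 5, nat_lit 12, nat_lit 5, nat_lit 9, nat_lit 10],
  [nat_lit 8, nat_lit 10, nat_lit 5, nat_lit 12, nat_lit 5],
  [nat_lit 7, nat_lit 12, nat_lit 5, nat_lit 9, nat_lit 10],
  [nat_lit 9, nat_lit 10, nat_lit 12, nat_lit 10, nat_lit 8],
  [nat_lit 5, nat_lit 9, nat_lit 5, nat_lit 12, nat_lit 13, nat_lit 11],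
  [nat_lit 8, nat_lit 5, nat_lit 9, nat_lit 12, nat_lit 11],
  [nat_lit 5, nat_lit 12, nat_lit 11, nat_lit 8, nat_lit 5, nat_lit 11],
  [nat_lit 6, nat_lit 8, nat_lit 10, nat_lit 12, nat_lit 5],
  [nat_lit 7, nat_lit 12, nat_lit 11, nat_lit 13],
  [nat_lit 5, nat_lit 12, nat_lit 10, nat_lit 11],
  [nat_lit 7, nat_lit 12, nat_lit 5, nat_lit 9],
  [nat_lit 5, nat_lit 12, nat_lit 13, nat_lit 11, nat_lit 9, nat_lit 5],
  [nat_lit 5, nat_lit 10, nat_lit 12, nat_lit 12],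
  [nat_lit 6, nat_lit 11, nat_lit 9, nat_lit 13],
  [nat_lit 5, nat_lit 9, nat_lit 13, nat_lit 5],
  [nat_lit 6, nat_lit 11, nat_lit 8, nat_lit 10, nat_lit 13],
  [nat_lit 9, nat_lit 5, nat_lit 13, nat_lit 5, nat_lit 10, nat_lit 9],
  [nat_lit 6, nat_lit 8, nat_lit 12, nat_lit 11, nat_lit 5, nat_lit 12],
  [nat_lit 11, nat_lit 13, nat_lit 11, nat_lit 8],
  [nat_lit 8, nat_lit 12, nat_lit 5, nat_lit 10, nat_lit 11, nat_lit 12],
  [nat_lit 10, nat_lit 5, nat_lit 12, nat_lit 12, nat_lit 11],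
  [nat_lit 10, nat_lit 12, nat_lit 12, nat_lit 10, nat_lit 9, nat_lit 11],
  [nat_lit 10, nat_lit 12, nat_lit 12, nat_lit 11, nat_lit 8, nat_lit 10],
  [nat_lit 5, nat_lit 8, nat_lit 12, nat_lit 5, nat_lit 11, nat_lit 12],
  [nat_lit 9, nat_lit 13, nat_lit 5, nat_lit 10, nat_lit 9, nat_lit 11],
  [nat_lit 5, nat_lit 10, nat_lit 12, nat_lit 12, nat_lit 10, nat_lit 9],
  [nat_lit 11, nat_lit 5, nat_lit 8, nat_lit 10, nat_lit 13],
  [nat_lit 9, nat_lit 10, nat_lit 13, nat_lit 5, nat_lit 9],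
  [nat_lit 10, nat_lit 12, nat_lit 12, nat_lit 11, nat_lit 10, nat_lit 9],
  [nat_lit 7, nat_lit 11, nat_lit 8, nat_lit 13, nat_lit 11, nat_lit 10],
  [nat_lit 9, nat_lit 5, nat_lit 13, nat_lit 5],
  [nat_lit 10, nat_lit 12, nat_lit 12, nat_lit 11],
  [nat_lit 12, nat_lit 5, nat_lit 12, nat_lit 5, nat_lit 9],
  [nat_lit 11, nat_lit 13, nat_lit 11, nat_lit 9, nat_lit 10],
  [nat_lit 5, nat_lit 9, nat_lit 13, nat_lit 5, nat_lit 10, nat_lit 9],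
  [nat_lit 6, nat_lit 12, nat_lit 12, nat_lit 5],
  [nat_lit 5, nat_lit 6, nat_lit 8, nat_lit 13, nat_lit 12],
  [nat_lit 5, nat_lit 9, nat_lit 10, nat_lit 5, nat_lit 11],
  [nat_lit 8],
  [nat_lit 9, nat_lit 10, nat_lit 11, nat_lit 13, nat_lit 11, nat_lit 12],
  [nat_lit 5, nat_lit 8, nat_lit 11, nat_lit 10, nat_lit 9],
  [nat_lit 6, nat_lit 9, nat_lit 10, nat_lit 5, nat_lit 11, nat_lit 13, nat_lit 12],
  [nat_lit 13, nat_lit 11, nat_lit 12, nat_lit 11, nat_lit 10],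
  [nat_lit 5, nat_lit 6, nat_lit 8, nat_lit 5],
  [nat_lit 5, nat_lit 7, nat_lit 8],
  [nat_lit 9, nat_lit 11, nat_lit 10, nat_lit 13, nat_lit 12],
  [nat_lit 5, nat_lit 9, nat_lit 10, nat_lit 11],
  [nat_lit 5, nat_lit 13, nat_lit 11, nat_lit 5, nat_lit 12, nat_lit 11],
  [nat_lit 8, nat_lit 5, nat_lit 10, nat_lit 11, nat_lit 9],
  [nat_lit 7, nat_lit 8, nat_lit 11, nat_lit 10, nat_lit 9],
  [nat_lit 7, nat_lit 9, nat_lit 10, nat_lit 11],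
  [nat_lit 7, nat_lit 8, nat_lit 13, nat_lit 11, nat_lit 12],
  [nat_lit 5, nat_lit 9, nat_lit 5, nat_lit 11, nat_lit 10, nat_lit 13, nat_lit 12],
  [nat_lit 13, nat_lit 12, nat_lit 11, nat_lit 10],
  [nat_lit 5, nat_lit 8, nat_lit 10, nat_lit 5, nat_lit 11, nat_lit 9],
  [nat_lit 9, nat_lit 5, nat_lit 10, nat_lit 11],
  [nat_lit 8, nat_lit 5, nat_lit 13, nat_lit 12],
  [nat_lit 6, nat_lit 7, nat_lit 8, nat_lit 13, nat_lit 12],
  [nat_lit 5, nat_lit 13, nat_lit 5, nat_lit 12, nat_lit 11],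
  [nat_lit 5, nat_lit 9, nat_lit 5, nat_lit 9],
  [nat_lit 6, nat_lit 10, nat_lit 12, nat_lit 12, nat_lit 11],
  [nat_lit 11, nat_lit 9, nat_lit 5, nat_lit 13],
  [nat_lit 5, nat_lit 8, nat_lit 12, nat_lit 11, nat_lit 10, nat_lit 12, nat_lit 10],
  [nat_lit 11, nat_lit 8, nat_lit 10, nat_lit 5, nat_lit 13],
  [nat_lit 5, nat_lit 7, nat_lit 11, nat_lit 8, nat_lit 10, nat_lit 13],
  [nat_lit 12, nat_lit 12, nat_lit 10, nat_lit 5, nat_lit 9, nat_lit 11],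
  [nat_lit 9, nat_lit 10, nat_lit 8, nat_lit 11, nat_lit 13, nat_lit 11],
  [nat_lit 5, nat_lit 12, nat_lit 12, nat_lit 10, nat_lit 5, nat_lit 9],
  [nat_lit 8, nat_lit 12, nat_lit 11, nat_lit 5, nat_lit 12],
  [nat_lit 11, nat_lit 8, nat_lit 10, nat_lit 13],
  [nat_lit 12, nat_lit 12, nat_lit 5],
  [nat_lit 11, nat_lit 9, nat_lit 13],
  [nat_lit 5, nat_lit 9, nat_lit 10, nat_lit 8, nat_lit 11, nat_lit 13],
  [nat_lit 8, nat_lit 5, nat_lit 12, nat_lit 5, nat_lit 11, nat_lit 12],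
  [nat_lit 10, nat_lit 12, nat_lit 5, nat_lit 9, nat_lit 12],
  [nat_lit 8, nat_lit 12, nat_lit 11, nat_lit 12, nat_lit 11, nat_lit 10],
  [nat_lit 5, nat_lit 11, nat_lit 8, nat_lit 5, nat_lit 10, nat_lit 13],
  [nat_lit 6, nat_lit 11, nat_lit 13, nat_lit 11, nat_lit 8],
  [nat_lit 9, nat_lit 5, nat_lit 10, nat_lit 8, nat_lit 11, nat_lit 13],
  [nat_lit 5, nat_lit 12, nat_lit 12, nat_lit 5, nat_lit 11],
  [nat_lit 10, nat_lit 12, nat_lit 12, nat_lit 10, nat_lit 11, nat_lit 9],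
  [nat_lit 11, nat_lit 9, nat_lit 10, nat_lit 8, nat_lit 13],
  [nat_lit 5, nat_lit 6, nat_lit 9, nat_lit 13, nat_lit 5],
  [nat_lit 10, nat_lit 12, nat_lit 10, nat_lit 12],
  [nat_lit 5, nat_lit 6, nat_lit 9, nat_lit 10, nat_lit 12],
  [nat_lit 5, nat_lit 12, nat_lit 10, nat_lit 11, nat_lit 9],
  [nat_lit 12, nat_lit 5, nat_lit 10, nat_lit 13],
  [nat_lit 9, nat_lit 12, nat_lit 13, nat_lit 11, nat_lit 10, nat_lit 9],
  [nat_lit 5, nat_lit 8, nat_lit 5, nat_lit 11, nat_lit 12],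
  [nat_lit 5, nat_lit 12, nat_lit 11, nat_lit 8, nat_lit 13],
  [nat_lit 8, nat_lit 5, nat_lit 8, nat_lit 10, nat_lit 12],
  [nat_lit 7, nat_lit 12, nat_lit 11, nat_lit 8, nat_lit 13],
  [nat_lit 8, nat_lit 10, nat_lit 5, nat_lit 12, nat_lit 5, nat_lit 9],
  [nat_lit 11, nat_lit 12, nat_lit 13, nat_lit 11],
  [nat_lit 13, nat_lit 5, nat_lit 11, nat_lit 12, nat_lit 12],
  [nat_lit 6, nat_lit 12, nat_lit 11, nat_lit 8, nat_lit 10, nat_lit 13],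
  [nat_lit 9, nat_lit 11, nat_lit 12, nat_lit 11, nat_lit 8],
  [nat_lit 5, nat_lit 9, nat_lit 11, nat_lit 12, nat_lit 11, nat_lit 10, nat_lit 13],
  [nat_lit 9, nat_lit 5, nat_lit 10, nat_lit 9, nat_lit 12, nat_lit 13],
  [nat_lit 5, nat_lit 11, nat_lit 10, nat_lit 12, nat_lit 11, nat_lit 5],
  [nat_lit 5, nat_lit 12, nat_lit 5, nat_lit 8],
  [nat_lit 9, nat_lit 10, nat_lit 12, nat_lit 10],
  [nat_lit 6, nat_lit 9, nat_lit 11, nat_lit 12, nat_lit 11, nat_lit 13],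
  [nat_lit 9, nat_lit 11, nat_lit 5, nat_lit 12, nat_lit 11, nat_lit 13],
  [nat_lit 6, nat_lit 8, nat_lit 11, nat_lit 5, nat_lit 12],
  [nat_lit 6, nat_lit 8, nat_lit 11, nat_lit 12],
  [nat_lit 5, nat_lit 8, nat_lit 5, nat_lit 10, nat_lit 12, nat_lit 5, nat_lit 9],
  [nat_lit 5, nat_lit 8, nat_lit 12, nat_lit 5, nat_lit 8, nat_lit 11, nat_lit 13],
  [nat_lit 6, nat_lit 12, nat_lit 13, nat_lit 11, nat_lit 9],
  [nat_lit 12, nat_lit 11, nat_lit 5],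
  [nat_lit 8, nat_lit 12, nat_lit 5, nat_lit 10, nat_lit 13],
  [nat_lit 5, nat_lit 10, nat_lit 12, nat_lit 11, nat_lit 13],
  [nat_lit 9, nat_lit 11, nat_lit 5, nat_lit 12],
  [nat_lit 9, nat_lit 5, nat_lit 9, nat_lit 10, nat_lit 12],
  [nat_lit 7, nat_lit 13, nat_lit 11, nat_lit 12, nat_lit 11, nat_lit 12],
  [nat_lit 5, nat_lit 8, nat_lit 12, nat_lit 10, nat_lit 5, nat_lit 13],
  [nat_lit 6, nat_lit 12, nat_lit 11, nat_lit 13, nat_lit 5],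
  [nat_lit 5, nat_lit 13, nat_lit 11, nat_lit 12, nat_lit 11, nat_lit 12],
  [nat_lit 5, nat_lit 9, nat_lit 5, nat_lit 12, nat_lit 13, nat_lit 5, nat_lit 11],
  [nat_lit 9, nat_lit 10, nat_lit 12, nat_lit 10, nat_lit 13, nat_lit 11],
  [nat_lit 12, nat_lit 5, nat_lit 10, nat_lit 11],
  [nat_lit 8, nat_lit 10, nat_lit 12, nat_lit 10],
  [nat_lit 8, nat_lit 12, nat_lit 5, nat_lit 10, nat_lit 8],
  [nat_lit 5, nat_lit 8, nat_lit 12, nat_lit 5, nat_lit 8],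
  [nat_lit 12, nat_lit 5, nat_lit 10, nat_lit 11, nat_lit 9, nat_lit 13],
  [nat_lit 7, nat_lit 8, nat_lit 10, nat_lit 12],
  [nat_lit 8, nat_lit 5, nat_lit 9, nat_lit 12, nat_lit 5, nat_lit 11],
  [nat_lit 9, nat_lit 12, nat_lit 13, nat_lit 5, nat_lit 11],
  [nat_lit 6, nat_lit 9, nat_lit 11, nat_lit 12],
  [nat_lit 9, nat_lit 10, nat_lit 5, nat_lit 8, nat_lit 12, nat_lit 5],
  [nat_lit 5, nat_lit 8, nat_lit 10, nat_lit 12],
  [nat_lit 5, nat_lit 8, nat_lit 12, nat_lit 5, nat_lit 13],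
  [nat_lit 10, nat_lit 5, nat_lit 12, nat_lit 11],
  [nat_lit 5, nat_lit 12, nat_lit 11, nat_lit 5, nat_lit 9],
  [nat_lit 5, nat_lit 6, nat_lit 8, nat_lit 12, nat_lit 13, nat_lit 5],
  [nat_lit 9, nat_lit 5, nat_lit 8, nat_lit 12, nat_lit 11, nat_lit 5, nat_lit 13],
  [nat_lit 10, nat_lit 13, nat_lit 11, nat_lit 12, nat_lit 11, nat_lit 10, nat_lit 12],
  [nat_lit 5, nat_lit 8, nat_lit 12, nat_lit 5, nat_lit 10],
  [nat_lit 6, nat_lit 9, nat_lit 5, nat_lit 11, nat_lit 12, nat_lit 13],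
  [nat_lit 5, nat_lit 9, nat_lit 11, nat_lit 5, nat_lit 12, nat_lit 13],
  [nat_lit 6, nat_lit 12, nat_lit 5, nat_lit 11, nat_lit 9],
  [nat_lit 8, nat_lit 10, nat_lit 12, nat_lit 13],
  [nat_lit 12, nat_lit 11, nat_lit 5, nat_lit 9, nat_lit 10],
  [nat_lit 6, nat_lit 12, nat_lit 5, nat_lit 11, nat_lit 13],
  [nat_lit 8, nat_lit 5, nat_lit 12, nat_lit 13, nat_lit 5],
  [nat_lit 5, nat_lit 7, nat_lit 8, nat_lit 12, nat_lit 5],
  [nat_lit 8, nat_lit 12, nat_lit 10, nat_lit 5],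
  [nat_lit 8, nat_lit 12, nat_lit 5],
  [nat_lit 12, nat_lit 5, nat_lit 10, nat_lit 11, nat_lit 9, nat_lit 10],
  [nat_lit 9, nat_lit 12, nat_lit 11, nat_lit 10, nat_lit 8],
  [nat_lit 5, nat_lit 9, nat_lit 5, nat_lit 12, nat_lit 11, nat_lit 8],
  [nat_lit 8, nat_lit 12, nat_lit 5, nat_lit 8, nat_lit 13],
  [nat_lit 10, nat_lit 12, nat_lit 11],
  [nat_lit 5, nat_lit 8, nat_lit 10, nat_lit 12, nat_lit 10, nat_lit 13],
  [nat_lit 5, nat_lit 6, nat_lit 9, nat_lit 11, nat_lit 12, nat_lit 13],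
  [nat_lit 5, nat_lit 12, nat_lit 11, nat_lit 5, nat_lit 13],
  [nat_lit 10, nat_lit 5, nat_lit 12, nat_lit 13],
  [nat_lit 5, nat_lit 12, nat_lit 5, nat_lit 13, nat_lit 5, nat_lit 8],
  [nat_lit 8, nat_lit 5, nat_lit 12, nat_lit 11, nat_lit 5, nat_lit 13],
  [nat_lit 5, nat_lit 10, nat_lit 9, nat_lit 12, nat_lit 10, nat_lit 13, nat_lit 11],
  [nat_lit 10, nat_lit 5, nat_lit 12, nat_lit 13, nat_lit 11, nat_lit 9],
  [nat_lit 8, nat_lit 5, nat_lit 9, nat_lit 11, nat_lit 12, nat_lit 11],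
  [nat_lit 5, nat_lit 11, nat_lit 5, nat_lit 12, nat_lit 11],
  [nat_lit 13, nat_lit 11, nat_lit 10, nat_lit 12, nat_lit 12],
  [nat_lit 11, nat_lit 9, nat_lit 12, nat_lit 10],
  [nat_lit 9, nat_lit 12, nat_lit 5, nat_lit 11, nat_lit 9],
  [nat_lit 9, nat_lit 5, nat_lit 10, nat_lit 12, nat_lit 5, nat_lit 8],
  [nat_lit 8, nat_lit 12, nat_lit 5, nat_lit 11, nat_lit 13],
  [nat_lit 5, nat_lit 8, nat_lit 12, nat_lit 5, nat_lit 10, nat_lit 11, nat_lit 13],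
  [nat_lit 13, nat_lit 11, nat_lit 10, nat_lit 12, nat_lit 5, nat_lit 12],
  [nat_lit 5, nat_lit 6, nat_lit 11, nat_lit 9, nat_lit 12],
  [nat_lit 9, nat_lit 12, nat_lit 5],
  [nat_lit 11, nat_lit 5, nat_lit 8, nat_lit 5, nat_lit 10, nat_lit 12],
  [nat_lit 10, nat_lit 12, nat_lit 13],
  [nat_lit 11, nat_lit 12, nat_lit 11, nat_lit 10],
  [nat_lit 10, nat_lit 12, nat_lit 5, nat_lit 9, nat_lit 10, nat_lit 13],
  [nat_lit 5, nat_lit 9, nat_lit 5, nat_lit 12, nat_lit 5],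
  [nat_lit 10, nat_lit 9, nat_lit 12, nat_lit 13, nat_lit 11],
  [nat_lit 5, nat_lit 6, nat_lit 11, nat_lit 8, nat_lit 10, nat_lit 12],
  [nat_lit 11, nat_lit 8, nat_lit 10, nat_lit 12, nat_lit 10],
  [nat_lit 9, nat_lit 10, nat_lit 8, nat_lit 13],
  [nat_lit 7, nat_lit 12, nat_lit 11, nat_lit 12, nat_lit 11],
  [nat_lit 5, nat_lit 12, nat_lit 11, nat_lit 12, nat_lit 11],
  [nat_lit 12, nat_lit 12, nat_lit 11, nat_lit 8, nat_lit 10, nat_lit 5],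
  [nat_lit 5, nat_lit 8, nat_lit 10, nat_lit 13, nat_lit 5],
  [nat_lit 6, nat_lit 13, nat_lit 5, nat_lit 8],
  [nat_lit 5, nat_lit 13, nat_lit 5, nat_lit 11, nat_lit 8],
  [nat_lit 5, nat_lit 6, nat_lit 12, nat_lit 12, nat_lit 10, nat_lit 9],
  [nat_lit 12, nat_lit 5, nat_lit 9, nat_lit 12],
  [nat_lit 6, nat_lit 13, nat_lit 11, nat_lit 5, nat_lit 8],
  [nat_lit 8, nat_lit 5, nat_lit 10, nat_lit 12, nat_lit 5, nat_lit 12],
  [nat_lit 13, nat_lit 11, nat_lit 9, nat_lit 5, nat_lit 10],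
  [nat_lit 8, nat_lit 13, nat_lit 5, nat_lit 10],
  [nat_lit 9, nat_lit 10, nat_lit 13, nat_lit 11, nat_lit 9],
  [nat_lit 12, nat_lit 12, nat_lit 10, nat_lit 9, nat_lit 11],
  [nat_lit 5, nat_lit 8, nat_lit 11, nat_lit 8, nat_lit 13],
  [nat_lit 13, nat_lit 11, nat_lit 8, nat_lit 10, nat_lit 9],
  [nat_lit 12, nat_lit 5, nat_lit 9, nat_lit 10, nat_lit 12],
  [nat_lit 8, nat_lit 10, nat_lit 12, nat_lit 12, nat_lit 10],
  [nat_lit 5, nat_lit 13, nat_lit 11, nat_lit 9, nat_lit 10, nat_lit 5],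
  [nat_lit 9, nat_lit 10, nat_lit 5, nat_lit 8, nat_lit 13],
  [nat_lit 12, nat_lit 10, nat_lit 11, nat_lit 12],
  [nat_lit 5, nat_lit 8, nat_lit 12, nat_lit 5, nat_lit 12, nat_lit 5],
  [nat_lit 6, nat_lit 12, nat_lit 11, nat_lit 12],
  [nat_lit 11, nat_lit 5, nat_lit 8, nat_lit 12],
  [nat_lit 10, nat_lit 13, nat_lit 11, nat_lit 5, nat_lit 12, nat_lit 12],
  [nat_lit 5, nat_lit 9, nat_lit 5, nat_lit 10, nat_lit 12, nat_lit 5],
  [nat_lit 5, nat_lit 11, nat_lit 9, nat_lit 12, nat_lit 10, nat_lit 11, nat_lit 8],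
  [nat_lit 10, nat_lit 9, nat_lit 11, nat_lit 5, nat_lit 12, nat_lit 13],
  [nat_lit 6, nat_lit 12, nat_lit 13, nat_lit 5, nat_lit 9],
  [nat_lit 5, nat_lit 8, nat_lit 12, nat_lit 11, nat_lit 13],
  [nat_lit 5, nat_lit 10, nat_lit 9, nat_lit 11, nat_lit 12, nat_lit 13],
  [nat_lit 10, nat_lit 12, nat_lit 5, nat_lit 10, nat_lit 13],
  [nat_lit 5, nat_lit 13, nat_lit 11, nat_lit 10, nat_lit 12, nat_lit 10, nat_lit 12],
  [nat_lit 12, nat_lit 5, nat_lit 13, nat_lit 5],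
  [nat_lit 8, nat_lit 12, nat_lit 5, nat_lit 10, nat_lit 11, nat_lit 8, nat_lit 13],
  [nat_lit 10, nat_lit 8, nat_lit 5, nat_lit 12, nat_lit 13],
  [nat_lit 11, nat_lit 5, nat_lit 9, nat_lit 10, nat_lit 12],
  [nat_lit 10, nat_lit 5, nat_lit 11, nat_lit 12, nat_lit 11],
  [nat_lit 5, nat_lit 8, nat_lit 12, nat_lit 10, nat_lit 11, nat_lit 13],
  [nat_lit 9, nat_lit 5, nat_lit 12, nat_lit 5, nat_lit 9],
  [nat_lit 10, nat_lit 11, nat_lit 12, nat_lit 11],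
  [nat_lit 9, nat_lit 10, nat_lit 12, nat_lit 5],
  [nat_lit 6, nat_lit 11, nat_lit 8, nat_lit 12],
  [nat_lit 6, nat_lit 12, nat_lit 13, nat_lit 5, nat_lit 11, nat_lit 8],
  [nat_lit 9, nat_lit 10, nat_lit 5, nat_lit 12, nat_lit 5],
  [nat_lit 9, nat_lit 5, nat_lit 12, nat_lit 5, nat_lit 11, nat_lit 8],
  [nat_lit 11, nat_lit 8, nat_lit 12, nat_lit 10],
  [nat_lit 13, nat_lit 11, nat_lit 9, nat_lit 12],
  [nat_lit 9, nat_lit 11, nat_lit 10],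
  [nat_lit 5, nat_lit 7, nat_lit 8, nat_lit 5],
  [nat_lit 6, nat_lit 13, nat_lit 5, nat_lit 12, nat_lit 11],
  [nat_lit 9, nat_lit 5, nat_lit 10, nat_lit 11, nat_lit 13, nat_lit 12],
  [nat_lit 6, nat_lit 8, nat_lit 10, nat_lit 5, nat_lit 11, nat_lit 9],
  [nat_lit 5, nat_lit 6, nat_lit 8],
  [nat_lit 6, nat_lit 13, nat_lit 11, nat_lit 5, nat_lit 12, nat_lit 11],
  [nat_lit 8, nat_lit 13, nat_lit 12],
  [nat_lit 5, nat_lit 8, nat_lit 5, nat_lit 11, nat_lit 10, nat_lit 9],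
  [nat_lit 5, nat_lit 7, nat_lit 8, nat_lit 10, nat_lit 11, nat_lit 9],
  [nat_lit 8, nat_lit 10, nat_lit 11, nat_lit 9],
  [nat_lit 5, nat_lit 9, nat_lit 10, nat_lit 11, nat_lit 13, nat_lit 12],
  [nat_lit 6, nat_lit 7, nat_lit 8],
  [nat_lit 7, nat_lit 9, nat_lit 10, nat_lit 11, nat_lit 13, nat_lit 12],
  [nat_lit 5, nat_lit 13, nat_lit 5, nat_lit 11, nat_lit 12, nat_lit 11],
  [nat_lit 8, nat_lit 5],
  [nat_lit 5, nat_lit 9, nat_lit 5, nat_lit 11, nat_lit 10],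
  [nat_lit 5, nat_lit 7, nat_lit 9, nat_lit 11, nat_lit 10],
  [nat_lit 6, nat_lit 8, nat_lit 13, nat_lit 11, nat_lit 12],
  [nat_lit 5, nat_lit 9, nat_lit 10, nat_lit 5, nat_lit 11, nat_lit 13, nat_lit 12],
  [nat_lit 5, nat_lit 13, nat_lit 12, nat_lit 10, nat_lit 11],
  [nat_lit 6, nat_lit 9, nat_lit 10, nat_lit 5, nat_lit 11],
  [nat_lit 5, nat_lit 7, nat_lit 8, nat_lit 13, nat_lit 12],
  [nat_lit 7, nat_lit 11, nat_lit 12, nat_lit 12],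
  [nat_lit 5, nat_lit 10, nat_lit 13, nat_lit 5, nat_lit 9],
  [nat_lit 9, nat_lit 5, nat_lit 12, nat_lit 5, nat_lit 12, nat_lit 5, nat_lit 9],
  [nat_lit 6, nat_lit 10, nat_lit 9, nat_lit 13],
  [nat_lit 10, nat_lit 13, nat_lit 11, nat_lit 8],
  [nat_lit 11, nat_lit 12, nat_lit 11, nat_lit 8, nat_lit 10, nat_lit 12],
  [nat_lit 6, nat_lit 9, nat_lit 12, nat_lit 5, nat_lit 11, nat_lit 12],
  [nat_lit 5, nat_lit 11, nat_lit 12, nat_lit 11, nat_lit 8, nat_lit 12],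
  [nat_lit 10, nat_lit 8, nat_lit 11, nat_lit 5, nat_lit 13],
  [nat_lit 5, nat_lit 10, nat_lit 11, nat_lit 13, nat_lit 11, nat_lit 5],
  [nat_lit 5, nat_lit 9, nat_lit 12, nat_lit 5, nat_lit 10, nat_lit 11, nat_lit 12],
  [nat_lit 10, nat_lit 9, nat_lit 5, nat_lit 13],
  [nat_lit 5, nat_lit 11, nat_lit 12, nat_lit 12],
  [nat_lit 9, nat_lit 5, nat_lit 12, nat_lit 11, nat_lit 5, nat_lit 12],
  [nat_lit 6, nat_lit 10, nat_lit 5, nat_lit 9, nat_lit 13],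
  [nat_lit 5, nat_lit 9, nat_lit 12, nat_lit 11, nat_lit 5, nat_lit 12],
  [nat_lit 7, nat_lit 11, nat_lit 12, nat_lit 11, nat_lit 8, nat_lit 12],
  [nat_lit 5, nat_lit 13, nat_lit 5, nat_lit 10, nat_lit 11, nat_lit 9],
  [nat_lit 11, nat_lit 10, nat_lit 13, nat_lit 5, nat_lit 11],
  [nat_lit 6, nat_lit 11, nat_lit 12, nat_lit 12, nat_lit 11],
  [nat_lit 11, nat_lit 5, nat_lit 12, nat_lit 12, nat_lit 11],
  [nat_lit 6, nat_lit 11, nat_lit 13, nat_lit 5, nat_lit 10],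
  [nat_lit 13, nat_lit 5, nat_lit 10, nat_lit 9],
  [nat_lit 5, nat_lit 10, nat_lit 11, nat_lit 13, nat_lit 5],
  [nat_lit 5, nat_lit 13, nat_lit 5, nat_lit 10],
  [nat_lit 10, nat_lit 8, nat_lit 13, nat_lit 5, nat_lit 9],
  [nat_lit 9, nat_lit 5, nat_lit 10, nat_lit 12, nat_lit 12, nat_lit 10],
  [nat_lit 5, nat_lit 10, nat_lit 9, nat_lit 5, nat_lit 11, nat_lit 13],
  [nat_lit 11, nat_lit 10, nat_lit 12, nat_lit 11, nat_lit 12],
  [nat_lit 5, nat_lit 7, nat_lit 11, nat_lit 8, nat_lit 12, nat_lit 12],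
  [nat_lit 10, nat_lit 13, nat_lit 5],
  [nat_lit 5, nat_lit 11, nat_lit 8, nat_lit 5, nat_lit 12, nat_lit 12],
  [nat_lit 9, nat_lit 10, nat_lit 12, nat_lit 12, nat_lit 10, nat_lit 11],
  [nat_lit 5, nat_lit 9, nat_lit 10, nat_lit 12, nat_lit 12, nat_lit 10],
  [nat_lit 6, nat_lit 7, nat_lit 10, nat_lit 8, nat_lit 13],
  [nat_lit 11, nat_lit 8, nat_lit 12, nat_lit 12],
  [nat_lit 10, nat_lit 11, nat_lit 12, nat_lit 11, nat_lit 10, nat_lit 12],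
  [nat_lit 9, nat_lit 12, nat_lit 5, nat_lit 12, nat_lit 5],
  [nat_lit 5, nat_lit 10, nat_lit 13, nat_lit 11, nat_lit 9],
  [nat_lit 13, nat_lit 5, nat_lit 10, nat_lit 11],
  [nat_lit 6, nat_lit 10, nat_lit 8, nat_lit 5, nat_lit 13],
  [nat_lit 5, nat_lit 6, nat_lit 10, nat_lit 8, nat_lit 13],
  [nat_lit 6, nat_lit 11, nat_lit 12, nat_lit 11, nat_lit 12, nat_lit 5, nat_lit 11],
  [nat_lit 5, nat_lit 11, nat_lit 10, nat_lit 12, nat_lit 11, nat_lit 12, nat_lit 11],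
  [nat_lit 6, nat_lit 11, nat_lit 8, nat_lit 12, nat_lit 10, nat_lit 12],
  [nat_lit 6, nat_lit 10, nat_lit 9, nat_lit 11, nat_lit 5, nat_lit 13],
  [nat_lit 5, nat_lit 6, nat_lit 10, nat_lit 9, nat_lit 11, nat_lit 13],
  [nat_lit 5, nat_lit 10, nat_lit 13, nat_lit 5, nat_lit 11],
  [nat_lit 9, nat_lit 10, nat_lit 5, nat_lit 11, nat_lit 8, nat_lit 13],
  [nat_lit 5, nat_lit 6, nat_lit 13, nat_lit 5, nat_lit 9, nat_lit 10],
  [nat_lit 7, nat_lit 13, nat_lit 11, nat_lit 8],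
  [nat_lit 9, nat_lit 5, nat_lit 13],
  [nat_lit 12, nat_lit 11, nat_lit 12, nat_lit 11, nat_lit 8, nat_lit 10],
  [nat_lit 5, nat_lit 9, nat_lit 13],
  [nat_lit 12, nat_lit 11, nat_lit 8, nat_lit 10, nat_lit 12, nat_lit 10],
  [nat_lit 5, nat_lit 7, nat_lit 12, nat_lit 12, nat_lit 11],
  [nat_lit 6, nat_lit 12, nat_lit 12],
  [nat_lit 6, nat_lit 12, nat_lit 5, nat_lit 9, nat_lit 11, nat_lit 12, nat_lit 11],
  [nat_lit 5, nat_lit 7, nat_lit 12, nat_lit 5, nat_lit 9, nat_lit 11, nat_lit 12],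
  [nat_lit 12, nat_lit 5, nat_lit 9, nat_lit 11, nat_lit 12],
  [nat_lit 12, nat_lit 11, nat_lit 8, nat_lit 5, nat_lit 12],
  [nat_lit 12, nat_lit 11, nat_lit 10, nat_lit 8, nat_lit 5, nat_lit 12],
  [nat_lit 8, nat_lit 10, nat_lit 11, nat_lit 13, nat_lit 11],
  [nat_lit 9, nat_lit 10, nat_lit 11, nat_lit 8, nat_lit 13],
  [nat_lit 9, nat_lit 11, nat_lit 10, nat_lit 13, nat_lit 11, nat_lit 9],
  [nat_lit 8, nat_lit 10, nat_lit 5, nat_lit 11, nat_lit 13],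
  [nat_lit 12, nat_lit 5, nat_lit 9, nat_lit 10, nat_lit 11, nat_lit 12],
  [nat_lit 9, nat_lit 11, nat_lit 10, nat_lit 8, nat_lit 13, nat_lit 11],
  [nat_lit 8, nat_lit 11, nat_lit 10, nat_lit 13],
  [nat_lit 7, nat_lit 9, nat_lit 13],
  [nat_lit 12, nat_lit 10, nat_lit 12],
  [nat_lit 12, nat_lit 12, nat_lit 11],
  [nat_lit 5, nat_lit 8, nat_lit 10, nat_lit 13, nat_lit 12],
  [nat_lit 5, nat_lit 8, nat_lit 13, nat_lit 5, nat_lit 9, nat_lit 12],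
  [nat_lit 12, nat_lit 11, nat_lit 5, nat_lit 12, nat_lit 13],
  [nat_lit 11, nat_lit 5, nat_lit 8, nat_lit 11],
  [nat_lit 9, nat_lit 11, nat_lit 9, nat_lit 5],
  [nat_lit 9, nat_lit 11, nat_lit 5, nat_lit 13, nat_lit 12],
  [nat_lit 10, nat_lit 13, nat_lit 11, nat_lit 5, nat_lit 12, nat_lit 11],
  [nat_lit 12, nat_lit 11, nat_lit 12, nat_lit 11, nat_lit 10, nat_lit 13],
  [nat_lit 6, nat_lit 9, nat_lit 11, nat_lit 9],
  [nat_lit 7, nat_lit 8, nat_lit 10, nat_lit 9],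
  [nat_lit 11, nat_lit 9, nat_lit 5, nat_lit 11, nat_lit 10],
  [nat_lit 8, nat_lit 13, nat_lit 12, nat_lit 10, nat_lit 5, nat_lit 9],
  [nat_lit 8, nat_lit 11, nat_lit 5, nat_lit 8, nat_lit 10],
  [nat_lit 8, nat_lit 5, nat_lit 10, nat_lit 9, nat_lit 5],
  [nat_lit 5, nat_lit 8, nat_lit 10, nat_lit 9],
  [nat_lit 6, nat_lit 9, nat_lit 11, nat_lit 13, nat_lit 12],
  [nat_lit 9, nat_lit 11, nat_lit 5, nat_lit 9],
  [nat_lit 6, nat_lit 8, nat_lit 5, nat_lit 10, nat_lit 9],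
  [nat_lit 7, nat_lit 8, nat_lit 10, nat_lit 13, nat_lit 12],
  [nat_lit 8, nat_lit 11, nat_lit 8, nat_lit 10],
  [nat_lit 11, nat_lit 5, nat_lit 9, nat_lit 10, nat_lit 11],
  [nat_lit 5, nat_lit 13, nat_lit 11, nat_lit 9, nat_lit 10, nat_lit 12],
  [nat_lit 5, nat_lit 8, nat_lit 10, nat_lit 13, nat_lit 11, nat_lit 12],
  [nat_lit 5, nat_lit 10, nat_lit 13, nat_lit 12, nat_lit 10, nat_lit 11],
  [nat_lit 13, nat_lit 12, nat_lit 11],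
  [nat_lit 6, nat_lit 9, nat_lit 5, nat_lit 11],
  [nat_lit 5, nat_lit 8, nat_lit 13, nat_lit 12, nat_lit 10, nat_lit 5],
  [nat_lit 5, nat_lit 8, nat_lit 11, nat_lit 8, nat_lit 10, nat_lit 8],
  [nat_lit 6, nat_lit 13, nat_lit 5, nat_lit 8, nat_lit 10, nat_lit 12],
  [nat_lit 5, nat_lit 7, nat_lit 8, nat_lit 10],
  [nat_lit 6, nat_lit 8, nat_lit 10, nat_lit 5],
  [nat_lit 13, nat_lit 5, nat_lit 8, nat_lit 10, nat_lit 12, nat_lit 5],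
  [nat_lit 8, nat_lit 5, nat_lit 13, nat_lit 12, nat_lit 10],
  [nat_lit 6, nat_lit 13, nat_lit 11, nat_lit 5, nat_lit 8, nat_lit 10, nat_lit 12],
  [nat_lit 12, nat_lit 11, nat_lit 5, nat_lit 12, nat_lit 11, nat_lit 12],
  [nat_lit 8, nat_lit 5, nat_lit 10, nat_lit 11, nat_lit 9, nat_lit 10],
  [nat_lit 9, nat_lit 11, nat_lit 10, nat_lit 8, nat_lit 11],
  [nat_lit 8, nat_lit 10],
  [nat_lit 6, nat_lit 7, nat_lit 9, nat_lit 11],
  [nat_lit 5, nat_lit 6, nat_lit 9, nat_lit 11],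
  [nat_lit 8, nat_lit 13, nat_lit 5, nat_lit 12],
  [nat_lit 13, nat_lit 11, nat_lit 12, nat_lit 11],
  [nat_lit 5, nat_lit 8, nat_lit 11, nat_lit 8, nat_lit 10, nat_lit 13, nat_lit 12],
  [nat_lit 5, nat_lit 9, nat_lit 11, nat_lit 5],
  [nat_lit 5, nat_lit 7, nat_lit 13, nat_lit 11, nat_lit 12, nat_lit 11],
  [nat_lit 5, nat_lit 6, nat_lit 8, nat_lit 13, nat_lit 12, nat_lit 10],
  [nat_lit 5, nat_lit 6, nat_lit 8, nat_lit 5, nat_lit 10],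
  [nat_lit 5, nat_lit 7, nat_lit 13, nat_lit 12, nat_lit 11],
  [nat_lit 5, nat_lit 10, nat_lit 13, nat_lit 12, nat_lit 11],
  [nat_lit 11, nat_lit 5, nat_lit 8, nat_lit 10, nat_lit 11],
  [nat_lit 5, nat_lit 13, nat_lit 11, nat_lit 10, nat_lit 12, nat_lit 11],
  [nat_lit 7, nat_lit 10, nat_lit 13, nat_lit 12, nat_lit 11],
  [nat_lit 6, nat_lit 7, nat_lit 9, nat_lit 10, nat_lit 8],
  [nat_lit 5, nat_lit 8, nat_lit 5, nat_lit 11, nat_lit 8],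
  [nat_lit 8, nat_lit 10, nat_lit 13, nat_lit 11, nat_lit 5, nat_lit 12],
  [nat_lit 9, nat_lit 11, nat_lit 9, nat_lit 10],
  [nat_lit 13, nat_lit 12, nat_lit 10, nat_lit 8],
  [nat_lit 5, nat_lit 11, nat_lit 8, nat_lit 5, nat_lit 11, nat_lit 10],
  [nat_lit 5, nat_lit 8, nat_lit 11, nat_lit 8, nat_lit 5],
  [nat_lit 6, nat_lit 9, nat_lit 5, nat_lit 10, nat_lit 8],
  [nat_lit 6, nat_lit 8, nat_lit 11, nat_lit 8],
  [nat_lit 8, nat_lit 5, nat_lit 8, nat_lit 10, nat_lit 8],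
  [nat_lit 9, nat_lit 10, nat_lit 8, nat_lit 5],
  [nat_lit 11, nat_lit 5, nat_lit 9, nat_lit 11],
  [nat_lit 7, nat_lit 13, nat_lit 11, nat_lit 10, nat_lit 12, nat_lit 11],
  [nat_lit 5, nat_lit 9, nat_lit 5, nat_lit 11, nat_lit 9, nat_lit 10],
  [nat_lit 13, nat_lit 5, nat_lit 11, nat_lit 8, nat_lit 12],
  [nat_lit 8, nat_lit 5, nat_lit 10, nat_lit 13, nat_lit 12, nat_lit 10],
  [nat_lit 8, nat_lit 10, nat_lit 13, nat_lit 5, nat_lit 12],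
  [nat_lit 13, nat_lit 5, nat_lit 8, nat_lit 12, nat_lit 5],
  [nat_lit 13, nat_lit 5, nat_lit 8, nat_lit 11, nat_lit 12],
  [nat_lit 5, nat_lit 8, nat_lit 13, nat_lit 5, nat_lit 10, nat_lit 12],
  [nat_lit 5, nat_lit 8, nat_lit 10, nat_lit 9, nat_lit 13, nat_lit 5],
  [nat_lit 9, nat_lit 10, nat_lit 11, nat_lit 13],
  [nat_lit 12, nat_lit 11, nat_lit 5, nat_lit 12, nat_lit 5],
  [nat_lit 5, nat_lit 8, nat_lit 13],
  [nat_lit 6, nat_lit 8, nat_lit 12, nat_lit 10, nat_lit 12],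
  [nat_lit 10, nat_lit 12, nat_lit 11, nat_lit 5, nat_lit 12, nat_lit 11],
  [nat_lit 6, nat_lit 8, nat_lit 12, nat_lit 12],
  [nat_lit 9, nat_lit 11, nat_lit 12, nat_lit 12, nat_lit 5, nat_lit 11],
  [nat_lit 9, nat_lit 5, nat_lit 11, nat_lit 10, nat_lit 12, nat_lit 12],
  [nat_lit 6, nat_lit 9, nat_lit 11, nat_lit 12, nat_lit 12, nat_lit 5],
  [nat_lit 5, nat_lit 10, nat_lit 12, nat_lit 5, nat_lit 11, nat_lit 12],
  [nat_lit 5, nat_lit 9, nat_lit 11, nat_lit 10, nat_lit 12, nat_lit 12],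
  [nat_lit 7, nat_lit 8, nat_lit 13],
  [nat_lit 5, nat_lit 9, nat_lit 5, nat_lit 10, nat_lit 11, nat_lit 13],
  [nat_lit 5, nat_lit 13, nat_lit 11, nat_lit 9],
  [nat_lit 8, nat_lit 10, nat_lit 5, nat_lit 11, nat_lit 9, nat_lit 13],
  [nat_lit 13, nat_lit 11, nat_lit 5, nat_lit 12, nat_lit 11, nat_lit 13],
  [nat_lit 9, nat_lit 11, nat_lit 10, nat_lit 13, nat_lit 11],
  [nat_lit 8, nat_lit 11, nat_lit 10, nat_lit 9, nat_lit 13],
  [nat_lit 8, nat_lit 10, nat_lit 11, nat_lit 13, nat_lit 11, nat_lit 8],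
  [nat_lit 9, nat_lit 10, nat_lit 5, nat_lit 11, nat_lit 13],
  [nat_lit 6, nat_lit 8, nat_lit 5, nat_lit 13],
  [nat_lit 8, nat_lit 12, nat_lit 12, nat_lit 11],
  [nat_lit 12, nat_lit 12, nat_lit 11, nat_lit 8],
  [nat_lit 5, nat_lit 12, nat_lit 11, nat_lit 12, nat_lit 11, nat_lit 8],
  [nat_lit 12, nat_lit 5, nat_lit 12],
  [nat_lit 5, nat_lit 8, nat_lit 10, nat_lit 13, nat_lit 5, nat_lit 8, nat_lit 11],
  [nat_lit 9, nat_lit 5, nat_lit 11, nat_lit 12, nat_lit 11, nat_lit 12],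
  [nat_lit 5, nat_lit 12, nat_lit 11, nat_lit 8, nat_lit 10, nat_lit 12],
  [nat_lit 13, nat_lit 11, nat_lit 8, nat_lit 10],
  [nat_lit 12, nat_lit 5, nat_lit 12, nat_lit 11],
  [nat_lit 8, nat_lit 13, nat_lit 5, nat_lit 10, nat_lit 8],
  [nat_lit 5, nat_lit 9, nat_lit 11, nat_lit 12, nat_lit 11, nat_lit 12],
  [nat_lit 8, nat_lit 13, nat_lit 5, nat_lit 10, nat_lit 8, nat_lit 11],
  [nat_lit 5, nat_lit 8, nat_lit 11, nat_lit 13, nat_lit 11],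
  [nat_lit 7, nat_lit 9, nat_lit 11, nat_lit 12, nat_lit 11, nat_lit 12, nat_lit 11],
  [nat_lit 9, nat_lit 10, nat_lit 13],
  [nat_lit 5, nat_lit 8, nat_lit 11, nat_lit 13],
  [nat_lit 9, nat_lit 10, nat_lit 13, nat_lit 11],
  [nat_lit 9, nat_lit 10, nat_lit 5, nat_lit 13],
  [nat_lit 5, nat_lit 6, nat_lit 12, nat_lit 12, nat_lit 10],
  [nat_lit 5, nat_lit 12, nat_lit 12, nat_lit 11, nat_lit 10],
  [nat_lit 6, nat_lit 12, nat_lit 11, nat_lit 8, nat_lit 12],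
  [nat_lit 6, nat_lit 13, nat_lit 5, nat_lit 9],
  [nat_lit 7, nat_lit 9, nat_lit 11, nat_lit 12, nat_lit 11, nat_lit 12],
  [nat_lit 12, nat_lit 10, nat_lit 11, nat_lit 8, nat_lit 12],
  [nat_lit 5, nat_lit 8, nat_lit 11, nat_lit 5, nat_lit 13],
  [nat_lit 5, nat_lit 8, nat_lit 10, nat_lit 13, nat_lit 5, nat_lit 8],
  [nat_lit 6, nat_lit 7, nat_lit 10, nat_lit 13],
  [nat_lit 10, nat_lit 8, nat_lit 13, nat_lit 5],
  [nat_lit 10, nat_lit 5, nat_lit 8, nat_lit 13, nat_lit 5],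
  [nat_lit 5, nat_lit 13, nat_lit 5, nat_lit 10, nat_lit 8],
  [nat_lit 5, nat_lit 10, nat_lit 13, nat_lit 5, nat_lit 11, nat_lit 8],
  [nat_lit 11, nat_lit 12, nat_lit 12, nat_lit 11, nat_lit 8, nat_lit 5],
  [nat_lit 5, nat_lit 10, nat_lit 13, nat_lit 11],
  [nat_lit 11, nat_lit 8, nat_lit 10, nat_lit 5, nat_lit 12, nat_lit 12],
  [nat_lit 5, nat_lit 6, nat_lit 11, nat_lit 8, nat_lit 12, nat_lit 12, nat_lit 5],
  [nat_lit 11, nat_lit 5, nat_lit 12, nat_lit 11, nat_lit 12, nat_lit 11],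
  [nat_lit 9, nat_lit 12, nat_lit 5, nat_lit 10, nat_lit 12],
  [nat_lit 11, nat_lit 12, nat_lit 11, nat_lit 12],
  [nat_lit 10, nat_lit 13, nat_lit 5, nat_lit 8],
  [nat_lit 13, nat_lit 11, nat_lit 10, nat_lit 9, nat_lit 5],
  [nat_lit 9, nat_lit 12, nat_lit 12, nat_lit 11, nat_lit 10],
  [nat_lit 9, nat_lit 12, nat_lit 12, nat_lit 10],
  [nat_lit 5, nat_lit 7, nat_lit 11, nat_lit 12, nat_lit 11, nat_lit 12],
  [nat_lit 11, nat_lit 8, nat_lit 10, nat_lit 12, nat_lit 12],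
  [nat_lit 13, nat_lit 5, nat_lit 10, nat_lit 11, nat_lit 8],
  [nat_lit 5, nat_lit 10, nat_lit 8, nat_lit 5, nat_lit 13, nat_lit 5],
  [nat_lit 5, nat_lit 6, nat_lit 10, nat_lit 13],
  [nat_lit 6, nat_lit 11, nat_lit 12, nat_lit 11, nat_lit 12, nat_lit 11],
  [nat_lit 7, nat_lit 10, nat_lit 13, nat_lit 11],
  [nat_lit 5, nat_lit 6, nat_lit 9, nat_lit 12, nat_lit 5, nat_lit 12],
  [nat_lit 5, nat_lit 8, nat_lit 5, nat_lit 12, nat_lit 5, nat_lit 12],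
  [nat_lit 12, nat_lit 5, nat_lit 9, nat_lit 12, nat_lit 11, nat_lit 5],
  [nat_lit 8, nat_lit 13, nat_lit 11, nat_lit 10],
  [nat_lit 6, nat_lit 8, nat_lit 5, nat_lit 12, nat_lit 12, nat_lit 10],
  [nat_lit 12, nat_lit 5, nat_lit 10, nat_lit 9, nat_lit 12, nat_lit 5],
  [nat_lit 12, nat_lit 5, nat_lit 11, nat_lit 13, nat_lit 12],
  [nat_lit 7, nat_lit 9, nat_lit 11, nat_lit 13],
  [nat_lit 9, nat_lit 10, nat_lit 8, nat_lit 13, nat_lit 11, nat_lit 5],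
  [nat_lit 5, nat_lit 8, nat_lit 12, nat_lit 12, nat_lit 10],
  [nat_lit 5, nat_lit 9, nat_lit 11, nat_lit 13],
  [nat_lit 12, nat_lit 5, nat_lit 11, nat_lit 9, nat_lit 12],
  [nat_lit 6, nat_lit 8, nat_lit 12, nat_lit 5, nat_lit 12],
  [nat_lit 8, nat_lit 10, nat_lit 5, nat_lit 13, nat_lit 11],
  [nat_lit 6, nat_lit 8, nat_lit 10, nat_lit 13],
  [nat_lit 9, nat_lit 5, nat_lit 11, nat_lit 13, nat_lit 11],
  [nat_lit 12, nat_lit 12, nat_lit 10, nat_lit 11, nat_lit 9, nat_lit 5],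
  [nat_lit 8, nat_lit 10, nat_lit 5, nat_lit 13],
  [nat_lit 5, nat_lit 12, nat_lit 11, nat_lit 12, nat_lit 5, nat_lit 11],
  [nat_lit 6, nat_lit 10, nat_lit 12, nat_lit 11, nat_lit 12, nat_lit 11],
  [nat_lit 6, nat_lit 9, nat_lit 5, nat_lit 10, nat_lit 8, nat_lit 13, nat_lit 5],
  [nat_lit 5, nat_lit 12, nat_lit 11, nat_lit 12, nat_lit 5],
  [nat_lit 9, nat_lit 5, nat_lit 11, nat_lit 13],
  [nat_lit 9, nat_lit 10, nat_lit 8, nat_lit 5, nat_lit 13, nat_lit 5],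
  [nat_lit 6, nat_lit 10, nat_lit 12, nat_lit 11, nat_lit 12],
  [nat_lit 5, nat_lit 10, nat_lit 9, nat_lit 11, nat_lit 9],
  [nat_lit 7, nat_lit 10],
  [nat_lit 9, nat_lit 5, nat_lit 8, nat_lit 10],
  [nat_lit 11, nat_lit 10, nat_lit 9, nat_lit 5, nat_lit 11],
  [nat_lit 7, nat_lit 10, nat_lit 8, nat_lit 11, nat_lit 8],
  [nat_lit 11, nat_lit 13, nat_lit 11, nat_lit 8, nat_lit 12],
  [nat_lit 11, nat_lit 13, nat_lit 11, nat_lit 9, nat_lit 10, nat_lit 12],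
  [nat_lit 11, nat_lit 10, nat_lit 8, nat_lit 5, nat_lit 11],
  [nat_lit 6, nat_lit 9, nat_lit 13, nat_lit 12, nat_lit 10],
  [nat_lit 7, nat_lit 11, nat_lit 8, nat_lit 13, nat_lit 11, nat_lit 10, nat_lit 12],
  [nat_lit 10, nat_lit 8, nat_lit 5, nat_lit 11, nat_lit 8],
  [nat_lit 5, nat_lit 10],
  [nat_lit 5, nat_lit 10, nat_lit 8, nat_lit 11, nat_lit 8],
  [nat_lit 10, nat_lit 8, nat_lit 5, nat_lit 9],
  [nat_lit 10, nat_lit 11, nat_lit 13, nat_lit 12, nat_lit 11],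
  [nat_lit 11, nat_lit 12, nat_lit 11, nat_lit 12, nat_lit 11, nat_lit 13],
  [nat_lit 9, nat_lit 5, nat_lit 13, nat_lit 5, nat_lit 12],
  [nat_lit 6, nat_lit 11, nat_lit 8, nat_lit 10, nat_lit 13, nat_lit 12],
  [nat_lit 10, nat_lit 5, nat_lit 11, nat_lit 13, nat_lit 12, nat_lit 11],
  [nat_lit 10, nat_lit 9, nat_lit 11, nat_lit 5, nat_lit 9],
  [nat_lit 11, nat_lit 5, nat_lit 8, nat_lit 10, nat_lit 13, nat_lit 12],
  [nat_lit 7, nat_lit 10, nat_lit 9, nat_lit 11, nat_lit 9],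
  [nat_lit 5, nat_lit 9, nat_lit 13, nat_lit 5, nat_lit 12],
  [nat_lit 10, nat_lit 11, nat_lit 13, nat_lit 11, nat_lit 12, nat_lit 11],
  [nat_lit 5, nat_lit 8, nat_lit 5, nat_lit 9, nat_lit 11, nat_lit 10],
  [nat_lit 10, nat_lit 11, nat_lit 8],
  [nat_lit 10, nat_lit 5, nat_lit 11],
  [nat_lit 10, nat_lit 13, nat_lit 11, nat_lit 8, nat_lit 5, nat_lit 12],
  [nat_lit 10, nat_lit 5, nat_lit 11, nat_lit 8],
  [nat_lit 5, nat_lit 9, nat_lit 13, nat_lit 12, nat_lit 11, nat_lit 10],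
  [nat_lit 9, nat_lit 5, nat_lit 13, nat_lit 12, nat_lit 11, nat_lit 10],
  [nat_lit 10, nat_lit 5, nat_lit 11, nat_lit 9],
  [nat_lit 5, nat_lit 11, nat_lit 10, nat_lit 9, nat_lit 5],
  [nat_lit 5, nat_lit 10, nat_lit 11, nat_lit 13, nat_lit 12],
  [nat_lit 9, nat_lit 13, nat_lit 5, nat_lit 12, nat_lit 11],
  [nat_lit 5, nat_lit 10, nat_lit 11, nat_lit 8, nat_lit 13, nat_lit 12],
  [nat_lit 7, nat_lit 10, nat_lit 11, nat_lit 8, nat_lit 13, nat_lit 12],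
  [nat_lit 5, nat_lit 10, nat_lit 11, nat_lit 13, nat_lit 11, nat_lit 9, nat_lit 12],
  [nat_lit 5, nat_lit 10, nat_lit 11, nat_lit 13, nat_lit 11, nat_lit 12],
  [nat_lit 7, nat_lit 10, nat_lit 11, nat_lit 13, nat_lit 12],
  [nat_lit 11, nat_lit 10, nat_lit 8, nat_lit 5, nat_lit 13, nat_lit 12],
  [nat_lit 10, nat_lit 11, nat_lit 9],
  [nat_lit 7, nat_lit 11, nat_lit 10, nat_lit 9, nat_lit 5],
  [nat_lit 7, nat_lit 11, nat_lit 10, nat_lit 8, nat_lit 5],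
  [nat_lit 10, nat_lit 11, nat_lit 13, nat_lit 11, nat_lit 13],
  [nat_lit 10, nat_lit 11],
  [nat_lit 7, nat_lit 10, nat_lit 11, nat_lit 13, nat_lit 11, nat_lit 12],
  [nat_lit 5, nat_lit 11, nat_lit 10, nat_lit 8, nat_lit 5],
  [nat_lit 5, nat_lit 8, nat_lit 12, nat_lit 5, nat_lit 8, nat_lit 11],
  [nat_lit 12, nat_lit 5, nat_lit 10],
  [nat_lit 5, nat_lit 12, nat_lit 10, nat_lit 5],
  [nat_lit 9, nat_lit 12, nat_lit 13, nat_lit 5],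
  [nat_lit 9, nat_lit 11, nat_lit 5, nat_lit 12, nat_lit 11],
  [nat_lit 5, nat_lit 8, nat_lit 5, nat_lit 11, nat_lit 12, nat_lit 13],
  [nat_lit 5, nat_lit 10, nat_lit 12, nat_lit 11, nat_lit 13, nat_lit 11],
  [nat_lit 5, nat_lit 13, nat_lit 11, nat_lit 12, nat_lit 11, nat_lit 12, nat_lit 11],
  [nat_lit 6, nat_lit 8, nat_lit 11, nat_lit 5, nat_lit 12, nat_lit 13],
  [nat_lit 5, nat_lit 9, nat_lit 5, nat_lit 12, nat_lit 13, nat_lit 5],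
  [nat_lit 9, nat_lit 10, nat_lit 12, nat_lit 10, nat_lit 13],
  [nat_lit 6, nat_lit 8, nat_lit 11, nat_lit 12, nat_lit 13],
  [nat_lit 6, nat_lit 12, nat_lit 11, nat_lit 13, nat_lit 5, nat_lit 11],
  [nat_lit 5, nat_lit 9, nat_lit 11, nat_lit 12, nat_lit 11, nat_lit 10],
  [nat_lit 8, nat_lit 5, nat_lit 9, nat_lit 12, nat_lit 5],
  [nat_lit 7, nat_lit 13, nat_lit 11, nat_lit 12, nat_lit 11, nat_lit 12, nat_lit 11],
  [nat_lit 6, nat_lit 12, nat_lit 11, nat_lit 8, nat_lit 10],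
  [nat_lit 6, nat_lit 9, nat_lit 11, nat_lit 12, nat_lit 11],
  [nat_lit 5, nat_lit 12, nat_lit 5, nat_lit 8, nat_lit 13],
  [nat_lit 7, nat_lit 12, nat_lit 11, nat_lit 8],
  [nat_lit 6, nat_lit 9, nat_lit 5, nat_lit 8, nat_lit 12, nat_lit 5],
  [nat_lit 5, nat_lit 6, nat_lit 9, nat_lit 10, nat_lit 12, nat_lit 13],
  [nat_lit 9, nat_lit 5, nat_lit 10, nat_lit 9, nat_lit 12],
  [nat_lit 5, nat_lit 12, nat_lit 11, nat_lit 8],
  [nat_lit 5, nat_lit 10, nat_lit 9, nat_lit 12, nat_lit 12, nat_lit 11],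
  [nat_lit 5, nat_lit 10, nat_lit 9, nat_lit 13, nat_lit 5, nat_lit 10],
  [nat_lit 11, nat_lit 9, nat_lit 10, nat_lit 9, nat_lit 13],
  [nat_lit 11, nat_lit 5, nat_lit 13, nat_lit 11],
  [nat_lit 6, nat_lit 11, nat_lit 13, nat_lit 11],
  [nat_lit 11, nat_lit 13],
  [nat_lit 5, nat_lit 11, nat_lit 10, nat_lit 12, nat_lit 12, nat_lit 10],
  [nat_lit 11, nat_lit 10, nat_lit 12, nat_lit 5, nat_lit 12, nat_lit 11],
  [nat_lit 12, nat_lit 12, nat_lit 5, nat_lit 9],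
  [nat_lit 10, nat_lit 12, nat_lit 12, nat_lit 10, nat_lit 11, nat_lit 8],
  [nat_lit 8, nat_lit 10, nat_lit 8, nat_lit 13, nat_lit 5],
  [nat_lit 10, nat_lit 11, nat_lit 12, nat_lit 5, nat_lit 12],
  [nat_lit 10, nat_lit 12, nat_lit 5, nat_lit 8, nat_lit 12],
  [nat_lit 9, nat_lit 13, nat_lit 5, nat_lit 10, nat_lit 11, nat_lit 8],
  [nat_lit 5, nat_lit 10, nat_lit 11, nat_lit 12, nat_lit 12, nat_lit 10, nat_lit 11],
  [nat_lit 5, nat_lit 12, nat_lit 5, nat_lit 8, nat_lit 11, nat_lit 12],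
  [nat_lit 9, nat_lit 10, nat_lit 13, nat_lit 5, nat_lit 8, nat_lit 11],
  [nat_lit 8, nat_lit 10, nat_lit 13, nat_lit 11, nat_lit 9, nat_lit 5],
  [nat_lit 5, nat_lit 7, nat_lit 11, nat_lit 13],
  [nat_lit 11, nat_lit 8, nat_lit 10, nat_lit 5, nat_lit 8, nat_lit 13],
  [nat_lit 12, nat_lit 5, nat_lit 8, nat_lit 11, nat_lit 10, nat_lit 12],
  [nat_lit 10, nat_lit 11, nat_lit 8, nat_lit 10, nat_lit 5, nat_lit 13],
  [nat_lit 10, nat_lit 12, nat_lit 10, nat_lit 9, nat_lit 12],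
  [nat_lit 5, nat_lit 10, nat_lit 9, nat_lit 5, nat_lit 12, nat_lit 12],
  [nat_lit 5, nat_lit 7, nat_lit 12],
  [nat_lit 5, nat_lit 8, nat_lit 11, nat_lit 12, nat_lit 13, nat_lit 5],
  [nat_lit 9, nat_lit 5, nat_lit 12, nat_lit 13, nat_lit 5, nat_lit 9, nat_lit 11],
  [nat_lit 8, nat_lit 12, nat_lit 10, nat_lit 9],
  [nat_lit 8, nat_lit 10, nat_lit 11, nat_lit 12, nat_lit 13],
  [nat_lit 5, nat_lit 12, nat_lit 11, nat_lit 8, nat_lit 10, nat_lit 5],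
  [nat_lit 5, nat_lit 8, nat_lit 5, nat_lit 11, nat_lit 10, nat_lit 12, nat_lit 13],
  [nat_lit 6, nat_lit 12, nat_lit 5, nat_lit 9, nat_lit 11],
  [nat_lit 8, nat_lit 5, nat_lit 10, nat_lit 11, nat_lit 8, nat_lit 12],
  [nat_lit 5, nat_lit 12, nat_lit 10, nat_lit 9, nat_lit 13],
  [nat_lit 12, nat_lit 11, nat_lit 8, nat_lit 5, nat_lit 10],
  [nat_lit 8, nat_lit 11, nat_lit 10, nat_lit 12, nat_lit 10, nat_lit 13],
  [nat_lit 12, nat_lit 10, nat_lit 5, nat_lit 9, nat_lit 11],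
  [nat_lit 6, nat_lit 12, nat_lit 11, nat_lit 8, nat_lit 5],
  [nat_lit 12, nat_lit 5, nat_lit 9, nat_lit 11, nat_lit 10],
  [nat_lit 8, nat_lit 5, nat_lit 12, nat_lit 5, nat_lit 9, nat_lit 11, nat_lit 13],
  [nat_lit 6, nat_lit 9, nat_lit 12, nat_lit 10, nat_lit 8],
  [nat_lit 6, nat_lit 12, nat_lit 11, nat_lit 13, nat_lit 11],
  [nat_lit 6, nat_lit 9, nat_lit 5, nat_lit 12, nat_lit 13],
  [nat_lit 12, nat_lit 10, nat_lit 11, nat_lit 8, nat_lit 5],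
  [nat_lit 12, nat_lit 10, nat_lit 11, nat_lit 13, nat_lit 11],
  [nat_lit 5, nat_lit 6, nat_lit 9, nat_lit 12, nat_lit 13],
  [nat_lit 12],
  [nat_lit 5, nat_lit 9, nat_lit 12, nat_lit 10, nat_lit 13],
  [nat_lit 10, nat_lit 11, nat_lit 12, nat_lit 12, nat_lit 10],
  [nat_lit 5, nat_lit 10, nat_lit 9, nat_lit 12, nat_lit 10, nat_lit 12],
  [nat_lit 10, nat_lit 12, nat_lit 5, nat_lit 12, nat_lit 11, nat_lit 8],
  [nat_lit 10, nat_lit 5, nat_lit 9, nat_lit 12, nat_lit 12],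
  [nat_lit 5, nat_lit 8, nat_lit 11, nat_lit 12, nat_lit 11, nat_lit 12],
  [nat_lit 5, nat_lit 11, nat_lit 10, nat_lit 12, nat_lit 5, nat_lit 12],
  [nat_lit 8, nat_lit 5, nat_lit 10, nat_lit 8, nat_lit 13, nat_lit 5],
  [nat_lit 9, nat_lit 13, nat_lit 5, nat_lit 10, nat_lit 8],
  [nat_lit 5, nat_lit 11, nat_lit 13, nat_lit 11],
  [nat_lit 5, nat_lit 12, nat_lit 12, nat_lit 5, nat_lit 9, nat_lit 11],
  [nat_lit 10, nat_lit 9, nat_lit 12, nat_lit 12],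
  [nat_lit 8, nat_lit 11, nat_lit 12, nat_lit 11, nat_lit 10, nat_lit 12],
  [nat_lit 10, nat_lit 8, nat_lit 11, nat_lit 12, nat_lit 12],
  [nat_lit 10, nat_lit 11, nat_lit 12, nat_lit 12, nat_lit 11, nat_lit 10],
  [nat_lit 5, nat_lit 10, nat_lit 11, nat_lit 12, nat_lit 5, nat_lit 12, nat_lit 11],
  [nat_lit 5, nat_lit 11, nat_lit 5, nat_lit 13],
  [nat_lit 9, nat_lit 5, nat_lit 10, nat_lit 13, nat_lit 5, nat_lit 8],
  [nat_lit 7, nat_lit 11, nat_lit 13, nat_lit 11],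
  [nat_lit 11, nat_lit 10, nat_lit 8, nat_lit 5, nat_lit 10, nat_lit 13],
  [nat_lit 5, nat_lit 10, nat_lit 11, nat_lit 9, nat_lit 10, nat_lit 13],
  [nat_lit 5, nat_lit 6, nat_lit 11, nat_lit 13],
  [nat_lit 6, nat_lit 10, nat_lit 9, nat_lit 13, nat_lit 5, nat_lit 10],
  [nat_lit 5, nat_lit 9, nat_lit 10, nat_lit 13, nat_lit 5, nat_lit 8],
  [nat_lit 8, nat_lit 10, nat_lit 8, nat_lit 5, nat_lit 13, nat_lit 5],
  [nat_lit 10, nat_lit 9, nat_lit 13, nat_lit 11, nat_lit 12],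
  [nat_lit 11],
  [nat_lit 10, nat_lit 11, nat_lit 8, nat_lit 10, nat_lit 5],
  [nat_lit 5, nat_lit 7, nat_lit 11],
  [nat_lit 5, nat_lit 7, nat_lit 11, nat_lit 8, nat_lit 10, nat_lit 8],
  [nat_lit 5, nat_lit 11, nat_lit 10, nat_lit 13, nat_lit 5, nat_lit 11, nat_lit 12],
  [nat_lit 5, nat_lit 11, nat_lit 10, nat_lit 13, nat_lit 12, nat_lit 10],
  [nat_lit 10, nat_lit 11, nat_lit 13, nat_lit 5, nat_lit 12],
  [nat_lit 13, nat_lit 5, nat_lit 10, nat_lit 11, nat_lit 9, nat_lit 12],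
  [nat_lit 11, nat_lit 9, nat_lit 5, nat_lit 8],
  [nat_lit 5, nat_lit 7, nat_lit 11, nat_lit 9, nat_lit 10, nat_lit 9],
  [nat_lit 5, nat_lit 9, nat_lit 13, nat_lit 12, nat_lit 11, nat_lit 5],
  [nat_lit 12, nat_lit 12, nat_lit 5, nat_lit 9, nat_lit 13],
  [nat_lit 5, nat_lit 13, nat_lit 5, nat_lit 10, nat_lit 9, nat_lit 12],
  [nat_lit 10, nat_lit 8, nat_lit 11, nat_lit 13, nat_lit 11, nat_lit 12],
  [nat_lit 11, nat_lit 8, nat_lit 10, nat_lit 5, nat_lit 8],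
  [nat_lit 11, nat_lit 8, nat_lit 10, nat_lit 8],
  [nat_lit 11, nat_lit 9, nat_lit 10, nat_lit 9],
  [nat_lit 13, nat_lit 11, nat_lit 13, nat_lit 11],
  [nat_lit 10, nat_lit 11, nat_lit 13, nat_lit 11, nat_lit 5, nat_lit 12],
  [nat_lit 5, nat_lit 10, nat_lit 13, nat_lit 11, nat_lit 8, nat_lit 12],
  [nat_lit 10, nat_lit 11, nat_lit 9, nat_lit 10, nat_lit 5],
  [nat_lit 10, nat_lit 13, nat_lit 5, nat_lit 9, nat_lit 12],
  [nat_lit 11, nat_lit 9, nat_lit 5, nat_lit 10, nat_lit 9],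
  [nat_lit 5, nat_lit 6, nat_lit 8, nat_lit 10, nat_lit 12],
  [nat_lit 6, nat_lit 9, nat_lit 12, nat_lit 13, nat_lit 5, nat_lit 11],
  [nat_lit 8, nat_lit 5, nat_lit 10, nat_lit 12],
  [nat_lit 12, nat_lit 13, nat_lit 11, nat_lit 10, nat_lit 9],
  [nat_lit 6, nat_lit 7, nat_lit 8, nat_lit 10, nat_lit 12],
  [nat_lit 5, nat_lit 9, nat_lit 5, nat_lit 11, nat_lit 12],
  [nat_lit 5, nat_lit 12, nat_lit 13, nat_lit 11, nat_lit 9, nat_lit 10],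
  [nat_lit 5, nat_lit 9, nat_lit 10, nat_lit 12, nat_lit 13, nat_lit 11],
  [nat_lit 9, nat_lit 5, nat_lit 8, nat_lit 12, nat_lit 5, nat_lit 11],
  [nat_lit 8, nat_lit 5, nat_lit 12, nat_lit 5, nat_lit 13],
  [nat_lit 12, nat_lit 13, nat_lit 11, nat_lit 9],
  [nat_lit 5, nat_lit 6, nat_lit 13, nat_lit 11, nat_lit 12, nat_lit 11, nat_lit 12],
  [nat_lit 5, nat_lit 9, nat_lit 10, nat_lit 12, nat_lit 10, nat_lit 8, nat_lit 5],
  [nat_lit 12, nat_lit 11, nat_lit 13, nat_lit 5],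
  [nat_lit 9, nat_lit 11, nat_lit 12],
  [nat_lit 5, nat_lit 9, nat_lit 10, nat_lit 5, nat_lit 12, nat_lit 13, nat_lit 11],
  [nat_lit 8, nat_lit 5, nat_lit 10, nat_lit 9, nat_lit 12, nat_lit 13],
  [nat_lit 9, nat_lit 5, nat_lit 10, nat_lit 12, nat_lit 13, nat_lit 11],
  [nat_lit 6, nat_lit 12, nat_lit 11, nat_lit 5],
  [nat_lit 5, nat_lit 12, nat_lit 5, nat_lit 11],
  [nat_lit 5, nat_lit 7, nat_lit 9, nat_lit 11, nat_lit 12],
  [nat_lit 6, nat_lit 9, nat_lit 11, nat_lit 5, nat_lit 12],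
  [nat_lit 10, nat_lit 12, nat_lit 10, nat_lit 11, nat_lit 13],
  [nat_lit 5, nat_lit 8, nat_lit 10, nat_lit 5, nat_lit 12],
  [nat_lit 12, nat_lit 13, nat_lit 11, nat_lit 10, nat_lit 8],
  [nat_lit 10, nat_lit 12, nat_lit 10, nat_lit 11],
  [nat_lit 5, nat_lit 6, nat_lit 8, nat_lit 12, nat_lit 5],
  [nat_lit 6, nat_lit 12, nat_lit 11, nat_lit 5, nat_lit 13],
  [nat_lit 12, nat_lit 10, nat_lit 8, nat_lit 5, nat_lit 10],
  [nat_lit 6, nat_lit 12, nat_lit 11, nat_lit 5, nat_lit 9],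
  [nat_lit 8, nat_lit 12, nat_lit 13, nat_lit 5],
  [nat_lit 8, nat_lit 5, nat_lit 10, nat_lit 12, nat_lit 13],
  [nat_lit 5, nat_lit 9, nat_lit 5, nat_lit 11, nat_lit 12, nat_lit 13],
  [nat_lit 8, nat_lit 5, nat_lit 12, nat_lit 5],
  [nat_lit 5, nat_lit 12, nat_lit 5, nat_lit 11, nat_lit 13],
  [nat_lit 9, nat_lit 5, nat_lit 8, nat_lit 12, nat_lit 5, nat_lit 11, nat_lit 13],
  [nat_lit 13, nat_lit 5, nat_lit 10, nat_lit 11, nat_lit 12, nat_lit 11, nat_lit 12],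
  [nat_lit 6, nat_lit 9, nat_lit 11, nat_lit 5, nat_lit 12, nat_lit 13],
  [nat_lit 9, nat_lit 11, nat_lit 9, nat_lit 12],
  [nat_lit 5, nat_lit 8, nat_lit 10, nat_lit 5, nat_lit 12, nat_lit 13],
  [nat_lit 12, nat_lit 5, nat_lit 11, nat_lit 9, nat_lit 10],
  [nat_lit 5, nat_lit 8, nat_lit 10, nat_lit 5, nat_lit 9, nat_lit 12],
  [nat_lit 5, nat_lit 6, nat_lit 12, nat_lit 11, nat_lit 5, nat_lit 9, nat_lit 10],
  [nat_lit 5, nat_lit 12, nat_lit 5, nat_lit 11, nat_lit 9],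
  [nat_lit 8, nat_lit 5, nat_lit 10, nat_lit 9, nat_lit 12],
  [nat_lit 9, nat_lit 11, nat_lit 12, nat_lit 13],
  [nat_lit 5, nat_lit 6, nat_lit 8, nat_lit 10, nat_lit 12, nat_lit 13],
  [nat_lit 6, nat_lit 7, nat_lit 10, nat_lit 12, nat_lit 11],
  [nat_lit 5, nat_lit 10, nat_lit 9, nat_lit 12, nat_lit 12],
  [nat_lit 8, nat_lit 13, nat_lit 11, nat_lit 10, nat_lit 9, nat_lit 5],
  [nat_lit 10, nat_lit 12, nat_lit 12, nat_lit 11, nat_lit 10, nat_lit 8],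
  [nat_lit 10, nat_lit 11, nat_lit 9, nat_lit 10, nat_lit 13],
  [nat_lit 5, nat_lit 9, nat_lit 13, nat_lit 5, nat_lit 10, nat_lit 8],
  [nat_lit 11, nat_lit 5, nat_lit 13],
  [nat_lit 11, nat_lit 10, nat_lit 12, nat_lit 5, nat_lit 12],
  [nat_lit 10, nat_lit 11, nat_lit 12, nat_lit 5, nat_lit 12, nat_lit 11],
  [nat_lit 8, nat_lit 11, nat_lit 12, nat_lit 11, nat_lit 12],
  [nat_lit 8, nat_lit 10, nat_lit 8, nat_lit 13, nat_lit 5, nat_lit 11],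
  [nat_lit 12, nat_lit 12, nat_lit 5, nat_lit 9, nat_lit 11],
  [nat_lit 10, nat_lit 11, nat_lit 13, nat_lit 11, nat_lit 9, nat_lit 10],
  [nat_lit 11, nat_lit 13, nat_lit 11],
  [nat_lit 5, nat_lit 10, nat_lit 8, nat_lit 11, nat_lit 12, nat_lit 12],
  [nat_lit 5, nat_lit 10, nat_lit 11, nat_lit 12, nat_lit 12, nat_lit 10],
  [nat_lit 8, nat_lit 11, nat_lit 5, nat_lit 12, nat_lit 11, nat_lit 12],
  [nat_lit 8, nat_lit 10, nat_lit 5, nat_lit 8, nat_lit 13, nat_lit 5],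
  [nat_lit 9, nat_lit 5, nat_lit 13, nat_lit 5, nat_lit 10, nat_lit 8],
  [nat_lit 5, nat_lit 7, nat_lit 11, nat_lit 13, nat_lit 11],
  [nat_lit 5, nat_lit 10, nat_lit 11, nat_lit 12, nat_lit 12, nat_lit 11, nat_lit 10],
  [nat_lit 6, nat_lit 11, nat_lit 13],
  [nat_lit 9, nat_lit 10, nat_lit 13, nat_lit 5, nat_lit 8],
  [nat_lit 10, nat_lit 9, nat_lit 12, nat_lit 10, nat_lit 12],
  [nat_lit 6, nat_lit 12, nat_lit 12, nat_lit 5, nat_lit 9],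
  [nat_lit 5, nat_lit 7, nat_lit 11, nat_lit 12, nat_lit 13],
  [nat_lit 10, nat_lit 12, nat_lit 10, nat_lit 9],
  [nat_lit 5, nat_lit 12, nat_lit 5, nat_lit 8, nat_lit 11],
  [nat_lit 5, nat_lit 10, nat_lit 8, nat_lit 5, nat_lit 12, nat_lit 5, nat_lit 9],
  [nat_lit 12, nat_lit 11, nat_lit 8, nat_lit 13, nat_lit 11, nat_lit 10],
  [nat_lit 11, nat_lit 12, nat_lit 13],
  [nat_lit 5, nat_lit 12, nat_lit 11, nat_lit 8, nat_lit 13, nat_lit 11],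
  [nat_lit 9, nat_lit 12, nat_lit 11, nat_lit 5, nat_lit 13],
  [nat_lit 5, nat_lit 9, nat_lit 5, nat_lit 12, nat_lit 11, nat_lit 5, nat_lit 13],
  [nat_lit 9, nat_lit 12, nat_lit 5, nat_lit 10, nat_lit 8, nat_lit 13],
  [nat_lit 9, nat_lit 12, nat_lit 5, nat_lit 10, nat_lit 11, nat_lit 13],
  [nat_lit 10, nat_lit 11, nat_lit 12, nat_lit 5],
  [nat_lit 10, nat_lit 5, nat_lit 11, nat_lit 12, nat_lit 5],
  [nat_lit 5, nat_lit 8, nat_lit 5, nat_lit 11, nat_lit 12, nat_lit 11],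
  [nat_lit 8, nat_lit 5, nat_lit 12, nat_lit 5, nat_lit 11, nat_lit 9],
  [nat_lit 11, nat_lit 12, nat_lit 11, nat_lit 8, nat_lit 13],
  [nat_lit 6, nat_lit 7, nat_lit 10, nat_lit 9, nat_lit 12],
  [nat_lit 12, nat_lit 5, nat_lit 8, nat_lit 11, nat_lit 10],
  [nat_lit 5, nat_lit 11, nat_lit 12, nat_lit 11, nat_lit 8, nat_lit 10, nat_lit 13],
  [nat_lit 6, nat_lit 10, nat_lit 9, nat_lit 12, nat_lit 10],
  [nat_lit 6, nat_lit 11, nat_lit 13, nat_lit 11, nat_lit 12, nat_lit 12],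
  [nat_lit 10, nat_lit 12, nat_lit 5, nat_lit 8],
  [nat_lit 5, nat_lit 10, nat_lit 9, nat_lit 5, nat_lit 12],
  [nat_lit 5, nat_lit 6, nat_lit 9, nat_lit 12, nat_lit 5, nat_lit 11, nat_lit 13],
  [nat_lit 10, nat_lit 5, nat_lit 8, nat_lit 12],
  [nat_lit 5, nat_lit 10, nat_lit 11, nat_lit 12, nat_lit 11, nat_lit 13],
  [nat_lit 10, nat_lit 12, nat_lit 10, nat_lit 5],
  [nat_lit 5, nat_lit 9, nat_lit 10, nat_lit 5, nat_lit 12, nat_lit 5, nat_lit 13],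
  [nat_lit 9, nat_lit 5, nat_lit 10, nat_lit 12, nat_lit 5, nat_lit 13],
  [nat_lit 8, nat_lit 5, nat_lit 12, nat_lit 13, nat_lit 11],
  [nat_lit 5, nat_lit 10, nat_lit 12, nat_lit 5, nat_lit 10],
  [nat_lit 11, nat_lit 12, nat_lit 11, nat_lit 13, nat_lit 5],
  [nat_lit 6, nat_lit 10, nat_lit 9, nat_lit 5, nat_lit 11, nat_lit 12],
  [nat_lit 5, nat_lit 8, nat_lit 12, nat_lit 13, nat_lit 11, nat_lit 10],
  [nat_lit 10, nat_lit 12, nat_lit 5, nat_lit 9, nat_lit 10, nat_lit 8],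
  [nat_lit 11, nat_lit 9, nat_lit 12, nat_lit 13, nat_lit 5],
  [nat_lit 7, nat_lit 11, nat_lit 13, nat_lit 11, nat_lit 12, nat_lit 11, nat_lit 12],
  [nat_lit 8, nat_lit 5, nat_lit 9, nat_lit 10, nat_lit 12, nat_lit 5],
  [nat_lit 10, nat_lit 9, nat_lit 11, nat_lit 12],
  [nat_lit 5, nat_lit 10, nat_lit 9, nat_lit 11, nat_lit 5, nat_lit 12],
  [nat_lit 8, nat_lit 12, nat_lit 10, nat_lit 11],
  [nat_lit 8, nat_lit 11, nat_lit 12, nat_lit 5, nat_lit 13],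
  [nat_lit 5, nat_lit 6, nat_lit 8, nat_lit 12, nat_lit 13, nat_lit 11],
  [nat_lit 8, nat_lit 12, nat_lit 11],
  [nat_lit 5, nat_lit 11, nat_lit 13, nat_lit 11, nat_lit 12, nat_lit 11, nat_lit 12],
  [nat_lit 10, nat_lit 5, nat_lit 9, nat_lit 11, nat_lit 12],
  [nat_lit 5, nat_lit 10, nat_lit 8, nat_lit 5, nat_lit 12],
  [nat_lit 5, nat_lit 9, nat_lit 10, nat_lit 12, nat_lit 5, nat_lit 13],
  [nat_lit 6, nat_lit 13, nat_lit 5, nat_lit 11, nat_lit 12, nat_lit 12],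
  [nat_lit 9, nat_lit 5, nat_lit 10, nat_lit 12],
  [nat_lit 5, nat_lit 9, nat_lit 5, nat_lit 11, nat_lit 12, nat_lit 11, nat_lit 13],
  [nat_lit 9, nat_lit 11, nat_lit 5, nat_lit 12, nat_lit 11, nat_lit 8],
  [nat_lit 7, nat_lit 12, nat_lit 5, nat_lit 13],
  [nat_lit 8, nat_lit 11, nat_lit 12],
  [nat_lit 5, nat_lit 7, nat_lit 9, nat_lit 11, nat_lit 12, nat_lit 11, nat_lit 13],
  [nat_lit 5, nat_lit 13, nat_lit 11, nat_lit 5, nat_lit 12, nat_lit 12],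
  [nat_lit 9, nat_lit 11, nat_lit 12, nat_lit 11, nat_lit 13],
  [nat_lit 9, nat_lit 10, nat_lit 12, nat_lit 10, nat_lit 9, nat_lit 13],
  [nat_lit 12, nat_lit 11, nat_lit 8, nat_lit 10, nat_lit 13],
  [nat_lit 6, nat_lit 9, nat_lit 11, nat_lit 5, nat_lit 12, nat_lit 11, nat_lit 13],
  [nat_lit 8, nat_lit 10, nat_lit 12, nat_lit 5, nat_lit 10, nat_lit 9],
  [nat_lit 5, nat_lit 10, nat_lit 11, nat_lit 12, nat_lit 11, nat_lit 5],
  [nat_lit 7, nat_lit 9, nat_lit 10, nat_lit 12],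
  [nat_lit 8, nat_lit 10, nat_lit 12, nat_lit 5, nat_lit 9],
  [nat_lit 8, nat_lit 11, nat_lit 5, nat_lit 12],
  [nat_lit 5, nat_lit 6, nat_lit 8, nat_lit 5, nat_lit 11, nat_lit 12],
  [nat_lit 8, nat_lit 12, nat_lit 11, nat_lit 13, nat_lit 5],
  [nat_lit 12, nat_lit 5, nat_lit 10, nat_lit 8],
  [nat_lit 5, nat_lit 6, nat_lit 12, nat_lit 11, nat_lit 8, nat_lit 13],
  [nat_lit 5, nat_lit 9, nat_lit 10, nat_lit 5, nat_lit 12],
  [nat_lit 5, nat_lit 9, nat_lit 10, nat_lit 12],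
  [nat_lit 5, nat_lit 12, nat_lit 5, nat_lit 13],
  [nat_lit 9, nat_lit 11, nat_lit 12, nat_lit 12, nat_lit 11],
  [nat_lit 9, nat_lit 5, nat_lit 11, nat_lit 12, nat_lit 12],
  [nat_lit 6, nat_lit 8, nat_lit 10, nat_lit 9, nat_lit 13],
  [nat_lit 6, nat_lit 12, nat_lit 11, nat_lit 5, nat_lit 12, nat_lit 11],
  [nat_lit 13, nat_lit 11, nat_lit 5, nat_lit 8, nat_lit 10],
  [nat_lit 5, nat_lit 9, nat_lit 11, nat_lit 9, nat_lit 13],
  [nat_lit 12, nat_lit 5, nat_lit 11, nat_lit 12],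
  [nat_lit 13, nat_lit 5, nat_lit 8, nat_lit 10],
  [nat_lit 6, nat_lit 8, nat_lit 13, nat_lit 5],
  [nat_lit 7, nat_lit 9, nat_lit 11, nat_lit 12, nat_lit 12],
  [nat_lit 5, nat_lit 9, nat_lit 11, nat_lit 12, nat_lit 12],
  [nat_lit 5, nat_lit 12, nat_lit 5, nat_lit 11, nat_lit 12, nat_lit 11],
  [nat_lit 8, nat_lit 10, nat_lit 9, nat_lit 5, nat_lit 13],
  [nat_lit 8, nat_lit 13, nat_lit 11, nat_lit 5],
  [nat_lit 5, nat_lit 7, nat_lit 13, nat_lit 5, nat_lit 8, nat_lit 10],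
  [nat_lit 8, nat_lit 11, nat_lit 8, nat_lit 5, nat_lit 10, nat_lit 13],
  [nat_lit 6, nat_lit 13, nat_lit 11, nat_lit 9, nat_lit 5],
  [nat_lit 8, nat_lit 10, nat_lit 5, nat_lit 9, nat_lit 13],
  [nat_lit 8, nat_lit 13, nat_lit 11, nat_lit 10, nat_lit 8],
  [nat_lit 6, nat_lit 8, nat_lit 10, nat_lit 12, nat_lit 12],
  [nat_lit 5, nat_lit 8, nat_lit 12, nat_lit 12, nat_lit 5],
  [nat_lit 12, nat_lit 11, nat_lit 10, nat_lit 12, nat_lit 10],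
  [nat_lit 8, nat_lit 10, nat_lit 5, nat_lit 12, nat_lit 12],
  [nat_lit 5, nat_lit 8, nat_lit 5, nat_lit 10, nat_lit 12, nat_lit 12],
  [nat_lit 5, nat_lit 10, nat_lit 8, nat_lit 5],
  [nat_lit 10, nat_lit 9, nat_lit 11],
  [nat_lit 10, nat_lit 5, nat_lit 9, nat_lit 11],
  [nat_lit 6, nat_lit 11, nat_lit 8, nat_lit 5, nat_lit 13, nat_lit 12],
  [nat_lit 5, nat_lit 6, nat_lit 11, nat_lit 8, nat_lit 13, nat_lit 12],
  [nat_lit 10, nat_lit 5, nat_lit 8],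
  [nat_lit 8, nat_lit 11, nat_lit 13, nat_lit 5, nat_lit 12],
  [nat_lit 6, nat_lit 8, nat_lit 5, nat_lit 11, nat_lit 9, nat_lit 10],
  [nat_lit 5, nat_lit 8, nat_lit 11, nat_lit 9, nat_lit 10],
  [nat_lit 5, nat_lit 6, nat_lit 11, nat_lit 13, nat_lit 12, nat_lit 11],
  [nat_lit 9, nat_lit 5, nat_lit 10, nat_lit 13, nat_lit 5, nat_lit 12],
  [nat_lit 5, nat_lit 11, nat_lit 13, nat_lit 11, nat_lit 12, nat_lit 11],
  [nat_lit 9, nat_lit 13, nat_lit 5, nat_lit 10, nat_lit 12],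
  [nat_lit 5, nat_lit 11, nat_lit 5, nat_lit 13, nat_lit 12, nat_lit 11],
  [nat_lit 13, nat_lit 11, nat_lit 8, nat_lit 5, nat_lit 10, nat_lit 12],
  [nat_lit 7, nat_lit 10, nat_lit 8, nat_lit 5],
  [nat_lit 10, nat_lit 8, nat_lit 11, nat_lit 9],
  [nat_lit 5, nat_lit 8, nat_lit 11, nat_lit 5, nat_lit 9, nat_lit 10],
  [nat_lit 5, nat_lit 10, nat_lit 9, nat_lit 11, nat_lit 5],
  [nat_lit 6, nat_lit 10, nat_lit 9, nat_lit 5, nat_lit 11],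
  [nat_lit 11, nat_lit 8, nat_lit 13, nat_lit 11, nat_lit 12],
  [nat_lit 5, nat_lit 9, nat_lit 10, nat_lit 13, nat_lit 5, nat_lit 12],
  [nat_lit 7, nat_lit 11, nat_lit 13, nat_lit 11, nat_lit 12, nat_lit 11],
  [nat_lit 10, nat_lit 8],
  [nat_lit 5, nat_lit 10, nat_lit 11, nat_lit 9],
  [nat_lit 11, nat_lit 10, nat_lit 9, nat_lit 5, nat_lit 9],
  [nat_lit 7, nat_lit 10, nat_lit 11],
  [nat_lit 7, nat_lit 10, nat_lit 11, nat_lit 8],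
  [nat_lit 9, nat_lit 5, nat_lit 8, nat_lit 10, nat_lit 11],
  [nat_lit 10, nat_lit 11, nat_lit 13, nat_lit 11, nat_lit 12],
  [nat_lit 10, nat_lit 11, nat_lit 13, nat_lit 11, nat_lit 9, nat_lit 12],
  [nat_lit 10, nat_lit 11, nat_lit 8, nat_lit 13, nat_lit 12],
  [nat_lit 11, nat_lit 10, nat_lit 8, nat_lit 5, nat_lit 8],
  [nat_lit 10, nat_lit 5, nat_lit 11, nat_lit 13, nat_lit 11, nat_lit 12],
  [nat_lit 8, nat_lit 5, nat_lit 9, nat_lit 11, nat_lit 10],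
  [nat_lit 5, nat_lit 10, nat_lit 11],
  [nat_lit 5, nat_lit 10, nat_lit 11, nat_lit 8],
  [nat_lit 11, nat_lit 10, nat_lit 8, nat_lit 5],
  [nat_lit 10, nat_lit 11, nat_lit 13, nat_lit 12],
  [nat_lit 10, nat_lit 11, nat_lit 8, nat_lit 13, nat_lit 11, nat_lit 12],
  [nat_lit 9, nat_lit 13, nat_lit 12, nat_lit 11, nat_lit 10],
  [nat_lit 9, nat_lit 5, nat_lit 13, nat_lit 5, nat_lit 12, nat_lit 11],
  [nat_lit 10, nat_lit 5, nat_lit 11, nat_lit 13, nat_lit 12],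
  [nat_lit 11, nat_lit 10, nat_lit 9, nat_lit 5],
  [nat_lit 10, nat_lit 11, nat_lit 13, nat_lit 11, nat_lit 8, nat_lit 12],
  [nat_lit 7, nat_lit 10, nat_lit 11, nat_lit 9],
  [nat_lit 10, nat_lit 5, nat_lit 11, nat_lit 8, nat_lit 13, nat_lit 12],
  [nat_lit 5, nat_lit 9, nat_lit 13, nat_lit 5, nat_lit 12, nat_lit 11],
  [nat_lit 5, nat_lit 13, nat_lit 11, nat_lit 10, nat_lit 8, nat_lit 5],
  [nat_lit 5, nat_lit 10, nat_lit 9, nat_lit 13, nat_lit 5],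
  [nat_lit 11, nat_lit 10, nat_lit 13, nat_lit 11, nat_lit 9],
  [nat_lit 5, nat_lit 7, nat_lit 11, nat_lit 10, nat_lit 13],
  [nat_lit 11, nat_lit 10, nat_lit 8, nat_lit 13],
  [nat_lit 11, nat_lit 5, nat_lit 13, nat_lit 11, nat_lit 10],
  [nat_lit 5, nat_lit 11, nat_lit 8, nat_lit 12, nat_lit 11, nat_lit 12],
  [nat_lit 5, nat_lit 11, nat_lit 10, nat_lit 12, nat_lit 12, nat_lit 11],
  [nat_lit 10, nat_lit 9, nat_lit 12, nat_lit 5, nat_lit 12],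
  [nat_lit 6, nat_lit 11, nat_lit 12, nat_lit 12, nat_lit 5],
  [nat_lit 10, nat_lit 9, nat_lit 12, nat_lit 5, nat_lit 12, nat_lit 11],
  [nat_lit 5, nat_lit 11, nat_lit 8, nat_lit 12, nat_lit 11, nat_lit 10, nat_lit 12],
  [nat_lit 5, nat_lit 11, nat_lit 10, nat_lit 12, nat_lit 12],
  [nat_lit 5, nat_lit 11, nat_lit 10, nat_lit 9, nat_lit 12, nat_lit 12],
  [nat_lit 11, nat_lit 10, nat_lit 8, nat_lit 13, nat_lit 11],
  [nat_lit 10, nat_lit 9, nat_lit 12, nat_lit 5, nat_lit 10, nat_lit 12],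
  [nat_lit 6, nat_lit 11, nat_lit 12, nat_lit 12, nat_lit 5, nat_lit 8],
  [nat_lit 11, nat_lit 10, nat_lit 13, nat_lit 11, nat_lit 8],
  [nat_lit 11, nat_lit 10, nat_lit 13, nat_lit 11],
  [nat_lit 6, nat_lit 11, nat_lit 12, nat_lit 12, nat_lit 5, nat_lit 11],
  [nat_lit 10, nat_lit 11, nat_lit 8, nat_lit 5, nat_lit 12, nat_lit 12],
  [nat_lit 11, nat_lit 10, nat_lit 13],
  [nat_lit 11, nat_lit 10, nat_lit 9, nat_lit 13],
  [nat_lit 5, nat_lit 7, nat_lit 11, nat_lit 10, nat_lit 8, nat_lit 13],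
  [nat_lit 11, nat_lit 5, nat_lit 13, nat_lit 12],
  [nat_lit 11, nat_lit 5, nat_lit 8, nat_lit 13, nat_lit 12, nat_lit 11],
  [nat_lit 11, nat_lit 13, nat_lit 12, nat_lit 11, nat_lit 8, nat_lit 5],
  [nat_lit 6, nat_lit 11, nat_lit 13, nat_lit 12, nat_lit 11, nat_lit 8],
  [nat_lit 10, nat_lit 8, nat_lit 5, nat_lit 8],
  [nat_lit 5, nat_lit 13, nat_lit 12, nat_lit 11, nat_lit 8, nat_lit 10],
  [nat_lit 7, nat_lit 11, nat_lit 8, nat_lit 13, nat_lit 11, nat_lit 12, nat_lit 11],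
  [nat_lit 6, nat_lit 11, nat_lit 8, nat_lit 13, nat_lit 12, nat_lit 11],
  [nat_lit 8, nat_lit 11, nat_lit 5, nat_lit 9, nat_lit 10, nat_lit 11],
  [nat_lit 5, nat_lit 7, nat_lit 11, nat_lit 13, nat_lit 11, nat_lit 12],
  [nat_lit 6, nat_lit 11, nat_lit 13, nat_lit 12],
  [nat_lit 10, nat_lit 8, nat_lit 5, nat_lit 11],
  [nat_lit 5, nat_lit 10, nat_lit 8, nat_lit 11],
  [nat_lit 5, nat_lit 10, nat_lit 9],
  [nat_lit 5, nat_lit 10, nat_lit 9, nat_lit 11, nat_lit 8],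
  [nat_lit 11, nat_lit 13, nat_lit 11, nat_lit 12, nat_lit 11, nat_lit 8],
  [nat_lit 9, nat_lit 11, nat_lit 5, nat_lit 8, nat_lit 10],
  [nat_lit 7, nat_lit 10, nat_lit 8, nat_lit 11],
  [nat_lit 11, nat_lit 8, nat_lit 13, nat_lit 12, nat_lit 11, nat_lit 5],
  [nat_lit 7, nat_lit 10, nat_lit 9],
  [nat_lit 10, nat_lit 5, nat_lit 8, nat_lit 5, nat_lit 11],
  [nat_lit 11, nat_lit 13, nat_lit 11, nat_lit 12],
  [nat_lit 6, nat_lit 7, nat_lit 10, nat_lit 9, nat_lit 5],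
  [nat_lit 6, nat_lit 9, nat_lit 11, nat_lit 8, nat_lit 10],
  [nat_lit 10, nat_lit 9, nat_lit 11, nat_lit 8],
  [nat_lit 5, nat_lit 10, nat_lit 8, nat_lit 5, nat_lit 11],
  [nat_lit 10, nat_lit 8, nat_lit 11],
  [nat_lit 6, nat_lit 10, nat_lit 9, nat_lit 5],
  [nat_lit 10, nat_lit 9],
  [nat_lit 6, nat_lit 9, nat_lit 5, nat_lit 11, nat_lit 8, nat_lit 10],
  [nat_lit 10, nat_lit 5, nat_lit 8, nat_lit 11],
  [nat_lit 13, nat_lit 11, nat_lit 12, nat_lit 11, nat_lit 8, nat_lit 10],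
  [nat_lit 7, nat_lit 11, nat_lit 13, nat_lit 11, nat_lit 12],
  [nat_lit 6, nat_lit 11, nat_lit 8, nat_lit 5, nat_lit 13, nat_lit 12, nat_lit 11],
  [nat_lit 9, nat_lit 11, nat_lit 8, nat_lit 5, nat_lit 10],
  [nat_lit 10, nat_lit 5, nat_lit 9],
  [nat_lit 13, nat_lit 12, nat_lit 11, nat_lit 8, nat_lit 10],
  [nat_lit 11, nat_lit 8, nat_lit 13, nat_lit 11, nat_lit 12, nat_lit 11],
  [nat_lit 5, nat_lit 6, nat_lit 11, nat_lit 13, nat_lit 12],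
  [nat_lit 6, nat_lit 10, nat_lit 8, nat_lit 11, nat_lit 5],
  [nat_lit 5, nat_lit 11, nat_lit 13, nat_lit 11, nat_lit 12, nat_lit 11, nat_lit 8],
  [nat_lit 5, nat_lit 11, nat_lit 5, nat_lit 13, nat_lit 12],
  [nat_lit 5, nat_lit 9, nat_lit 11, nat_lit 5, nat_lit 8, nat_lit 10],
  [nat_lit 5, nat_lit 6, nat_lit 11, nat_lit 8, nat_lit 13, nat_lit 12, nat_lit 11],
  [nat_lit 8, nat_lit 11, nat_lit 13, nat_lit 5, nat_lit 12, nat_lit 11],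
  [nat_lit 5, nat_lit 11, nat_lit 13, nat_lit 11, nat_lit 12],
  [nat_lit 5, nat_lit 6, nat_lit 11, nat_lit 13, nat_lit 12, nat_lit 11, nat_lit 8],
  [nat_lit 6, nat_lit 10, nat_lit 5, nat_lit 9, nat_lit 5],
  [nat_lit 8, nat_lit 10, nat_lit 12, nat_lit 10, nat_lit 13, nat_lit 11],
  [nat_lit 9, nat_lit 5, nat_lit 8, nat_lit 10, nat_lit 12],
  [nat_lit 5, nat_lit 8, nat_lit 5, nat_lit 12, nat_lit 11, nat_lit 5],
  [nat_lit 6, nat_lit 11, nat_lit 9, nat_lit 12, nat_lit 13],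
  [nat_lit 6, nat_lit 10, nat_lit 12, nat_lit 5, nat_lit 9],
  [nat_lit 5, nat_lit 11, nat_lit 9, nat_lit 12, nat_lit 10, nat_lit 13],
  [nat_lit 5, nat_lit 8, nat_lit 10, nat_lit 12, nat_lit 13, nat_lit 11],
  [nat_lit 9, nat_lit 5, nat_lit 12, nat_lit 5, nat_lit 8, nat_lit 11, nat_lit 13],
  [nat_lit 9, nat_lit 5, nat_lit 12, nat_lit 5, nat_lit 13],
  [nat_lit 10, nat_lit 11, nat_lit 13, nat_lit 11, nat_lit 12, nat_lit 11, nat_lit 12],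
  [nat_lit 5, nat_lit 8, nat_lit 5, nat_lit 12, nat_lit 13, nat_lit 5, nat_lit 11],
  [nat_lit 6, nat_lit 8, nat_lit 12, nat_lit 13, nat_lit 5, nat_lit 11],
  [nat_lit 7, nat_lit 10, nat_lit 12, nat_lit 5, nat_lit 9, nat_lit 10],
  [nat_lit 5, nat_lit 10, nat_lit 12, nat_lit 5, nat_lit 9, nat_lit 10],
  [nat_lit 6, nat_lit 11, nat_lit 12, nat_lit 11, nat_lit 13],
  [nat_lit 6, nat_lit 8, nat_lit 12, nat_lit 11, nat_lit 5],
  [nat_lit 10, nat_lit 12, nat_lit 5, nat_lit 10, nat_lit 9],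
  [nat_lit 10, nat_lit 8, nat_lit 5, nat_lit 9, nat_lit 12],
  [nat_lit 5, nat_lit 8, nat_lit 12, nat_lit 5, nat_lit 11],
  [nat_lit 8, nat_lit 12, nat_lit 5, nat_lit 10, nat_lit 11],
  [nat_lit 7, nat_lit 10, nat_lit 12],
  [nat_lit 11, nat_lit 5, nat_lit 12, nat_lit 11, nat_lit 13],
  [nat_lit 5, nat_lit 10, nat_lit 12],
  [nat_lit 5, nat_lit 9, nat_lit 12, nat_lit 5, nat_lit 13],
  [nat_lit 5, nat_lit 7, nat_lit 9, nat_lit 12],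
  [nat_lit 5, nat_lit 8, nat_lit 11, nat_lit 10, nat_lit 12],
  [nat_lit 5, nat_lit 12, nat_lit 5, nat_lit 9, nat_lit 11, nat_lit 13],
  [nat_lit 12, nat_lit 11, nat_lit 13, nat_lit 11, nat_lit 9, nat_lit 10],
  [nat_lit 8, nat_lit 13, nat_lit 11, nat_lit 12, nat_lit 11, nat_lit 10, nat_lit 12],
  [nat_lit 9, nat_lit 12, nat_lit 11, nat_lit 13, nat_lit 11],
  [nat_lit 9, nat_lit 5, nat_lit 10, nat_lit 11, nat_lit 8, nat_lit 12],
  [nat_lit 5, nat_lit 8, nat_lit 10, nat_lit 5, nat_lit 11, nat_lit 12],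
  [nat_lit 5, nat_lit 6, nat_lit 13, nat_lit 11, nat_lit 12, nat_lit 12],
  [nat_lit 7, nat_lit 8, nat_lit 11, nat_lit 10, nat_lit 12],
  [nat_lit 8, nat_lit 5, nat_lit 9, nat_lit 12, nat_lit 13],
  [nat_lit 6, nat_lit 12, nat_lit 11, nat_lit 13, nat_lit 11, nat_lit 9],
  [nat_lit 5, nat_lit 9, nat_lit 5, nat_lit 12, nat_lit 11, nat_lit 13, nat_lit 11],
  [nat_lit 8, nat_lit 5, nat_lit 10, nat_lit 11, nat_lit 12],
  [nat_lit 11, nat_lit 12, nat_lit 5, nat_lit 11],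
  [nat_lit 8, nat_lit 12, nat_lit 10, nat_lit 5, nat_lit 9, nat_lit 11],
  [nat_lit 9, nat_lit 12, nat_lit 11, nat_lit 10, nat_lit 13, nat_lit 11],
  [nat_lit 9, nat_lit 12],
  [nat_lit 11, nat_lit 12, nat_lit 5, nat_lit 10, nat_lit 11],
  [nat_lit 6, nat_lit 9, nat_lit 12, nat_lit 10],
  [nat_lit 5, nat_lit 6, nat_lit 12, nat_lit 13],
  [nat_lit 5, nat_lit 9, nat_lit 5, nat_lit 12],
  [nat_lit 5, nat_lit 12, nat_lit 10, nat_lit 13],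
  [nat_lit 5, nat_lit 12, nat_lit 11, nat_lit 8, nat_lit 5, nat_lit 13]]
noncomputable def du_W : Wl := [[nat_lit 17, nat_lit 17, nat_lit 20, nat_lit 19, nat_lit 18, nat_lit 18],
  [nat_lit 17, nat_lit 20, nat_lit 17, nat_lit 20, nat_lit 19, nat_lit 19],
  [nat_lit 17, nat_lit 18, nat_lit 18],
  [nat_lit 17, nat_lit 18, nat_lit 17, nat_lit 18, nat_lit 19, nat_lit 18, nat_lit 19],
  [nat_lit 17, nat_lit 18, nat_lit 17, nat_lit 17, nat_lit 18, nat_lit 17, nat_lit 20],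
  [nat_lit 17, nat_lit 17, nat_lit 18, nat_lit 18, nat_lit 19, nat_lit 18, nat_lit 18],
  [nat_lit 17, nat_lit 17, nat_lit 18, nat_lit 19, nat_lit 18, nat_lit 18],
  [nat_lit 17, nat_lit 18, nat_lit 17, nat_lit 18, nat_lit 19, nat_lit 19],
  [nat_lit 18, nat_lit 18, nat_lit 19, nat_lit 20, nat_lit 17],
  [nat_lit 18, nat_lit 17, nat_lit 17, nat_lit 18, nat_lit 19],
  [nat_lit 18, nat_lit 18],
  [nat_lit 18, nat_lit 19, nat_lit 18, nat_lit 17, nat_lit 18, nat_lit 17],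
  [nat_lit 18, nat_lit 18, nat_lit 19, nat_lit 18, nat_lit 17],
  [nat_lit 20, nat_lit 17, nat_lit 17, nat_lit 20, nat_lit 19],
  [nat_lit 18, nat_lit 18, nat_lit 19, nat_lit 18, nat_lit 18, nat_lit 17],
  [nat_lit 18, nat_lit 17, nat_lit 18, nat_lit 17, nat_lit 17, nat_lit 20],
  [nat_lit 17, nat_lit 18, nat_lit 18, nat_lit 19, nat_lit 19, nat_lit 18, nat_lit 18],
  [nat_lit 17, nat_lit 18, nat_lit 17, nat_lit 18, nat_lit 17, nat_lit 17, nat_lit 20],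
  [nat_lit 17, nat_lit 18, nat_lit 18, nat_lit 19, nat_lit 19, nat_lit 18],
  [nat_lit 17, nat_lit 20, nat_lit 17, nat_lit 20, nat_lit 17, nat_lit 17],
  [nat_lit 17, nat_lit 18, nat_lit 17, nat_lit 18, nat_lit 17, nat_lit 17],
  [nat_lit 17, nat_lit 18, nat_lit 18, nat_lit 19, nat_lit 19, nat_lit 20],
  [nat_lit 17, nat_lit 18, nat_lit 18, nat_lit 19, nat_lit 19],
  [nat_lit 17, nat_lit 18, nat_lit 17, nat_lit 18, nat_lit 17, nat_lit 17, nat_lit 18],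
  [nat_lit 17, nat_lit 18, nat_lit 17, nat_lit 17, nat_lit 20],
  [nat_lit 17, nat_lit 17, nat_lit 18, nat_lit 17, nat_lit 18, nat_lit 17, nat_lit 18],
  [nat_lit 18, nat_lit 17, nat_lit 17, nat_lit 18, nat_lit 18, nat_lit 19],
  [nat_lit 18, nat_lit 19, nat_lit 19, nat_lit 18],
  [nat_lit 19, nat_lit 20, nat_lit 17, nat_lit 20, nat_lit 17],
  [nat_lit 17, nat_lit 20, nat_lit 19, nat_lit 18, nat_lit 18],
  [nat_lit 20, nat_lit 19, nat_lit 18, nat_lit 18, nat_lit 19, nat_lit 18],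
  [nat_lit 20, nat_lit 17],
  [nat_lit 17, nat_lit 17, nat_lit 18, nat_lit 19, nat_lit 18, nat_lit 19, nat_lit 18, nat_lit 19],
  [nat_lit 18, nat_lit 17, nat_lit 20, nat_lit 19],
  [nat_lit 17, nat_lit 18, nat_lit 19, nat_lit 18, nat_lit 19],
  [nat_lit 17, nat_lit 18, nat_lit 17, nat_lit 18, nat_lit 18],
  [nat_lit 17, nat_lit 18, nat_lit 18, nat_lit 17, nat_lit 17, nat_lit 18],
  [nat_lit 17, nat_lit 17, nat_lit 20, nat_lit 19, nat_lit 20, nat_lit 17],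
  [nat_lit 17, nat_lit 18, nat_lit 18, nat_lit 17, nat_lit 18, nat_lit 17, nat_lit 18],
  [nat_lit 17, nat_lit 20, nat_lit 17],
  [nat_lit 18, nat_lit 17, nat_lit 17],
  [nat_lit 18, nat_lit 17, nat_lit 18, nat_lit 19, nat_lit 19, nat_lit 18, nat_lit 18],
  [nat_lit 20, nat_lit 19, nat_lit 20, nat_lit 19, nat_lit 20, nat_lit 19],
  [nat_lit 17, nat_lit 17, nat_lit 20, nat_lit 17, nat_lit 18, nat_lit 19],
  [nat_lit 20, nat_lit 17, nat_lit 20, nat_lit 19, nat_lit 19],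
  [nat_lit 20, nat_lit 17, nat_lit 17, nat_lit 18, nat_lit 18],
  [nat_lit 17, nat_lit 17, nat_lit 18, nat_lit 17, nat_lit 18, nat_lit 19],
  [nat_lit 18, nat_lit 18, nat_lit 17, nat_lit 20],
  [nat_lit 17, nat_lit 18, nat_lit 17, nat_lit 18, nat_lit 19, nat_lit 20],
  [nat_lit 17, nat_lit 18, nat_lit 18, nat_lit 17, nat_lit 18, nat_lit 18],
  [nat_lit 17, nat_lit 20, nat_lit 17, nat_lit 20, nat_lit 19],
  [nat_lit 17, nat_lit 18, nat_lit 18, nat_lit 17, nat_lit 18],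
  [nat_lit 17, nat_lit 18, nat_lit 17, nat_lit 18, nat_lit 19],
  [nat_lit 17, nat_lit 18, nat_lit 18, nat_lit 17, nat_lit 20],
  [nat_lit 17, nat_lit 18, nat_lit 17, nat_lit 18, nat_lit 19, nat_lit 18],
  [nat_lit 17, nat_lit 18, nat_lit 18, nat_lit 17],
  [nat_lit 20, nat_lit 17, nat_lit 20, nat_lit 17],
  [nat_lit 20, nat_lit 19, nat_lit 18, nat_lit 18],
  [nat_lit 17, nat_lit 20, nat_lit 19, nat_lit 18, nat_lit 17],
  [nat_lit 18, nat_lit 18, nat_lit 19, nat_lit 18, nat_lit 18, nat_lit 19, nat_lit 20],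
  [nat_lit 18, nat_lit 18, nat_lit 19, nat_lit 19, nat_lit 20],
  [nat_lit 19, nat_lit 18, nat_lit 17, nat_lit 18, nat_lit 19],
  [nat_lit 18, nat_lit 17, nat_lit 18, nat_lit 17, nat_lit 18, nat_lit 18],
  [nat_lit 18, nat_lit 19],
  [nat_lit 17, nat_lit 20, nat_lit 19, nat_lit 19],
  [nat_lit 17, nat_lit 17, nat_lit 20, nat_lit 19, nat_lit 18, nat_lit 18, nat_lit 19, nat_lit 18],
  [nat_lit 17, nat_lit 18, nat_lit 17, nat_lit 18, nat_lit 17, nat_lit 18, nat_lit 17],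
  [nat_lit 18, nat_lit 17, nat_lit 20, nat_lit 17, nat_lit 17],
  [nat_lit 17, nat_lit 18, nat_lit 19, nat_lit 19, nat_lit 18, nat_lit 18],
  [nat_lit 17, nat_lit 18, nat_lit 17, nat_lit 17, nat_lit 18, nat_lit 19],
  [nat_lit 19, nat_lit 20, nat_lit 19, nat_lit 20, nat_lit 17],
  [nat_lit 17, nat_lit 18, nat_lit 18, nat_lit 19, nat_lit 18],
  [],
  [nat_lit 18, nat_lit 17, nat_lit 18, nat_lit 17, nat_lit 18, nat_lit 18, nat_lit 17, nat_lit 20],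
  [nat_lit 17, nat_lit 18, nat_lit 19, nat_lit 18, nat_lit 18, nat_lit 19, nat_lit 20],
  [nat_lit 19, nat_lit 18, nat_lit 17],
  [nat_lit 17, nat_lit 20, nat_lit 19, nat_lit 18, nat_lit 18, nat_lit 19, nat_lit 18],
  [nat_lit 19, nat_lit 20, nat_lit 17],
  [nat_lit 18, nat_lit 17, nat_lit 18, nat_lit 17, nat_lit 17, nat_lit 18],
  [nat_lit 19, nat_lit 18, nat_lit 18, nat_lit 17],
  [nat_lit 18, nat_lit 17, nat_lit 18, nat_lit 17, nat_lit 17],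
  [nat_lit 18, nat_lit 19, nat_lit 18, nat_lit 18, nat_lit 17],
  [nat_lit 19, nat_lit 20, nat_lit 17, nat_lit 20],
  [nat_lit 17, nat_lit 20, nat_lit 19, nat_lit 18, nat_lit 18, nat_lit 19],
  [nat_lit 18, nat_lit 18, nat_lit 19, nat_lit 18, nat_lit 19, nat_lit 18, nat_lit 17],
  [nat_lit 20],
  [nat_lit 19, nat_lit 18, nat_lit 17, nat_lit 20],
  [nat_lit 18, nat_lit 17, nat_lit 17, nat_lit 18, nat_lit 19, nat_lit 18],
  [nat_lit 18, nat_lit 19, nat_lit 20, nat_lit 17, nat_lit 18],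
  [nat_lit 18, nat_lit 17, nat_lit 18, nat_lit 17, nat_lit 18, nat_lit 17, nat_lit 18],
  [nat_lit 18, nat_lit 19, nat_lit 20, nat_lit 17],
  [nat_lit 18, nat_lit 17, nat_lit 18, nat_lit 17, nat_lit 18, nat_lit 17],
  [nat_lit 18, nat_lit 19, nat_lit 20, nat_lit 17, nat_lit 20],
  [nat_lit 17, nat_lit 18, nat_lit 18, nat_lit 19, nat_lit 18, nat_lit 18, nat_lit 19],
  [nat_lit 20, nat_lit 19, nat_lit 18, nat_lit 17],
  [nat_lit 20, nat_lit 17, nat_lit 20, nat_lit 17, nat_lit 20, nat_lit 17],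
  [nat_lit 17, nat_lit 18, nat_lit 17, nat_lit 18, nat_lit 17],
  [nat_lit 18, nat_lit 17, nat_lit 20, nat_lit 17, nat_lit 20],
  [nat_lit 17, nat_lit 17, nat_lit 18, nat_lit 19, nat_lit 18, nat_lit 17, nat_lit 18, nat_lit 17],
  [nat_lit 19, nat_lit 19, nat_lit 18, nat_lit 18],
  [nat_lit 19, nat_lit 20, nat_lit 19, nat_lit 18, nat_lit 18],
  [nat_lit 17, nat_lit 20, nat_lit 17, nat_lit 20, nat_lit 17],
  [nat_lit 19, nat_lit 18, nat_lit 18, nat_lit 19, nat_lit 18, nat_lit 18],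
  [nat_lit 17, nat_lit 18, nat_lit 19, nat_lit 18, nat_lit 17, nat_lit 20],
  [nat_lit 17, nat_lit 20, nat_lit 19, nat_lit 20, nat_lit 19, nat_lit 20],
  [nat_lit 17, nat_lit 20, nat_lit 17, nat_lit 18],
  [nat_lit 17, nat_lit 17, nat_lit 18, nat_lit 19, nat_lit 18, nat_lit 19, nat_lit 18, nat_lit 19, nat_lit 18],
  [nat_lit 18, nat_lit 17, nat_lit 20, nat_lit 19, nat_lit 18],
  [nat_lit 17, nat_lit 18, nat_lit 19, nat_lit 18, nat_lit 19, nat_lit 18],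
  [nat_lit 17, nat_lit 18, nat_lit 17, nat_lit 20],
  [nat_lit 17, nat_lit 18, nat_lit 18, nat_lit 17, nat_lit 17, nat_lit 18, nat_lit 18],
  [nat_lit 17, nat_lit 17, nat_lit 18, nat_lit 19, nat_lit 18, nat_lit 17, nat_lit 20],
  [nat_lit 17, nat_lit 20, nat_lit 17, nat_lit 17, nat_lit 18, nat_lit 18],
  [nat_lit 17, nat_lit 17, nat_lit 20, nat_lit 17, nat_lit 20, nat_lit 17],
  [nat_lit 18, nat_lit 17, nat_lit 18],
  [nat_lit 18, nat_lit 19, nat_lit 18, nat_lit 18, nat_lit 19],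
  [nat_lit 20, nat_lit 19, nat_lit 19],
  [nat_lit 18, nat_lit 18, nat_lit 19, nat_lit 18, nat_lit 19, nat_lit 18, nat_lit 19],
  [nat_lit 18, nat_lit 19, nat_lit 18, nat_lit 19, nat_lit 18, nat_lit 17],
  [nat_lit 17, nat_lit 18, nat_lit 19, nat_lit 20],
  [nat_lit 19, nat_lit 18, nat_lit 17, nat_lit 18],
  [nat_lit 17, nat_lit 18, nat_lit 19, nat_lit 18, nat_lit 18, nat_lit 19],
  [nat_lit 18],
  [nat_lit 18, nat_lit 17, nat_lit 18, nat_lit 17, nat_lit 18, nat_lit 18, nat_lit 17],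
  [nat_lit 19, nat_lit 20, nat_lit 17, nat_lit 18],
  [nat_lit 20, nat_lit 17, nat_lit 17, nat_lit 20, nat_lit 19, nat_lit 20],
  [nat_lit 19, nat_lit 18, nat_lit 18, nat_lit 17, nat_lit 18],
  [nat_lit 20, nat_lit 17, nat_lit 20, nat_lit 17, nat_lit 17],
  [nat_lit 17, nat_lit 20, nat_lit 19, nat_lit 19, nat_lit 18],
  [nat_lit 17, nat_lit 20, nat_lit 17, nat_lit 17, nat_lit 20, nat_lit 19, nat_lit 20],
  [nat_lit 18, nat_lit 17, nat_lit 20, nat_lit 17, nat_lit 17, nat_lit 18],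
  [nat_lit 17, nat_lit 18, nat_lit 17, nat_lit 18, nat_lit 17, nat_lit 18, nat_lit 17, nat_lit 18],
  [nat_lit 18, nat_lit 19, nat_lit 20, nat_lit 17, nat_lit 20, nat_lit 17],
  [nat_lit 17, nat_lit 18, nat_lit 18, nat_lit 19, nat_lit 18, nat_lit 18],
  [nat_lit 17, nat_lit 18, nat_lit 17, nat_lit 17, nat_lit 18, nat_lit 19, nat_lit 18],
  [nat_lit 17, nat_lit 18, nat_lit 19, nat_lit 19, nat_lit 20],
  [nat_lit 18, nat_lit 19, nat_lit 18, nat_lit 17],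
  [nat_lit 18, nat_lit 18, nat_lit 19, nat_lit 20],
  [nat_lit 18, nat_lit 18, nat_lit 19, nat_lit 18, nat_lit 18],
  [nat_lit 18, nat_lit 19, nat_lit 18, nat_lit 17, nat_lit 20],
  [nat_lit 18, nat_lit 18, nat_lit 19],
  [nat_lit 18, nat_lit 19, nat_lit 18, nat_lit 17, nat_lit 18],
  [nat_lit 18, nat_lit 18, nat_lit 19, nat_lit 18],
  [nat_lit 20, nat_lit 19, nat_lit 20, nat_lit 17],
  [nat_lit 17, nat_lit 18, nat_lit 18, nat_lit 17, nat_lit 18, nat_lit 18, nat_lit 17],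
  [nat_lit 18, nat_lit 17, nat_lit 20, nat_lit 19, nat_lit 20],
  [nat_lit 17, nat_lit 18, nat_lit 18, nat_lit 17, nat_lit 17],
  [nat_lit 17, nat_lit 17, nat_lit 18, nat_lit 19, nat_lit 18, nat_lit 17, nat_lit 18],
  [nat_lit 17, nat_lit 18, nat_lit 18, nat_lit 17, nat_lit 18, nat_lit 17],
  [nat_lit 17, nat_lit 20, nat_lit 17, nat_lit 20],
  [nat_lit 17, nat_lit 18, nat_lit 18, nat_lit 17, nat_lit 20, nat_lit 17],
  [nat_lit 17, nat_lit 18, nat_lit 17, nat_lit 18],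
  [nat_lit 18, nat_lit 17, nat_lit 17, nat_lit 18, nat_lit 17],
  [nat_lit 18, nat_lit 18, nat_lit 17, nat_lit 17, nat_lit 20],
  [nat_lit 18, nat_lit 17, nat_lit 17, nat_lit 18, nat_lit 17, nat_lit 18],
  [nat_lit 18, nat_lit 18, nat_lit 17, nat_lit 17],
  [nat_lit 18, nat_lit 18, nat_lit 17, nat_lit 17, nat_lit 18],
  [nat_lit 20, nat_lit 17, nat_lit 17, nat_lit 20, nat_lit 17],
  [nat_lit 18, nat_lit 17, nat_lit 17, nat_lit 18, nat_lit 17, nat_lit 20],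
  [nat_lit 18, nat_lit 18, nat_lit 17, nat_lit 17, nat_lit 18, nat_lit 18],
  [nat_lit 17, nat_lit 18, nat_lit 19, nat_lit 19, nat_lit 18],
  [nat_lit 17, nat_lit 17, nat_lit 18, nat_lit 19, nat_lit 18, nat_lit 18, nat_lit 19],
  [nat_lit 17, nat_lit 17, nat_lit 18, nat_lit 18, nat_lit 19, nat_lit 18, nat_lit 18, nat_lit 19],
  [nat_lit 18, nat_lit 17, nat_lit 20, nat_lit 17, nat_lit 17, nat_lit 20],
  [nat_lit 19, nat_lit 18, nat_lit 19, nat_lit 18, nat_lit 17, nat_lit 18],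
  [nat_lit 17, nat_lit 18, nat_lit 18, nat_lit 19],
  [nat_lit 17, nat_lit 17, nat_lit 20, nat_lit 19, nat_lit 18, nat_lit 18, nat_lit 19],
  [nat_lit 17, nat_lit 20, nat_lit 19, nat_lit 19, nat_lit 20],
  [nat_lit 17, nat_lit 20, nat_lit 17, nat_lit 17],
  [nat_lit 17, nat_lit 17, nat_lit 18, nat_lit 18, nat_lit 19, nat_lit 18, nat_lit 19, nat_lit 18],
  [nat_lit 19, nat_lit 20, nat_lit 19, nat_lit 20, nat_lit 19],
  [nat_lit 20, nat_lit 19, nat_lit 19, nat_lit 18, nat_lit 18],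
  [nat_lit 17, nat_lit 17, nat_lit 18, nat_lit 19, nat_lit 18, nat_lit 19, nat_lit 18],
  [nat_lit 18, nat_lit 17, nat_lit 20],
  [nat_lit 17, nat_lit 18, nat_lit 19, nat_lit 18],
  [nat_lit 17, nat_lit 18, nat_lit 17, nat_lit 18, nat_lit 18, nat_lit 17],
  [nat_lit 19, nat_lit 20, nat_lit 19, nat_lit 18],
  [nat_lit 17, nat_lit 20, nat_lit 17, nat_lit 20, nat_lit 17, nat_lit 20],
  [nat_lit 17, nat_lit 17, nat_lit 18, nat_lit 17, nat_lit 18, nat_lit 17, nat_lit 18, nat_lit 18, nat_lit 17],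
  [nat_lit 19, nat_lit 19, nat_lit 18],
  [nat_lit 19, nat_lit 18, nat_lit 18, nat_lit 19, nat_lit 18],
  [nat_lit 17, nat_lit 20, nat_lit 19, nat_lit 20, nat_lit 17],
  [nat_lit 19, nat_lit 18, nat_lit 19, nat_lit 18],
  [nat_lit 17, nat_lit 18, nat_lit 17, nat_lit 18, nat_lit 17, nat_lit 20],
  [nat_lit 17, nat_lit 20, nat_lit 19, nat_lit 19, nat_lit 18, nat_lit 18],
  [nat_lit 17, nat_lit 20, nat_lit 17, nat_lit 17, nat_lit 20, nat_lit 19],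
  [nat_lit 17, nat_lit 20, nat_lit 17, nat_lit 20, nat_lit 17, nat_lit 20, nat_lit 17],
  [nat_lit 19, nat_lit 20, nat_lit 19, nat_lit 18, nat_lit 17],
  [nat_lit 17, nat_lit 18, nat_lit 19, nat_lit 19],
  [nat_lit 17, nat_lit 17, nat_lit 18, nat_lit 19, nat_lit 18, nat_lit 18, nat_lit 19, nat_lit 20],
  [nat_lit 17, nat_lit 18, nat_lit 18, nat_lit 19, nat_lit 20],
  [nat_lit 19, nat_lit 18, nat_lit 19, nat_lit 18, nat_lit 17],
  [nat_lit 17, nat_lit 20, nat_lit 17, nat_lit 18, nat_lit 18, nat_lit 17],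
  [nat_lit 17, nat_lit 20, nat_lit 19, nat_lit 20],
  [nat_lit 18, nat_lit 19, nat_lit 19, nat_lit 18, nat_lit 18],
  [nat_lit 19, nat_lit 18, nat_lit 19, nat_lit 18, nat_lit 19],
  [nat_lit 20, nat_lit 17, nat_lit 18],
  [nat_lit 17, nat_lit 17, nat_lit 20, nat_lit 19, nat_lit 20, nat_lit 19, nat_lit 20],
  [nat_lit 17, nat_lit 18, nat_lit 17, nat_lit 17],
  [nat_lit 17, nat_lit 17, nat_lit 18, nat_lit 17, nat_lit 18, nat_lit 17, nat_lit 18, nat_lit 18],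
  [nat_lit 19, nat_lit 20, nat_lit 19, nat_lit 20],
  [nat_lit 17, nat_lit 18, nat_lit 18, nat_lit 19, nat_lit 18, nat_lit 19],
  [nat_lit 19, nat_lit 18, nat_lit 18, nat_lit 19, nat_lit 20],
  [nat_lit 17, nat_lit 18, nat_lit 19, nat_lit 18, nat_lit 17],
  [nat_lit 19, nat_lit 19, nat_lit 20],
  [nat_lit 17, nat_lit 17, nat_lit 18, nat_lit 18, nat_lit 19, nat_lit 18, nat_lit 19, nat_lit 18, nat_lit 17],
  [nat_lit 18, nat_lit 17, nat_lit 20, nat_lit 17],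
  [nat_lit 17, nat_lit 18, nat_lit 17, nat_lit 18, nat_lit 17, nat_lit 18],
  [nat_lit 17, nat_lit 17, nat_lit 18, nat_lit 18, nat_lit 17, nat_lit 20],
  [nat_lit 18, nat_lit 17, nat_lit 18, nat_lit 19],
  [nat_lit 17, nat_lit 17, nat_lit 20, nat_lit 17, nat_lit 20],
  [nat_lit 18, nat_lit 18, nat_lit 17, nat_lit 18, nat_lit 17],
  [nat_lit 17, nat_lit 17, nat_lit 18, nat_lit 17, nat_lit 20],
  [nat_lit 18, nat_lit 19, nat_lit 18, nat_lit 19, nat_lit 18],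
  [nat_lit 18, nat_lit 17, nat_lit 17, nat_lit 18, nat_lit 17, nat_lit 18, nat_lit 17, nat_lit 18],
  [nat_lit 17, nat_lit 17, nat_lit 17, nat_lit 20],
  [nat_lit 17, nat_lit 17, nat_lit 18, nat_lit 17, nat_lit 18, nat_lit 17, nat_lit 18, nat_lit 18, nat_lit 17, nat_lit 20],
  [nat_lit 19, nat_lit 19],
  [nat_lit 19, nat_lit 20, nat_lit 19],
  [nat_lit 17, nat_lit 18, nat_lit 18, nat_lit 19, nat_lit 18, nat_lit 19, nat_lit 18],
  [nat_lit 17, nat_lit 18, nat_lit 17, nat_lit 18, nat_lit 17, nat_lit 18, nat_lit 18],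
  [nat_lit 19, nat_lit 18, nat_lit 19],
  [nat_lit 19, nat_lit 18, nat_lit 18, nat_lit 19],
  [nat_lit 17, nat_lit 18, nat_lit 19, nat_lit 18, nat_lit 17, nat_lit 18],
  [nat_lit 18, nat_lit 19, nat_lit 18, nat_lit 19, nat_lit 18, nat_lit 19],
  [nat_lit 17, nat_lit 17, nat_lit 18, nat_lit 17, nat_lit 20, nat_lit 19],
  [nat_lit 18, nat_lit 18, nat_lit 17, nat_lit 17, nat_lit 18, nat_lit 19, nat_lit 18],
  [nat_lit 20, nat_lit 17, nat_lit 17],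
  [nat_lit 18, nat_lit 17, nat_lit 17, nat_lit 18, nat_lit 18],
  [nat_lit 18, nat_lit 17, nat_lit 18, nat_lit 19, nat_lit 19],
  [nat_lit 17, nat_lit 17, nat_lit 20, nat_lit 17, nat_lit 20, nat_lit 19],
  [nat_lit 18, nat_lit 18, nat_lit 17, nat_lit 18],
  [nat_lit 19, nat_lit 18, nat_lit 18, nat_lit 17, nat_lit 18, nat_lit 17],
  [nat_lit 20, nat_lit 19, nat_lit 19, nat_lit 20],
  [nat_lit 17, nat_lit 18, nat_lit 19, nat_lit 18, nat_lit 18],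
  [nat_lit 19, nat_lit 18, nat_lit 17, nat_lit 18, nat_lit 17],
  [nat_lit 17, nat_lit 17, nat_lit 20, nat_lit 17, nat_lit 20, nat_lit 17, nat_lit 20],
  [nat_lit 17, nat_lit 20, nat_lit 17, nat_lit 17, nat_lit 18],
  [nat_lit 18, nat_lit 19, nat_lit 18, nat_lit 18, nat_lit 19, nat_lit 20],
  [nat_lit 18, nat_lit 17],
  [nat_lit 18, nat_lit 17, nat_lit 17, nat_lit 18, nat_lit 17, nat_lit 18, nat_lit 17, nat_lit 20],
  [nat_lit 17, nat_lit 17, nat_lit 17, nat_lit 18],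
  [nat_lit 18, nat_lit 18, nat_lit 17, nat_lit 20, nat_lit 17],
  [nat_lit 17, nat_lit 17, nat_lit 18, nat_lit 17, nat_lit 18],
  [nat_lit 17, nat_lit 17, nat_lit 18, nat_lit 18, nat_lit 17, nat_lit 18],
  [nat_lit 20, nat_lit 17, nat_lit 20, nat_lit 19],
  [nat_lit 20, nat_lit 19, nat_lit 20, nat_lit 19, nat_lit 20],
  [nat_lit 17, nat_lit 17, nat_lit 20, nat_lit 17, nat_lit 18],
  [nat_lit 18, nat_lit 17, nat_lit 18, nat_lit 18, nat_lit 17, nat_lit 20, nat_lit 17],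
  [nat_lit 17, nat_lit 17, nat_lit 18],
  [nat_lit 18, nat_lit 17, nat_lit 18, nat_lit 19, nat_lit 18, nat_lit 19, nat_lit 18],
  [nat_lit 17, nat_lit 17, nat_lit 20],
  [nat_lit 18, nat_lit 17, nat_lit 18, nat_lit 19, nat_lit 18, nat_lit 19],
  [nat_lit 17, nat_lit 17, nat_lit 18, nat_lit 18],
  [nat_lit 18, nat_lit 17, nat_lit 18, nat_lit 18, nat_lit 17, nat_lit 20, nat_lit 17, nat_lit 20],
  [nat_lit 17, nat_lit 17],
  [nat_lit 19, nat_lit 20, nat_lit 19, nat_lit 20, nat_lit 19, nat_lit 20],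
  [nat_lit 20, nat_lit 19, nat_lit 19, nat_lit 18],
  [nat_lit 17, nat_lit 18, nat_lit 17, nat_lit 18, nat_lit 18, nat_lit 17, nat_lit 20],
  [nat_lit 17, nat_lit 18, nat_lit 19],
  [nat_lit 17, nat_lit 17, nat_lit 18, nat_lit 19, nat_lit 18, nat_lit 19],
  [nat_lit 18, nat_lit 17, nat_lit 18, nat_lit 18],
  [nat_lit 17, nat_lit 20, nat_lit 17, nat_lit 17, nat_lit 20],
  [nat_lit 17, nat_lit 17, nat_lit 18, nat_lit 18, nat_lit 19, nat_lit 18, nat_lit 19],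
  [nat_lit 17, nat_lit 18],
  [nat_lit 17, nat_lit 18, nat_lit 17, nat_lit 18, nat_lit 18, nat_lit 17, nat_lit 20, nat_lit 17],
  [nat_lit 17, nat_lit 20, nat_lit 17, nat_lit 20, nat_lit 19, nat_lit 19, nat_lit 20],
  [nat_lit 17, nat_lit 17, nat_lit 20, nat_lit 19, nat_lit 18],
  [nat_lit 17, nat_lit 17, nat_lit 18, nat_lit 19, nat_lit 18],
  [nat_lit 18, nat_lit 17, nat_lit 18, nat_lit 18, nat_lit 17],
  [nat_lit 17, nat_lit 20, nat_lit 17, nat_lit 17, nat_lit 20, nat_lit 17],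
  [nat_lit 17, nat_lit 17, nat_lit 18, nat_lit 18, nat_lit 19, nat_lit 18],
  [nat_lit 18, nat_lit 18, nat_lit 17, nat_lit 17, nat_lit 18, nat_lit 19],
  [nat_lit 20, nat_lit 17, nat_lit 17, nat_lit 20],
  [nat_lit 18, nat_lit 18, nat_lit 17, nat_lit 17, nat_lit 18, nat_lit 18, nat_lit 19],
  [nat_lit 17, nat_lit 17, nat_lit 18, nat_lit 17, nat_lit 20, nat_lit 19, nat_lit 20],
  [nat_lit 17, nat_lit 17, nat_lit 18, nat_lit 17, nat_lit 18, nat_lit 19, nat_lit 18],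
  [nat_lit 18, nat_lit 18, nat_lit 17],
  [nat_lit 18, nat_lit 17, nat_lit 18, nat_lit 19, nat_lit 19, nat_lit 20],
  [nat_lit 18, nat_lit 17, nat_lit 17, nat_lit 18],
  [nat_lit 17, nat_lit 20, nat_lit 19, nat_lit 18],
  [nat_lit 19, nat_lit 20, nat_lit 17, nat_lit 20, nat_lit 17, nat_lit 20],
  [nat_lit 20, nat_lit 19, nat_lit 18, nat_lit 18, nat_lit 19],
  [nat_lit 20, nat_lit 17, nat_lit 20],
  [nat_lit 18, nat_lit 19, nat_lit 19],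
  [nat_lit 18, nat_lit 17, nat_lit 17, nat_lit 18, nat_lit 18, nat_lit 19, nat_lit 20],
  [nat_lit 17, nat_lit 18, nat_lit 17, nat_lit 17, nat_lit 18, nat_lit 18],
  [nat_lit 17, nat_lit 17, nat_lit 18, nat_lit 17, nat_lit 18, nat_lit 17],
  [nat_lit 20, nat_lit 19],
  [nat_lit 18, nat_lit 18, nat_lit 19, nat_lit 18, nat_lit 19, nat_lit 18],
  [nat_lit 17, nat_lit 18, nat_lit 19, nat_lit 20, nat_lit 17],
  [nat_lit 18, nat_lit 17, nat_lit 17, nat_lit 18, nat_lit 19, nat_lit 18, nat_lit 19],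
  [nat_lit 18, nat_lit 17, nat_lit 18, nat_lit 17],
  [nat_lit 18, nat_lit 19, nat_lit 18, nat_lit 18],
  [nat_lit 19, nat_lit 20, nat_lit 17, nat_lit 20, nat_lit 19],
  [nat_lit 18, nat_lit 18, nat_lit 19, nat_lit 19, nat_lit 18],
  [nat_lit 17, nat_lit 18, nat_lit 17, nat_lit 18, nat_lit 17, nat_lit 18, nat_lit 18, nat_lit 17],
  [nat_lit 19, nat_lit 18],
  [nat_lit 17, nat_lit 18, nat_lit 19, nat_lit 18, nat_lit 17, nat_lit 18, nat_lit 17],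
  [nat_lit 19, nat_lit 18, nat_lit 18],
  [nat_lit 17, nat_lit 18, nat_lit 18, nat_lit 19, nat_lit 18, nat_lit 19, nat_lit 18, nat_lit 17],
  [nat_lit 19, nat_lit 20],
  [nat_lit 17, nat_lit 18, nat_lit 17, nat_lit 18, nat_lit 17, nat_lit 18, nat_lit 18, nat_lit 17, nat_lit 20],
  [nat_lit 19],
  [nat_lit 17, nat_lit 18, nat_lit 19, nat_lit 20, nat_lit 17, nat_lit 20],
  [nat_lit 18, nat_lit 18, nat_lit 19, nat_lit 18, nat_lit 18, nat_lit 19],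
  [nat_lit 18, nat_lit 18, nat_lit 19, nat_lit 18, nat_lit 19],
  [nat_lit 20, nat_lit 19, nat_lit 20],
  [nat_lit 18, nat_lit 17, nat_lit 18, nat_lit 17, nat_lit 20],
  [nat_lit 18, nat_lit 19, nat_lit 18],
  [nat_lit 18, nat_lit 18, nat_lit 19, nat_lit 19],
  [nat_lit 18, nat_lit 19, nat_lit 18, nat_lit 17, nat_lit 18, nat_lit 19],
  [nat_lit 20, nat_lit 17, nat_lit 20, nat_lit 19, nat_lit 19, nat_lit 20],
  [nat_lit 20, nat_lit 17, nat_lit 17, nat_lit 18],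
  [nat_lit 18, nat_lit 19, nat_lit 18, nat_lit 19, nat_lit 18, nat_lit 19, nat_lit 18],
  [nat_lit 17, nat_lit 17, nat_lit 18, nat_lit 17, nat_lit 20, nat_lit 19, nat_lit 18],
  [nat_lit 18, nat_lit 18, nat_lit 17, nat_lit 18, nat_lit 18],
  [nat_lit 17, nat_lit 17, nat_lit 18, nat_lit 17, nat_lit 18, nat_lit 19, nat_lit 20],
  [nat_lit 18, nat_lit 17, nat_lit 18, nat_lit 19, nat_lit 19, nat_lit 18],
  [nat_lit 18, nat_lit 17, nat_lit 17, nat_lit 20],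
  [nat_lit 20, nat_lit 17, nat_lit 18, nat_lit 18, nat_lit 17, nat_lit 18],
  [nat_lit 17, nat_lit 17, nat_lit 20, nat_lit 19],
  [nat_lit 17, nat_lit 18, nat_lit 17, nat_lit 17, nat_lit 18, nat_lit 17, nat_lit 18],
  [nat_lit 17, nat_lit 17, nat_lit 18, nat_lit 18, nat_lit 19],
  [nat_lit 17],
  [nat_lit 17, nat_lit 18, nat_lit 17, nat_lit 18, nat_lit 18, nat_lit 17, nat_lit 20, nat_lit 17, nat_lit 20],
  [nat_lit 17, nat_lit 17, nat_lit 18, nat_lit 19],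
  [nat_lit 18, nat_lit 17, nat_lit 18, nat_lit 18, nat_lit 17, nat_lit 20],
  [nat_lit 20, nat_lit 19, nat_lit 20, nat_lit 19],
  [nat_lit 17, nat_lit 17, nat_lit 20, nat_lit 17, nat_lit 18, nat_lit 18],
  [nat_lit 17, nat_lit 17, nat_lit 18, nat_lit 17, nat_lit 18, nat_lit 18],
  [nat_lit 18, nat_lit 19, nat_lit 18, nat_lit 19],
  [nat_lit 18, nat_lit 17, nat_lit 17, nat_lit 18, nat_lit 17, nat_lit 18, nat_lit 17],
  [nat_lit 17, nat_lit 17, nat_lit 17, nat_lit 18, nat_lit 18],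
  [nat_lit 18, nat_lit 17, nat_lit 18, nat_lit 19, nat_lit 20],
  [nat_lit 17, nat_lit 17, nat_lit 18, nat_lit 18, nat_lit 17, nat_lit 18, nat_lit 18],
  [nat_lit 17, nat_lit 20, nat_lit 19, nat_lit 20, nat_lit 19],
  [nat_lit 17, nat_lit 20, nat_lit 17, nat_lit 18, nat_lit 18],
  [nat_lit 17, nat_lit 18, nat_lit 18, nat_lit 17, nat_lit 20, nat_lit 17, nat_lit 20],
  [nat_lit 17, nat_lit 18, nat_lit 17],
  [nat_lit 17, nat_lit 18, nat_lit 18, nat_lit 17, nat_lit 17, nat_lit 20],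
  [nat_lit 17, nat_lit 17, nat_lit 18, nat_lit 19, nat_lit 18, nat_lit 17],
  [nat_lit 17, nat_lit 17, nat_lit 20, nat_lit 19, nat_lit 20, nat_lit 19, nat_lit 20, nat_lit 19],
  [nat_lit 20, nat_lit 17, nat_lit 18, nat_lit 19],
  [nat_lit 18, nat_lit 18, nat_lit 19, nat_lit 19, nat_lit 18, nat_lit 18],
  [nat_lit 18, nat_lit 19, nat_lit 20, nat_lit 17, nat_lit 20, nat_lit 19],
  [nat_lit 20, nat_lit 19, nat_lit 18],
  [nat_lit 20, nat_lit 17, nat_lit 20, nat_lit 17, nat_lit 20],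
  [nat_lit 18, nat_lit 17, nat_lit 18, nat_lit 17, nat_lit 18],
  [nat_lit 18, nat_lit 19, nat_lit 20],
  [nat_lit 18, nat_lit 17, nat_lit 17, nat_lit 18, nat_lit 19, nat_lit 18, nat_lit 19, nat_lit 18],
  [nat_lit 17, nat_lit 18, nat_lit 19, nat_lit 20, nat_lit 17, nat_lit 18],
  [nat_lit 18, nat_lit 18, nat_lit 17, nat_lit 18, nat_lit 18, nat_lit 17],
  [nat_lit 17, nat_lit 18, nat_lit 17, nat_lit 20, nat_lit 19, nat_lit 20],
  [nat_lit 17, nat_lit 18, nat_lit 17, nat_lit 20, nat_lit 19, nat_lit 18],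
  [nat_lit 17, nat_lit 18, nat_lit 19, nat_lit 18, nat_lit 19, nat_lit 18, nat_lit 19, nat_lit 18],
  [nat_lit 17, nat_lit 18, nat_lit 19, nat_lit 18, nat_lit 19, nat_lit 18, nat_lit 19],
  [nat_lit 17, nat_lit 18, nat_lit 17, nat_lit 20, nat_lit 19],
  [nat_lit 17, nat_lit 20, nat_lit 19, nat_lit 20, nat_lit 19, nat_lit 20, nat_lit 19],
  [nat_lit 17, nat_lit 20, nat_lit 17, nat_lit 18, nat_lit 19],
  [nat_lit 17, nat_lit 17, nat_lit 18, nat_lit 18, nat_lit 19, nat_lit 20],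
  [nat_lit 17, nat_lit 18, nat_lit 17, nat_lit 17, nat_lit 18, nat_lit 17],
  [nat_lit 17, nat_lit 17, nat_lit 18, nat_lit 19, nat_lit 20],
  [nat_lit 17, nat_lit 18, nat_lit 17, nat_lit 18, nat_lit 19, nat_lit 19, nat_lit 18],
  [nat_lit 20, nat_lit 17, nat_lit 18, nat_lit 18, nat_lit 17],
  [nat_lit 17, nat_lit 17, nat_lit 20, nat_lit 19, nat_lit 20],
  [nat_lit 17, nat_lit 20],
  [nat_lit 17, nat_lit 18, nat_lit 17, nat_lit 18, nat_lit 19, nat_lit 18, nat_lit 19, nat_lit 18],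
  [nat_lit 17, nat_lit 17, nat_lit 18, nat_lit 18, nat_lit 17],
  [nat_lit 18, nat_lit 17, nat_lit 18, nat_lit 19, nat_lit 18],
  [nat_lit 18, nat_lit 18, nat_lit 17, nat_lit 18, nat_lit 17, nat_lit 18],
  [nat_lit 17, nat_lit 17, nat_lit 20, nat_lit 17],
  [nat_lit 17, nat_lit 17, nat_lit 18, nat_lit 17],
  [nat_lit 18, nat_lit 18, nat_lit 17, nat_lit 20, nat_lit 17, nat_lit 20],
  [nat_lit 17, nat_lit 17, nat_lit 17],
  [nat_lit 18, nat_lit 17, nat_lit 17, nat_lit 18, nat_lit 17, nat_lit 18, nat_lit 17, nat_lit 18, nat_lit 18],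
  [nat_lit 17, nat_lit 20, nat_lit 19],
  [nat_lit 17, nat_lit 20, nat_lit 17, nat_lit 18, nat_lit 18, nat_lit 17, nat_lit 18],
  [nat_lit 20, nat_lit 17, nat_lit 18, nat_lit 18],
  [nat_lit 17, nat_lit 17, nat_lit 20, nat_lit 19, nat_lit 20, nat_lit 19],
  [nat_lit 18, nat_lit 19, nat_lit 19, nat_lit 20],
  [nat_lit 19, nat_lit 18, nat_lit 19, nat_lit 18, nat_lit 19, nat_lit 18],
  [nat_lit 17, nat_lit 17, nat_lit 18, nat_lit 17, nat_lit 18, nat_lit 17, nat_lit 20],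
  [nat_lit 17, nat_lit 18, nat_lit 17, nat_lit 17, nat_lit 18]]
noncomputable def i_W : Wl := [[nat_lit 7, nat_lit 11, nat_lit 10, nat_lit 13, nat_lit 11],
  [nat_lit 7, nat_lit 10, nat_lit 13],
  [nat_lit 10, nat_lit 9, nat_lit 5, nat_lit 12, nat_lit 13],
  [nat_lit 7, nat_lit 10, nat_lit 11, nat_lit 13, nat_lit 11],
  [nat_lit 5, nat_lit 8, nat_lit 5, nat_lit 11, nat_lit 9, nat_lit 10],
  [nat_lit 5, nat_lit 7, nat_lit 11, nat_lit 13, nat_lit 12, nat_lit 11],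
  [nat_lit 11, nat_lit 13, nat_lit 12, nat_lit 11],
  [nat_lit 13, nat_lit 5, nat_lit 10, nat_lit 11, nat_lit 13],
  [nat_lit 10, nat_lit 11, nat_lit 13, nat_lit 11],
  [nat_lit 10, nat_lit 13, nat_lit 11, nat_lit 8, nat_lit 12, nat_lit 10],
  [nat_lit 9, nat_lit 13, nat_lit 12, nat_lit 10, nat_lit 11],
  [nat_lit 9, nat_lit 5, nat_lit 8, nat_lit 11, nat_lit 10],
  [nat_lit 5, nat_lit 11, nat_lit 10],
  [nat_lit 5, nat_lit 6, nat_lit 10, nat_lit 13, nat_lit 5],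
  [nat_lit 6, nat_lit 7, nat_lit 10],
  [nat_lit 6, nat_lit 12, nat_lit 13],
  [nat_lit 5, nat_lit 11, nat_lit 10, nat_lit 13, nat_lit 5, nat_lit 11],
  [nat_lit 8, nat_lit 10, nat_lit 8, nat_lit 5, nat_lit 11, nat_lit 8],
  [nat_lit 9, nat_lit 11, nat_lit 10, nat_lit 13, nat_lit 12, nat_lit 11],
  [nat_lit 8, nat_lit 5, nat_lit 13, nat_lit 5, nat_lit 10, nat_lit 9, nat_lit 12],
  [nat_lit 5, nat_lit 8, nat_lit 11, nat_lit 10, nat_lit 9, nat_lit 11],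
  [nat_lit 12, nat_lit 5, nat_lit 13],
  [nat_lit 8, nat_lit 5, nat_lit 10, nat_lit 12, nat_lit 5, nat_lit 8, nat_lit 13],
  [nat_lit 5, nat_lit 12, nat_lit 11, nat_lit 8, nat_lit 10, nat_lit 13],
  [nat_lit 9, nat_lit 11, nat_lit 8],
  [nat_lit 5, nat_lit 12, nat_lit 11, nat_lit 8, nat_lit 10, nat_lit 13, nat_lit 11],
  [nat_lit 5, nat_lit 13, nat_lit 11, nat_lit 5, nat_lit 12, nat_lit 11, nat_lit 12],
  [nat_lit 5, nat_lit 12, nat_lit 10, nat_lit 8, nat_lit 13],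
  [nat_lit 12, nat_lit 10, nat_lit 11, nat_lit 13, nat_lit 11, nat_lit 8],
  [nat_lit 9, nat_lit 10, nat_lit 5, nat_lit 12, nat_lit 5, nat_lit 9, nat_lit 13],
  [nat_lit 8, nat_lit 5, nat_lit 9, nat_lit 12, nat_lit 5, nat_lit 11, nat_lit 13],
  [nat_lit 5, nat_lit 8, nat_lit 10, nat_lit 12, nat_lit 13],
  [nat_lit 6, nat_lit 9, nat_lit 11, nat_lit 12, nat_lit 13],
  [nat_lit 5, nat_lit 6, nat_lit 8, nat_lit 12, nat_lit 13, nat_lit 5, nat_lit 11],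
  [nat_lit 6, nat_lit 8, nat_lit 12, nat_lit 13, nat_lit 11],
  [nat_lit 10, nat_lit 13, nat_lit 11, nat_lit 12, nat_lit 11, nat_lit 12],
  [nat_lit 8, nat_lit 5, nat_lit 9, nat_lit 12, nat_lit 11, nat_lit 13],
  [nat_lit 5, nat_lit 13, nat_lit 11, nat_lit 12, nat_lit 11, nat_lit 10, nat_lit 12],
  [nat_lit 6, nat_lit 8, nat_lit 12, nat_lit 13],
  [nat_lit 5, nat_lit 9, nat_lit 11, nat_lit 10, nat_lit 12, nat_lit 13],
  [nat_lit 5, nat_lit 6, nat_lit 13, nat_lit 12],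
  [nat_lit 6, nat_lit 7, nat_lit 13, nat_lit 12],
  [nat_lit 5, nat_lit 9, nat_lit 10, nat_lit 5, nat_lit 11, nat_lit 8],
  [nat_lit 9, nat_lit 5, nat_lit 10, nat_lit 11, nat_lit 8],
  [nat_lit 9, nat_lit 12, nat_lit 11, nat_lit 10, nat_lit 8, nat_lit 13],
  [nat_lit 12, nat_lit 10, nat_lit 12, nat_lit 13],
  [nat_lit 5, nat_lit 9, nat_lit 5, nat_lit 10, nat_lit 11, nat_lit 8],
  [nat_lit 9, nat_lit 10, nat_lit 5, nat_lit 11, nat_lit 8],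
  [nat_lit 6, nat_lit 13, nat_lit 12],
  [nat_lit 6, nat_lit 10, nat_lit 9, nat_lit 11, nat_lit 5, nat_lit 12, nat_lit 13],
  [nat_lit 8, nat_lit 5, nat_lit 12, nat_lit 11, nat_lit 13],
  [nat_lit 10, nat_lit 5, nat_lit 12, nat_lit 5, nat_lit 13],
  [nat_lit 9, nat_lit 11, nat_lit 5, nat_lit 13, nat_lit 11],
  [nat_lit 8, nat_lit 5, nat_lit 8, nat_lit 13, nat_lit 12],
  [],
  [nat_lit 13, nat_lit 11, nat_lit 13],
  [nat_lit 8, nat_lit 10, nat_lit 11, nat_lit 13, nat_lit 12],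
  [nat_lit 5, nat_lit 7],
  [nat_lit 7, nat_lit 9, nat_lit 5, nat_lit 8],
  [nat_lit 8, nat_lit 13, nat_lit 12, nat_lit 10, nat_lit 11, nat_lit 8],
  [nat_lit 8, nat_lit 11, nat_lit 10, nat_lit 13, nat_lit 11, nat_lit 12],
  [nat_lit 5, nat_lit 10, nat_lit 11, nat_lit 13, nat_lit 12, nat_lit 11, nat_lit 10],
  [nat_lit 5, nat_lit 9, nat_lit 13, nat_lit 11, nat_lit 12],
  [nat_lit 5, nat_lit 8, nat_lit 10, nat_lit 9, nat_lit 5],
  [nat_lit 7, nat_lit 11, nat_lit 8, nat_lit 13, nat_lit 11],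
  [nat_lit 9, nat_lit 10, nat_lit 9, nat_lit 11, nat_lit 5, nat_lit 13],
  [nat_lit 7, nat_lit 8, nat_lit 10, nat_lit 8, nat_lit 13],
  [nat_lit 8, nat_lit 13, nat_lit 5, nat_lit 11, nat_lit 8],
  [nat_lit 5, nat_lit 9, nat_lit 5, nat_lit 11, nat_lit 8, nat_lit 10],
  [nat_lit 11, nat_lit 8, nat_lit 13, nat_lit 12, nat_lit 11],
  [nat_lit 5, nat_lit 11, nat_lit 8, nat_lit 5, nat_lit 13, nat_lit 12, nat_lit 11],
  [nat_lit 5, nat_lit 6, nat_lit 10, nat_lit 9, nat_lit 11, nat_lit 8],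
  [nat_lit 6, nat_lit 10, nat_lit 9, nat_lit 5, nat_lit 12, nat_lit 13],
  [nat_lit 9, nat_lit 10, nat_lit 9, nat_lit 5, nat_lit 11, nat_lit 13],
  [nat_lit 6, nat_lit 8, nat_lit 10, nat_lit 8, nat_lit 13],
  [nat_lit 8, nat_lit 13, nat_lit 11, nat_lit 5, nat_lit 8],
  [nat_lit 5, nat_lit 6, nat_lit 8, nat_lit 13, nat_lit 5],
  [nat_lit 10, nat_lit 9, nat_lit 12, nat_lit 10, nat_lit 13],
  [nat_lit 5, nat_lit 9, nat_lit 5, nat_lit 11, nat_lit 13],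
  [nat_lit 12, nat_lit 11, nat_lit 10, nat_lit 9, nat_lit 13],
  [nat_lit 8, nat_lit 11, nat_lit 8, nat_lit 10, nat_lit 13, nat_lit 12],
  [nat_lit 5, nat_lit 9, nat_lit 11, nat_lit 10, nat_lit 8, nat_lit 11],
  [nat_lit 9, nat_lit 5, nat_lit 11, nat_lit 10, nat_lit 8, nat_lit 11],
  [nat_lit 13, nat_lit 5, nat_lit 11, nat_lit 8, nat_lit 10, nat_lit 12],
  [nat_lit 5, nat_lit 10, nat_lit 8, nat_lit 5, nat_lit 13, nat_lit 12, nat_lit 10],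
  [nat_lit 10, nat_lit 8, nat_lit 13, nat_lit 12, nat_lit 10],
  [nat_lit 5, nat_lit 6, nat_lit 11, nat_lit 9, nat_lit 10, nat_lit 8],
  [nat_lit 8, nat_lit 10, nat_lit 5, nat_lit 9, nat_lit 10, nat_lit 11],
  [nat_lit 8, nat_lit 5, nat_lit 10, nat_lit 13, nat_lit 5, nat_lit 9, nat_lit 12],
  [nat_lit 5, nat_lit 9, nat_lit 10, nat_lit 11, nat_lit 8, nat_lit 10],
  [nat_lit 8, nat_lit 10, nat_lit 8, nat_lit 11, nat_lit 13, nat_lit 12],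
  [nat_lit 9, nat_lit 5, nat_lit 10, nat_lit 11, nat_lit 8, nat_lit 10],
  [nat_lit 10, nat_lit 12, nat_lit 10, nat_lit 13],
  [nat_lit 5, nat_lit 6, nat_lit 11, nat_lit 9, nat_lit 13],
  [nat_lit 5, nat_lit 9, nat_lit 10, nat_lit 9, nat_lit 11, nat_lit 9],
  [nat_lit 7, nat_lit 13, nat_lit 5, nat_lit 8, nat_lit 10, nat_lit 12],
  [nat_lit 6, nat_lit 13, nat_lit 5, nat_lit 11, nat_lit 8, nat_lit 10, nat_lit 12],
  [nat_lit 8, nat_lit 11, nat_lit 8, nat_lit 10, nat_lit 5, nat_lit 8],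
  [nat_lit 5, nat_lit 10, nat_lit 8, nat_lit 11, nat_lit 10, nat_lit 13, nat_lit 11],
  [nat_lit 5, nat_lit 11, nat_lit 13, nat_lit 5, nat_lit 11],
  [nat_lit 8, nat_lit 10, nat_lit 8, nat_lit 13],
  [nat_lit 8, nat_lit 11, nat_lit 9],
  [nat_lit 5, nat_lit 7, nat_lit 8, nat_lit 13, nat_lit 5],
  [nat_lit 6, nat_lit 13],
  [nat_lit 5, nat_lit 9, nat_lit 11, nat_lit 10, nat_lit 9, nat_lit 13],
  [nat_lit 8, nat_lit 10, nat_lit 11, nat_lit 8, nat_lit 5, nat_lit 13],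
  [nat_lit 5, nat_lit 7, nat_lit 13, nat_lit 5],
  [nat_lit 8, nat_lit 5, nat_lit 10, nat_lit 13, nat_lit 5, nat_lit 9],
  [nat_lit 6, nat_lit 9, nat_lit 10, nat_lit 9, nat_lit 13],
  [nat_lit 13, nat_lit 11, nat_lit 10, nat_lit 8, nat_lit 5, nat_lit 12],
  [nat_lit 10, nat_lit 9, nat_lit 13, nat_lit 5, nat_lit 12],
  [nat_lit 10, nat_lit 9, nat_lit 5, nat_lit 8, nat_lit 11],
  [nat_lit 5, nat_lit 7, nat_lit 11, nat_lit 10],
  [nat_lit 7, nat_lit 9, nat_lit 12, nat_lit 13],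
  [nat_lit 8, nat_lit 10, nat_lit 9],
  [nat_lit 6, nat_lit 10, nat_lit 13, nat_lit 5, nat_lit 12],
  [nat_lit 5, nat_lit 10, nat_lit 13, nat_lit 12, nat_lit 10],
  [nat_lit 8, nat_lit 5, nat_lit 10, nat_lit 9, nat_lit 5, nat_lit 11],
  [nat_lit 6, nat_lit 8, nat_lit 5, nat_lit 10, nat_lit 9, nat_lit 11],
  [nat_lit 5, nat_lit 12, nat_lit 11, nat_lit 8, nat_lit 13, nat_lit 11, nat_lit 10],
  [nat_lit 7, nat_lit 9, nat_lit 11, nat_lit 8],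
  [nat_lit 5, nat_lit 8, nat_lit 10, nat_lit 5, nat_lit 9, nat_lit 11],
  [nat_lit 8, nat_lit 5, nat_lit 10, nat_lit 9, nat_lit 11],
  [nat_lit 10, nat_lit 13, nat_lit 5, nat_lit 12],
  [nat_lit 5, nat_lit 13, nat_lit 5, nat_lit 10, nat_lit 12],
  [nat_lit 5, nat_lit 9, nat_lit 11, nat_lit 5, nat_lit 13],
  [nat_lit 5, nat_lit 8, nat_lit 13, nat_lit 5],
  [nat_lit 8, nat_lit 5, nat_lit 12, nat_lit 11, nat_lit 13, nat_lit 11],
  [nat_lit 5, nat_lit 8, nat_lit 10, nat_lit 8, nat_lit 13, nat_lit 5],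
  [nat_lit 9, nat_lit 13, nat_lit 5, nat_lit 10, nat_lit 8, nat_lit 11],
  [nat_lit 5, nat_lit 11, nat_lit 5, nat_lit 13, nat_lit 11],
  [nat_lit 10, nat_lit 8, nat_lit 13, nat_lit 5, nat_lit 12],
  [nat_lit 5, nat_lit 9, nat_lit 10, nat_lit 8, nat_lit 11],
  [nat_lit 5, nat_lit 10, nat_lit 8, nat_lit 5, nat_lit 13, nat_lit 5, nat_lit 12],
  [nat_lit 5, nat_lit 9, nat_lit 10, nat_lit 5, nat_lit 8, nat_lit 11],
  [nat_lit 6, nat_lit 9, nat_lit 13],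
  [nat_lit 8, nat_lit 11, nat_lit 13, nat_lit 11, nat_lit 9],
  [nat_lit 5, nat_lit 11, nat_lit 13, nat_lit 12, nat_lit 11],
  [nat_lit 5, nat_lit 13, nat_lit 5, nat_lit 10, nat_lit 11, nat_lit 13],
  [nat_lit 7, nat_lit 11, nat_lit 13, nat_lit 12, nat_lit 11],
  [nat_lit 8, nat_lit 5, nat_lit 11, nat_lit 9, nat_lit 10],
  [nat_lit 6],
  [nat_lit 8, nat_lit 11, nat_lit 10, nat_lit 13, nat_lit 12],
  [nat_lit 8, nat_lit 13, nat_lit 12, nat_lit 11, nat_lit 10, nat_lit 8],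
  [nat_lit 6, nat_lit 13, nat_lit 11, nat_lit 13],
  [nat_lit 8, nat_lit 10, nat_lit 11, nat_lit 13, nat_lit 11, nat_lit 12],
  [nat_lit 5, nat_lit 6, nat_lit 7],
  [nat_lit 7, nat_lit 13, nat_lit 11, nat_lit 8, nat_lit 12],
  [nat_lit 7, nat_lit 9, nat_lit 13, nat_lit 12],
  [nat_lit 5, nat_lit 8, nat_lit 13, nat_lit 5, nat_lit 12, nat_lit 11, nat_lit 8],
  [nat_lit 5, nat_lit 8, nat_lit 5, nat_lit 9],
  [nat_lit 8, nat_lit 10, nat_lit 5, nat_lit 8, nat_lit 12, nat_lit 13],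
  [nat_lit 13, nat_lit 5, nat_lit 13],
  [nat_lit 8, nat_lit 12, nat_lit 10, nat_lit 9, nat_lit 11, nat_lit 13],
  [nat_lit 6, nat_lit 10],
  [nat_lit 8, nat_lit 13],
  [nat_lit 8, nat_lit 5, nat_lit 11, nat_lit 13],
  [nat_lit 8, nat_lit 5, nat_lit 11, nat_lit 9, nat_lit 10, nat_lit 11],
  [nat_lit 5, nat_lit 9, nat_lit 11, nat_lit 8, nat_lit 10],
  [nat_lit 7, nat_lit 11, nat_lit 8, nat_lit 13, nat_lit 12, nat_lit 11],
  [nat_lit 6, nat_lit 11, nat_lit 8, nat_lit 13, nat_lit 11, nat_lit 12, nat_lit 11],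
  [nat_lit 5, nat_lit 9, nat_lit 11, nat_lit 12, nat_lit 13, nat_lit 5],
  [nat_lit 9, nat_lit 5, nat_lit 12, nat_lit 11, nat_lit 8, nat_lit 5, nat_lit 13],
  [nat_lit 7, nat_lit 8, nat_lit 12, nat_lit 13],
  [nat_lit 8, nat_lit 10, nat_lit 13, nat_lit 5, nat_lit 9, nat_lit 12],
  [nat_lit 5, nat_lit 8, nat_lit 10, nat_lit 8, nat_lit 11, nat_lit 8],
  [nat_lit 5, nat_lit 11, nat_lit 8, nat_lit 5, nat_lit 11, nat_lit 10, nat_lit 9],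
  [nat_lit 8, nat_lit 5, nat_lit 10, nat_lit 8, nat_lit 11, nat_lit 13, nat_lit 12],
  [nat_lit 8, nat_lit 5, nat_lit 9, nat_lit 12, nat_lit 11, nat_lit 5, nat_lit 13],
  [nat_lit 7, nat_lit 9, nat_lit 11, nat_lit 12, nat_lit 13],
  [nat_lit 5, nat_lit 8, nat_lit 12, nat_lit 13, nat_lit 5],
  [nat_lit 5, nat_lit 9, nat_lit 11, nat_lit 9, nat_lit 10, nat_lit 9],
  [nat_lit 8, nat_lit 13, nat_lit 5, nat_lit 10, nat_lit 9, nat_lit 12],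
  [nat_lit 8, nat_lit 10, nat_lit 5, nat_lit 8, nat_lit 11, nat_lit 13, nat_lit 12],
  [nat_lit 8, nat_lit 10, nat_lit 8, nat_lit 11, nat_lit 5, nat_lit 8],
  [nat_lit 8, nat_lit 12, nat_lit 11, nat_lit 10, nat_lit 13],
  [nat_lit 10, nat_lit 9, nat_lit 5, nat_lit 11, nat_lit 12, nat_lit 13],
  [nat_lit 5, nat_lit 10, nat_lit 12, nat_lit 5, nat_lit 13],
  [nat_lit 5, nat_lit 9, nat_lit 11, nat_lit 5, nat_lit 12, nat_lit 11, nat_lit 13],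
  [nat_lit 6, nat_lit 12, nat_lit 5, nat_lit 13],
  [nat_lit 9, nat_lit 10, nat_lit 5, nat_lit 9, nat_lit 12, nat_lit 13],
  [nat_lit 7, nat_lit 12, nat_lit 13],
  [nat_lit 5, nat_lit 13, nat_lit 12],
  [nat_lit 8, nat_lit 5, nat_lit 8, nat_lit 10, nat_lit 11, nat_lit 8],
  [nat_lit 9, nat_lit 5, nat_lit 11, nat_lit 10, nat_lit 8],
  [nat_lit 7, nat_lit 13, nat_lit 12],
  [nat_lit 6, nat_lit 8, nat_lit 10, nat_lit 9],
  [nat_lit 6, nat_lit 9, nat_lit 11, nat_lit 8],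
  [nat_lit 5, nat_lit 7, nat_lit 8, nat_lit 11, nat_lit 10, nat_lit 9],
  [nat_lit 8, nat_lit 13, nat_lit 11, nat_lit 12],
  [nat_lit 6, nat_lit 8, nat_lit 13, nat_lit 12],
  [nat_lit 8, nat_lit 10, nat_lit 5, nat_lit 11, nat_lit 9],
  [nat_lit 11, nat_lit 13, nat_lit 5, nat_lit 13],
  [nat_lit 7, nat_lit 11],
  [nat_lit 7, nat_lit 8, nat_lit 12, nat_lit 13, nat_lit 11],
  [nat_lit 8, nat_lit 12, nat_lit 11, nat_lit 10, nat_lit 13, nat_lit 11],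
  [nat_lit 6, nat_lit 13, nat_lit 5, nat_lit 13],
  [nat_lit 13, nat_lit 12],
  [nat_lit 5, nat_lit 9, nat_lit 5, nat_lit 11, nat_lit 10, nat_lit 8],
  [nat_lit 6, nat_lit 9, nat_lit 10, nat_lit 5, nat_lit 11, nat_lit 8],
  [nat_lit 5, nat_lit 7, nat_lit 13, nat_lit 12],
  [nat_lit 5, nat_lit 12, nat_lit 13, nat_lit 5],
  [nat_lit 9, nat_lit 12, nat_lit 10, nat_lit 11, nat_lit 8, nat_lit 13],
  [nat_lit 5, nat_lit 8, nat_lit 5, nat_lit 10, nat_lit 9, nat_lit 11],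
  [nat_lit 13, nat_lit 5, nat_lit 10, nat_lit 12],
  [nat_lit 8, nat_lit 10, nat_lit 5, nat_lit 9, nat_lit 11],
  [nat_lit 5, nat_lit 10, nat_lit 13, nat_lit 5, nat_lit 12],
  [nat_lit 5, nat_lit 9, nat_lit 5, nat_lit 10, nat_lit 8, nat_lit 11],
  [nat_lit 5, nat_lit 11, nat_lit 9, nat_lit 10, nat_lit 8],
  [nat_lit 10, nat_lit 8, nat_lit 13, nat_lit 11, nat_lit 5, nat_lit 12],
  [nat_lit 6, nat_lit 10, nat_lit 8, nat_lit 13, nat_lit 12, nat_lit 10],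
  [nat_lit 5, nat_lit 8, nat_lit 10, nat_lit 11, nat_lit 9, nat_lit 10],
  [nat_lit 13, nat_lit 11, nat_lit 5, nat_lit 8, nat_lit 10, nat_lit 12],
  [nat_lit 13, nat_lit 5, nat_lit 8, nat_lit 10, nat_lit 12],
  [nat_lit 8, nat_lit 11, nat_lit 8, nat_lit 5, nat_lit 10, nat_lit 8],
  [nat_lit 5, nat_lit 8, nat_lit 12, nat_lit 13, nat_lit 5, nat_lit 11],
  [nat_lit 7],
  [nat_lit 5, nat_lit 8, nat_lit 13, nat_lit 12, nat_lit 10, nat_lit 11, nat_lit 8],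
  [nat_lit 13, nat_lit 5, nat_lit 9, nat_lit 11, nat_lit 10, nat_lit 12],
  [nat_lit 5],
  [nat_lit 6, nat_lit 9, nat_lit 13, nat_lit 12],
  [nat_lit 9, nat_lit 5, nat_lit 8],
  [nat_lit 6, nat_lit 13, nat_lit 11, nat_lit 8, nat_lit 12],
  [nat_lit 10, nat_lit 11, nat_lit 13, nat_lit 12, nat_lit 11, nat_lit 10],
  [nat_lit 13, nat_lit 5, nat_lit 9, nat_lit 10, nat_lit 12],
  [nat_lit 6, nat_lit 8, nat_lit 5, nat_lit 9],
  [nat_lit 9, nat_lit 10, nat_lit 8],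
  [nat_lit 10, nat_lit 13, nat_lit 12, nat_lit 10],
  [nat_lit 6, nat_lit 8, nat_lit 10, nat_lit 5, nat_lit 9, nat_lit 11],
  [nat_lit 8, nat_lit 10, nat_lit 5, nat_lit 9, nat_lit 5, nat_lit 11],
  [nat_lit 10, nat_lit 5, nat_lit 13, nat_lit 12, nat_lit 10],
  [nat_lit 5, nat_lit 13, nat_lit 11, nat_lit 5, nat_lit 8],
  [nat_lit 5, nat_lit 11, nat_lit 10, nat_lit 13, nat_lit 11, nat_lit 5],
  [nat_lit 8, nat_lit 12, nat_lit 10, nat_lit 11, nat_lit 13, nat_lit 11],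
  [nat_lit 7, nat_lit 8, nat_lit 13, nat_lit 12],
  [nat_lit 5, nat_lit 8, nat_lit 10, nat_lit 11, nat_lit 9],
  [nat_lit 5, nat_lit 13, nat_lit 11, nat_lit 9, nat_lit 12],
  [nat_lit 8, nat_lit 5, nat_lit 11, nat_lit 10, nat_lit 9],
  [nat_lit 5, nat_lit 13, nat_lit 5],
  [nat_lit 5, nat_lit 9, nat_lit 13, nat_lit 11, nat_lit 10, nat_lit 8],
  [nat_lit 8, nat_lit 5, nat_lit 13, nat_lit 5, nat_lit 10, nat_lit 9],
  [nat_lit 7, nat_lit 13],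
  [nat_lit 8, nat_lit 10, nat_lit 11, nat_lit 13, nat_lit 11, nat_lit 9],
  [nat_lit 9, nat_lit 11, nat_lit 10, nat_lit 13, nat_lit 11, nat_lit 8],
  [nat_lit 6, nat_lit 8, nat_lit 11, nat_lit 9],
  [nat_lit 5, nat_lit 10, nat_lit 12, nat_lit 13],
  [nat_lit 5, nat_lit 9, nat_lit 13, nat_lit 11],
  [nat_lit 5, nat_lit 11, nat_lit 5],
  [nat_lit 10, nat_lit 13],
  [nat_lit 5, nat_lit 10, nat_lit 13, nat_lit 5],
  [nat_lit 5, nat_lit 9, nat_lit 10, nat_lit 12, nat_lit 13],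
  [nat_lit 8, nat_lit 11, nat_lit 5, nat_lit 13],
  [nat_lit 9, nat_lit 13],
  [nat_lit 9, nat_lit 12, nat_lit 13],
  [nat_lit 6, nat_lit 10, nat_lit 9, nat_lit 12, nat_lit 10, nat_lit 13],
  [nat_lit 6, nat_lit 8, nat_lit 13],
  [nat_lit 7, nat_lit 9, nat_lit 10, nat_lit 9, nat_lit 13],
  [nat_lit 8, nat_lit 5, nat_lit 10, nat_lit 8, nat_lit 11, nat_lit 13],
  [nat_lit 5, nat_lit 6, nat_lit 13, nat_lit 5],
  [nat_lit 13],
  [nat_lit 5, nat_lit 9, nat_lit 10, nat_lit 11, nat_lit 9, nat_lit 13],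
  [nat_lit 8, nat_lit 11, nat_lit 10, nat_lit 8, nat_lit 5, nat_lit 13],
  [nat_lit 5, nat_lit 9, nat_lit 12, nat_lit 10, nat_lit 11, nat_lit 13],
  [nat_lit 8, nat_lit 11, nat_lit 8, nat_lit 5, nat_lit 13],
  [nat_lit 5, nat_lit 11, nat_lit 8, nat_lit 5, nat_lit 13],
  [nat_lit 7, nat_lit 9, nat_lit 10, nat_lit 8],
  [nat_lit 6, nat_lit 11, nat_lit 8, nat_lit 13, nat_lit 11],
  [nat_lit 6, nat_lit 9, nat_lit 12, nat_lit 13],
  [nat_lit 11, nat_lit 8, nat_lit 13, nat_lit 11],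
  [nat_lit 12, nat_lit 13],
  [nat_lit 5, nat_lit 9, nat_lit 5, nat_lit 12, nat_lit 11, nat_lit 13],
  [nat_lit 5, nat_lit 6, nat_lit 8, nat_lit 10, nat_lit 12, nat_lit 13, nat_lit 11],
  [nat_lit 8, nat_lit 12, nat_lit 13],
  [nat_lit 5, nat_lit 9, nat_lit 10, nat_lit 11, nat_lit 12, nat_lit 13],
  [nat_lit 5, nat_lit 13, nat_lit 5, nat_lit 11, nat_lit 12, nat_lit 11, nat_lit 12],
  [nat_lit 5, nat_lit 12, nat_lit 5, nat_lit 13, nat_lit 5],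
  [nat_lit 8, nat_lit 12, nat_lit 10, nat_lit 11, nat_lit 13],
  [nat_lit 6, nat_lit 10, nat_lit 9, nat_lit 5, nat_lit 11, nat_lit 12, nat_lit 13],
  [nat_lit 10, nat_lit 8, nat_lit 5, nat_lit 12, nat_lit 13, nat_lit 11],
  [nat_lit 6, nat_lit 11],
  [nat_lit 5, nat_lit 10, nat_lit 11, nat_lit 13, nat_lit 5, nat_lit 11],
  [nat_lit 5, nat_lit 9, nat_lit 10, nat_lit 9, nat_lit 13, nat_lit 5],
  [nat_lit 8, nat_lit 11, nat_lit 10, nat_lit 13, nat_lit 11, nat_lit 9],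
  [nat_lit 6, nat_lit 7, nat_lit 13],
  [nat_lit 6, nat_lit 7, nat_lit 8, nat_lit 13],
  [nat_lit 9, nat_lit 13, nat_lit 12],
  [nat_lit 6, nat_lit 9, nat_lit 5, nat_lit 8],
  [nat_lit 6, nat_lit 13, nat_lit 5, nat_lit 9, nat_lit 10, nat_lit 12],
  [nat_lit 13, nat_lit 11, nat_lit 8, nat_lit 12],
  [nat_lit 5, nat_lit 6],
  [nat_lit 8, nat_lit 13, nat_lit 5, nat_lit 12, nat_lit 11, nat_lit 8],
  [nat_lit 8, nat_lit 5, nat_lit 9],
  [nat_lit 5, nat_lit 8, nat_lit 13, nat_lit 12, nat_lit 11, nat_lit 10, nat_lit 8],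
  [nat_lit 13, nat_lit 5, nat_lit 9, nat_lit 10, nat_lit 11, nat_lit 12],
  [nat_lit 6, nat_lit 7],
  [nat_lit 8, nat_lit 10, nat_lit 5, nat_lit 8, nat_lit 11, nat_lit 13],
  [nat_lit 5, nat_lit 6, nat_lit 7, nat_lit 13, nat_lit 5],
  [nat_lit 9, nat_lit 10, nat_lit 9, nat_lit 13],
  [nat_lit 6, nat_lit 10, nat_lit 13],
  [nat_lit 10, nat_lit 8, nat_lit 13, nat_lit 5, nat_lit 11, nat_lit 12],
  [nat_lit 8, nat_lit 5, nat_lit 8, nat_lit 10, nat_lit 8, nat_lit 11],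
  [nat_lit 6, nat_lit 10, nat_lit 8, nat_lit 13, nat_lit 5, nat_lit 12],
  [nat_lit 9, nat_lit 10, nat_lit 8, nat_lit 5, nat_lit 11],
  [nat_lit 5, nat_lit 6, nat_lit 13, nat_lit 5, nat_lit 10],
  [nat_lit 5, nat_lit 13, nat_lit 5, nat_lit 9, nat_lit 11],
  [nat_lit 6, nat_lit 9, nat_lit 10, nat_lit 8],
  [nat_lit 10],
  [nat_lit 5, nat_lit 11, nat_lit 13, nat_lit 11, nat_lit 5],
  [nat_lit 10, nat_lit 8, nat_lit 5, nat_lit 10, nat_lit 11, nat_lit 13],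
  [nat_lit 6, nat_lit 7, nat_lit 8, nat_lit 10, nat_lit 8, nat_lit 13],
  [nat_lit 8, nat_lit 11, nat_lit 5, nat_lit 9, nat_lit 10],
  [nat_lit 6, nat_lit 11, nat_lit 13, nat_lit 12, nat_lit 11],
  [nat_lit 11, nat_lit 5, nat_lit 13, nat_lit 12, nat_lit 11],
  [nat_lit 8, nat_lit 11, nat_lit 5, nat_lit 9, nat_lit 5, nat_lit 10],
  [nat_lit 8, nat_lit 12, nat_lit 13, nat_lit 11],
  [nat_lit 5, nat_lit 9, nat_lit 12, nat_lit 11, nat_lit 10, nat_lit 13],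
  [nat_lit 5, nat_lit 9, nat_lit 12, nat_lit 13, nat_lit 5],
  [nat_lit 5, nat_lit 11, nat_lit 9, nat_lit 13],
  [nat_lit 5, nat_lit 9, nat_lit 10, nat_lit 5, nat_lit 8, nat_lit 12, nat_lit 13],
  [nat_lit 5, nat_lit 9, nat_lit 13, nat_lit 5],
  [nat_lit 5, nat_lit 8, nat_lit 11, nat_lit 10, nat_lit 9],
  [nat_lit 8, nat_lit 5, nat_lit 10, nat_lit 11, nat_lit 9],
  [nat_lit 7, nat_lit 8, nat_lit 13, nat_lit 11, nat_lit 12],
  [nat_lit 6, nat_lit 7, nat_lit 8, nat_lit 13, nat_lit 12],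
  [nat_lit 5, nat_lit 6, nat_lit 9, nat_lit 13, nat_lit 5],
  [nat_lit 11, nat_lit 12, nat_lit 13, nat_lit 11],
  [nat_lit 5, nat_lit 9, nat_lit 11, nat_lit 12, nat_lit 11, nat_lit 10, nat_lit 13],
  [nat_lit 9, nat_lit 5, nat_lit 10, nat_lit 9, nat_lit 12, nat_lit 13],
  [nat_lit 5, nat_lit 13, nat_lit 11, nat_lit 12, nat_lit 11, nat_lit 12],
  [nat_lit 5, nat_lit 6, nat_lit 8, nat_lit 12, nat_lit 13, nat_lit 5],
  [nat_lit 10, nat_lit 13, nat_lit 11, nat_lit 12, nat_lit 11, nat_lit 10, nat_lit 12],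
  [nat_lit 8, nat_lit 12, nat_lit 5, nat_lit 8, nat_lit 13],
  [nat_lit 10, nat_lit 5, nat_lit 12, nat_lit 13],
  [nat_lit 5, nat_lit 13, nat_lit 5, nat_lit 11, nat_lit 8],
  [nat_lit 10, nat_lit 9, nat_lit 11, nat_lit 5, nat_lit 12, nat_lit 13],
  [nat_lit 10, nat_lit 12, nat_lit 5, nat_lit 10, nat_lit 13],
  [nat_lit 10, nat_lit 8, nat_lit 5, nat_lit 12, nat_lit 13],
  [nat_lit 6, nat_lit 8, nat_lit 10, nat_lit 5, nat_lit 11, nat_lit 9],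
  [nat_lit 8, nat_lit 13, nat_lit 12],
  [nat_lit 5, nat_lit 7, nat_lit 8, nat_lit 10, nat_lit 11, nat_lit 9],
  [nat_lit 6, nat_lit 8, nat_lit 13, nat_lit 11, nat_lit 12],
  [nat_lit 5, nat_lit 10, nat_lit 11, nat_lit 13, nat_lit 11, nat_lit 5],
  [nat_lit 5, nat_lit 13, nat_lit 5, nat_lit 10],
  [nat_lit 7, nat_lit 9, nat_lit 13],
  [nat_lit 7, nat_lit 8, nat_lit 10, nat_lit 9],
  [nat_lit 5, nat_lit 8, nat_lit 11, nat_lit 8, nat_lit 10, nat_lit 8],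
  [nat_lit 6, nat_lit 13, nat_lit 5, nat_lit 8, nat_lit 10, nat_lit 12],
  [nat_lit 6, nat_lit 13, nat_lit 11, nat_lit 5, nat_lit 8, nat_lit 10, nat_lit 12],
  [nat_lit 12, nat_lit 11, nat_lit 5, nat_lit 12, nat_lit 11, nat_lit 12],
  [nat_lit 6, nat_lit 7, nat_lit 9, nat_lit 10, nat_lit 8],
  [nat_lit 7, nat_lit 8, nat_lit 13],
  [nat_lit 5, nat_lit 8, nat_lit 11, nat_lit 13, nat_lit 11],
  [nat_lit 6, nat_lit 7, nat_lit 10, nat_lit 13],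
  [nat_lit 9, nat_lit 5, nat_lit 11, nat_lit 13, nat_lit 11],
  [nat_lit 7, nat_lit 10],
  [nat_lit 5, nat_lit 8, nat_lit 5, nat_lit 9, nat_lit 11, nat_lit 10],
  [nat_lit 10, nat_lit 5, nat_lit 11],
  [nat_lit 10, nat_lit 13, nat_lit 11, nat_lit 8, nat_lit 5, nat_lit 12],
  [nat_lit 9, nat_lit 13, nat_lit 5, nat_lit 12, nat_lit 11],
  [nat_lit 5, nat_lit 6, nat_lit 9, nat_lit 10, nat_lit 12, nat_lit 13],
  [nat_lit 5, nat_lit 10, nat_lit 9, nat_lit 13, nat_lit 5, nat_lit 10],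
  [nat_lit 6, nat_lit 11, nat_lit 13, nat_lit 11],
  [nat_lit 9, nat_lit 10, nat_lit 13, nat_lit 5, nat_lit 8, nat_lit 11],
  [nat_lit 5, nat_lit 12, nat_lit 10, nat_lit 9, nat_lit 13],
  [nat_lit 9, nat_lit 5, nat_lit 10, nat_lit 13, nat_lit 5, nat_lit 8],
  [nat_lit 7, nat_lit 11, nat_lit 13, nat_lit 11],
  [nat_lit 5, nat_lit 10, nat_lit 11, nat_lit 9, nat_lit 10, nat_lit 13],
  [nat_lit 11],
  [nat_lit 5, nat_lit 6, nat_lit 13, nat_lit 11, nat_lit 12, nat_lit 11, nat_lit 12],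
  [nat_lit 13, nat_lit 5, nat_lit 10, nat_lit 11, nat_lit 12, nat_lit 11, nat_lit 12],
  [nat_lit 9, nat_lit 11, nat_lit 12, nat_lit 13],
  [nat_lit 5, nat_lit 6, nat_lit 8, nat_lit 10, nat_lit 12, nat_lit 13],
  [nat_lit 8, nat_lit 10, nat_lit 8, nat_lit 13, nat_lit 5, nat_lit 11],
  [nat_lit 11, nat_lit 13, nat_lit 11],
  [nat_lit 9, nat_lit 5, nat_lit 13, nat_lit 5, nat_lit 10, nat_lit 8],
  [nat_lit 5, nat_lit 11, nat_lit 12, nat_lit 11, nat_lit 8, nat_lit 10, nat_lit 13],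
  [nat_lit 8, nat_lit 11, nat_lit 12, nat_lit 5, nat_lit 13],
  [nat_lit 5, nat_lit 9, nat_lit 5, nat_lit 11, nat_lit 12, nat_lit 11, nat_lit 13],
  [nat_lit 7, nat_lit 12, nat_lit 5, nat_lit 13],
  [nat_lit 9, nat_lit 10, nat_lit 12, nat_lit 10, nat_lit 9, nat_lit 13],
  [nat_lit 5, nat_lit 9, nat_lit 11, nat_lit 9, nat_lit 13],
  [nat_lit 6, nat_lit 8, nat_lit 5, nat_lit 11, nat_lit 9, nat_lit 10],
  [nat_lit 5, nat_lit 6, nat_lit 11, nat_lit 13, nat_lit 12, nat_lit 11],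
  [nat_lit 5, nat_lit 11, nat_lit 5, nat_lit 13, nat_lit 12, nat_lit 11],
  [nat_lit 5, nat_lit 8, nat_lit 11, nat_lit 5, nat_lit 9, nat_lit 10],
  [nat_lit 9, nat_lit 5, nat_lit 8, nat_lit 10, nat_lit 11],
  [nat_lit 5, nat_lit 10, nat_lit 11],
  [nat_lit 9, nat_lit 13, nat_lit 12, nat_lit 11, nat_lit 10],
  [nat_lit 10, nat_lit 11, nat_lit 13, nat_lit 11, nat_lit 8, nat_lit 12],
  [nat_lit 11, nat_lit 10, nat_lit 13, nat_lit 11],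
  [nat_lit 7, nat_lit 11, nat_lit 8, nat_lit 13, nat_lit 11, nat_lit 12, nat_lit 11],
  [nat_lit 6, nat_lit 11, nat_lit 8, nat_lit 13, nat_lit 12, nat_lit 11],
  [nat_lit 8, nat_lit 11, nat_lit 5, nat_lit 9, nat_lit 10, nat_lit 11],
  [nat_lit 5, nat_lit 10, nat_lit 9, nat_lit 11, nat_lit 8],
  [nat_lit 9, nat_lit 11, nat_lit 8, nat_lit 5, nat_lit 10],
  [nat_lit 11, nat_lit 8, nat_lit 13, nat_lit 11, nat_lit 12, nat_lit 11],
  [nat_lit 5, nat_lit 9, nat_lit 11, nat_lit 5, nat_lit 8, nat_lit 10],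
  [nat_lit 8, nat_lit 11, nat_lit 13, nat_lit 5, nat_lit 12, nat_lit 11],
  [nat_lit 5, nat_lit 8, nat_lit 10, nat_lit 12, nat_lit 13, nat_lit 11],
  [nat_lit 5, nat_lit 12, nat_lit 10, nat_lit 13]]
noncomputable def s1_L : List (List ℕ × ℕ) := [([nat_lit 11, nat_lit 13], (nat_lit 2)), ([nat_lit 9, nat_lit 11, nat_lit 5], (nat_lit 2)), ([nat_lit 10, nat_lit 13], (nat_lit 2)), ([nat_lit 13, nat_lit 5, nat_lit 10], (nat_lit 3)), ([nat_lit 13, nat_lit 5, nat_lit 9, nat_lit 11, nat_lit 10], (nat_lit 0)), ([nat_lit 9, nat_lit 10, nat_lit 11], (nat_lit 0)), ([nat_lit 9, nat_lit 10, nat_lit 11, nat_lit 9, nat_lit 5], (nat_lit 0)), ([nat_lit 5, nat_lit 8, nat_lit 10, nat_lit 11, nat_lit 13], (nat_lit 0)), ([nat_lit 11, nat_lit 13, nat_lit 11], (nat_lit 1)), ([nat_lit 5, nat_lit 11, nat_lit 13, nat_lit 12, nat_lit 11], (nat_lit 0)), ([nat_lit 11, nat_lit 5, nat_lit 9,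 nat_lit 10], (nat_lit 0)), ([nat_lit 8, nat_lit 11], (nat_lit 2)), ([nat_lit 5, nat_lit 10, nat_lit 13], (nat_lit 2)), ([nat_lit 5, nat_lit 8, nat_lit 10], (nat_lit 0)), ([nat_lit 11, nat_lit 13, nat_lit 5, nat_lit 11], (nat_lit 0)), ([nat_lit 8, nat_lit 10, nat_lit 8, nat_lit 5], (nat_lit 0)), ([nat_lit 9, nat_lit 11, nat_lit 13], (nat_lit 0)), ([nat_lit 10, nat_lit 8, nat_lit 13, nat_lit 5, nat_lit 11], (nat_lit 0)), ([nat_lit 10, nat_lit 9, nat_lit 5], (nat_lit 0)), ([nat_lit 5, nat_lit 11], (nat_lit 2)), ([], (nat_lit 2)), ([nat_lit 5, nat_lit 8, nat_lit 10], (nat_lit 1)), ([nat_lit 9, nat_lit 5, nat_lit 10], (nat_lit 3)), ([nat_lit 10], (nat_lit 3)), ([nat_lit 8, nat_lit 11], (nat_lit 3)), ([nat_lit 5], (nat_lit 2)), ([nat_lit 8, nat_lit 10], (nat_lit 1)), ([nat_lit 10, nat_lit 5], (nat_lit 2)), ([nat_lit 8, nat_lit 11], (nat_lit 1)), ([nat_lit 8, nat_lit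 11, nat_lit 5], (nat_lit 2)), ([nat_lit 8, nat_lit 5], (nat_lit 3)), ([nat_lit 5], (nat_lit 0)), ([nat_lit 9, nat_lit 5, nat_lit 10, nat_lit 11, nat_lit 13], (nat_lit 0)), ([nat_lit 8, nat_lit 5, nat_lit 13, nat_lit 5, nat_lit 12, nat_lit 11], (nat_lit 0)), ([], (nat_lit 0)), ([nat_lit 8, nat_lit 10], (nat_lit 2)), ([nat_lit 11, nat_lit 10], (nat_lit 1)), ([nat_lit 11, nat_lit 10], (nat_lit 2)), ([nat_lit 11, nat_lit 10], (nat_lit 3)), ([nat_lit 10, nat_lit 11, nat_lit 13, nat_lit 11], (nat_lit 0)), ([nat_lit 5, nat_lit 11, nat_lit 10], (nat_lit 0)), ([nat_lit 10, nat_lit 11, nat_lit 8, nat_lit 5], (nat_lit 0)), ([nat_lit 11, nat_lit 10], (nat_lit 0)), ([nat_lit 10, nat_lit 11, nat_lit 13], (nat_lit 0)), ([nat_lit 5, nat_lit 11, nat_lit 10, nat_lit 13], (nat_lit 0)), ([nat_lit 5, nat_lit 11, nat_lit 10, nat_lit 13, nat_lit 11], (nat_lit 0)), ([nat_lit 10, nat_lit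 11, nat_lit 9, nat_lit 5], (nat_lit 0)), ([nat_lit 11, nat_lit 13], (nat_lit 0)), ([nat_lit 11, nat_lit 8, nat_lit 10], (nat_lit 0)), ([nat_lit 5, nat_lit 9, nat_lit 10], (nat_lit 0)), ([nat_lit 8, nat_lit 10, nat_lit 13, nat_lit 11, nat_lit 5], (nat_lit 0)), ([nat_lit 8, nat_lit 10, nat_lit 13, nat_lit 5], (nat_lit 0)), ([nat_lit 5, nat_lit 9, nat_lit 10, nat_lit 5], (nat_lit 0)), ([nat_lit 13, nat_lit 11, nat_lit 5], (nat_lit 3)), ([nat_lit 9, nat_lit 11, nat_lit 13], (nat_lit 1)), ([nat_lit 5, nat_lit 13, nat_lit 11], (nat_lit 2)), ([nat_lit 9, nat_lit 11, nat_lit 13], (nat_lit 2)), ([nat_lit 9, nat_lit 5], (nat_lit 1)), ([nat_lit 5, nat_lit 13, nat_lit 5], (nat_lit 2)), ([nat_lit 9, nat_lit 11, nat_lit 5, nat_lit 13], (nat_lit 0)), ([nat_lit 8, nat_lit 10], (nat_lit 0)), ([nat_lit 5, nat_lit 11, nat_lit 13, nat_lit 5], (nat_lit 0)), ([nat_lit 8, nat_lit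 5, nat_lit 10], (nat_lit 0)), ([nat_lit 11], (nat_lit 1)), ([nat_lit 10, nat_lit 13], (nat_lit 3)), ([nat_lit 12, nat_lit 10, nat_lit 11, nat_lit 13], (nat_lit 0)), ([nat_lit 8, nat_lit 11], (nat_lit 0)), ([nat_lit 9, nat_lit 5, nat_lit 10, nat_lit 13], (nat_lit 0)), ([nat_lit 8, nat_lit 11, nat_lit 5], (nat_lit 0)), ([nat_lit 5, nat_lit 10, nat_lit 13], (nat_lit 0)), ([nat_lit 10, nat_lit 12, nat_lit 5, nat_lit 10], (nat_lit 0)), ([nat_lit 13, nat_lit 11, nat_lit 10], (nat_lit 1)), ([nat_lit 8, nat_lit 5, nat_lit 10], (nat_lit 3)), ([nat_lit 5, nat_lit 11, nat_lit 8, nat_lit 10], (nat_lit 0)), ([nat_lit 5, nat_lit 11, nat_lit 13], (nat_lit 0)), ([nat_lit 10, nat_lit 5], (nat_lit 0)), ([nat_lit 5, nat_lit 12, nat_lit 13, nat_lit 5, nat_lit 11], (nat_lit 0)), ([nat_lit 9, nat_lit 5, nat_lit 11, nat_lit 12, nat_lit 11], (nat_lit 0)), ([nat_lit 13, nat_lit 5],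 (nat_lit 0)), ([nat_lit 5, nat_lit 13, nat_lit 5], (nat_lit 0)), ([nat_lit 8, nat_lit 10, nat_lit 12, nat_lit 10, nat_lit 5], (nat_lit 0)), ([nat_lit 13, nat_lit 11], (nat_lit 1)), ([nat_lit 11], (nat_lit 2)), ([nat_lit 9, nat_lit 11, nat_lit 5], (nat_lit 0)), ([nat_lit 9, nat_lit 11], (nat_lit 0)), ([nat_lit 13, nat_lit 5, nat_lit 11, nat_lit 8, nat_lit 10], (nat_lit 0)), ([nat_lit 12, nat_lit 5, nat_lit 10, nat_lit 11, nat_lit 13], (nat_lit 0)), ([nat_lit 10, nat_lit 11, nat_lit 9, nat_lit 5, nat_lit 11], (nat_lit 0)), ([nat_lit 5, nat_lit 13, nat_lit 11, nat_lit 10], (nat_lit 0)), ([nat_lit 11, nat_lit 13, nat_lit 12, nat_lit 11], (nat_lit 0)), ([nat_lit 11, nat_lit 12, nat_lit 11], (nat_lit 0)), ([nat_lit 13, nat_lit 11], (nat_lit 3)), ([nat_lit 5, nat_lit 11], (nat_lit 1)), ([nat_lit 8, nat_lit 5], (nat_lit 0)), ([nat_lit 12, nat_lit 11, nat_lit 13, nat_lit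 11], (nat_lit 0)), ([nat_lit 12, nat_lit 11, nat_lit 10, nat_lit 13, nat_lit 11], (nat_lit 0)), ([nat_lit 9, nat_lit 5], (nat_lit 0)), ([nat_lit 11, nat_lit 13, nat_lit 11], (nat_lit 0)), ([nat_lit 11, nat_lit 8, nat_lit 10, nat_lit 5], (nat_lit 0)), ([nat_lit 10, nat_lit 8, nat_lit 5], (nat_lit 0)), ([nat_lit 10, nat_lit 13, nat_lit 11, nat_lit 9, nat_lit 5], (nat_lit 0)), ([nat_lit 10], (nat_lit 0)), ([nat_lit 10, nat_lit 9, nat_lit 11, nat_lit 13], (nat_lit 0)), ([nat_lit 5, nat_lit 10, nat_lit 13, nat_lit 5], (nat_lit 0)), ([nat_lit 5, nat_lit 10, nat_lit 9, nat_lit 11], (nat_lit 0)), ([nat_lit 10], (nat_lit 2)), ([nat_lit 10, nat_lit 5], (nat_lit 3)), ([nat_lit 10, nat_lit 12, nat_lit 5], (nat_lit 0)), ([nat_lit 10, nat_lit 13], (nat_lit 0)), ([nat_lit 12, nat_lit 11, nat_lit 5, nat_lit 13], (nat_lit 0)), ([nat_lit 9, nat_lit 5, nat_lit 12, nat_lit 13,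 nat_lit 5, nat_lit 11], (nat_lit 0)), ([nat_lit 8, nat_lit 12, nat_lit 5, nat_lit 10], (nat_lit 0)), ([nat_lit 5, nat_lit 9, nat_lit 11], (nat_lit 0)), ([nat_lit 11, nat_lit 9, nat_lit 5], (nat_lit 0)), ([nat_lit 9, nat_lit 5, nat_lit 13, nat_lit 5, nat_lit 10], (nat_lit 0)), ([nat_lit 5, nat_lit 8, nat_lit 10, nat_lit 12, nat_lit 5], (nat_lit 0)), ([nat_lit 8, nat_lit 10, nat_lit 12, nat_lit 5], (nat_lit 0)), ([nat_lit 13, nat_lit 11, nat_lit 5], (nat_lit 0)), ([nat_lit 13, nat_lit 5, nat_lit 9, nat_lit 11], (nat_lit 0)), ([nat_lit 13, nat_lit 5], (nat_lit 2)), ([nat_lit 11, nat_lit 13], (nat_lit 1)), ([nat_lit 8, nat_lit 11, nat_lit 5], (nat_lit 1)), ([nat_lit 5, nat_lit 13], (nat_lit 0)), ([nat_lit 8, nat_lit 11, nat_lit 10], (nat_lit 0)), ([nat_lit 5, nat_lit 8, nat_lit 10, nat_lit 5, nat_lit 11], (nat_lit 0)), ([nat_lit 13, nat_lit 11], (nat_lit 0)), ([nat_lit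 10, nat_lit 8, nat_lit 11, nat_lit 5], (nat_lit 0)), ([nat_lit 13, nat_lit 11, nat_lit 10], (nat_lit 0)), ([nat_lit 5], (nat_lit 3)), ([nat_lit 13], (nat_lit 1)), ([nat_lit 10, nat_lit 9, nat_lit 5, nat_lit 11], (nat_lit 0)), ([nat_lit 5, nat_lit 10, nat_lit 13, nat_lit 11, nat_lit 5], (nat_lit 0)), ([nat_lit 8, nat_lit 10, nat_lit 13], (nat_lit 3)), ([nat_lit 11, nat_lit 13], (nat_lit 3)), ([nat_lit 5], (nat_lit 1)), ([nat_lit 8, nat_lit 10, nat_lit 13], (nat_lit 2)), ([nat_lit 9, nat_lit 11], (nat_lit 2)), ([nat_lit 11], (nat_lit 3)), ([nat_lit 12, nat_lit 11, nat_lit 13], (nat_lit 2)), ([nat_lit 8, nat_lit 5], (nat_lit 1)), ([nat_lit 13, nat_lit 11, nat_lit 10], (nat_lit 3)), ([nat_lit 13, nat_lit 5, nat_lit 10], (nat_lit 2)), ([nat_lit 11], (nat_lit 0)), ([nat_lit 9, nat_lit 10, nat_lit 13, nat_lit 5], (nat_lit 0)), ([nat_lit 5, nat_lit 13, nat_lit 11],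 (nat_lit 3)), ([nat_lit 10, nat_lit 13], (nat_lit 1)), ([nat_lit 9, nat_lit 5, nat_lit 10], (nat_lit 2)), ([nat_lit 10], (nat_lit 1)), ([nat_lit 13, nat_lit 5, nat_lit 10], (nat_lit 0)), ([nat_lit 10, nat_lit 9, nat_lit 11], (nat_lit 0)), ([nat_lit 5, nat_lit 13, nat_lit 5], (nat_lit 3)), ([nat_lit 10, nat_lit 11, nat_lit 13, nat_lit 11], (nat_lit 1)), ([nat_lit 13], (nat_lit 2)), ([nat_lit 13], (nat_lit 3)), ([nat_lit 8, nat_lit 10, nat_lit 13], (nat_lit 1)), ([nat_lit 13, nat_lit 5], (nat_lit 3)), ([nat_lit 5, nat_lit 13], (nat_lit 2)), ([nat_lit 12, nat_lit 11, nat_lit 13], (nat_lit 1)), ([nat_lit 11, nat_lit 13, nat_lit 12, nat_lit 11], (nat_lit 2)), ([nat_lit 11, nat_lit 8, nat_lit 5], (nat_lit 0)), ([nat_lit 11, nat_lit 13, nat_lit 11, nat_lit 8, nat_lit 10], (nat_lit 0)), ([nat_lit 11, nat_lit 12, nat_lit 11, nat_lit 8, nat_lit 10], (nat_lit 0)), ([nat_lit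 11, nat_lit 13, nat_lit 11, nat_lit 12, nat_lit 11], (nat_lit 0)), ([nat_lit 12, nat_lit 5, nat_lit 11], (nat_lit 0)), ([nat_lit 5, nat_lit 12, nat_lit 11, nat_lit 5], (nat_lit 0)), ([nat_lit 8, nat_lit 10, nat_lit 13, nat_lit 11], (nat_lit 0)), ([nat_lit 8, nat_lit 5, nat_lit 10, nat_lit 13], (nat_lit 0)), ([nat_lit 9, nat_lit 11], (nat_lit 3)), ([nat_lit 5, nat_lit 11], (nat_lit 3)), ([nat_lit 12, nat_lit 11], (nat_lit 2)), ([nat_lit 5, nat_lit 13], (nat_lit 1)), ([nat_lit 12, nat_lit 11], (nat_lit 1)), ([nat_lit 13, nat_lit 11, nat_lit 5], (nat_lit 2)), ([nat_lit 5, nat_lit 8, nat_lit 11, nat_lit 10], (nat_lit 0)), ([nat_lit 13], (nat_lit 0)), ([nat_lit 8, nat_lit 5, nat_lit 10, nat_lit 11], (nat_lit 0)), ([nat_lit 5, nat_lit 13, nat_lit 11], (nat_lit 0)), ([nat_lit 9, nat_lit 5], (nat_lit 2)), ([nat_lit 12, nat_lit 11], (nat_lit 3)), ([nat_lit 9, nat_lit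 11], (nat_lit 1)), ([nat_lit 9, nat_lit 5], (nat_lit 3)), ([nat_lit 5, nat_lit 8, nat_lit 11], (nat_lit 2)), ([nat_lit 5, nat_lit 13, nat_lit 11], (nat_lit 1)), ([nat_lit 11, nat_lit 13, nat_lit 11], (nat_lit 3)), ([nat_lit 5, nat_lit 11, nat_lit 13], (nat_lit 2)), ([nat_lit 5, nat_lit 10, nat_lit 13], (nat_lit 3)), ([nat_lit 11, nat_lit 8, nat_lit 13, nat_lit 11], (nat_lit 0)), ([nat_lit 9, nat_lit 5, nat_lit 12, nat_lit 11, nat_lit 5], (nat_lit 0)), ([nat_lit 13, nat_lit 11, nat_lit 8, nat_lit 10], (nat_lit 0)), ([nat_lit 12, nat_lit 11, nat_lit 13], (nat_lit 0)), ([nat_lit 5, nat_lit 8, nat_lit 11, nat_lit 5], (nat_lit 0)), ([nat_lit 5, nat_lit 8, nat_lit 11], (nat_lit 0)), ([nat_lit 11, nat_lit 12, nat_lit 11, nat_lit 10, nat_lit 13], (nat_lit 0)), ([nat_lit 5, nat_lit 11], (nat_lit 0)), ([nat_lit 13, nat_lit 11, nat_lit 5], (nat_lit 1)), ([nat_lit 13, nat_lit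 5], (nat_lit 1)), ([nat_lit 9, nat_lit 11, nat_lit 13], (nat_lit 3)), ([nat_lit 11, nat_lit 8, nat_lit 13, nat_lit 11, nat_lit 10], (nat_lit 0)), ([nat_lit 11, nat_lit 9, nat_lit 5, nat_lit 10], (nat_lit 0)), ([nat_lit 9, nat_lit 10, nat_lit 11], (nat_lit 3)), ([], (nat_lit 1)), ([nat_lit 13, nat_lit 11], (nat_lit 2)), ([nat_lit 10, nat_lit 11, nat_lit 13], (nat_lit 3)), ([nat_lit 10, nat_lit 11, nat_lit 13], (nat_lit 1)), ([nat_lit 10, nat_lit 13, nat_lit 5, nat_lit 11], (nat_lit 0)), ([nat_lit 5, nat_lit 10, nat_lit 9, nat_lit 5, nat_lit 11], (nat_lit 0)), ([nat_lit 5, nat_lit 9, nat_lit 10], (nat_lit 1)), ([nat_lit 9, nat_lit 10, nat_lit 11], (nat_lit 1)), ([nat_lit 5, nat_lit 13], (nat_lit 3)), ([nat_lit 5, nat_lit 8, nat_lit 10, nat_lit 13], (nat_lit 0)), ([nat_lit 9, nat_lit 5, nat_lit 10, nat_lit 9, nat_lit 11], (nat_lit 0)), ([nat_lit 10, nat_lit 8,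 nat_lit 5, nat_lit 10, nat_lit 11], (nat_lit 0)), ([nat_lit 8, nat_lit 10, nat_lit 13], (nat_lit 0)), ([nat_lit 9, nat_lit 10, nat_lit 5, nat_lit 11], (nat_lit 0)), ([nat_lit 13, nat_lit 5, nat_lit 9, nat_lit 10], (nat_lit 0)), ([nat_lit 5, nat_lit 9, nat_lit 11, nat_lit 10], (nat_lit 0)), ([nat_lit 8, nat_lit 5, nat_lit 11, nat_lit 10, nat_lit 13], (nat_lit 0)), ([nat_lit 5, nat_lit 11, nat_lit 13], (nat_lit 1)), ([nat_lit 5, nat_lit 8, nat_lit 13, nat_lit 5, nat_lit 10], (nat_lit 0)), ([nat_lit 12, nat_lit 11], (nat_lit 0)), ([nat_lit 13, nat_lit 11, nat_lit 9, nat_lit 10, nat_lit 5], (nat_lit 0)), ([nat_lit 9, nat_lit 5, nat_lit 10], (nat_lit 0)), ([nat_lit 8, nat_lit 11, nat_lit 10], (nat_lit 3)), ([], (nat_lit 3))]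
noncomputable def s20_L : List (List ℕ × ℕ) := [([], (nat_lit 2)), ([nat_lit 9, nat_lit 12, nat_lit 12], (nat_lit 2)), ([nat_lit 9, nat_lit 12, nat_lit 12], (nat_lit 0)), ([nat_lit 8, nat_lit 12, nat_lit 12], (nat_lit 2)), ([nat_lit 9], (nat_lit 1)), ([nat_lit 9, nat_lit 12], (nat_lit 0)), ([nat_lit 12], (nat_lit 1)), ([nat_lit 9, nat_lit 12, nat_lit 12], (nat_lit 1)), ([nat_lit 8, nat_lit 12, nat_lit 12], (nat_lit 0)), ([nat_lit 9], (nat_lit 0)), ([nat_lit 9, nat_lit 12], (nat_lit 1)), ([nat_lit 9], (nat_lit 2)), ([nat_lit 8, nat_lit 12], (nat_lit 0)), ([nat_lit 12], (nat_lit 0)), ([nat_lit 8], (nat_lit 2)), ([nat_lit 8, nat_lit 12, nat_lit 12], (nat_lit 1)), ([nat_lit 8, nat_lit 12], (nat_lit 2)), ([nat_lit 9, nat_lit 12], (nat_lit 2)), ([], (nat_lit 0)), ([nat_lit 8], (nat_lit 0)), ([nat_lit 12, nat_lit 12], (nat_lit 2)), ([nat_lit 8], (nat_lit 1)), ([nat_lit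 12, nat_lit 12], (nat_lit 0)), ([nat_lit 12, nat_lit 12], (nat_lit 1)), ([], (nat_lit 1)), ([nat_lit 8, nat_lit 12], (nat_lit 1)), ([nat_lit 12], (nat_lit 2))]
noncomputable def s21_L : List (List ℕ × ℕ) := []
noncomputable def s22_L : List (List ℕ × ℕ) := []
noncomputable def s23_L : List (List ℕ × ℕ) := []
noncomputable def s31_L : List (List ℕ × ℕ) := []
noncomputable def s32_L : List (List ℕ × ℕ) := []
noncomputable def s30_L : List (List ℕ × ℕ) := [([], (nat_lit 0))]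
noncomputable def s4_L : List (List ℕ × ℕ) := [([], (nat_lit 0))]
noncomputable def c0_P : Wl := [[],
  [nat_lit 6],
  [nat_lit 7],
  [nat_lit 6, nat_lit 7],
  [nat_lit 8],
  [nat_lit 9],
  [nat_lit 10],
  [nat_lit 9, nat_lit 10, nat_lit 8],
  [nat_lit 8, nat_lit 10, nat_lit 9],
  [nat_lit 11],
  [nat_lit 9, nat_lit 11, nat_lit 8],
  [nat_lit 8, nat_lit 11, nat_lit 9]]
noncomputable def c0_T : Wl := [[nat_lit 0, nat_lit 1, nat_lit 3, nat_lit 2, nat_lit 5, nat_lit 4, nat_lit 6, nat_lit 8, nat_lit 7, nat_lit 9, nat_lit 11, nat_lit 10],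
  [],
  [],
  [],
  [nat_lit 0, nat_lit 2, nat_lit 1, nat_lit 3, nat_lit 5, nat_lit 4, nat_lit 7, nat_lit 6, nat_lit 8, nat_lit 9, nat_lit 11, nat_lit 10]]
noncomputable def c0_J4 : Wl := [[],
  [nat_lit 4],
  [nat_lit 5],
  [nat_lit 4, nat_lit 5],
  [nat_lit 3],
  [nat_lit 3, nat_lit 3],
  [nat_lit 2],
  [nat_lit 3, nat_lit 3, nat_lit 2, nat_lit 3],
  [nat_lit 3, nat_lit 2, nat_lit 3, nat_lit 3],
  [nat_lit 1],
  [nat_lit 3, nat_lit 3, nat_lit 1, nat_lit 3],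
  [nat_lit 3, nat_lit 1, nat_lit 3, nat_lit 3]]
noncomputable def r0_L : List (List ℕ × ℕ) := [([nat_lit 0, nat_lit 4], (nat_lit 3))]
noncomputable def r0_R : Wl := [[nat_lit 0, nat_lit 4, nat_lit 0, nat_lit 4, nat_lit 0, nat_lit 4]]
noncomputable def e0_P : Wl := [[],
  [nat_lit 6],
  [nat_lit 7],
  [nat_lit 6, nat_lit 7],
  [nat_lit 10],
  [nat_lit 6, nat_lit 10],
  [nat_lit 7, nat_lit 10],
  [nat_lit 6, nat_lit 7, nat_lit 10],
  [nat_lit 9, nat_lit 10, nat_lit 8],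
  [nat_lit 6, nat_lit 9, nat_lit 10, nat_lit 8],
  [nat_lit 7, nat_lit 9, nat_lit 10, nat_lit 8],
  [nat_lit 6, nat_lit 7, nat_lit 9, nat_lit 10, nat_lit 8],
  [nat_lit 10, nat_lit 9, nat_lit 10, nat_lit 8],
  [nat_lit 6, nat_lit 10, nat_lit 9, nat_lit 10, nat_lit 8],
  [nat_lit 7, nat_lit 10, nat_lit 9, nat_lit 10, nat_lit 8],
  [nat_lit 6, nat_lit 7, nat_lit 10, nat_lit 9, nat_lit 10, nat_lit 8]]
noncomputable def e0_T : Wl := [[nat_lit 0, nat_lit 1, nat_lit 3, nat_lit 2, nat_lit 4, nat_lit 5, nat_lit 7, nat_lit 6, nat_lit 12, nat_lit 13, nat_lit 15, nat_lit 14, nat_lit 8, nat_lit 9, nat_lit 11, nat_lit 10],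
  [nat_lit 0, nat_lit 1, nat_lit 3, nat_lit 2, nat_lit 8, nat_lit 9, nat_lit 11, nat_lit 10, nat_lit 4, nat_lit 5, nat_lit 7, nat_lit 6, nat_lit 12, nat_lit 13, nat_lit 15, nat_lit 14],
  [nat_lit 0, nat_lit 1, nat_lit 4, nat_lit 5, nat_lit 2, nat_lit 3, nat_lit 6, nat_lit 7, nat_lit 9, nat_lit 8, nat_lit 13, nat_lit 12, nat_lit 11, nat_lit 10, nat_lit 15, nat_lit 14],
  [],
  [nat_lit 0, nat_lit 2, nat_lit 1, nat_lit 3, nat_lit 8, nat_lit 10, nat_lit 9, nat_lit 11, nat_lit 4, nat_lit 6, nat_lit 5, nat_lit 7, nat_lit 12, nat_lit 14, nat_lit 13, nat_lit 15]]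
noncomputable def e0_J4 : Wl := [[],
  [nat_lit 4],
  [nat_lit 5],
  [nat_lit 4, nat_lit 5],
  [nat_lit 2],
  [nat_lit 2, nat_lit 4],
  [nat_lit 2, nat_lit 5],
  [nat_lit 2, nat_lit 4, nat_lit 5],
  [nat_lit 3, nat_lit 3, nat_lit 2, nat_lit 3],
  [nat_lit 3, nat_lit 3, nat_lit 2, nat_lit 3, nat_lit 4],
  [nat_lit 3, nat_lit 3, nat_lit 2, nat_lit 3, nat_lit 5],
  [nat_lit 3, nat_lit 3, nat_lit 2, nat_lit 3, nat_lit 4, nat_lit 5],
  [nat_lit 3, nat_lit 2, nat_lit 3, nat_lit 3],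
  [nat_lit 3, nat_lit 2, nat_lit 3, nat_lit 3, nat_lit 4],
  [nat_lit 3, nat_lit 2, nat_lit 3, nat_lit 3, nat_lit 5],
  [nat_lit 0, nat_lit 3, nat_lit 2, nat_lit 3, nat_lit 3, nat_lit 0]]
noncomputable def r1_L : List (List ℕ × ℕ) := [([nat_lit 2, nat_lit 4], (nat_lit 6)), ([nat_lit 0, nat_lit 2, nat_lit 4], (nat_lit 5)), ([nat_lit 0, nat_lit 2, nat_lit 4, nat_lit 2, nat_lit 0, nat_lit 4], (nat_lit 3)), ([nat_lit 0, nat_lit 4, nat_lit 2, nat_lit 4, nat_lit 2, nat_lit 4], (nat_lit 3)), ([nat_lit 0, nat_lit 1, nat_lit 2, nat_lit 4], (nat_lit 5)), ([nat_lit 1, nat_lit 2, nat_lit 1, nat_lit 4], (nat_lit 5)), ([nat_lit 1, nat_lit 2, nat_lit 4, nat_lit 2], (nat_lit 5)), ([nat_lit 1, nat_lit 4, nat_lit 2, nat_lit 4], (nat_lit 5)), ([nat_lit 0, nat_lit 1, nat_lit 0, nat_lit 2, nat_lit 0, nat_lit 2, nat_lit 4], (nat_lit 3)), ([nat_lit 0, nat_lit 1, nat_lit 0, nat_lit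 2, nat_lit 4, nat_lit 2, nat_lit 4], (nat_lit 3)), ([nat_lit 0, nat_lit 1, nat_lit 2, nat_lit 0, nat_lit 2, nat_lit 0, nat_lit 4], (nat_lit 3)), ([nat_lit 0, nat_lit 1, nat_lit 2, nat_lit 0, nat_lit 2, nat_lit 4, nat_lit 1], (nat_lit 3))]
noncomputable def r1_R : Wl := [[nat_lit 2, nat_lit 4, nat_lit 2, nat_lit 4, nat_lit 2, nat_lit 4, nat_lit 2, nat_lit 4, nat_lit 2, nat_lit 4, nat_lit 2, nat_lit 4],
  [nat_lit 0, nat_lit 2, nat_lit 4, nat_lit 0, nat_lit 2, nat_lit 4, nat_lit 0, nat_lit 2, nat_lit 4, nat_lit 0, nat_lit 2, nat_lit 4, nat_lit 0, nat_lit 2, nat_lit 4],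
  [nat_lit 0, nat_lit 2, nat_lit 4, nat_lit 2, nat_lit 0, nat_lit 4, nat_lit 0, nat_lit 2, nat_lit 4, nat_lit 2, nat_lit 0, nat_lit 4, nat_lit 0, nat_lit 2, nat_lit 4, nat_lit 2, nat_lit 0, nat_lit 4],
  [nat_lit 0, nat_lit 4, nat_lit 2, nat_lit 4, nat_lit 2, nat_lit 4, nat_lit 0, nat_lit 4, nat_lit 2, nat_lit 4, nat_lit 2, nat_lit 4, nat_lit 0, nat_lit 4, nat_lit 2, nat_lit 4, nat_lit 2, nat_lit 4],
  [nat_lit 0, nat_lit 1, nat_lit 2, nat_lit 4, nat_lit 0, nat_lit 1, nat_lit 2, nat_lit 4, nat_lit 0, nat_lit 1, nat_lit 2, nat_lit 4, nat_lit 0, nat_lit 1, nat_lit 2, nat_lit 4, nat_lit 0, nat_lit 1, nat_lit 2, nat_lit 4],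
  [nat_lit 1, nat_lit 2, nat_lit 1, nat_lit 4, nat_lit 1, nat_lit 2, nat_lit 1, nat_lit 4, nat_lit 1, nat_lit 2, nat_lit 1, nat_lit 4, nat_lit 1, nat_lit 2, nat_lit 1, nat_lit 4, nat_lit 1, nat_lit 2, nat_lit 1, nat_lit 4],
  [nat_lit 1, nat_lit 2, nat_lit 4, nat_lit 2, nat_lit 1, nat_lit 2, nat_lit 4, nat_lit 2, nat_lit 1, nat_lit 2, nat_lit 4, nat_lit 2, nat_lit 1, nat_lit 2, nat_lit 4, nat_lit 2, nat_lit 1, nat_lit 2, nat_lit 4, nat_lit 2],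
  [nat_lit 1, nat_lit 4, nat_lit 2, nat_lit 4, nat_lit 1, nat_lit 4, nat_lit 2, nat_lit 4, nat_lit 1, nat_lit 4, nat_lit 2, nat_lit 4, nat_lit 1, nat_lit 4, nat_lit 2, nat_lit 4, nat_lit 1, nat_lit 4, nat_lit 2, nat_lit 4],
  [nat_lit 0, nat_lit 1, nat_lit 0, nat_lit 2, nat_lit 0, nat_lit 2, nat_lit 4, nat_lit 0, nat_lit 1, nat_lit 0, nat_lit 2, nat_lit 0, nat_lit 2, nat_lit 4, nat_lit 0, nat_lit 1, nat_lit 0, nat_lit 2, nat_lit 0, nat_lit 2, nat_lit 4],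
  [nat_lit 0, nat_lit 1, nat_lit 0, nat_lit 2, nat_lit 4, nat_lit 2, nat_lit 4, nat_lit 0, nat_lit 1, nat_lit 0, nat_lit 2, nat_lit 4, nat_lit 2, nat_lit 4, nat_lit 0, nat_lit 1, nat_lit 0, nat_lit 2, nat_lit 4, nat_lit 2, nat_lit 4],
  [nat_lit 0, nat_lit 1, nat_lit 2, nat_lit 0, nat_lit 2, nat_lit 0, nat_lit 4, nat_lit 0, nat_lit 1, nat_lit 2, nat_lit 0, nat_lit 2, nat_lit 0, nat_lit 4, nat_lit 0, nat_lit 1, nat_lit 2, nat_lit 0, nat_lit 2, nat_lit 0, nat_lit 4],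
  [nat_lit 0, nat_lit 1, nat_lit 2, nat_lit 0, nat_lit 2, nat_lit 4, nat_lit 1, nat_lit 0, nat_lit 1, nat_lit 2, nat_lit 0, nat_lit 2, nat_lit 4, nat_lit 1, nat_lit 0, nat_lit 1, nat_lit 2, nat_lit 0, nat_lit 2, nat_lit 4, nat_lit 1]]
noncomputable def e1_P : Wl := [[],
  [nat_lit 6],
  [nat_lit 7],
  [nat_lit 6, nat_lit 7],
  [nat_lit 11],
  [nat_lit 6, nat_lit 11],
  [nat_lit 7, nat_lit 11],
  [nat_lit 6, nat_lit 7, nat_lit 11],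
  [nat_lit 9, nat_lit 11, nat_lit 8],
  [nat_lit 6, nat_lit 9, nat_lit 11, nat_lit 8],
  [nat_lit 7, nat_lit 9, nat_lit 11, nat_lit 8],
  [nat_lit 6, nat_lit 7, nat_lit 9, nat_lit 11, nat_lit 8],
  [nat_lit 11, nat_lit 9, nat_lit 11, nat_lit 8],
  [nat_lit 6, nat_lit 11, nat_lit 9, nat_lit 11, nat_lit 8],
  [nat_lit 7, nat_lit 11, nat_lit 9, nat_lit 11, nat_lit 8],
  [nat_lit 6, nat_lit 7, nat_lit 11, nat_lit 9, nat_lit 11, nat_lit 8]]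
noncomputable def e1_T : Wl := [[nat_lit 0, nat_lit 1, nat_lit 3, nat_lit 2, nat_lit 4, nat_lit 5, nat_lit 7, nat_lit 6, nat_lit 12, nat_lit 13, nat_lit 15, nat_lit 14, nat_lit 8, nat_lit 9, nat_lit 11, nat_lit 10],
  [nat_lit 0, nat_lit 1, nat_lit 3, nat_lit 2, nat_lit 8, nat_lit 9, nat_lit 11, nat_lit 10, nat_lit 4, nat_lit 5, nat_lit 7, nat_lit 6, nat_lit 12, nat_lit 13, nat_lit 15, nat_lit 14],
  [],
  [nat_lit 0, nat_lit 1, nat_lit 5, nat_lit 4, nat_lit 3, nat_lit 2, nat_lit 6, nat_lit 7, nat_lit 9, nat_lit 8, nat_lit 12, nat_lit 13, nat_lit 10, nat_lit 11, nat_lit 15, nat_lit 14],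
  [nat_lit 0, nat_lit 2, nat_lit 1, nat_lit 3, nat_lit 4, nat_lit 6, nat_lit 5, nat_lit 7, nat_lit 12, nat_lit 14, nat_lit 13, nat_lit 15, nat_lit 8, nat_lit 10, nat_lit 9, nat_lit 11]]
noncomputable def e1_J4 : Wl := [[],
  [nat_lit 4],
  [nat_lit 5],
  [nat_lit 4, nat_lit 5],
  [nat_lit 1],
  [nat_lit 1, nat_lit 4],
  [nat_lit 1, nat_lit 5],
  [nat_lit 0, nat_lit 1, nat_lit 0],
  [nat_lit 3, nat_lit 3, nat_lit 1, nat_lit 3],
  [nat_lit 3, nat_lit 3, nat_lit 1, nat_lit 3, nat_lit 4],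
  [nat_lit 3, nat_lit 3, nat_lit 1, nat_lit 3, nat_lit 5],
  [nat_lit 2, nat_lit 3, nat_lit 3, nat_lit 1, nat_lit 3, nat_lit 2],
  [nat_lit 3, nat_lit 1, nat_lit 3, nat_lit 3],
  [nat_lit 3, nat_lit 1, nat_lit 3, nat_lit 3, nat_lit 4],
  [nat_lit 3, nat_lit 1, nat_lit 3, nat_lit 3, nat_lit 5],
  [nat_lit 3, nat_lit 0, nat_lit 1, nat_lit 0, nat_lit 3, nat_lit 3]]
noncomputable def r2_L : List (List ℕ × ℕ) := [([nat_lit 1, nat_lit 3, nat_lit 4], (nat_lit 5)), ([nat_lit 1, nat_lit 3, nat_lit 1, nat_lit 3, nat_lit 4, nat_lit 3], (nat_lit 3)), ([nat_lit 0, nat_lit 1, nat_lit 3, nat_lit 4], (nat_lit 5)), ([nat_lit 1, nat_lit 3, nat_lit 1, nat_lit 4], (nat_lit 5)), ([nat_lit 1, nat_lit 3, nat_lit 4, nat_lit 3], (nat_lit 5)), ([nat_lit 1, nat_lit 4, nat_lit 3, nat_lit 4], (nat_lit 5)), ([nat_lit 0, nat_lit 1, nat_lit 0, nat_lit 3, nat_lit 0, nat_lit 3, nat_lit 4], (nat_lit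 3)), ([nat_lit 0, nat_lit 1, nat_lit 3, nat_lit 0, nat_lit 3, nat_lit 0, nat_lit 4], (nat_lit 3)), ([nat_lit 0, nat_lit 1, nat_lit 3, nat_lit 0, nat_lit 3, nat_lit 4, nat_lit 1], (nat_lit 3)), ([nat_lit 0, nat_lit 1, nat_lit 4, nat_lit 1, nat_lit 3, nat_lit 0, nat_lit 3], (nat_lit 3)), ([nat_lit 0, nat_lit 3, nat_lit 0, nat_lit 3, nat_lit 4, nat_lit 1, nat_lit 4], (nat_lit 3)), ([nat_lit 0, nat_lit 3, nat_lit 1, nat_lit 4, nat_lit 0, nat_lit 4, nat_lit 3], (nat_lit 3))]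
noncomputable def r2_R : Wl := [[nat_lit 1, nat_lit 3, nat_lit 4, nat_lit 1, nat_lit 3, nat_lit 4, nat_lit 1, nat_lit 3, nat_lit 4, nat_lit 1, nat_lit 3, nat_lit 4, nat_lit 1, nat_lit 3, nat_lit 4],
  [nat_lit 1, nat_lit 3, nat_lit 1, nat_lit 3, nat_lit 4, nat_lit 3, nat_lit 1, nat_lit 3, nat_lit 1, nat_lit 3, nat_lit 4, nat_lit 3, nat_lit 1, nat_lit 3, nat_lit 1, nat_lit 3, nat_lit 4, nat_lit 3],
  [nat_lit 0, nat_lit 1, nat_lit 3, nat_lit 4, nat_lit 0, nat_lit 1, nat_lit 3, nat_lit 4, nat_lit 0, nat_lit 1, nat_lit 3, nat_lit 4, nat_lit 0, nat_lit 1, nat_lit 3, nat_lit 4, nat_lit 0, nat_lit 1, nat_lit 3, nat_lit 4],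
  [nat_lit 1, nat_lit 3, nat_lit 1, nat_lit 4, nat_lit 1, nat_lit 3, nat_lit 1, nat_lit 4, nat_lit 1, nat_lit 3, nat_lit 1, nat_lit 4, nat_lit 1, nat_lit 3, nat_lit 1, nat_lit 4, nat_lit 1, nat_lit 3, nat_lit 1, nat_lit 4],
  [nat_lit 1, nat_lit 3, nat_lit 4, nat_lit 3, nat_lit 1, nat_lit 3, nat_lit 4, nat_lit 3, nat_lit 1, nat_lit 3, nat_lit 4, nat_lit 3, nat_lit 1, nat_lit 3, nat_lit 4, nat_lit 3, nat_lit 1, nat_lit 3, nat_lit 4, nat_lit 3],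
  [nat_lit 1, nat_lit 4, nat_lit 3, nat_lit 4, nat_lit 1, nat_lit 4, nat_lit 3, nat_lit 4, nat_lit 1, nat_lit 4, nat_lit 3, nat_lit 4, nat_lit 1, nat_lit 4, nat_lit 3, nat_lit 4, nat_lit 1, nat_lit 4, nat_lit 3, nat_lit 4],
  [nat_lit 0, nat_lit 1, nat_lit 0, nat_lit 3, nat_lit 0, nat_lit 3, nat_lit 4, nat_lit 0, nat_lit 1, nat_lit 0, nat_lit 3, nat_lit 0, nat_lit 3, nat_lit 4, nat_lit 0, nat_lit 1, nat_lit 0, nat_lit 3, nat_lit 0, nat_lit 3, nat_lit 4],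
  [nat_lit 0, nat_lit 1, nat_lit 3, nat_lit 0, nat_lit 3, nat_lit 0, nat_lit 4, nat_lit 0, nat_lit 1, nat_lit 3, nat_lit 0, nat_lit 3, nat_lit 0, nat_lit 4, nat_lit 0, nat_lit 1, nat_lit 3, nat_lit 0, nat_lit 3, nat_lit 0, nat_lit 4],
  [nat_lit 0, nat_lit 1, nat_lit 3, nat_lit 0, nat_lit 3, nat_lit 4, nat_lit 1, nat_lit 0, nat_lit 1, nat_lit 3, nat_lit 0, nat_lit 3, nat_lit 4, nat_lit 1, nat_lit 0, nat_lit 1, nat_lit 3, nat_lit 0, nat_lit 3, nat_lit 4, nat_lit 1],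
  [nat_lit 0, nat_lit 1, nat_lit 4, nat_lit 1, nat_lit 3, nat_lit 0, nat_lit 3, nat_lit 0, nat_lit 1, nat_lit 4, nat_lit 1, nat_lit 3, nat_lit 0, nat_lit 3, nat_lit 0, nat_lit 1, nat_lit 4, nat_lit 1, nat_lit 3, nat_lit 0, nat_lit 3],
  [nat_lit 0, nat_lit 3, nat_lit 0, nat_lit 3, nat_lit 4, nat_lit 1, nat_lit 4, nat_lit 0, nat_lit 3, nat_lit 0, nat_lit 3, nat_lit 4, nat_lit 1, nat_lit 4, nat_lit 0, nat_lit 3, nat_lit 0, nat_lit 3, nat_lit 4, nat_lit 1, nat_lit 4],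
  [nat_lit 0, nat_lit 3, nat_lit 1, nat_lit 4, nat_lit 0, nat_lit 4, nat_lit 3, nat_lit 0, nat_lit 3, nat_lit 1, nat_lit 4, nat_lit 0, nat_lit 4, nat_lit 3, nat_lit 0, nat_lit 3, nat_lit 1, nat_lit 4, nat_lit 0, nat_lit 4, nat_lit 3]]
noncomputable def ra_R : Wl := [[nat_lit 0, nat_lit 0],
  [nat_lit 1, nat_lit 1],
  [nat_lit 2, nat_lit 2],
  [nat_lit 3, nat_lit 3],
  [nat_lit 5, nat_lit 5],
  [nat_lit 0, nat_lit 1, nat_lit 0, nat_lit 1, nat_lit 0, nat_lit 1],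
  [nat_lit 1, nat_lit 2, nat_lit 1, nat_lit 2, nat_lit 1, nat_lit 2],
  [nat_lit 1, nat_lit 3, nat_lit 1, nat_lit 3, nat_lit 1, nat_lit 3],
  [nat_lit 0, nat_lit 2, nat_lit 0, nat_lit 2, nat_lit 0, nat_lit 2, nat_lit 0, nat_lit 2],
  [nat_lit 0, nat_lit 3, nat_lit 0, nat_lit 3, nat_lit 0, nat_lit 3, nat_lit 0, nat_lit 3],
  [nat_lit 2, nat_lit 3, nat_lit 2, nat_lit 3, nat_lit 2, nat_lit 3, nat_lit 2, nat_lit 3],
  [nat_lit 0, nat_lit 2, nat_lit 3, nat_lit 2, nat_lit 3, nat_lit 0, nat_lit 2, nat_lit 3, nat_lit 2, nat_lit 3],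
  [nat_lit 1, nat_lit 2, nat_lit 1, nat_lit 3, nat_lit 2, nat_lit 1, nat_lit 3, nat_lit 1, nat_lit 2, nat_lit 3],
  [nat_lit 1, nat_lit 2, nat_lit 3, nat_lit 2, nat_lit 3, nat_lit 1, nat_lit 2, nat_lit 3, nat_lit 2, nat_lit 3],
  [nat_lit 0, nat_lit 2, nat_lit 0, nat_lit 3, nat_lit 2, nat_lit 3, nat_lit 0, nat_lit 2, nat_lit 0, nat_lit 3, nat_lit 2, nat_lit 3],
  [nat_lit 0, nat_lit 2, nat_lit 1, nat_lit 3, nat_lit 1, nat_lit 2, nat_lit 0, nat_lit 2, nat_lit 3, nat_lit 1, nat_lit 2, nat_lit 3],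
  [nat_lit 0, nat_lit 2, nat_lit 3, nat_lit 0, nat_lit 2, nat_lit 3, nat_lit 0, nat_lit 2, nat_lit 3, nat_lit 0, nat_lit 3, nat_lit 2],
  [nat_lit 0, nat_lit 2, nat_lit 3, nat_lit 2, nat_lit 0, nat_lit 3, nat_lit 0, nat_lit 2, nat_lit 3, nat_lit 2, nat_lit 0, nat_lit 3],
  [nat_lit 0, nat_lit 1, nat_lit 0, nat_lit 2, nat_lit 0, nat_lit 1, nat_lit 2, nat_lit 1, nat_lit 0, nat_lit 2, nat_lit 0, nat_lit 1, nat_lit 2, nat_lit 0, nat_lit 2],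
  [nat_lit 2, nat_lit 5, nat_lit 2, nat_lit 5, nat_lit 2, nat_lit 5],
  [nat_lit 3, nat_lit 5, nat_lit 3, nat_lit 5, nat_lit 3, nat_lit 5],
  [nat_lit 0, nat_lit 5, nat_lit 0, nat_lit 5, nat_lit 0, nat_lit 5, nat_lit 0, nat_lit 5],
  [nat_lit 1, nat_lit 5, nat_lit 1, nat_lit 5, nat_lit 1, nat_lit 5, nat_lit 1, nat_lit 5],
  [nat_lit 0, nat_lit 1, nat_lit 5, nat_lit 0, nat_lit 5, nat_lit 1, nat_lit 0, nat_lit 5, nat_lit 1, nat_lit 5],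
  [nat_lit 0, nat_lit 1, nat_lit 5, nat_lit 1, nat_lit 2, nat_lit 0, nat_lit 1, nat_lit 5, nat_lit 1, nat_lit 2],
  [nat_lit 0, nat_lit 1, nat_lit 5, nat_lit 1, nat_lit 3, nat_lit 0, nat_lit 1, nat_lit 5, nat_lit 1, nat_lit 3],
  [nat_lit 0, nat_lit 5, nat_lit 2, nat_lit 3, nat_lit 1, nat_lit 5, nat_lit 1, nat_lit 2, nat_lit 3, nat_lit 5]]
noncomputable def rb_L : List (List ℕ × List ℕ × List ℕ) := [([nat_lit 0, nat_lit 1], [nat_lit 0, nat_lit 1], [nat_lit 3]), ([nat_lit 2, nat_lit 0, nat_lit 2], [nat_lit 2, nat_lit 0, nat_lit 2], [nat_lit 1]), ([nat_lit 2, nat_lit 3, nat_lit 0, nat_lit 2, nat_lit 3], [nat_lit 3, nat_lit 2, nat_lit 3, nat_lit 2], [nat_lit 5]), ([nat_lit 0, nat_lit 1, nat_lit 2, nat_lit 0, nat_lit 2], [nat_lit 2, nat_lit 0, nat_lit 2, nat_lit 0, nat_lit 1], [nat_lit 3, nat_lit 1]), ([nat_lit 0, nat_lit 2, nat_lit 0, nat_lit 2, nat_lit 1], [nat_lit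 0, nat_lit 1, nat_lit 2, nat_lit 0, nat_lit 2], [nat_lit 1, nat_lit 3]), ([nat_lit 2, nat_lit 3, nat_lit 0, nat_lit 3, nat_lit 2], [nat_lit 2, nat_lit 3, nat_lit 0, nat_lit 3, nat_lit 2], [nat_lit 4, nat_lit 5]), ([nat_lit 1, nat_lit 2, nat_lit 3, nat_lit 0, nat_lit 2, nat_lit 0, nat_lit 3, nat_lit 1], [nat_lit 3, nat_lit 0, nat_lit 3], [nat_lit 3, nat_lit 3, nat_lit 2, nat_lit 3, nat_lit 5]), ([nat_lit 1, nat_lit 3, nat_lit 0, nat_lit 3, nat_lit 1], [nat_lit 3, nat_lit 2, nat_lit 0, nat_lit 2, nat_lit 0, nat_lit 3], [nat_lit 3, nat_lit 3, nat_lit 2, nat_lit 3, nat_lit 4]), ([nat_lit 5], [nat_lit 5], [nat_lit 0])]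
noncomputable def rb_R : Wl := [[nat_lit 4, nat_lit 0, nat_lit 1, nat_lit 4, nat_lit 0, nat_lit 1],
  [nat_lit 4, nat_lit 2, nat_lit 0, nat_lit 2, nat_lit 4, nat_lit 2, nat_lit 0, nat_lit 2],
  [nat_lit 4, nat_lit 2, nat_lit 3, nat_lit 0, nat_lit 2, nat_lit 3, nat_lit 4, nat_lit 3, nat_lit 2, nat_lit 3, nat_lit 2],
  [nat_lit 4, nat_lit 0, nat_lit 1, nat_lit 2, nat_lit 0, nat_lit 2, nat_lit 4, nat_lit 2, nat_lit 0, nat_lit 2, nat_lit 0, nat_lit 1],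
  [nat_lit 4, nat_lit 0, nat_lit 2, nat_lit 0, nat_lit 2, nat_lit 1, nat_lit 4, nat_lit 0, nat_lit 1, nat_lit 2, nat_lit 0, nat_lit 2],
  [nat_lit 4, nat_lit 2, nat_lit 3, nat_lit 0, nat_lit 3, nat_lit 2, nat_lit 4, nat_lit 2, nat_lit 3, nat_lit 0, nat_lit 3, nat_lit 2],
  [nat_lit 4, nat_lit 1, nat_lit 2, nat_lit 3, nat_lit 0, nat_lit 2, nat_lit 0, nat_lit 3, nat_lit 1, nat_lit 4, nat_lit 3, nat_lit 0, nat_lit 3],
  [nat_lit 4, nat_lit 1, nat_lit 3, nat_lit 0, nat_lit 3, nat_lit 1, nat_lit 4, nat_lit 3, nat_lit 2, nat_lit 0, nat_lit 2, nat_lit 0, nat_lit 3],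
  [nat_lit 4, nat_lit 5, nat_lit 4, nat_lit 5]]
noncomputable def WM : Wl := [[nat_lit 6, nat_lit 1, nat_lit 2, nat_lit 3, nat_lit 2, nat_lit 3, nat_lit 2, nat_lit 0, nat_lit 1, nat_lit 4, nat_lit 3, nat_lit 2, nat_lit 0, nat_lit 2, nat_lit 3, nat_lit 4, nat_lit 3, nat_lit 2, nat_lit 6, nat_lit 4],
  [nat_lit 4, nat_lit 0, nat_lit 2, nat_lit 0, nat_lit 3, nat_lit 2, nat_lit 0, nat_lit 2, nat_lit 4, nat_lit 3, nat_lit 2, nat_lit 3, nat_lit 2, nat_lit 3, nat_lit 2, nat_lit 4, nat_lit 5, nat_lit 4, nat_lit 3, nat_lit 2, nat_lit 0, nat_lit 2, nat_lit 4, nat_lit 3, nat_lit 2, nat_lit 1, nat_lit 3],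
  [nat_lit 2, nat_lit 1, nat_lit 3, nat_lit 2, nat_lit 1, nat_lit 2, nat_lit 0, nat_lit 3, nat_lit 4, nat_lit 5, nat_lit 4, nat_lit 3, nat_lit 2, nat_lit 1, nat_lit 2, nat_lit 1, nat_lit 3, nat_lit 2],
  [nat_lit 3, nat_lit 2, nat_lit 0, nat_lit 1, nat_lit 3, nat_lit 2, nat_lit 4, nat_lit 3, nat_lit 5, nat_lit 4, nat_lit 3, nat_lit 2, nat_lit 0, nat_lit 2, nat_lit 3, nat_lit 4, nat_lit 6, nat_lit 5, nat_lit 4, nat_lit 3, nat_lit 2, nat_lit 0, nat_lit 5, nat_lit 4],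
  [nat_lit 5, nat_lit 6, nat_lit 2, nat_lit 1, nat_lit 3, nat_lit 2, nat_lit 3, nat_lit 2, nat_lit 1, nat_lit 3, nat_lit 4, nat_lit 3, nat_lit 2, nat_lit 0, nat_lit 2, nat_lit 1, nat_lit 3, nat_lit 2, nat_lit 5, nat_lit 6, nat_lit 5, nat_lit 4, nat_lit 3, nat_lit 2, nat_lit 6, nat_lit 2, nat_lit 4, nat_lit 3, nat_lit 4],
  [nat_lit 6, nat_lit 2, nat_lit 0, nat_lit 3, nat_lit 2, nat_lit 1, nat_lit 2, nat_lit 0, nat_lit 3, nat_lit 2, nat_lit 4, nat_lit 3, nat_lit 2, nat_lit 0, nat_lit 2, nat_lit 3, nat_lit 4, nat_lit 5, nat_lit 4, nat_lit 3, nat_lit 2, nat_lit 3, nat_lit 2, nat_lit 3, nat_lit 2, nat_lit 4, nat_lit 6, nat_lit 5, nat_lit 4, nat_lit 3, nat_lit 2, nat_lit 0, nat_lit 2, nat_lit 3, nat_lit 6, nat_lit 2, nat_lit 6, nat_lit 5]]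
noncomputable def VM : Wl := [[nat_lit 2, nat_lit 1, nat_lit 3, nat_lit 5, nat_lit 3, nat_lit 0, nat_lit 1, nat_lit 0, nat_lit 4, nat_lit 3, nat_lit 4, nat_lit 3, nat_lit 2, nat_lit 5, nat_lit 1, nat_lit 2, nat_lit 5, nat_lit 3, nat_lit 5, nat_lit 2, nat_lit 1, nat_lit 0, nat_lit 2, nat_lit 4, nat_lit 3, nat_lit 4, nat_lit 2, nat_lit 1, nat_lit 4, nat_lit 3, nat_lit 1, nat_lit 2, nat_lit 4, nat_lit 3, nat_lit 4, nat_lit 1, nat_lit 0],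
  [nat_lit 3, nat_lit 4, nat_lit 1, nat_lit 2, nat_lit 1, nat_lit 4, nat_lit 2, nat_lit 4, nat_lit 3, nat_lit 4, nat_lit 0, nat_lit 2, nat_lit 3, nat_lit 5, nat_lit 1, nat_lit 5, nat_lit 0, nat_lit 3, nat_lit 1, nat_lit 3, nat_lit 5, nat_lit 1, nat_lit 4, nat_lit 2, nat_lit 4, nat_lit 1, nat_lit 5, nat_lit 3, nat_lit 2, nat_lit 0, nat_lit 4, nat_lit 2, nat_lit 4, nat_lit 2, nat_lit 4, nat_lit 0],
  [nat_lit 4, nat_lit 3, nat_lit 4, nat_lit 2, nat_lit 4, nat_lit 3, nat_lit 1, nat_lit 2, nat_lit 1, nat_lit 4, nat_lit 0, nat_lit 4, nat_lit 1, nat_lit 2, nat_lit 1, nat_lit 3, nat_lit 4, nat_lit 2, nat_lit 5, nat_lit 3, nat_lit 1, nat_lit 0, nat_lit 4, nat_lit 5, nat_lit 2, nat_lit 1, nat_lit 3, nat_lit 5, nat_lit 2, nat_lit 0, nat_lit 2, nat_lit 0, nat_lit 3, nat_lit 1, nat_lit 3, nat_lit 1, nat_lit 0, nat_lit 5, nat_lit 0, nat_lit 2, nat_lit 5, nat_lit 1, nat_lit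 2, nat_lit 0, nat_lit 2, nat_lit 3, nat_lit 0, nat_lit 5, nat_lit 3],
  [nat_lit 3, nat_lit 0, nat_lit 3, nat_lit 0, nat_lit 4, nat_lit 1, nat_lit 5, nat_lit 2, nat_lit 4, nat_lit 3, nat_lit 1, nat_lit 5, nat_lit 0, nat_lit 3, nat_lit 2, nat_lit 3, nat_lit 0, nat_lit 2, nat_lit 5, nat_lit 1, nat_lit 3, nat_lit 4, nat_lit 2, nat_lit 5, nat_lit 1, nat_lit 4, nat_lit 0, nat_lit 3, nat_lit 4, nat_lit 2, nat_lit 3, nat_lit 2, nat_lit 4, nat_lit 5, nat_lit 3, nat_lit 1, nat_lit 2, nat_lit 4, nat_lit 3, nat_lit 2, nat_lit 5, nat_lit 3, nat_lit 2, nat_lit 4, nat_lit 3, nat_lit 4, nat_lit 0, nat_lit 2, nat_lit 4, nat_lit 3, nat_lit 5, nat_lit 3, nat_lit 1, nat_lit 4, nat_lit 2, nat_lit 1, nat_lit 0, nat_lit 1, nat_lit 2, nat_lit 4],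
  [nat_lit 1, nat_lit 2, nat_lit 4, nat_lit 3, nat_lit 4, nat_lit 2, nat_lit 1, nat_lit 2, nat_lit 4, nat_lit 2, nat_lit 5, nat_lit 1, nat_lit 3, nat_lit 4, nat_lit 3, nat_lit 1, nat_lit 2, nat_lit 1, nat_lit 2, nat_lit 3, nat_lit 5, nat_lit 1, nat_lit 4, nat_lit 2, nat_lit 4, nat_lit 1, nat_lit 5, nat_lit 3, nat_lit 2, nat_lit 0, nat_lit 4, nat_lit 1, nat_lit 2, nat_lit 1, nat_lit 3, nat_lit 4, nat_lit 1, nat_lit 5, nat_lit 0, nat_lit 2, nat_lit 3, nat_lit 1, nat_lit 0, nat_lit 4, nat_lit 2, nat_lit 3, nat_lit 4, nat_lit 3, nat_lit 2, nat_lit 1, nat_lit 2, nat_lit 3, nat_lit 4, nat_lit 3, nat_lit 1, nat_lit 0, nat_lit 2, nat_lit 1, nat_lit 2, nat_lit 0, nat_lit 2],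
  [nat_lit 1, nat_lit 5, nat_lit 4, nat_lit 5, nat_lit 4, nat_lit 2, nat_lit 4, nat_lit 3, nat_lit 1, nat_lit 0, nat_lit 4, nat_lit 3, nat_lit 4, nat_lit 2, nat_lit 5, nat_lit 3, nat_lit 1, nat_lit 2, nat_lit 3, nat_lit 2, nat_lit 4, nat_lit 5, nat_lit 3, nat_lit 1, nat_lit 4, nat_lit 0, nat_lit 2, nat_lit 4, nat_lit 0, nat_lit 1, nat_lit 0, nat_lit 4, nat_lit 3, nat_lit 0, nat_lit 5, nat_lit 1, nat_lit 0, nat_lit 2, nat_lit 0, nat_lit 3, nat_lit 0, nat_lit 2, nat_lit 0, nat_lit 1, nat_lit 0, nat_lit 3, nat_lit 4, nat_lit 2, nat_lit 4, nat_lit 2, nat_lit 4, nat_lit 1, nat_lit 3],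
  [nat_lit 4, nat_lit 0, nat_lit 3, nat_lit 0, nat_lit 4, nat_lit 1, nat_lit 2, nat_lit 1, nat_lit 2, nat_lit 0, nat_lit 1, nat_lit 3, nat_lit 4, nat_lit 0, nat_lit 2, nat_lit 4, nat_lit 5, nat_lit 2, nat_lit 4, nat_lit 3, nat_lit 1, nat_lit 0, nat_lit 2, nat_lit 5, nat_lit 4, nat_lit 5, nat_lit 0, nat_lit 3, nat_lit 5, nat_lit 0, nat_lit 4]]

theorem md_b : ltAll 240 H1.CoC.B = 0 ∧ 2903040 ≠ 0 := by decide +kernel
theorem mds_b : ltAll 63 H16.S62.B = 0 ∧ 1451520 ≠ 0 := by decide +kernel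
theorem a_lt : allL (ltAll 5) a_W = true := by decide +kernel
theorem a_m_a : allZ2 (matEnt (wdsP H1.CoC.P a_W) a_P) (nat_lit 21) (nat_lit 240) = true := by decide +kernel
theorem rc : allL (fixL H1.CoC.P 5 H1.CoC.B) H1.CoC.Rl = true := by decide +kernel
theorem q_lt : allL (ltAll 6) q_W = true := by decide +kernel
theorem q_m_a : allZ2 (matEnt (wdsP H16.S62.P q_W) q_P) (nat_lit 5) (nat_lit 63) = true := by decide +kernel
theorem q_r : allL (fixL q_P 5 H16.S62.B) H1.CoC.Rl = true := by decide +kernel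
theorem q_g : allZ (fun k => Nat.add (ltAll 5 (nth [] q_V k))
    (sumL (fun β => Nat.xor (H16.S62.P k β) (apW q_P (nth [] q_V k) β)) H16.S62.B)) 0 6 = true := by decide +kernel
theorem k_lt : allL (ltAll 5) k_W = true := by decide +kernel
theorem k_k : allZ (fun j => Nat.add (ltAll 5 (nth [] k_W j))
    (fixL q_P 5 H16.S62.B (nth [] k_W j))) 0 1 = true := by decide +kernel
theorem p2t_lt : allL (ltAll 5) p2t_W = true := by decide +kernel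
theorem p2_r_a : allZ2 (resEnt p2t_P p2P p2E p2I (nat_lit 240) (nat_lit 224)) (nat_lit 10) (nat_lit 224) = true := by decide +kernel
theorem p2_b : neL H1.CoC.B (p2B.map p2E) = 0 ∧ ltAll 224 p2B = 0 := by decide +kernel
theorem p2_p : allZ2 (pcEnt p2P (nat_lit 2) p2B p2C) 10 10 = true := by decide +kernel
theorem p2_e : allL (ltAll 10) p2e = true := by decide +kernel
theorem p2l0_e_0 : allZ (dent p2l0 (wdsP p2P p2e) (nat_lit 224)) (nat_lit 0) (nat_lit 127) = true := by decide +kernel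
theorem p2l0_h : 0 < p2l0.n ∧ 0 < p2l0.K ∧ p2l0.Pt 0 < 224 ∧ p2l0.Q (p2l0.Pt 0) = 0 := by decide +kernel
theorem p2l1_e_0 : allZ (dent p2l1 (wdsP p2P p2e) (nat_lit 224)) (nat_lit 0) (nat_lit 7) = true := by decide +kernel
theorem p2l1_h : 0 < p2l1.n ∧ 0 < p2l1.K ∧ p2l1.Pt 0 < 224 ∧ p2l1.Q (p2l1.Pt 0) = 0 := by decide +kernel
theorem p2_f1 : (Nat.ble p2l1.K 16 && Nat.ble (topK []) p2l1.K && fixLetters (wdsP p2P p2e) (topK []) (p2l1.Pt 0)) = true := by decide +kernel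
theorem p2_f0 : (Nat.ble p2l0.K 16 && Nat.ble (topK [p2l1]) p2l0.K && fixLetters (wdsP p2P p2e) (topK [p2l1]) (p2l0.Pt 0)) = true := by decide +kernel
theorem p2_c : chainCard [p2l0, p2l1] = 2 ^ 10 ∧ ¬ 2 ^ (10 + 1) ∣ 2903040 := by decide +kernel
theorem covr_lt : allL (ltAll 5) covr_W = true := by decide +kernel
theorem cov_c0 : (Nat.ble 10 10 && Nat.beq (ltAll 10 []) 0 && Nat.beq (covT0.chk H1.CoC.P p2P covr_P p2E 5 10 2 2 3 p2B 10 [] 0) 0) = true := by decide +kernel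
theorem x_lt : allL (ltAll 5) x_W = true := by decide +kernel
theorem txh_lt : allL (ltAll 5) txh_W = true := by decide +kernel
theorem txl0_e_0 : allZ (dent txl0 txh_P (nat_lit 240)) (nat_lit 0) (nat_lit 239) = true := by decide +kernel
theorem txl0_h : 0 < txl0.n ∧ 0 < txl0.K ∧ txl0.Pt 0 < 240 ∧ txl0.Q (txl0.Pt 0) = 0 := by decide +kernel
theorem txl1_e_0 : allZ (dent txl1 txh_P (nat_lit 240)) (nat_lit 0) (nat_lit 125) = true := by decide +kernel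
theorem txl1_h : 0 < txl1.n ∧ 0 < txl1.K ∧ txl1.Pt 0 < 240 ∧ txl1.Q (txl1.Pt 0) = 0 := by decide +kernel
theorem txl2_e_0 : allZ (dent txl2 txh_P (nat_lit 240)) (nat_lit 0) (nat_lit 11) = true := by decide +kernel
theorem txl2_h : 0 < txl2.n ∧ 0 < txl2.K ∧ txl2.Pt 0 < 240 ∧ txl2.Q (txl2.Pt 0) = 0 := by decide +kernel
theorem txl3_e_0 : allZ (dent txl3 txh_P (nat_lit 240)) (nat_lit 0) (nat_lit 1) = true := by decide +kernel
theorem txl3_h : 0 < txl3.n ∧ 0 < txl3.K ∧ txl3.Pt 0 < 240 ∧ txl3.Q (txl3.Pt 0) = 0 := by decide +kernel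
theorem txl4_e_0 : allZ (dent txl4 txh_P (nat_lit 240)) (nat_lit 0) (nat_lit 1) = true := by decide +kernel
theorem txl4_h : 0 < txl4.n ∧ 0 < txl4.K ∧ txl4.Pt 0 < 240 ∧ txl4.Q (txl4.Pt 0) = 0 := by decide +kernel
theorem txl5_e_0 : allZ (dent txl5 txh_P (nat_lit 240)) (nat_lit 0) (nat_lit 1) = true := by decide +kernel
theorem txl5_h : 0 < txl5.n ∧ 0 < txl5.K ∧ txl5.Pt 0 < 240 ∧ txl5.Q (txl5.Pt 0) = 0 := by decide +kernel
theorem tx_f5 : (Nat.ble txl5.K 12 && Nat.ble (topK []) txl5.K && fixLetters txh_P (topK []) (txl5.Pt 0)) = true := by decide +kernel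
theorem tx_f4 : (Nat.ble txl4.K 12 && Nat.ble (topK [txl5]) txl4.K && fixLetters txh_P (topK [txl5]) (txl4.Pt 0)) = true := by decide +kernel
theorem tx_f3 : (Nat.ble txl3.K 12 && Nat.ble (topK [txl4, txl5]) txl3.K && fixLetters txh_P (topK [txl4, txl5]) (txl3.Pt 0)) = true := by decide +kernel
theorem tx_f2 : (Nat.ble txl2.K 12 && Nat.ble (topK [txl3, txl4, txl5]) txl2.K && fixLetters txh_P (topK [txl3, txl4, txl5]) (txl2.Pt 0)) = true := by decide +kernel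
theorem tx_f1 : (Nat.ble txl1.K 12 && Nat.ble (topK [txl2, txl3, txl4, txl5]) txl1.K && fixLetters txh_P (topK [txl2, txl3, txl4, txl5]) (txl1.Pt 0)) = true := by decide +kernel
theorem tx_f0 : (Nat.ble txl0.K 12 && Nat.ble (topK [txl1, txl2, txl3, txl4, txl5]) txl0.K && fixLetters txh_P (topK [txl1, txl2, txl3, txl4, txl5]) (txl0.Pt 0)) = true := by decide +kernel
theorem tx_c : chainCard [txl0, txl1, txl2, txl3, txl4, txl5] = 2903040 := by decide +kernel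
theorem cxe_lt : allL (ltAll 5) cxe_W = true := by decide +kernel
theorem cxc5_e_0 : allZ (dent cxc5 cxe_P (nat_lit 240)) (nat_lit 0) (nat_lit 1) = true := by decide +kernel
theorem cxc5_h : 0 < cxc5.n ∧ 0 < cxc5.K ∧ cxc5.Pt 0 < 240 ∧ cxc5.Q (cxc5.Pt 0) = 0 := by decide +kernel
theorem txn0_0 : (Nat.ble txl5.K 12 && Nat.beq (ltAll 240 [txl4.Pt 0, txl3.Pt 0, txl2.Pt 0, txl1.Pt 0, txl0.Pt 0]) 0 && kChk cxe_P x_P txn0.Kn 1 H1.CoC.B [txl4.Pt 0, txl3.Pt 0, txl2.Pt 0, txl1.Pt 0, txl0.Pt 0] && allL (ltAll 1) txn0.pre && planOK txh_P x_P 1 (txl5.Pt 0) txn0.plan [txl5]) = true := by decide +kernel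
theorem txn0_1_0 : allZ (txn0.ent H1.CoC.P txh_P x_P x_P cxe_P (nat_lit 5) (nat_lit 1) H1.CoC.B txl5 [] (memO cxc5)) (nat_lit 0) (nat_lit 2) = true := by decide +kernel
theorem cx_f5 : (Nat.ble cxc5.K 7 && Nat.ble (topK []) cxc5.K && Nat.beq (cxc5.Pt 0) (txl5.Pt 0) && Nat.beq (ltAll 240 [txl4.Pt 0, txl3.Pt 0, txl2.Pt 0, txl1.Pt 0, txl0.Pt 0]) 0 && kChk cxe_P x_P cxc5.K 1 H1.CoC.B [txl4.Pt 0, txl3.Pt 0, txl2.Pt 0, txl1.Pt 0, txl0.Pt 0]) = true := by decide +kernel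
theorem txn1y72_lt : allL (ltAll 5) txn1y72_W = true := by decide +kernel
theorem txr2k_lt : allL (ltAll 5) txr2k_W = true := by decide +kernel
theorem txn2_0 : (Nat.ble txl5.K 12 && Nat.beq (ltAll 240 [txl4.Pt 0, txl3.Pt 0, txl2.Pt 0, txl1.Pt 0, txl0.Pt 0]) 0 && kChk txr2k_P txn1y72_P txn2.Kn 1 H1.CoC.B [txl4.Pt 0, txl3.Pt 0, txl2.Pt 0, txl1.Pt 0, txl0.Pt 0] && allL (ltAll 1) txn2.pre && planOK txh_P x_P 1 (txl5.Pt 0) txn2.plan [txl5]) = true := by decide +kernel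
theorem txn2_1_0 : allZ (txn2.ent H1.CoC.P txh_P x_P txn1y72_P txr2k_P (nat_lit 5) (nat_lit 1) H1.CoC.B txl5 [] (fun _ => nat_lit 1)) (nat_lit 0) (nat_lit 2) = true := by decide +kernel
theorem txn1_0 : (Nat.ble txl4.K 12 && Nat.beq (ltAll 240 [txl3.Pt 0, txl2.Pt 0, txl1.Pt 0, txl0.Pt 0]) 0 && kChk cxe_P x_P txn1.Kn 1 H1.CoC.B [txl3.Pt 0, txl2.Pt 0, txl1.Pt 0, txl0.Pt 0] && allL (ltAll 1) txn1.pre && planOK txh_P x_P 1 (txl4.Pt 0) txn1.plan [txl4, txl5]) = true := by decide +kernel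
theorem txn1_1_0 : allZ (txn1.ent H1.CoC.P txh_P x_P x_P cxe_P (nat_lit 5) (nat_lit 1) H1.CoC.B txl4 [txl5] (fun w => Nat.xor w (txl4.Pt (nat_lit 0)))) (nat_lit 0) (nat_lit 2) = true := by decide +kernel
theorem cxc3_e_0 : allZ (dent cxc3 cxe_P (nat_lit 240)) (nat_lit 0) (nat_lit 1) = true := by decide +kernel
theorem cxc3_h : 0 < cxc3.n ∧ 0 < cxc3.K ∧ cxc3.Pt 0 < 240 ∧ cxc3.Q (cxc3.Pt 0) = 0 := by decide +kernel
theorem txn3_0 : (Nat.ble txl3.K 12 && Nat.beq (ltAll 240 [txl2.Pt 0, txl1.Pt 0, txl0.Pt 0]) 0 && kChk cxe_P x_P txn3.Kn 1 H1.CoC.B [txl2.Pt 0, txl1.Pt 0, txl0.Pt 0] && allL (ltAll 1) txn3.pre && planOK txh_P x_P 1 (txl3.Pt 0) txn3.plan [txl3, txl4, txl5]) = true := by decide +kernel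
theorem txn3_1_0 : allZ (txn3.ent H1.CoC.P txh_P x_P x_P cxe_P (nat_lit 5) (nat_lit 1) H1.CoC.B txl3 [txl4, txl5] (memO cxc3)) (nat_lit 0) (nat_lit 2) = true := by decide +kernel
theorem cx_f3 : (Nat.ble cxc3.K 7 && Nat.ble (topK [cxc5]) cxc3.K && Nat.beq (cxc3.Pt 0) (txl3.Pt 0) && Nat.beq (ltAll 240 [txl2.Pt 0, txl1.Pt 0, txl0.Pt 0]) 0 && kChk cxe_P x_P cxc3.K 1 H1.CoC.B [txl2.Pt 0, txl1.Pt 0, txl0.Pt 0]) = true := by decide +kernel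
theorem cxc2_e_0 : allZ (dent cxc2 cxe_P (nat_lit 240)) (nat_lit 0) (nat_lit 7) = true := by decide +kernel
theorem cxc2_h : 0 < cxc2.n ∧ 0 < cxc2.K ∧ cxc2.Pt 0 < 240 ∧ cxc2.Q (cxc2.Pt 0) = 0 := by decide +kernel
theorem txn4_0 : (Nat.ble txl2.K 12 && Nat.beq (ltAll 240 [txl1.Pt 0, txl0.Pt 0]) 0 && kChk cxe_P x_P txn4.Kn 1 H1.CoC.B [txl1.Pt 0, txl0.Pt 0] && allL (ltAll 1) txn4.pre && planOK txh_P x_P 1 (txl2.Pt 0) txn4.plan [txl2, txl3, txl4, txl5]) = true := by decide +kernel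
theorem txn4_1_0 : allZ (txn4.ent H1.CoC.P txh_P x_P x_P cxe_P (nat_lit 5) (nat_lit 1) H1.CoC.B txl2 [txl3, txl4, txl5] (memO cxc2)) (nat_lit 0) (nat_lit 12) = true := by decide +kernel
theorem cx_f2 : (Nat.ble cxc2.K 7 && Nat.ble (topK [cxc3, cxc5]) cxc2.K && Nat.beq (cxc2.Pt 0) (txl2.Pt 0) && Nat.beq (ltAll 240 [txl1.Pt 0, txl0.Pt 0]) 0 && kChk cxe_P x_P cxc2.K 1 H1.CoC.B [txl1.Pt 0, txl0.Pt 0]) = true := by decide +kernel
theorem cxc1_e_0 : allZ (dent cxc1 cxe_P (nat_lit 240)) (nat_lit 0) (nat_lit 5) = true := by decide +kernel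
theorem cxc1_h : 0 < cxc1.n ∧ 0 < cxc1.K ∧ cxc1.Pt 0 < 240 ∧ cxc1.Q (cxc1.Pt 0) = 0 := by decide +kernel
theorem txn5_0 : (Nat.ble txl1.K 12 && Nat.beq (ltAll 240 [txl0.Pt 0]) 0 && kChk cxe_P x_P txn5.Kn 1 H1.CoC.B [txl0.Pt 0] && allL (ltAll 1) txn5.pre && planOK txh_P x_P 1 (txl1.Pt 0) txn5.plan [txl1, txl2, txl3, txl4, txl5]) = true := by decide +kernel
theorem txn5_1_0 : allZ (txn5.ent H1.CoC.P txh_P x_P x_P cxe_P (nat_lit 5) (nat_lit 1) H1.CoC.B txl1 [txl2, txl3, txl4, txl5] (memO cxc1)) (nat_lit 0) (nat_lit 126) = true := by decide +kernel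
theorem cx_f1 : (Nat.ble cxc1.K 7 && Nat.ble (topK [cxc2, cxc3, cxc5]) cxc1.K && Nat.beq (cxc1.Pt 0) (txl1.Pt 0) && Nat.beq (ltAll 240 [txl0.Pt 0]) 0 && kChk cxe_P x_P cxc1.K 1 H1.CoC.B [txl0.Pt 0]) = true := by decide +kernel
theorem cxc0_e_0 : allZ (dent cxc0 cxe_P (nat_lit 240)) (nat_lit 0) (nat_lit 23) = true := by decide +kernel
theorem cxc0_h : 0 < cxc0.n ∧ 0 < cxc0.K ∧ cxc0.Pt 0 < 240 ∧ cxc0.Q (cxc0.Pt 0) = 0 := by decide +kernel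
theorem txn6_0 : (Nat.ble txl0.K 12 && Nat.beq (ltAll 240 []) 0 && kChk cxe_P x_P txn6.Kn 1 H1.CoC.B [] && allL (ltAll 1) txn6.pre && planOK txh_P x_P 1 (txl0.Pt 0) txn6.plan [txl0, txl1, txl2, txl3, txl4, txl5]) = true := by decide +kernel
theorem txn6_1_0 : allZ (txn6.ent H1.CoC.P txh_P x_P x_P cxe_P (nat_lit 5) (nat_lit 1) H1.CoC.B txl0 [txl1, txl2, txl3, txl4, txl5] (memO cxc0)) (nat_lit 0) (nat_lit 240) = true := by decide +kernel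
theorem cx_f0 : (Nat.ble cxc0.K 7 && Nat.ble (topK [cxc1, cxc2, cxc3, cxc5]) cxc0.K && Nat.beq (cxc0.Pt 0) (txl0.Pt 0) && Nat.beq (ltAll 240 []) 0 && kChk cxe_P x_P cxc0.K 1 H1.CoC.B []) = true := by decide +kernel
theorem cx_c : chainCard [cxc0, cxc1, cxc2, cxc3, cxc5] = 4608 ∧ topK [cxc0, cxc1, cxc2, cxc3, cxc5] = 7 := by decide +kernel
theorem xu_lt : allL (ltAll 5) xu_W = true := by decide +kernel
theorem txuh_lt : allL (ltAll 5) txuh_W = true := by decide +kernel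
theorem txul0_e_0 : allZ (dent txul0 txuh_P (nat_lit 240)) (nat_lit 0) (nat_lit 239) = true := by decide +kernel
theorem txul0_h : 0 < txul0.n ∧ 0 < txul0.K ∧ txul0.Pt 0 < 240 ∧ txul0.Q (txul0.Pt 0) = 0 := by decide +kernel
theorem txul1_e_0 : allZ (dent txul1 txuh_P (nat_lit 240)) (nat_lit 0) (nat_lit 125) = true := by decide +kernel
theorem txul1_h : 0 < txul1.n ∧ 0 < txul1.K ∧ txul1.Pt 0 < 240 ∧ txul1.Q (txul1.Pt 0) = 0 := by decide +kernel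
theorem txul2_e_0 : allZ (dent txul2 txuh_P (nat_lit 240)) (nat_lit 0) (nat_lit 11) = true := by decide +kernel
theorem txul2_h : 0 < txul2.n ∧ 0 < txul2.K ∧ txul2.Pt 0 < 240 ∧ txul2.Q (txul2.Pt 0) = 0 := by decide +kernel
theorem txul3_e_0 : allZ (dent txul3 txuh_P (nat_lit 240)) (nat_lit 0) (nat_lit 7) = true := by decide +kernel
theorem txul3_h : 0 < txul3.n ∧ 0 < txul3.K ∧ txul3.Pt 0 < 240 ∧ txul3.Q (txul3.Pt 0) = 0 := by decide +kernel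
theorem txu_f3 : (Nat.ble txul3.K 10 && Nat.ble (topK []) txul3.K && fixLetters txuh_P (topK []) (txul3.Pt 0)) = true := by decide +kernel
theorem txu_f2 : (Nat.ble txul2.K 10 && Nat.ble (topK [txul3]) txul2.K && fixLetters txuh_P (topK [txul3]) (txul2.Pt 0)) = true := by decide +kernel
theorem txu_f1 : (Nat.ble txul1.K 10 && Nat.ble (topK [txul2, txul3]) txul1.K && fixLetters txuh_P (topK [txul2, txul3]) (txul1.Pt 0)) = true := by decide +kernel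
theorem txu_f0 : (Nat.ble txul0.K 10 && Nat.ble (topK [txul1, txul2, txul3]) txul0.K && fixLetters txuh_P (topK [txul1, txul2, txul3]) (txul0.Pt 0)) = true := by decide +kernel
theorem txu_c : chainCard [txul0, txul1, txul2, txul3] = 2903040 := by decide +kernel
theorem cxue_lt : allL (ltAll 5) cxue_W = true := by decide +kernel
theorem cxu_f3 : (Nat.ble txul3.K 10 && Nat.blt (nat_lit 25) 240 && fixLetters txuh_P txul3.K (nat_lit 25) && Nat.beq (ltAll 1 [nat_lit 0]) 0 && Nat.beq (apW xu_P [nat_lit 0] (nat_lit 25)) (txul3.Pt 0)) = true := by decide +kernel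
theorem cxuc2_e_0 : allZ (dent cxuc2 cxue_P (nat_lit 240)) (nat_lit 0) (nat_lit 7) = true := by decide +kernel
theorem cxuc2_h : 0 < cxuc2.n ∧ 0 < cxuc2.K ∧ cxuc2.Pt 0 < 240 ∧ cxuc2.Q (cxuc2.Pt 0) = 0 := by decide +kernel
theorem txun0_0 : (Nat.ble txul2.K 10 && Nat.beq (ltAll 240 [txul1.Pt 0, txul0.Pt 0]) 0 && kChk cxue_P xu_P txun0.Kn 1 H1.CoC.B [txul1.Pt 0, txul0.Pt 0] && allL (ltAll 1) txun0.pre && planOK txuh_P xu_P 1 (txul2.Pt 0) txun0.plan [txul2, txul3]) = true := by decide +kernel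
theorem txun0_1_0 : allZ (txun0.ent H1.CoC.P txuh_P xu_P xu_P cxue_P (nat_lit 5) (nat_lit 1) H1.CoC.B txul2 [txul3] (memO cxuc2)) (nat_lit 0) (nat_lit 12) = true := by decide +kernel
theorem cxu_f2 : (Nat.ble cxuc2.K 5 && Nat.ble (topK []) cxuc2.K && Nat.beq (cxuc2.Pt 0) (txul2.Pt 0) && Nat.beq (ltAll 240 [txul1.Pt 0, txul0.Pt 0]) 0 && kChk cxue_P xu_P cxuc2.K 1 H1.CoC.B [txul1.Pt 0, txul0.Pt 0]) = true := by decide +kernel
theorem cxuc1_e_0 : allZ (dent cxuc1 cxue_P (nat_lit 240)) (nat_lit 0) (nat_lit 5) = true := by decide +kernel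
theorem cxuc1_h : 0 < cxuc1.n ∧ 0 < cxuc1.K ∧ cxuc1.Pt 0 < 240 ∧ cxuc1.Q (cxuc1.Pt 0) = 0 := by decide +kernel
theorem txun1_0 : (Nat.ble txul1.K 10 && Nat.beq (ltAll 240 [txul0.Pt 0]) 0 && kChk cxue_P xu_P txun1.Kn 1 H1.CoC.B [txul0.Pt 0] && allL (ltAll 1) txun1.pre && planOK txuh_P xu_P 1 (txul1.Pt 0) txun1.plan [txul1, txul2, txul3]) = true := by decide +kernel
theorem txun1_1_0 : allZ (txun1.ent H1.CoC.P txuh_P xu_P xu_P cxue_P (nat_lit 5) (nat_lit 1) H1.CoC.B txul1 [txul2, txul3] (memO cxuc1)) (nat_lit 0) (nat_lit 126) = true := by decide +kernel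
theorem cxu_f1 : (Nat.ble cxuc1.K 5 && Nat.ble (topK [cxuc2]) cxuc1.K && Nat.beq (cxuc1.Pt 0) (txul1.Pt 0) && Nat.beq (ltAll 240 [txul0.Pt 0]) 0 && kChk cxue_P xu_P cxuc1.K 1 H1.CoC.B [txul0.Pt 0]) = true := by decide +kernel
theorem cxuc0_e_0 : allZ (dent cxuc0 cxue_P (nat_lit 240)) (nat_lit 0) (nat_lit 7) = true := by decide +kernel
theorem cxuc0_h : 0 < cxuc0.n ∧ 0 < cxuc0.K ∧ cxuc0.Pt 0 < 240 ∧ cxuc0.Q (cxuc0.Pt 0) = 0 := by decide +kernel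
theorem txun2_0 : (Nat.ble txul0.K 10 && Nat.beq (ltAll 240 []) 0 && kChk cxue_P xu_P txun2.Kn 1 H1.CoC.B [] && allL (ltAll 1) txun2.pre && planOK txuh_P xu_P 1 (txul0.Pt 0) txun2.plan [txul0, txul1, txul2, txul3]) = true := by decide +kernel
theorem txun2_1_0 : allZ (txun2.ent H1.CoC.P txuh_P xu_P xu_P cxue_P (nat_lit 5) (nat_lit 1) H1.CoC.B txul0 [txul1, txul2, txul3] (memO cxuc0)) (nat_lit 0) (nat_lit 240) = true := by decide +kernel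
theorem cxu_f0 : (Nat.ble cxuc0.K 5 && Nat.ble (topK [cxuc1, cxuc2]) cxuc0.K && Nat.beq (cxuc0.Pt 0) (txul0.Pt 0) && Nat.beq (ltAll 240 []) 0 && kChk cxue_P xu_P cxuc0.K 1 H1.CoC.B []) = true := by decide +kernel
theorem cxu_c : chainCard [cxuc0, cxuc1, cxuc2] = 384 ∧ topK [cxuc0, cxuc1, cxuc2] = 5 := by decide +kernel
theorem x_e : nth [] x_W 0 = nth [] a_W 7 ∧ nth [] xu_W 0 = nth [] a_W 14 ∧ nth [] k_W 0 = nth [] a_W 6 ∧ eqL H1.CoC.P 5 H1.CoC.B (nth [] covr_W 0) (nth [] a_W 6) = 0 ∧ eqL H1.CoC.P 5 H1.CoC.B (nth [] covr_W 1) (nth [] a_W 7) = 0 ∧ eqL H1.CoC.P 5 H1.CoC.B (nth [] covr_W 2) (nth [] a_W 14) = 0 ∧ H15.CS.comL H1.CoC.P 5 H1.CoC.B (nth [] a_W 6) = true := by decide +kernel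
theorem gen5 : allZ (fun k => Nat.add (ltAll 6 (nth [] [[nat_lit 3, nat_lit 5, nat_lit 1, nat_lit 5, nat_lit 1, nat_lit 3],
  [nat_lit 0, nat_lit 5, nat_lit 2, nat_lit 1, nat_lit 5, nat_lit 3, nat_lit 2, nat_lit 5, nat_lit 2, nat_lit 1, nat_lit 3, nat_lit 0, nat_lit 3, nat_lit 1, nat_lit 0, nat_lit 3, nat_lit 1, nat_lit 3, nat_lit 0, nat_lit 3, nat_lit 0],
  [nat_lit 1, nat_lit 3, nat_lit 1, nat_lit 0, nat_lit 3, nat_lit 5, nat_lit 1, nat_lit 2, nat_lit 0, nat_lit 5, nat_lit 1, nat_lit 3, nat_lit 2, nat_lit 5, nat_lit 3, nat_lit 1, nat_lit 2, nat_lit 5, nat_lit 3, nat_lit 1, nat_lit 2, nat_lit 0, nat_lit 5],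
  [nat_lit 0, nat_lit 1, nat_lit 3, nat_lit 0, nat_lit 5, nat_lit 2, nat_lit 1, nat_lit 0, nat_lit 3, nat_lit 5, nat_lit 1, nat_lit 0, nat_lit 5, nat_lit 0, nat_lit 2, nat_lit 3],
  [nat_lit 5, nat_lit 1, nat_lit 2, nat_lit 3, nat_lit 5, nat_lit 2, nat_lit 1, nat_lit 3, nat_lit 1, nat_lit 2, nat_lit 1, nat_lit 0]] k)) (sumL (fun β => Nat.xor (H1.CoC.P k β) (apW a_P (nth [] [[nat_lit 3, nat_lit 5, nat_lit 1, nat_lit 5, nat_lit 1, nat_lit 3],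
  [nat_lit 0, nat_lit 5, nat_lit 2, nat_lit 1, nat_lit 5, nat_lit 3, nat_lit 2, nat_lit 5, nat_lit 2, nat_lit 1, nat_lit 3, nat_lit 0, nat_lit 3, nat_lit 1, nat_lit 0, nat_lit 3, nat_lit 1, nat_lit 3, nat_lit 0, nat_lit 3, nat_lit 0],
  [nat_lit 1, nat_lit 3, nat_lit 1, nat_lit 0, nat_lit 3, nat_lit 5, nat_lit 1, nat_lit 2, nat_lit 0, nat_lit 5, nat_lit 1, nat_lit 3, nat_lit 2, nat_lit 5, nat_lit 3, nat_lit 1, nat_lit 2, nat_lit 5, nat_lit 3, nat_lit 1, nat_lit 2, nat_lit 0, nat_lit 5],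
  [nat_lit 0, nat_lit 1, nat_lit 3, nat_lit 0, nat_lit 5, nat_lit 2, nat_lit 1, nat_lit 0, nat_lit 3, nat_lit 5, nat_lit 1, nat_lit 0, nat_lit 5, nat_lit 0, nat_lit 2, nat_lit 3],
  [nat_lit 5, nat_lit 1, nat_lit 2, nat_lit 3, nat_lit 5, nat_lit 2, nat_lit 1, nat_lit 3, nat_lit 1, nat_lit 2, nat_lit 1, nat_lit 0]] k) β)) H1.CoC.B)) 0 5 = true := by decide +kernel
theorem d_a : d_W.length = 4608 ∧ incr κ d_W 0 = true := by decide +kernel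
theorem d_b : allB (allB (mem [nat_lit 5, nat_lit 6, nat_lit 7, nat_lit 8, nat_lit 9, nat_lit 10, nat_lit 11, nat_lit 12, nat_lit 13])) d_W = true ∧ allB (fun k => allB (fun Z => cjK κ [k] Z Z) [[nat_lit 6],
  [nat_lit 7]]) [nat_lit 5, nat_lit 6, nat_lit 7, nat_lit 8, nat_lit 9, nat_lit 10, nat_lit 11, nat_lit 12, nat_lit 13] = true := by decide +kernel
theorem du_a : du_W.length = 384 ∧ incr κ du_W 0 = true := by decide +kernel
theorem du_b : allB (allB (mem [nat_lit 17, nat_lit 18, nat_lit 19, nat_lit 20])) du_W = true ∧ allB (fun k => allB (fun Z => cjK κ [k] Z Z) [[nat_lit 6],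
  [nat_lit 14]]) [nat_lit 17, nat_lit 18, nat_lit 19, nat_lit 20] = true := by decide +kernel
theorem nsq : allB (fun W => !eqK κ (rep W 2) [14]) du_W = true := by decide +kernel
theorem i : subK (fun W => eqK κ (rep W 2) []) d_W i_W = true := by decide +kernel
theorem m1 : List.map (fl [[nat_lit 7],
  [nat_lit 6]]) [[nat_lit 1],
  [nat_lit 0]] = [[nat_lit 6],
  [nat_lit 7]] ∧ allB (fun R => cjK κ [nat_lit 8] (fl [[nat_lit 6],
  [nat_lit 7]] R) (fl [[nat_lit 6],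
  [nat_lit 7]] R)) [[nat_lit 1],
  [nat_lit 0]] = true := by decide +kernel
theorem s1 : dead κ ([nat_lit 8] :: [[nat_lit 6],
  [nat_lit 7]]) [[nat_lit 0, nat_lit 0, nat_lit 0]] [[nat_lit 0]] = false ∧ stepK κ [[nat_lit 7],
  [nat_lit 6]] [[nat_lit 0, nat_lit 0, nat_lit 0]] [[nat_lit 0]] [[nat_lit 9],
  [nat_lit 12],
  [nat_lit 8, nat_lit 12],
  [nat_lit 9, nat_lit 12]] d_W s1_L = true := by decide +kernel
theorem m20 : List.map (fl [[nat_lit 9],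
  [nat_lit 7],
  [nat_lit 6]]) [[nat_lit 2],
  [nat_lit 1]] = [[nat_lit 6],
  [nat_lit 7]] ∧ allB (fun R => cjK κ [nat_lit 10] (fl [[nat_lit 8],
  [nat_lit 6],
  [nat_lit 7]] R) (fl [[nat_lit 8],
  [nat_lit 6],
  [nat_lit 7]] R)) [[nat_lit 2],
  [nat_lit 1]] = true := by decide +kernel
theorem s20 : dead κ ([nat_lit 10] :: [[nat_lit 8],
  [nat_lit 6],
  [nat_lit 7]]) [[nat_lit 0, nat_lit 1, nat_lit 0, nat_lit 1, nat_lit 0, nat_lit 1]] [[nat_lit 0],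
  [nat_lit 0, nat_lit 2],
  [nat_lit 0, nat_lit 3],
  [nat_lit 0, nat_lit 2, nat_lit 3]] = false ∧ stepK κ [[nat_lit 9],
  [nat_lit 7],
  [nat_lit 6]] [[nat_lit 0, nat_lit 1, nat_lit 0, nat_lit 1, nat_lit 0, nat_lit 1]] [[nat_lit 0],
  [nat_lit 0, nat_lit 2],
  [nat_lit 0, nat_lit 3],
  [nat_lit 0, nat_lit 2, nat_lit 3]] [[nat_lit 9, nat_lit 10, nat_lit 8],
  [nat_lit 5, nat_lit 10, nat_lit 11],
  [nat_lit 13, nat_lit 5, nat_lit 10, nat_lit 11, nat_lit 13]] i_W s20_L = true := by decide +kernel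
theorem m21 : List.map (fl [[nat_lit 12],
  [nat_lit 7],
  [nat_lit 6]]) [[nat_lit 2],
  [nat_lit 1]] = [[nat_lit 6],
  [nat_lit 7]] ∧ allB (fun R => cjK κ [nat_lit 10] (fl [[nat_lit 8],
  [nat_lit 6],
  [nat_lit 7]] R) (fl [[nat_lit 8],
  [nat_lit 6],
  [nat_lit 7]] R)) [[nat_lit 2],
  [nat_lit 1]] = true := by decide +kernel
theorem s21 : dead κ ([nat_lit 10] :: [[nat_lit 8],
  [nat_lit 6],
  [nat_lit 7]]) [[nat_lit 0, nat_lit 1, nat_lit 0, nat_lit 1, nat_lit 0, nat_lit 1]] [[nat_lit 0]] = false ∧ stepK κ [[nat_lit 12],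
  [nat_lit 7],
  [nat_lit 6]] [[nat_lit 0, nat_lit 1, nat_lit 0, nat_lit 1, nat_lit 0, nat_lit 1]] [[nat_lit 0]] [] i_W s21_L = true := by decide +kernel
theorem m22 : List.map (fl [[nat_lit 8, nat_lit 12],
  [nat_lit 7],
  [nat_lit 6]]) [[nat_lit 2],
  [nat_lit 1]] = [[nat_lit 6],
  [nat_lit 7]] ∧ allB (fun R => cjK κ [nat_lit 10] (fl [[nat_lit 8],
  [nat_lit 6],
  [nat_lit 7]] R) (fl [[nat_lit 8],
  [nat_lit 6],
  [nat_lit 7]] R)) [[nat_lit 2],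
  [nat_lit 1]] = true := by decide +kernel
theorem s22 : dead κ ([nat_lit 10] :: [[nat_lit 8],
  [nat_lit 6],
  [nat_lit 7]]) [[nat_lit 0, nat_lit 1, nat_lit 0, nat_lit 1, nat_lit 0, nat_lit 1]] [[nat_lit 0]] = false ∧ stepK κ [[nat_lit 8, nat_lit 12],
  [nat_lit 7],
  [nat_lit 6]] [[nat_lit 0, nat_lit 1, nat_lit 0, nat_lit 1, nat_lit 0, nat_lit 1]] [[nat_lit 0]] [] i_W s22_L = true := by decide +kernel
theorem m23 : List.map (fl [[nat_lit 9, nat_lit 12],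
  [nat_lit 7],
  [nat_lit 6]]) [[nat_lit 2],
  [nat_lit 1]] = [[nat_lit 6],
  [nat_lit 7]] ∧ allB (fun R => cjK κ [nat_lit 10] (fl [[nat_lit 8],
  [nat_lit 6],
  [nat_lit 7]] R) (fl [[nat_lit 8],
  [nat_lit 6],
  [nat_lit 7]] R)) [[nat_lit 2],
  [nat_lit 1]] = true := by decide +kernel
theorem s23 : dead κ ([nat_lit 10] :: [[nat_lit 8],
  [nat_lit 6],
  [nat_lit 7]]) [[nat_lit 0, nat_lit 1, nat_lit 0, nat_lit 1, nat_lit 0, nat_lit 1]] [[nat_lit 0]] = false ∧ stepK κ [[nat_lit 9, nat_lit 12],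
  [nat_lit 7],
  [nat_lit 6]] [[nat_lit 0, nat_lit 1, nat_lit 0, nat_lit 1, nat_lit 0, nat_lit 1]] [[nat_lit 0]] [] i_W s23_L = true := by decide +kernel
theorem m31 : List.map (fl [[nat_lit 5, nat_lit 10, nat_lit 11],
  [nat_lit 9],
  [nat_lit 7],
  [nat_lit 6]]) [[nat_lit 3],
  [nat_lit 2]] = [[nat_lit 6],
  [nat_lit 7]] ∧ allB (fun R => cjK κ [nat_lit 13] (fl [[nat_lit 10],
  [nat_lit 8],
  [nat_lit 6],
  [nat_lit 7]] R) (fl [[nat_lit 10],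
  [nat_lit 8],
  [nat_lit 6],
  [nat_lit 7]] R)) [[nat_lit 3],
  [nat_lit 2]] = true := by decide +kernel
theorem s31 : dead κ ([nat_lit 13] :: [[nat_lit 10],
  [nat_lit 8],
  [nat_lit 6],
  [nat_lit 7]]) [[nat_lit 0, nat_lit 2, nat_lit 0, nat_lit 2],
  [nat_lit 1, nat_lit 0, nat_lit 1, nat_lit 0]] [] = false ∧ stepK κ [[nat_lit 5, nat_lit 10, nat_lit 11],
  [nat_lit 9],
  [nat_lit 7],
  [nat_lit 6]] [[nat_lit 0, nat_lit 2, nat_lit 0, nat_lit 2],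
  [nat_lit 1, nat_lit 0, nat_lit 1, nat_lit 0]] [] [] i_W s31_L = true := by decide +kernel
theorem m32 : List.map (fl [[nat_lit 13, nat_lit 5, nat_lit 10, nat_lit 11, nat_lit 13],
  [nat_lit 9],
  [nat_lit 7],
  [nat_lit 6]]) [[nat_lit 3],
  [nat_lit 2]] = [[nat_lit 6],
  [nat_lit 7]] ∧ allB (fun R => cjK κ [nat_lit 13] (fl [[nat_lit 10],
  [nat_lit 8],
  [nat_lit 6],
  [nat_lit 7]] R) (fl [[nat_lit 10],
  [nat_lit 8],
  [nat_lit 6],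
  [nat_lit 7]] R)) [[nat_lit 3],
  [nat_lit 2]] = true := by decide +kernel
theorem s32 : dead κ ([nat_lit 13] :: [[nat_lit 10],
  [nat_lit 8],
  [nat_lit 6],
  [nat_lit 7]]) [[nat_lit 0, nat_lit 2, nat_lit 0, nat_lit 2],
  [nat_lit 1, nat_lit 0, nat_lit 1, nat_lit 0]] [] = false ∧ stepK κ [[nat_lit 13, nat_lit 5, nat_lit 10, nat_lit 11, nat_lit 13],
  [nat_lit 9],
  [nat_lit 7],
  [nat_lit 6]] [[nat_lit 0, nat_lit 2, nat_lit 0, nat_lit 2],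
  [nat_lit 1, nat_lit 0, nat_lit 1, nat_lit 0]] [] [] i_W s32_L = true := by decide +kernel
theorem m30 : List.map (fl [[nat_lit 9, nat_lit 10, nat_lit 8],
  [nat_lit 9],
  [nat_lit 7],
  [nat_lit 6]]) [[nat_lit 3],
  [nat_lit 2]] = [[nat_lit 6],
  [nat_lit 7]] ∧ allB (fun R => cjK κ [nat_lit 11] (fl [[nat_lit 10],
  [nat_lit 8],
  [nat_lit 6],
  [nat_lit 7]] R) (fl [[nat_lit 10],
  [nat_lit 8],
  [nat_lit 6],
  [nat_lit 7]] R)) [[nat_lit 3],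
  [nat_lit 2]] = true := by decide +kernel
theorem s30 : dead κ ([nat_lit 11] :: [[nat_lit 10],
  [nat_lit 8],
  [nat_lit 6],
  [nat_lit 7]]) [[nat_lit 0, nat_lit 2, nat_lit 0, nat_lit 2, nat_lit 0, nat_lit 2],
  [nat_lit 0, nat_lit 1, nat_lit 0, nat_lit 3, nat_lit 1],
  [nat_lit 2, nat_lit 0, nat_lit 1, nat_lit 2, nat_lit 0, nat_lit 4, nat_lit 2, nat_lit 2, nat_lit 1, nat_lit 2, nat_lit 2, nat_lit 0]] [] = false ∧ stepK κ [[nat_lit 9, nat_lit 10, nat_lit 8],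
  [nat_lit 9],
  [nat_lit 7],
  [nat_lit 6]] [[nat_lit 0, nat_lit 2, nat_lit 0, nat_lit 2, nat_lit 0, nat_lit 2],
  [nat_lit 0, nat_lit 1, nat_lit 0, nat_lit 3, nat_lit 1],
  [nat_lit 2, nat_lit 0, nat_lit 1, nat_lit 2, nat_lit 0, nat_lit 4, nat_lit 2, nat_lit 2, nat_lit 1, nat_lit 2, nat_lit 2, nat_lit 0]] [] [[nat_lit 11]] i_W s30_L = true := by decide +kernel
theorem m4 : List.map (fl [[nat_lit 11],
  [nat_lit 9, nat_lit 10, nat_lit 8],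
  [nat_lit 9],
  [nat_lit 7],
  [nat_lit 6]]) [[nat_lit 4],
  [nat_lit 3]] = [[nat_lit 6],
  [nat_lit 7]] ∧ allB (fun R => cjK κ [nat_lit 5] (fl [[nat_lit 11],
  [nat_lit 10],
  [nat_lit 8],
  [nat_lit 6],
  [nat_lit 7]] R) (fl [[nat_lit 11],
  [nat_lit 10],
  [nat_lit 8],
  [nat_lit 6],
  [nat_lit 7]] R)) [[nat_lit 4],
  [nat_lit 3]] = true := by decide +kernel
theorem s4 : dead κ ([nat_lit 5] :: [[nat_lit 11],
  [nat_lit 10],
  [nat_lit 8],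
  [nat_lit 6],
  [nat_lit 7]]) [[nat_lit 0, nat_lit 2, nat_lit 0, nat_lit 5, nat_lit 2],
  [nat_lit 1, nat_lit 0, nat_lit 1, nat_lit 5, nat_lit 4, nat_lit 0],
  [nat_lit 3, nat_lit 0, nat_lit 3, nat_lit 0, nat_lit 3, nat_lit 5, nat_lit 4, nat_lit 0],
  [nat_lit 0, nat_lit 3, nat_lit 2, nat_lit 0, nat_lit 3, nat_lit 0, nat_lit 3, nat_lit 3, nat_lit 2, nat_lit 3, nat_lit 3]] [[nat_lit 0],
  [nat_lit 0, nat_lit 4],
  [nat_lit 0, nat_lit 5],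
  [nat_lit 0, nat_lit 4, nat_lit 5]] = false ∧ stepK κ [[nat_lit 11],
  [nat_lit 9, nat_lit 10, nat_lit 8],
  [nat_lit 9],
  [nat_lit 7],
  [nat_lit 6]] [[nat_lit 0, nat_lit 2, nat_lit 0, nat_lit 5, nat_lit 2],
  [nat_lit 1, nat_lit 0, nat_lit 1, nat_lit 5, nat_lit 4, nat_lit 0],
  [nat_lit 3, nat_lit 0, nat_lit 3, nat_lit 0, nat_lit 3, nat_lit 5, nat_lit 4, nat_lit 0],
  [nat_lit 0, nat_lit 3, nat_lit 2, nat_lit 0, nat_lit 3, nat_lit 0, nat_lit 3, nat_lit 3, nat_lit 2, nat_lit 3, nat_lit 3]] [[nat_lit 0],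
  [nat_lit 0, nat_lit 4],
  [nat_lit 0, nat_lit 5],
  [nat_lit 0, nat_lit 4, nat_lit 5]] [[nat_lit 5]] i_W s4_L = true := by decide +kernel
theorem zd : allB (fun W => !cjAll κ W [[nat_lit 8],
  [nat_lit 10],
  [nat_lit 11]] [[nat_lit 8],
  [nat_lit 10],
  [nat_lit 11]] || anyB (eqK κ W) [[],
  [nat_lit 6],
  [nat_lit 7],
  [nat_lit 6, nat_lit 7]]) d_W = true := by decide +kernel
theorem c0_4 : allB (fun i => Nat.blt (tb c0_T 4 i) 12 && eqK κ (nth [] c0_P i) (fl [[nat_lit 5],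
  [nat_lit 11],
  [nat_lit 10],
  [nat_lit 8],
  [nat_lit 6],
  [nat_lit 7]] (nth [] c0_J4 i)) &&
    eqK κ (nth [] c0_P (tb c0_T 4 i)) (fl [[nat_lit 5],
  [nat_lit 11],
  [nat_lit 9, nat_lit 10, nat_lit 8],
  [nat_lit 9],
  [nat_lit 7],
  [nat_lit 6]] (nth [] c0_J4 i))) (List.range 12) = true := by decide +kernel
theorem c0_0 : allB (fun i => Nat.blt (tb c0_T 0 i) 12 && cjK κ [0] (nth [] c0_P i) (nth [] c0_P (tb c0_T 0 i))) (List.range 12) = true := by decide +kernel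
theorem c0i : ltAll 12 [nat_lit 1, nat_lit 2, nat_lit 4, nat_lit 6, nat_lit 9] = 0 ∧ ltAll 12 [nat_lit 0, nat_lit 1, nat_lit 2, nat_lit 3] = 0 ∧ List.map (nth [] c0_P) [nat_lit 1, nat_lit 2, nat_lit 4, nat_lit 6, nat_lit 9] = [[nat_lit 6],
  [nat_lit 7],
  [nat_lit 8],
  [nat_lit 10],
  [nat_lit 11]] ∧ List.map (nth [] c0_P) [nat_lit 0, nat_lit 1, nat_lit 2, nat_lit 3] = [[],
  [nat_lit 6],
  [nat_lit 7],
  [nat_lit 6, nat_lit 7]] := by decide +kernel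
theorem sq : powK κ c0_P c0_T [nat_lit 4, nat_lit 0] [nat_lit 1, nat_lit 2, nat_lit 4, nat_lit 6, nat_lit 9] [nat_lit 0, nat_lit 1, nat_lit 2, nat_lit 3] [[],
  [nat_lit 6, nat_lit 7]] [nat_lit 4] 2 = true := by decide +kernel
theorem r0 : r0_L.map (fun p => rep p.1 p.2) = r0_R ∧ allB (fun p => powK κ c0_P c0_T [nat_lit 4, nat_lit 0] [nat_lit 1, nat_lit 2, nat_lit 4, nat_lit 6, nat_lit 9] [nat_lit 0, nat_lit 1, nat_lit 2, nat_lit 3] [[]] p.1 p.2) r0_L = true := by decide +kernel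
theorem fx : List.length [[nat_lit 5],
  [nat_lit 11],
  [nat_lit 9, nat_lit 10, nat_lit 8],
  [nat_lit 9],
  [nat_lit 7],
  [nat_lit 6]] = List.length [[nat_lit 5],
  [nat_lit 11],
  [nat_lit 9, nat_lit 10, nat_lit 8],
  [nat_lit 9],
  [nat_lit 7],
  [nat_lit 6]] ∧ cjAll κ [6] [[nat_lit 5],
  [nat_lit 11],
  [nat_lit 9, nat_lit 10, nat_lit 8],
  [nat_lit 9],
  [nat_lit 7],
  [nat_lit 6]] [[nat_lit 5],
  [nat_lit 11],
  [nat_lit 9, nat_lit 10, nat_lit 8],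
  [nat_lit 9],
  [nat_lit 7],
  [nat_lit 6]] = true := by decide +kernel
theorem ee : eqK κ [nat_lit 6, nat_lit 7, nat_lit 7, nat_lit 6] [] = true ∧ eqK κ [nat_lit 6, nat_lit 6] [] = true ∧ eqK κ [nat_lit 15, nat_lit 15] [nat_lit 6] = true ∧ eqK κ [nat_lit 16, nat_lit 16] [nat_lit 6] = true ∧ eqK κ [nat_lit 15, nat_lit 7] [nat_lit 7, nat_lit 15] = true ∧ eqK κ [nat_lit 16, nat_lit 14] [nat_lit 14, nat_lit 16] = true ∧ eqK κ [nat_lit 14, nat_lit 14] [] = true ∧ eqK κ [nat_lit 0] [] = false ∧ eqK κ [nat_lit 6] [] = false ∧ eqK κ [nat_lit 6] [nat_lit 7] = false ∧ eqK κ [nat_lit 6] [nat_lit 14] = false := by decide +kernel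
theorem ze0 : allB (fun W => !cjAll κ W [[nat_lit 10],
  [nat_lit 9, nat_lit 10, nat_lit 8]] [[nat_lit 10],
  [nat_lit 9, nat_lit 10, nat_lit 8]] || anyB (eqK κ W) [[],
  [nat_lit 6],
  [nat_lit 7],
  [nat_lit 6, nat_lit 7],
  [nat_lit 10],
  [nat_lit 6, nat_lit 10],
  [nat_lit 7, nat_lit 10],
  [nat_lit 6, nat_lit 7, nat_lit 10],
  [nat_lit 9, nat_lit 10, nat_lit 8],
  [nat_lit 6, nat_lit 9, nat_lit 10, nat_lit 8],
  [nat_lit 7, nat_lit 9, nat_lit 10, nat_lit 8],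
  [nat_lit 6, nat_lit 7, nat_lit 9, nat_lit 10, nat_lit 8],
  [nat_lit 10, nat_lit 9, nat_lit 10, nat_lit 8],
  [nat_lit 6, nat_lit 10, nat_lit 9, nat_lit 10, nat_lit 8],
  [nat_lit 7, nat_lit 10, nat_lit 9, nat_lit 10, nat_lit 8],
  [nat_lit 6, nat_lit 7, nat_lit 10, nat_lit 9, nat_lit 10, nat_lit 8]]) d_W = true := by decide +kernel
theorem e0_4 : allB (fun i => Nat.blt (tb e0_T 4 i) 16 && eqK κ (nth [] e0_P i) (fl [[nat_lit 5],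
  [nat_lit 11],
  [nat_lit 10],
  [nat_lit 8],
  [nat_lit 6],
  [nat_lit 7]] (nth [] e0_J4 i)) &&
    eqK κ (nth [] e0_P (tb e0_T 4 i)) (fl [[nat_lit 5],
  [nat_lit 11],
  [nat_lit 9, nat_lit 10, nat_lit 8],
  [nat_lit 9],
  [nat_lit 7],
  [nat_lit 6]] (nth [] e0_J4 i))) (List.range 16) = true := by decide +kernel
theorem e0_0 : allB (fun i => Nat.blt (tb e0_T 0 i) 16 && cjK κ [0] (nth [] e0_P i) (nth [] e0_P (tb e0_T 0 i))) (List.range 16) = true := by decide +kernel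
theorem e0_1 : allB (fun i => Nat.blt (tb e0_T 1 i) 16 && cjK κ [1] (nth [] e0_P i) (nth [] e0_P (tb e0_T 1 i))) (List.range 16) = true := by decide +kernel
theorem e0_2 : allB (fun i => Nat.blt (tb e0_T 2 i) 16 && cjK κ [2] (nth [] e0_P i) (nth [] e0_P (tb e0_T 2 i))) (List.range 16) = true := by decide +kernel
theorem e0i : ltAll 16 [nat_lit 1, nat_lit 2, nat_lit 4, nat_lit 8] = 0 ∧ ltAll 16 [nat_lit 0, nat_lit 1, nat_lit 2, nat_lit 3, nat_lit 4, nat_lit 5, nat_lit 6, nat_lit 7, nat_lit 8, nat_lit 9, nat_lit 10, nat_lit 11, nat_lit 12, nat_lit 13, nat_lit 14, nat_lit 15] = 0 ∧ List.map (nth [] e0_P) [nat_lit 1, nat_lit 2, nat_lit 4, nat_lit 8] = [[nat_lit 6],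
  [nat_lit 7],
  [nat_lit 10],
  [nat_lit 9, nat_lit 10, nat_lit 8]] ∧ List.map (nth [] e0_P) [nat_lit 0, nat_lit 1, nat_lit 2, nat_lit 3, nat_lit 4, nat_lit 5, nat_lit 6, nat_lit 7, nat_lit 8, nat_lit 9, nat_lit 10, nat_lit 11, nat_lit 12, nat_lit 13, nat_lit 14, nat_lit 15] = [[],
  [nat_lit 6],
  [nat_lit 7],
  [nat_lit 6, nat_lit 7],
  [nat_lit 10],
  [nat_lit 6, nat_lit 10],
  [nat_lit 7, nat_lit 10],
  [nat_lit 6, nat_lit 7, nat_lit 10],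
  [nat_lit 9, nat_lit 10, nat_lit 8],
  [nat_lit 6, nat_lit 9, nat_lit 10, nat_lit 8],
  [nat_lit 7, nat_lit 9, nat_lit 10, nat_lit 8],
  [nat_lit 6, nat_lit 7, nat_lit 9, nat_lit 10, nat_lit 8],
  [nat_lit 10, nat_lit 9, nat_lit 10, nat_lit 8],
  [nat_lit 6, nat_lit 10, nat_lit 9, nat_lit 10, nat_lit 8],
  [nat_lit 7, nat_lit 10, nat_lit 9, nat_lit 10, nat_lit 8],
  [nat_lit 6, nat_lit 7, nat_lit 10, nat_lit 9, nat_lit 10, nat_lit 8]] := by decide +kernel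
theorem r1 : r1_L.map (fun p => rep p.1 p.2) = r1_R ∧ allB (fun p => powK κ e0_P e0_T [nat_lit 4, nat_lit 0, nat_lit 1, nat_lit 2] [nat_lit 1, nat_lit 2, nat_lit 4, nat_lit 8] [nat_lit 0, nat_lit 1, nat_lit 2, nat_lit 3, nat_lit 4, nat_lit 5, nat_lit 6, nat_lit 7, nat_lit 8, nat_lit 9, nat_lit 10, nat_lit 11, nat_lit 12, nat_lit 13, nat_lit 14, nat_lit 15] [[]] p.1 p.2) r1_L = true := by decide +kernel
theorem ze1 : allB (fun W => !cjAll κ W [[nat_lit 11],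
  [nat_lit 9, nat_lit 11, nat_lit 8]] [[nat_lit 11],
  [nat_lit 9, nat_lit 11, nat_lit 8]] || anyB (eqK κ W) [[],
  [nat_lit 6],
  [nat_lit 7],
  [nat_lit 6, nat_lit 7],
  [nat_lit 11],
  [nat_lit 6, nat_lit 11],
  [nat_lit 7, nat_lit 11],
  [nat_lit 6, nat_lit 7, nat_lit 11],
  [nat_lit 9, nat_lit 11, nat_lit 8],
  [nat_lit 6, nat_lit 9, nat_lit 11, nat_lit 8],
  [nat_lit 7, nat_lit 9, nat_lit 11, nat_lit 8],
  [nat_lit 6, nat_lit 7, nat_lit 9, nat_lit 11, nat_lit 8],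
  [nat_lit 11, nat_lit 9, nat_lit 11, nat_lit 8],
  [nat_lit 6, nat_lit 11, nat_lit 9, nat_lit 11, nat_lit 8],
  [nat_lit 7, nat_lit 11, nat_lit 9, nat_lit 11, nat_lit 8],
  [nat_lit 6, nat_lit 7, nat_lit 11, nat_lit 9, nat_lit 11, nat_lit 8]]) d_W = true := by decide +kernel
theorem e1_4 : allB (fun i => Nat.blt (tb e1_T 4 i) 16 && eqK κ (nth [] e1_P i) (fl [[nat_lit 5],
  [nat_lit 11],
  [nat_lit 10],
  [nat_lit 8],
  [nat_lit 6],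
  [nat_lit 7]] (nth [] e1_J4 i)) &&
    eqK κ (nth [] e1_P (tb e1_T 4 i)) (fl [[nat_lit 5],
  [nat_lit 11],
  [nat_lit 9, nat_lit 10, nat_lit 8],
  [nat_lit 9],
  [nat_lit 7],
  [nat_lit 6]] (nth [] e1_J4 i))) (List.range 16) = true := by decide +kernel
theorem e1_0 : allB (fun i => Nat.blt (tb e1_T 0 i) 16 && cjK κ [0] (nth [] e1_P i) (nth [] e1_P (tb e1_T 0 i))) (List.range 16) = true := by decide +kernel
theorem e1_1 : allB (fun i => Nat.blt (tb e1_T 1 i) 16 && cjK κ [1] (nth [] e1_P i) (nth [] e1_P (tb e1_T 1 i))) (List.range 16) = true := by decide +kernel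
theorem e1_3 : allB (fun i => Nat.blt (tb e1_T 3 i) 16 && cjK κ [3] (nth [] e1_P i) (nth [] e1_P (tb e1_T 3 i))) (List.range 16) = true := by decide +kernel
theorem e1i : ltAll 16 [nat_lit 1, nat_lit 2, nat_lit 4, nat_lit 8] = 0 ∧ ltAll 16 [nat_lit 0, nat_lit 1, nat_lit 2, nat_lit 3, nat_lit 4, nat_lit 5, nat_lit 6, nat_lit 7, nat_lit 8, nat_lit 9, nat_lit 10, nat_lit 11, nat_lit 12, nat_lit 13, nat_lit 14, nat_lit 15] = 0 ∧ List.map (nth [] e1_P) [nat_lit 1, nat_lit 2, nat_lit 4, nat_lit 8] = [[nat_lit 6],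
  [nat_lit 7],
  [nat_lit 11],
  [nat_lit 9, nat_lit 11, nat_lit 8]] ∧ List.map (nth [] e1_P) [nat_lit 0, nat_lit 1, nat_lit 2, nat_lit 3, nat_lit 4, nat_lit 5, nat_lit 6, nat_lit 7, nat_lit 8, nat_lit 9, nat_lit 10, nat_lit 11, nat_lit 12, nat_lit 13, nat_lit 14, nat_lit 15] = [[],
  [nat_lit 6],
  [nat_lit 7],
  [nat_lit 6, nat_lit 7],
  [nat_lit 11],
  [nat_lit 6, nat_lit 11],
  [nat_lit 7, nat_lit 11],
  [nat_lit 6, nat_lit 7, nat_lit 11],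
  [nat_lit 9, nat_lit 11, nat_lit 8],
  [nat_lit 6, nat_lit 9, nat_lit 11, nat_lit 8],
  [nat_lit 7, nat_lit 9, nat_lit 11, nat_lit 8],
  [nat_lit 6, nat_lit 7, nat_lit 9, nat_lit 11, nat_lit 8],
  [nat_lit 11, nat_lit 9, nat_lit 11, nat_lit 8],
  [nat_lit 6, nat_lit 11, nat_lit 9, nat_lit 11, nat_lit 8],
  [nat_lit 7, nat_lit 11, nat_lit 9, nat_lit 11, nat_lit 8],
  [nat_lit 6, nat_lit 7, nat_lit 11, nat_lit 9, nat_lit 11, nat_lit 8]] := by decide +kernel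
theorem r2 : r2_L.map (fun p => rep p.1 p.2) = r2_R ∧ allB (fun p => powK κ e1_P e1_T [nat_lit 4, nat_lit 0, nat_lit 1, nat_lit 3] [nat_lit 1, nat_lit 2, nat_lit 4, nat_lit 8] [nat_lit 0, nat_lit 1, nat_lit 2, nat_lit 3, nat_lit 4, nat_lit 5, nat_lit 6, nat_lit 7, nat_lit 8, nat_lit 9, nat_lit 10, nat_lit 11, nat_lit 12, nat_lit 13, nat_lit 14, nat_lit 15] [[]] p.1 p.2) r2_L = true := by decide +kernel
theorem ra : allB (fun r => !mem r 4 && eqK κ r []) ra_R = true := by decide +kernel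
theorem rb : rb_L.map (fun p => 4 :: app p.1 (4 :: p.2.1)) = rb_R ∧ allB (fun p => !mem p.1 4 && !mem p.2.1 4 &&
    eqK κ p.1 (fl [[nat_lit 5],
  [nat_lit 11],
  [nat_lit 10],
  [nat_lit 8],
  [nat_lit 6],
  [nat_lit 7]] p.2.2) && eqK κ (app (fl [[nat_lit 5],
  [nat_lit 11],
  [nat_lit 9, nat_lit 10, nat_lit 8],
  [nat_lit 9],
  [nat_lit 7],
  [nat_lit 6]] p.2.2) p.2.1) []) rb_L = true := by decide +kernel
theorem rl_sub : ∀ r ∈ H1.CoT.Rl, r ∈ [[4, 4]] ++ ra_R ++ rb_R ++ r0_R ++ r1_R ++ r2_R := by decide +kernel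
theorem WM_a : allL (ltAll 7) WM = true := by decide +kernel
theorem WM_b : allL (fixL (wdsP H15.Co3.P WM) 6 H15.Co3.B) H1.CoT.Rl = true := by decide +kernel
theorem WM_c : allZ (fun k => ltAll 6 (nth [] VM k) + eqL H15.Co3.P 7 H15.Co3.B (fl WM (nth [] VM k)) [k]) 0 7 = true := by decide +kernel

theorem md {G : Type*} [Group G] (e : gen H1.CoC.g 5 ≃* G) :
    ∃ (_ : MulAction G (Fin 240)) (g : ℕ → G), Md g (ptF 240) H1.CoC.P 240 5 H1.CoC.B 2903040 ∧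
      ∀ k < 5, (e.symm (g k)).1 = H1.CoC.g k :=
  exists_md H1.CoC.act (ptF_inj 240) H1.CoC.card H1.CoC.isBase md_b e
theorem mds {G : Type*} [Group G] (e : gen H16.S62.g 6 ≃* G) :
    ∃ (_ : MulAction G (Fin 63)) (g : ℕ → G), Md g (ptF 63) H16.S62.P 63 6 H16.S62.B 1451520 ∧
      ∀ k < 6, (e.symm (g k)).1 = H16.S62.g k :=
  exists_md H16.S62.act (ptF_inj 63) H16.S62.card H16.S62.isBase mds_b e
theorem a_m : ∀ k < 21, ∀ i < 240, (matEnt (wdsP H1.CoC.P a_W) a_P) k i = 0 := allZ2_sound a_m_a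
theorem a_act {G Ω : Type*} [Group G] [MulAction G Ω] {g : ℕ → G} {pt : ℕ → Ω}
    (M : Md g pt H1.CoC.P 240 5 H1.CoC.B 2903040) : H16.Act (wds g a_W) pt a_P 240 21 :=
  act_mat (M.wact a_lt) a_m
theorem q_m : ∀ k < 5, ∀ i < 63, (matEnt (wdsP H16.S62.P q_W) q_P) k i = 0 := allZ2_sound q_m_a
theorem q_act {G Ω : Type*} [Group G] [MulAction G Ω] {g : ℕ → G} {pt : ℕ → Ω}
    (M : Md g pt H16.S62.P 63 6 H16.S62.B 1451520) : H16.Act (wds g q_W) pt q_P 63 5 :=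
  act_mat (M.wact q_lt) q_m
theorem q {G Ω : Type*} [Group G] [MulAction G Ω] {g : ℕ → G} {pt : ℕ → Ω}
    (M : Md g pt H1.CoC.P 240 5 H1.CoC.B 2903040) {T Ω' : Type*} [Group T] [MulAction T Ω'] {t : ℕ → T} {pt' : ℕ → Ω'}
    (Mt : Md t pt' H16.S62.P 63 6 H16.S62.B 1451520) :
    ∃ f : G →* T, Function.Surjective f ∧ ∀ W, ltAll 5 W = 0 → f (evA g W) = evA (wds t q_W) W :=
  H15.CS.quot M H1.CoC.bound rc Mt (q_act Mt) q_r q_g
theorem k_act {G Ω : Type*} [Group G] [MulAction G Ω] {g : ℕ → G} {pt : ℕ → Ω}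
    (M : Md g pt H1.CoC.P 240 5 H1.CoC.B 2903040) : H16.Act (wds g k_W) pt k_P 240 1 :=
  M.wact k_lt
theorem p2t_act {G Ω : Type*} [Group G] [MulAction G Ω] {g : ℕ → G} {pt : ℕ → Ω}
    (M : Md g pt H1.CoC.P 240 5 H1.CoC.B 2903040) : H16.Act (wds g p2t_W) pt p2t_P 240 10 :=
  M.wact p2t_lt
theorem p2_r : ∀ k < 10, ∀ i < 224, (resEnt p2t_P p2P p2E p2I (nat_lit 240) (nat_lit 224)) k i = 0 := allZ2_sound p2_r_a
theorem p2_sm {G Ω : Type*} [Group G] [MulAction G Ω] {g : ℕ → G} {pt : ℕ → Ω}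
    (M : Md g pt H1.CoC.P 240 5 H1.CoC.B 2903040) : Sm (wds g p2t_W) (fun i => pt (p2E i)) p2P 224 10 p2B ∧ ∀ i < 224, p2E i < 240 :=
  M.res (p2t_act M) (by decide) p2_r p2_b
theorem p2l0_e : ∀ i < 127, (dent p2l0 (wdsP p2P p2e) (nat_lit 224)) i = 0 := allZ_sound0 p2l0_e_0
theorem p2l0_ok : DOK p2l0 (wdsP p2P p2e) 224 := ⟨p2l0_h, p2l0_e⟩
theorem p2l1_e : ∀ i < 7, (dent p2l1 (wdsP p2P p2e) (nat_lit 224)) i = 0 := allZ_sound0 p2l1_e_0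
theorem p2l1_ok : DOK p2l1 (wdsP p2P p2e) 224 := ⟨p2l1_h, p2l1_e⟩
theorem p2_low {G Ω : Type*} [Group G] [MulAction G Ω] {g : ℕ → G} {pt : ℕ → Ω}
    (M : Md g pt H1.CoC.P 240 5 H1.CoC.B 2903040) : SLow (gi (wds (wds g p2t_W) p2e)) (fun i => pt (p2E i)) 224 [p2l0, p2l1] :=
  ((SLow.nil).cons p2l1_ok ((p2_sm M).1.act.wds p2_e 16) p2_f1).cons p2l0_ok ((p2_sm M).1.act.wds p2_e 16) p2_f0
theorem p2_pc {G Ω : Type*} [Group G] [MulAction G Ω] {g : ℕ → G} {pt : ℕ → Ω}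
    (M : Md g pt H1.CoC.P 240 5 H1.CoC.B 2903040) : PC (wds g p2t_W) 10 2 :=
  have := M.fin
  ((p2_sm M).1.pc0 (by decide) p2_p).pc (p2_low M) (p2_sm M).1.inj
    (fun k => evA_mem_gen _ (nth_lt p2_e k)) M.card ⟨by decide, p2_c⟩
theorem covr_act {G Ω : Type*} [Group G] [MulAction G Ω] {g : ℕ → G} {pt : ℕ → Ω}
    (M : Md g pt H1.CoC.P 240 5 H1.CoC.B 2903040) : H16.Act (wds g covr_W) pt covr_P 240 3 :=
  M.wact covr_lt
theorem cov_0 {G Ω : Type*} [Group G] [MulAction G Ω] {g : ℕ → G} {pt : ℕ → Ω}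
    (M : Md g pt H1.CoC.P 240 5 H1.CoC.B 2903040) : Cov (wds g p2t_W) (wds g covr_W) 2 3 10 (evA (wds g p2t_W) []) :=
  have := M.fin
  covT0.cov M (p2_sm M).1 (p2_sm M).2 (covr_act M) (p2_pc M) _ _ cov_c0
theorem cov {G Ω : Type*} [Group G] [MulAction G Ω] {g : ℕ → G} {pt : ℕ → Ω}
    (M : Md g pt H1.CoC.P 240 5 H1.CoC.B 2903040) {y : G} {e : ℕ} (hy : y ^ 2 ^ e = 1) (hq : y ^ 2 = 1) : Good (wds g covr_W) 3 y :=
  have := M.fin
  Cov.all (p2_pc M) (cov_0 M) hy hq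
theorem x_act {G Ω : Type*} [Group G] [MulAction G Ω] {g : ℕ → G} {pt : ℕ → Ω}
    (M : Md g pt H1.CoC.P 240 5 H1.CoC.B 2903040) : H16.Act (wds g x_W) pt x_P 240 1 :=
  M.wact x_lt
theorem txh_act {G Ω : Type*} [Group G] [MulAction G Ω] {g : ℕ → G} {pt : ℕ → Ω}
    (M : Md g pt H1.CoC.P 240 5 H1.CoC.B 2903040) : H16.Act (wds g txh_W) pt txh_P 240 12 :=
  M.wact txh_lt
theorem txl0_e : ∀ i < 239, (dent txl0 txh_P (nat_lit 240)) i = 0 := allZ_sound0 txl0_e_0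
theorem txl0_ok : DOK txl0 txh_P 240 := ⟨txl0_h, txl0_e⟩
theorem txl1_e : ∀ i < 125, (dent txl1 txh_P (nat_lit 240)) i = 0 := allZ_sound0 txl1_e_0
theorem txl1_ok : DOK txl1 txh_P 240 := ⟨txl1_h, txl1_e⟩
theorem txl2_e : ∀ i < 11, (dent txl2 txh_P (nat_lit 240)) i = 0 := allZ_sound0 txl2_e_0
theorem txl2_ok : DOK txl2 txh_P 240 := ⟨txl2_h, txl2_e⟩
theorem txl3_e : ∀ i < 1, (dent txl3 txh_P (nat_lit 240)) i = 0 := allZ_sound0 txl3_e_0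
theorem txl3_ok : DOK txl3 txh_P 240 := ⟨txl3_h, txl3_e⟩
theorem txl4_e : ∀ i < 1, (dent txl4 txh_P (nat_lit 240)) i = 0 := allZ_sound0 txl4_e_0
theorem txl4_ok : DOK txl4 txh_P 240 := ⟨txl4_h, txl4_e⟩
theorem txl5_e : ∀ i < 1, (dent txl5 txh_P (nat_lit 240)) i = 0 := allZ_sound0 txl5_e_0
theorem txl5_ok : DOK txl5 txh_P 240 := ⟨txl5_h, txl5_e⟩
theorem tx_low {G Ω : Type*} [Group G] [MulAction G Ω] {g : ℕ → G} {pt : ℕ → Ω}
    (M : Md g pt H1.CoC.P 240 5 H1.CoC.B 2903040) : SLow (gi (wds g txh_W)) pt 240 [txl0, txl1, txl2, txl3, txl4, txl5] :=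
  ((((((SLow.nil).cons txl5_ok (txh_act M) tx_f5).cons txl4_ok (txh_act M) tx_f4).cons txl3_ok (txh_act M) tx_f3).cons txl2_ok (txh_act M) tx_f2).cons txl1_ok (txh_act M) tx_f1).cons txl0_ok (txh_act M) tx_f0
theorem tx_S0 {G Ω : Type*} [Group G] [MulAction G Ω] {g : ℕ → G} {pt : ℕ → Ω}
    (M : Md g pt H1.CoC.P 240 5 H1.CoC.B 2903040) : Stage ⊤ (wds g txh_W) pt 240 [txl0, txl1, txl2, txl3, txl4, txl5] [] :=
  M.stage (tx_low M) tx_c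
theorem tx_S1 {G Ω : Type*} [Group G] [MulAction G Ω] {g : ℕ → G} {pt : ℕ → Ω}
    (M : Md g pt H1.CoC.P 240 5 H1.CoC.B 2903040) : Stage ⊤ (wds g txh_W) pt 240 [txl1, txl2, txl3, txl4, txl5] [txl0.Pt 0] :=
  (tx_S0 M).next
theorem tx_S2 {G Ω : Type*} [Group G] [MulAction G Ω] {g : ℕ → G} {pt : ℕ → Ω}
    (M : Md g pt H1.CoC.P 240 5 H1.CoC.B 2903040) : Stage ⊤ (wds g txh_W) pt 240 [txl2, txl3, txl4, txl5] [txl1.Pt 0, txl0.Pt 0] :=
  (tx_S1 M).next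
theorem tx_S3 {G Ω : Type*} [Group G] [MulAction G Ω] {g : ℕ → G} {pt : ℕ → Ω}
    (M : Md g pt H1.CoC.P 240 5 H1.CoC.B 2903040) : Stage ⊤ (wds g txh_W) pt 240 [txl3, txl4, txl5] [txl2.Pt 0, txl1.Pt 0, txl0.Pt 0] :=
  (tx_S2 M).next
theorem tx_S4 {G Ω : Type*} [Group G] [MulAction G Ω] {g : ℕ → G} {pt : ℕ → Ω}
    (M : Md g pt H1.CoC.P 240 5 H1.CoC.B 2903040) : Stage ⊤ (wds g txh_W) pt 240 [txl4, txl5] [txl3.Pt 0, txl2.Pt 0, txl1.Pt 0, txl0.Pt 0] :=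
  (tx_S3 M).next
theorem tx_S5 {G Ω : Type*} [Group G] [MulAction G Ω] {g : ℕ → G} {pt : ℕ → Ω}
    (M : Md g pt H1.CoC.P 240 5 H1.CoC.B 2903040) : Stage ⊤ (wds g txh_W) pt 240 [txl5] [txl4.Pt 0, txl3.Pt 0, txl2.Pt 0, txl1.Pt 0, txl0.Pt 0] :=
  (tx_S4 M).next
theorem tx_S6 {G Ω : Type*} [Group G] [MulAction G Ω] {g : ℕ → G} {pt : ℕ → Ω}
    (M : Md g pt H1.CoC.P 240 5 H1.CoC.B 2903040) : Stage ⊤ (wds g txh_W) pt 240 [] [txl5.Pt 0, txl4.Pt 0, txl3.Pt 0, txl2.Pt 0, txl1.Pt 0, txl0.Pt 0] :=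
  (tx_S5 M).next
theorem cxe_act {G Ω : Type*} [Group G] [MulAction G Ω] {g : ℕ → G} {pt : ℕ → Ω}
    (M : Md g pt H1.CoC.P 240 5 H1.CoC.B 2903040) : H16.Act (wds g cxe_W) pt cxe_P 240 7 :=
  M.wact cxe_lt
theorem cxc5_e : ∀ i < 1, (dent cxc5 cxe_P (nat_lit 240)) i = 0 := allZ_sound0 cxc5_e_0
theorem cxc5_ok : DOK cxc5 cxe_P 240 := ⟨cxc5_h, cxc5_e⟩
theorem txn0_1 : ∀ i < 2, (txn0.ent H1.CoC.P txh_P x_P x_P cxe_P (nat_lit 5) (nat_lit 1) H1.CoC.B txl5 [] (memO cxc5)) i = 0 := allZ_sound0 txn0_1_0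
theorem txn0_t {G Ω : Type*} [Group G] [MulAction G Ω] {g : ℕ → G} {pt : ℕ → Ω}
    (M : Md g pt H1.CoC.P 240 5 H1.CoC.B 2903040) : TrO (gen (wds g txh_W) txl5.K) (wds g x_W) (wds g x_W) 1 pt 240 (txl5.Pt 0) (memO cxc5) :=
  node M (tx_S5 M) (txh_act M) (x_act M) (x_act M) txn0 ((cxe_act M).mono (by decide)) (fun _ _ => trivial) txn0_0 txn0_1 (List.forall_mem_nil _)
theorem txn1y72_act {G Ω : Type*} [Group G] [MulAction G Ω] {g : ℕ → G} {pt : ℕ → Ω}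
    (M : Md g pt H1.CoC.P 240 5 H1.CoC.B 2903040) : H16.Act (wds g txn1y72_W) pt txn1y72_P 240 1 :=
  M.wact txn1y72_lt
theorem txr2k_act {G Ω : Type*} [Group G] [MulAction G Ω] {g : ℕ → G} {pt : ℕ → Ω}
    (M : Md g pt H1.CoC.P 240 5 H1.CoC.B 2903040) : H16.Act (wds g txr2k_W) pt txr2k_P 240 2 :=
  M.wact txr2k_lt
theorem txn2_1 : ∀ i < 2, (txn2.ent H1.CoC.P txh_P x_P txn1y72_P txr2k_P (nat_lit 5) (nat_lit 1) H1.CoC.B txl5 [] (fun _ => nat_lit 1)) i = 0 := allZ_sound0 txn2_1_0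
theorem txn2_t {G Ω : Type*} [Group G] [MulAction G Ω] {g : ℕ → G} {pt : ℕ → Ω}
    (M : Md g pt H1.CoC.P 240 5 H1.CoC.B 2903040) : TrO (gen (wds g txh_W) txl5.K) (wds g x_W) (wds g txn1y72_W) 1 pt 240 (txl5.Pt 0) (fun _ => nat_lit 1) :=
  node M (tx_S5 M) (txh_act M) (x_act M) (txn1y72_act M) txn2 ((txr2k_act M).mono (by decide)) (fun _ _ => trivial) txn2_0 txn2_1 (List.forall_mem_nil _)
theorem txr2 {G Ω : Type*} [Group G] [MulAction G Ω] {g : ℕ → G} {pt : ℕ → Ω}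
    (M : Md g pt H1.CoC.P 240 5 H1.CoC.B 2903040) : Ref (gen (wds g txh_W) (topK [txl5])) (wds g x_W) (wds g txn1y72_W) 1 :=
  (txn2_t M).ref
theorem txn1_1 : ∀ i < 2, (txn1.ent H1.CoC.P txh_P x_P x_P cxe_P (nat_lit 5) (nat_lit 1) H1.CoC.B txl4 [txl5] (fun w => Nat.xor w (txl4.Pt (nat_lit 0)))) i = 0 := allZ_sound0 txn1_1_0
theorem txn1_t {G Ω : Type*} [Group G] [MulAction G Ω] {g : ℕ → G} {pt : ℕ → Ω}
    (M : Md g pt H1.CoC.P 240 5 H1.CoC.B 2903040) : TrO (gen (wds g txh_W) txl4.K) (wds g x_W) (wds g x_W) 1 pt 240 (txl4.Pt 0) (fun w => Nat.xor w (txl4.Pt (nat_lit 0))) :=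
  node M (tx_S4 M) (txh_act M) (x_act M) (x_act M) txn1 ((cxe_act M).mono (by decide)) (fun _ _ => trivial) txn1_0 txn1_1 (List.forall_mem_cons.2 ⟨txr2 M, List.forall_mem_nil _⟩)
theorem cxc3_e : ∀ i < 1, (dent cxc3 cxe_P (nat_lit 240)) i = 0 := allZ_sound0 cxc3_e_0
theorem cxc3_ok : DOK cxc3 cxe_P 240 := ⟨cxc3_h, cxc3_e⟩
theorem txn3_1 : ∀ i < 2, (txn3.ent H1.CoC.P txh_P x_P x_P cxe_P (nat_lit 5) (nat_lit 1) H1.CoC.B txl3 [txl4, txl5] (memO cxc3)) i = 0 := allZ_sound0 txn3_1_0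
theorem txn3_t {G Ω : Type*} [Group G] [MulAction G Ω] {g : ℕ → G} {pt : ℕ → Ω}
    (M : Md g pt H1.CoC.P 240 5 H1.CoC.B 2903040) : TrO (gen (wds g txh_W) txl3.K) (wds g x_W) (wds g x_W) 1 pt 240 (txl3.Pt 0) (memO cxc3) :=
  node M (tx_S3 M) (txh_act M) (x_act M) (x_act M) txn3 ((cxe_act M).mono (by decide)) (fun _ _ => trivial) txn3_0 txn3_1 (List.forall_mem_nil _)
theorem cxc2_e : ∀ i < 7, (dent cxc2 cxe_P (nat_lit 240)) i = 0 := allZ_sound0 cxc2_e_0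
theorem cxc2_ok : DOK cxc2 cxe_P 240 := ⟨cxc2_h, cxc2_e⟩
theorem txn4_1 : ∀ i < 12, (txn4.ent H1.CoC.P txh_P x_P x_P cxe_P (nat_lit 5) (nat_lit 1) H1.CoC.B txl2 [txl3, txl4, txl5] (memO cxc2)) i = 0 := allZ_sound0 txn4_1_0
theorem txn4_t {G Ω : Type*} [Group G] [MulAction G Ω] {g : ℕ → G} {pt : ℕ → Ω}
    (M : Md g pt H1.CoC.P 240 5 H1.CoC.B 2903040) : TrO (gen (wds g txh_W) txl2.K) (wds g x_W) (wds g x_W) 1 pt 240 (txl2.Pt 0) (memO cxc2) :=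
  node M (tx_S2 M) (txh_act M) (x_act M) (x_act M) txn4 ((cxe_act M).mono (by decide)) (fun _ _ => trivial) txn4_0 txn4_1 (List.forall_mem_nil _)
theorem cxc1_e : ∀ i < 5, (dent cxc1 cxe_P (nat_lit 240)) i = 0 := allZ_sound0 cxc1_e_0
theorem cxc1_ok : DOK cxc1 cxe_P 240 := ⟨cxc1_h, cxc1_e⟩
theorem txn5_1 : ∀ i < 126, (txn5.ent H1.CoC.P txh_P x_P x_P cxe_P (nat_lit 5) (nat_lit 1) H1.CoC.B txl1 [txl2, txl3, txl4, txl5] (memO cxc1)) i = 0 := allZ_sound0 txn5_1_0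
theorem txn5_t {G Ω : Type*} [Group G] [MulAction G Ω] {g : ℕ → G} {pt : ℕ → Ω}
    (M : Md g pt H1.CoC.P 240 5 H1.CoC.B 2903040) : TrO (gen (wds g txh_W) txl1.K) (wds g x_W) (wds g x_W) 1 pt 240 (txl1.Pt 0) (memO cxc1) :=
  node M (tx_S1 M) (txh_act M) (x_act M) (x_act M) txn5 ((cxe_act M).mono (by decide)) (fun _ _ => trivial) txn5_0 txn5_1 (List.forall_mem_nil _)
theorem cxc0_e : ∀ i < 23, (dent cxc0 cxe_P (nat_lit 240)) i = 0 := allZ_sound0 cxc0_e_0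
theorem cxc0_ok : DOK cxc0 cxe_P 240 := ⟨cxc0_h, cxc0_e⟩
theorem txn6_1 : ∀ i < 240, (txn6.ent H1.CoC.P txh_P x_P x_P cxe_P (nat_lit 5) (nat_lit 1) H1.CoC.B txl0 [txl1, txl2, txl3, txl4, txl5] (memO cxc0)) i = 0 := allZ_sound0 txn6_1_0
theorem txn6_t {G Ω : Type*} [Group G] [MulAction G Ω] {g : ℕ → G} {pt : ℕ → Ω}
    (M : Md g pt H1.CoC.P 240 5 H1.CoC.B 2903040) : TrO (gen (wds g txh_W) txl0.K) (wds g x_W) (wds g x_W) 1 pt 240 (txl0.Pt 0) (memO cxc0) :=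
  node M (tx_S0 M) (txh_act M) (x_act M) (x_act M) txn6 ((cxe_act M).mono (by decide)) (fun _ _ => trivial) txn6_0 txn6_1 (List.forall_mem_nil _)
theorem cx {G Ω : Type*} [Group G] [MulAction G Ω] {g : ℕ → G} {pt : ℕ → Ω}
    (M : Md g pt H1.CoC.P 240 5 H1.CoC.B 2903040) : Cen ⊤ (wds g x_W) 1 (wds g cxe_W) pt 240 [cxc0, cxc1, cxc2, cxc3, cxc5] :=
  (tx_S0 M).top ▸ Cen.lev M (tx_S0 M) (Cen.lev M (tx_S1 M) (Cen.lev M (tx_S2 M) (Cen.lev M (tx_S3 M) (Cen.triv (tx_S4 M) (Cen.lev M (tx_S5 M) (Cen.bot) (txn0_t M) (x_act M) (cxe_act M) (fun _ _ => trivial) cxc5_ok cx_f5) (txn1_t M)) (txn3_t M) (x_act M) (cxe_act M) (fun _ _ => trivial) cxc3_ok cx_f3) (txn4_t M) (x_act M) (cxe_act M) (fun _ _ => trivial) cxc2_ok cx_f2) (txn5_t M) (x_act M) (cxe_act M) (fun _ _ => trivial) cxc1_ok cx_f1) (txn6_t M) (x_act M) (cxe_act M) (fun _ _ => trivial) cxc0_ok cx_f0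
theorem cx_card {G Ω : Type*} [Group G] [MulAction G Ω] {g : ℕ → G} {pt : ℕ → Ω}
    (M : Md g pt H1.CoC.P 240 5 H1.CoC.B 2903040) : Nat.card (Subgroup.centralizer {(wds g x_W) 0}) = 4608 :=
  (cx M).card_cent1 M.inj cx_c.1
theorem cx_eq {G Ω : Type*} [Group G] [MulAction G Ω] {g : ℕ → G} {pt : ℕ → Ω}
    (M : Md g pt H1.CoC.P 240 5 H1.CoC.B 2903040) : Subgroup.centralizer (gen (wds g x_W) 1) = gen (wds g cxe_W) 7 ∧ Nat.card (gen (wds g cxe_W) 7) = 4608 :=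
  cx_c.1 ▸ cx_c.2 ▸ ⟨(cx M).cent, (cx M).card M.inj⟩
theorem xu_act {G Ω : Type*} [Group G] [MulAction G Ω] {g : ℕ → G} {pt : ℕ → Ω}
    (M : Md g pt H1.CoC.P 240 5 H1.CoC.B 2903040) : H16.Act (wds g xu_W) pt xu_P 240 1 :=
  M.wact xu_lt
theorem txuh_act {G Ω : Type*} [Group G] [MulAction G Ω] {g : ℕ → G} {pt : ℕ → Ω}
    (M : Md g pt H1.CoC.P 240 5 H1.CoC.B 2903040) : H16.Act (wds g txuh_W) pt txuh_P 240 10 :=
  M.wact txuh_lt
theorem txul0_e : ∀ i < 239, (dent txul0 txuh_P (nat_lit 240)) i = 0 := allZ_sound0 txul0_e_0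
theorem txul0_ok : DOK txul0 txuh_P 240 := ⟨txul0_h, txul0_e⟩
theorem txul1_e : ∀ i < 125, (dent txul1 txuh_P (nat_lit 240)) i = 0 := allZ_sound0 txul1_e_0
theorem txul1_ok : DOK txul1 txuh_P 240 := ⟨txul1_h, txul1_e⟩
theorem txul2_e : ∀ i < 11, (dent txul2 txuh_P (nat_lit 240)) i = 0 := allZ_sound0 txul2_e_0
theorem txul2_ok : DOK txul2 txuh_P 240 := ⟨txul2_h, txul2_e⟩
theorem txul3_e : ∀ i < 7, (dent txul3 txuh_P (nat_lit 240)) i = 0 := allZ_sound0 txul3_e_0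
theorem txul3_ok : DOK txul3 txuh_P 240 := ⟨txul3_h, txul3_e⟩
theorem txu_low {G Ω : Type*} [Group G] [MulAction G Ω] {g : ℕ → G} {pt : ℕ → Ω}
    (M : Md g pt H1.CoC.P 240 5 H1.CoC.B 2903040) : SLow (gi (wds g txuh_W)) pt 240 [txul0, txul1, txul2, txul3] :=
  ((((SLow.nil).cons txul3_ok (txuh_act M) txu_f3).cons txul2_ok (txuh_act M) txu_f2).cons txul1_ok (txuh_act M) txu_f1).cons txul0_ok (txuh_act M) txu_f0
theorem txu_S0 {G Ω : Type*} [Group G] [MulAction G Ω] {g : ℕ → G} {pt : ℕ → Ω}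
    (M : Md g pt H1.CoC.P 240 5 H1.CoC.B 2903040) : Stage ⊤ (wds g txuh_W) pt 240 [txul0, txul1, txul2, txul3] [] :=
  M.stage (txu_low M) txu_c
theorem txu_S1 {G Ω : Type*} [Group G] [MulAction G Ω] {g : ℕ → G} {pt : ℕ → Ω}
    (M : Md g pt H1.CoC.P 240 5 H1.CoC.B 2903040) : Stage ⊤ (wds g txuh_W) pt 240 [txul1, txul2, txul3] [txul0.Pt 0] :=
  (txu_S0 M).next
theorem txu_S2 {G Ω : Type*} [Group G] [MulAction G Ω] {g : ℕ → G} {pt : ℕ → Ω}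
    (M : Md g pt H1.CoC.P 240 5 H1.CoC.B 2903040) : Stage ⊤ (wds g txuh_W) pt 240 [txul2, txul3] [txul1.Pt 0, txul0.Pt 0] :=
  (txu_S1 M).next
theorem txu_S3 {G Ω : Type*} [Group G] [MulAction G Ω] {g : ℕ → G} {pt : ℕ → Ω}
    (M : Md g pt H1.CoC.P 240 5 H1.CoC.B 2903040) : Stage ⊤ (wds g txuh_W) pt 240 [txul3] [txul2.Pt 0, txul1.Pt 0, txul0.Pt 0] :=
  (txu_S2 M).next
theorem txu_S4 {G Ω : Type*} [Group G] [MulAction G Ω] {g : ℕ → G} {pt : ℕ → Ω}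
    (M : Md g pt H1.CoC.P 240 5 H1.CoC.B 2903040) : Stage ⊤ (wds g txuh_W) pt 240 [] [txul3.Pt 0, txul2.Pt 0, txul1.Pt 0, txul0.Pt 0] :=
  (txu_S3 M).next
theorem cxue_act {G Ω : Type*} [Group G] [MulAction G Ω] {g : ℕ → G} {pt : ℕ → Ω}
    (M : Md g pt H1.CoC.P 240 5 H1.CoC.B 2903040) : H16.Act (wds g cxue_W) pt cxue_P 240 5 :=
  M.wact cxue_lt
theorem cxuc2_e : ∀ i < 7, (dent cxuc2 cxue_P (nat_lit 240)) i = 0 := allZ_sound0 cxuc2_e_0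
theorem cxuc2_ok : DOK cxuc2 cxue_P 240 := ⟨cxuc2_h, cxuc2_e⟩
theorem txun0_1 : ∀ i < 12, (txun0.ent H1.CoC.P txuh_P xu_P xu_P cxue_P (nat_lit 5) (nat_lit 1) H1.CoC.B txul2 [txul3] (memO cxuc2)) i = 0 := allZ_sound0 txun0_1_0
theorem txun0_t {G Ω : Type*} [Group G] [MulAction G Ω] {g : ℕ → G} {pt : ℕ → Ω}
    (M : Md g pt H1.CoC.P 240 5 H1.CoC.B 2903040) : TrO (gen (wds g txuh_W) txul2.K) (wds g xu_W) (wds g xu_W) 1 pt 240 (txul2.Pt 0) (memO cxuc2) :=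
  node M (txu_S2 M) (txuh_act M) (xu_act M) (xu_act M) txun0 ((cxue_act M).mono (by decide)) (fun _ _ => trivial) txun0_0 txun0_1 (List.forall_mem_nil _)
theorem cxuc1_e : ∀ i < 5, (dent cxuc1 cxue_P (nat_lit 240)) i = 0 := allZ_sound0 cxuc1_e_0
theorem cxuc1_ok : DOK cxuc1 cxue_P 240 := ⟨cxuc1_h, cxuc1_e⟩
theorem txun1_1 : ∀ i < 126, (txun1.ent H1.CoC.P txuh_P xu_P xu_P cxue_P (nat_lit 5) (nat_lit 1) H1.CoC.B txul1 [txul2, txul3] (memO cxuc1)) i = 0 := allZ_sound0 txun1_1_0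
theorem txun1_t {G Ω : Type*} [Group G] [MulAction G Ω] {g : ℕ → G} {pt : ℕ → Ω}
    (M : Md g pt H1.CoC.P 240 5 H1.CoC.B 2903040) : TrO (gen (wds g txuh_W) txul1.K) (wds g xu_W) (wds g xu_W) 1 pt 240 (txul1.Pt 0) (memO cxuc1) :=
  node M (txu_S1 M) (txuh_act M) (xu_act M) (xu_act M) txun1 ((cxue_act M).mono (by decide)) (fun _ _ => trivial) txun1_0 txun1_1 (List.forall_mem_nil _)
theorem cxuc0_e : ∀ i < 7, (dent cxuc0 cxue_P (nat_lit 240)) i = 0 := allZ_sound0 cxuc0_e_0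
theorem cxuc0_ok : DOK cxuc0 cxue_P 240 := ⟨cxuc0_h, cxuc0_e⟩
theorem txun2_1 : ∀ i < 240, (txun2.ent H1.CoC.P txuh_P xu_P xu_P cxue_P (nat_lit 5) (nat_lit 1) H1.CoC.B txul0 [txul1, txul2, txul3] (memO cxuc0)) i = 0 := allZ_sound0 txun2_1_0
theorem txun2_t {G Ω : Type*} [Group G] [MulAction G Ω] {g : ℕ → G} {pt : ℕ → Ω}
    (M : Md g pt H1.CoC.P 240 5 H1.CoC.B 2903040) : TrO (gen (wds g txuh_W) txul0.K) (wds g xu_W) (wds g xu_W) 1 pt 240 (txul0.Pt 0) (memO cxuc0) :=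
  node M (txu_S0 M) (txuh_act M) (xu_act M) (xu_act M) txun2 ((cxue_act M).mono (by decide)) (fun _ _ => trivial) txun2_0 txun2_1 (List.forall_mem_nil _)
theorem cxu {G Ω : Type*} [Group G] [MulAction G Ω] {g : ℕ → G} {pt : ℕ → Ω}
    (M : Md g pt H1.CoC.P 240 5 H1.CoC.B 2903040) : Cen ⊤ (wds g xu_W) 1 (wds g cxue_W) pt 240 [cxuc0, cxuc1, cxuc2] :=
  (txu_S0 M).top ▸ Cen.lev M (txu_S0 M) (Cen.lev M (txu_S1 M) (Cen.lev M (txu_S2 M) (Cen.triv (txu_S3 M) (Cen.bot) (forced (txu_S3 M) (txuh_act M) (xu_act M) _ _ cxu_f3)) (txun0_t M) (xu_act M) (cxue_act M) (fun _ _ => trivial) cxuc2_ok cxu_f2) (txun1_t M) (xu_act M) (cxue_act M) (fun _ _ => trivial) cxuc1_ok cxu_f1) (txun2_t M) (xu_act M) (cxue_act M) (fun _ _ => trivial) cxuc0_ok cxu_f0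
theorem cxu_card {G Ω : Type*} [Group G] [MulAction G Ω] {g : ℕ → G} {pt : ℕ → Ω}
    (M : Md g pt H1.CoC.P 240 5 H1.CoC.B 2903040) : Nat.card (Subgroup.centralizer {(wds g xu_W) 0}) = 384 :=
  (cxu M).card_cent1 M.inj cxu_c.1
theorem cxu_eq {G Ω : Type*} [Group G] [MulAction G Ω] {g : ℕ → G} {pt : ℕ → Ω}
    (M : Md g pt H1.CoC.P 240 5 H1.CoC.B 2903040) : Subgroup.centralizer (gen (wds g xu_W) 1) = gen (wds g cxue_W) 5 ∧ Nat.card (gen (wds g cxue_W) 5) = 384 :=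
  cxu_c.1 ▸ cxu_c.2 ▸ ⟨(cxu M).cent, (cxu M).card M.inj⟩

end H1.Co
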