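import Cfsg.Agent.H8.FA1
import Cfsg.Agent.H19.FA1

/-! The faithful case of S3319: the ten-dimensional modules. -/

set_option autoImplicit false
set_option linter.unusedSectionVars false
set_option linter.unusedVariables false
set_option maxRecDepth 100000
set_option synthInstance.maxSize 100000
set_option synthInstance.maxHeartbeats 400000

namespace H1.FA
open Cfsg Subgroup H19 H15 H10.RF
open H17.GS (conj_conj')
open H20.J4 (GPm AA)
open H1.JF (FH)
open H9.FA (mkS FM MF MFs ubS dcS ubT dcT)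
open H16 (nth lk)
open H21.JF (InA)
open H19.FA (cA cB cC okG)
universe u

structure Dt where
  (u0 TY KT DP RP Dm Pm P Q B : ℕ)
  (Ms Hc : List ℕ)
  (F1 F2 M1 M2 : ℕ)

namespace Dt
noncomputable def ty (d : Dt) (i : ℕ) : ℕ := lk d.TY 2 3 i
noncomputable def nx (d : Dt) (i : ℕ) : ℕ := mv (nth 0 d.Ms (lk d.KT 2 3 i)) i
noncomputable def cn (d : Dt) (b : List Bool) : ℕ := cntTo2 (fun j => nth false b (d.ty j)) 32 32
noncomputable def F (d : Dt) (b : List Bool) (x : ℕ) : ℕ :=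
  cntTo2 (fun j => band (nth false b (d.ty j)) (nth false b (d.ty (x ^^^ j)))) 32 32
end Dt

structure Ok (ub dc j0 : ℕ) (d : Dt) : Prop where
  t1 : ∀ k < 3, mt ub dc (nth pid [cA, cB, cC] k) = nth 0 d.Ms k
  t2 : ∀ i < 1024, d.ty i < 4 ∧ (i = cl11 d.RP (d.ty i) ∨
    lk d.KT 2 3 i < 3 ∧ d.nx i < 1024 ∧ d.ty (d.nx i) = d.ty i ∧ lk d.DP 5 31 (d.nx i) < lk d.DP 5 31 i)
  t3 : cl11 d.RP 0 = 0 ∧ cl11 d.RP 1 = j0 ∧ j0 ≠ 0 ∧ d.u0 < 1024 ∧ ∀ k < 4, cl11 d.RP k < 1024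
  sz : ∀ b1 b2 b3, ¬ 31 ∣ d.cn [true, b1, b2, b3] ∧ ∀ i ≤ 11, d.cn [true, b1, b2, b3] = 2 ^ i → i = 0 ∨ i = 10
  ov : ∀ b2 b3, 31 ∣ d.cn [false, true, b2, b3] ∨ (∃ k < 4, nth false [false, true, b2, b3] k = true ∧
    d.F [false, true, b2, b3] (cl11 d.RP k) ≠ d.F [false, true, b2, b3] j0) ∨
    ∀ k < 4, ∀ l < 4, nth false [false, true, b2, b3] k = nth false [false, true, b2, b3] l → d.F [false, true, b2, b3] (cl11 d.RP k) = d.F [false, true, b2, b3] (cl11 d.RP l) → k = l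
  ch : H8.FA.chk d.ty d.P d.Q d.B 10 = true ∧ ∏ m ∈ Finset.range 10, cl11 d.B m = 887040
  hc : ∀ k < 10, InA (nth pid d.Hc k) ∧ mv (mt ub dc (nth pid d.Hc k)) j0 = j0 ∧
    mv (mt ub dc (nth pid d.Hc k)) (mv (mt ub dc (nth pid d.Hc k)) d.u0) = cl11 d.Dm k ^^^ d.u0 ∧
    lin (cl11 d.Dm) 10 (cl11 d.Pm k) = 2 ^ k
  fc : InA d.F1 ∧ InA d.F2 ∧ mt ub dc d.F1 = d.M1 ∧ mt ub dc d.F2 = d.M2 ∧ mv d.M1 j0 = j0 ∧ mv d.M2 j0 = j0 ∧
    mv d.M1 d.u0 = d.u0 ∧ mv d.M2 d.u0 = d.u0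
  fy : ∀ y < 1024, (y ^^^ mv d.M1 (mv d.M1 y) = 0 ∨ y ^^^ mv d.M1 (mv d.M1 y) = j0) →
    (y ^^^ mv d.M2 (mv d.M2 y) = 0 ∨ y ^^^ mv d.M2 (mv d.M2 y) = j0) → (y = 0 ∨ y = j0) ∨ y ^^^ d.u0 = 0 ∨ y ^^^ d.u0 = j0

noncomputable def dS : Dt := ⟨2, 0xfeeffffbfbbfefffef9ebfefffeffefbbffffebffffefbeffbeffffeeffbbffffffbebb6efff9eebfbeffffbbffeeffffbeffffbfebfefffb6fbebfffbffffbebfffeffefffefbbfffebfbffbeffffefffebfbffebffb6fbfeffefbfffbffbfefeeffffbbffbefffbffffebf6bbfbffeef9ebfefffeffbfefbeffffebffefee9fbffefbfb6fbfbfeffebfeffebffffbfffbebf6bebffffbfeffffbbf9eefeffebffefffbfbefeffffeffbfefffbffbfeeffffebffffbbffefbbffffeeffefee9effb9eeffbefeffffbb6effbfffbbffefeffefbfffbffbfebffbfffeeffefee9ffbfebfffeffffbeeffbfffebffefee9fbeffffebffefee9fffebee9fee9e994,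
  0x2000222100180801484540a08a51002000914001048028080958009488562909020042112091a101288924504925015880a1410880a060002102500492054105144a42450a029860160855010a09200516800012046226052926260894a2051046241a086028001a484102024449145806a800400a28466a129004249a1000a016a0482014081024144441058108990a500550580240660215910586041984a110220405981121880554aa010a454000521101860910109020090a21401800020240424820120664209642450464181a46114021010906001000268020a5808016010646a41000a8195891414490a094469292901a2004445286282411100100,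
  0x2088438ce6394c3420a542044398c7210a6399073986620ca5194c6214a8398c3410c4418c6394a6290e3318e629ce3298c63182729ce7290883188431cc6114c5214e439cc4398a5314a5294c531cc731cc730cc6310a619c4428ce639cc5108e63108429ca6394a631cc5318a6220e3294c3198e6290a729ca518ce531ce629ca831ca620507310e7194c6298a611ca5394c6394a4314c7288a73a0e529506218a7284c7394c4320e5290a541ce4390a718ce6398c5394861948229107298a5318a6410a8310e629cc6304c5394e831cc53982629cc431c2119866390e521cc6394a7290e2120e611cc53a08439ce221cc340ce5398a3194a620ce841486398e8394c5120c5394e8298c431cc61186731487318e4390a4414e718cc5394e7390c441c86394a6220a521cc6398a629906294e539ce5298a641503390e42108230c86310a7214c5218c62206631885398e539884418c7418a729d0528ca7314833a0a6314e7320c6398e6298c6218e71084739486398a629ce6320e6318c739cc8318a731cc620ce6314c631447318e4310e5310c63988641ca73188538cc6290e53a0a8390a529cc729cc6318e739c862a0e3220c631906314e421cc521c851a0c630cc640ca721ca5194e5318c8218e4410c7218a438d07314e3414c5318a3314e629ca7290c5314c639c86388e631ca5318c7398c63186321cc621ca4298e639886310c6314a32988529cc729886318a7398e4320a639ca7398a3318a541cc7390a53a10529887218e6294a731481298c7210a74188739cc5314a4214c7418e3220c5394e639cc729ce8318e43206539ca7310e530cc4398c6298e3398e7394e531cc631ce6394e329483218e621ca3108c5398a438ce3290c300cc300c00,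
  0xe00c00800, 0xc60224047bc030121b6c7dec082, 0x1f3a1f6cc75533b7707cd1db3a95, 0x800800800201436002001001001, 0x1782002002003000808001001001, 0x801002008040020060500a816,
  [0x100152810002011b318e49e7b5000d9, 0x1001b88040400406c8080046cd27a3a, 0x10006cb714007b5ed01049e4011d001],
  [0xba5638ca746b1f5720c4b1e022a820, 0x18e951250aa1d3a15a3b458f12c37, 0xbb912311824be33a1e0b6aaa5b0c20, 0xb904c2a5726beb69d0e81c4ca83820, 0x40b268cd45090c7b8965a4f19d437, 0xbd5c5b34512320a31de39a57492020, 0xbd10a2a5a3ad97163a463bc5381020, 0xba28571246acd5012d3661de38b420, 0x188e13d5249e8c1a2756c1658d837, 0xbad0434ce513ab28da0f50e8963420],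
  0xbc92e7d6c81b58731633a288b80820, 0xbc6ad3c92582868612cb34deea0820, 0x1000083663daf69000084746cc01001, 0x10000431d474080f68d96e2f6801001⟩
noncomputable def dT : Dt := ⟨129, 0x577ff7df57df7ff7d57f7f7f7feffbfe5f777dffff7bffeeffff7ebef6fffffa57f7df7ffdfefefe7ffbfeef7ffeeffb6ffffffaffff7eebffdeffeefaeebeaa7d5f77ff7effffebfff6fffaffffdeeedffefeef7ffebffe7feffefbefbaeaeaffff7beeff6ffffa7effffbebefaeeaaf7fbfefefeaeeabafeeaabeafbeaeaae777d5fffffff6ffadeffffeeff7effbef7fefbfedfeffefe7ffbeffefeeaeaabff7effeb7bffffeefffff6faeebefaaa7ffefebffebaaeeafbaeeaeaefeabaea7fbffefef7fefefb7ffefbeffbeaaeeaffffff6aebeefaaaeefabeaafabeeeaadffeeffefeeabaaeefeaeabafeabeaeafaebeeaaeefaebaabeeefaaaaaaaaaa8,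
  0x52159001a00122642068244802911150649412069105421240919484aa18804194005209108849a021a1119510448800190088209484a810408599a0694859002046000410584400816461006608109054110292216221a548080140080408a00082050012240106022414514162a85910489a491041984946512880a50294068060191080100684029450800225914021050011285688850522402801052105401049216002100481006110010a546814251600220800211420944404421004512000a9141a5440428122a4856841044519198810400448088481125809080985845a1a16000888a9910aa5046028a12084210010051a40aa1409a004811510,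
  0x2108211cc5298a7214a7208a6310c721c8509c83388a5198c7198c8198c8214a2290e839886310c6290e7098672a104214c6314e62a0a6194e529ce431907320c521cc5398a62986329cc8298e731c862106331c8739105298a7398a41a0c3218c5310e4198e4310a629d05214c7218c619ce5298c63986521905418c729486310a739ca6298a619ce6290a829cc631464310c6298c6310444086629ca329486210a3094a6298673a0e6094a529ce539c88298a7314e229c66298a5294c4390c4394a5308e741825288e6398a639ca5318c52910739485314c2098a5218a7190e7398c531ca7318c731cc2318862148231ca8218e619887298e531c82294a73990432086198e5298a5390c3318a628ca6298e5310e4214c639465318a3218a529cc331ca5118a5398853104530ca619086394c43988429086198c5294a6318c411886194e4210842950729c8439887294c5314a54084331c87310e5318a731886194a53108631cc641486288c4418a630ce640ca73990339cc6318a5214c631ca6398c8390c6390e5318c5290a4318c6318a8114c5218a6418a42982641ca631c8430c6531884318c731881310a730c863186632065310c6198c7314e739cc531cc7394c619885394c5390a5118c7314c7298c6318e7218e71948629ca6390e4210e7394c7398e3214c629447294c6298c6398a818ce5218c4390c638cc6320a4294c5218e3394e6398c4314a621464198a649ce6394a6398c7398a6418e629887290e3394e6318a7320a6290e721085300a2298a7394c621ca339ca539cc63a0a5218c3314c71946439ca6298a6414a720cc739464194a331ca6314a731cc531cc5218e741c864148511cc61986141465380852948631045214a62186531400,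
  0x2c0043f000, 0x191aa04726a9c038240ac35ec328, 0xbe05121ab0cb8abc0bac601826c, 0x8000800200c08820144019c187e, 0x14d2001b06d4080a020031060080, 0x8010040080100200603c0804d,
  [0x1000873410b4c480c282290d4935250, 0x100014188644a21140802c0e04dc38c, 0x100020178124f0064188130444e81dc],
  [0x3935191936bca28d9148054b31e57, 0xb968b08cc96bd5363887ac2d214500, 0xbb461a1127728b343d7260ad1a9a00, 0x358b90490559c233d07a24a38ceb7, 0x5a6609d122b5f562850a0dc98ac97, 0x162982cc4729e295a6ca55a71a037, 0x14e41458b53db443a5034ec9186b7, 0x35641d0ec2b94145a70919e24c6b7, 0x5a70126446bdcba16280d54361cd7, 0xbaa26a8d89b39eb99644821a23d020],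
  0xb960821a817d9b21aa713b1c912ea0, 0xb9621441247b9b415aa63cd5258d80, 0x10016114211a278260c80943187400c, 0x10010210913c04c0900701c0f42581f⟩
theorem okS : Ok ubS dcS 1 dS := by constructor <;> decide +kernel
theorem okT : Ok ubT dcT 126 dT := by constructor <;> decide +kernel

variable {G : Type u} [Group G] [Finite G] {V X Y : Subgroup G} {f a x y : G} {π : G → GPm} {v : ℕ → G} {ub dc j0 i c : ℕ}
  {d : Dt} {S : Set G} (h : FM f V π v ub dc 1024) (o : Ok ub dc j0 d)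
include h

theorem act' (hc : InA c) : ∃ a ∈ C[f], Ac v a (mv (mt ub dc c)) :=
  let ⟨a, ha, e⟩ := H19.FA.sur h.toFH hc; ⟨a, ha, e ▸ h.ac a ha⟩
theorem ncd {p : ℕ → Bool} (l : S ⊆ VS v 10) (k : ∀ i < 1024, v i ∈ S ↔ p i = true) : S.ncard = cntTo2 p 32 32 := by
  rw [cntTo2_eq, ← Set.ncard_coe_finset, ← Set.InjOn.ncard_image (f := v) fun i hi j hj => h.vi i (by
    have := (Finset.mem_filter.1 hi).1; simp at this; omega) j (by have := (Finset.mem_filter.1 hj).1; simp at this; omega)]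
  congr 1
  ext x
  refine ⟨fun e => ?_, ?_⟩
  · obtain ⟨i, hi, rfl⟩ := h.toVB.exVS (l e)
    exact ⟨i, by simpa using ⟨hi, (k i hi).1 e⟩, rfl⟩
  · rintro ⟨i, hi, rfl⟩
    have := Finset.mem_filter.1 hi
    exact (k i (by simpa using this.1)).2 this.2
theorem vz (hi : i < 1024) (l : j0 < 1024) : v i ∈ zpowers (v j0) ↔ i = 0 ∨ i = j0 := by
  rw [zp2 (h.el _ (h.vm _)), ← h.toVB.v0]
  exact or_congr ⟨h.vi _ (by omega) _ (by decide), congrArg v⟩ ⟨h.vi _ (by omega) _ (by omega), congrArg v⟩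

include o
theorem j0l : j0 < 1024 := o.t3.2.1 ▸ o.t3.2.2.2.2 1 (by decide)
theorem cls (hi : i < 1024) : ∃ c ∈ C[f], c * v i * c⁻¹ = v (cl11 d.RP (d.ty i)) := by
  generalize e : lk d.DP 5 31 i = n
  induction n using Nat.strong_induction_on generalizing i with | _ n ih => ?_
  rcases (o.t2 i hi).2 with r | ⟨r1, r2, r3, r4⟩
  · exact ⟨1, one_mem _, by rw [← r]; simp⟩
  obtain ⟨c, hc, k⟩ := ih _ (e ▸ r4) r2 rfl
  obtain ⟨a, ha, k'⟩ := act' h (H21.JF.ina okG (lk d.KT 2 3 i))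
  exact ⟨c * a, mul_mem hc ha, by rw [← conj_conj', k' i, o.t1 _ r1, ← r3, ← k]; rfl⟩
theorem pat (n : ∀ c ∈ C[f], ∀ x ∈ S, c * x * c⁻¹ ∈ S) : ∃ b0 b1 b2 b3, (∀ k < 4, v (cl11 d.RP k) ∈ S ↔
    nth false [b0, b1, b2, b3] k = true) ∧ ∀ i < 1024, v i ∈ S ↔ nth false [b0, b1, b2, b3] (d.ty i) = true := by
  classical
  have k : ∀ k < 4, v (cl11 d.RP k) ∈ S ↔ nth false [decide (v (cl11 d.RP 0) ∈ S), decide (v (cl11 d.RP 1) ∈ S),
      decide (v (cl11 d.RP 2) ∈ S), decide (v (cl11 d.RP 3) ∈ S)] k = true := fun k hk => by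
    interval_cases k <;> exact decide_eq_true_iff.symm
  refine ⟨_, _, _, _, k, fun i hi => ?_⟩
  obtain ⟨c, hc, e⟩ := cls h o hi
  rw [← k _ (o.t2 i hi).1, ← e]
  exact ⟨n c hc _, fun r => by simpa [mul_assoc] using n _ (inv_mem hc) _ r⟩
theorem sz' (l : S ⊆ VS v 10) (h1 : 1 ∈ S) (n : ∀ c ∈ C[f], ∀ x ∈ S, c * x * c⁻¹ ∈ S) :
    ¬ 31 ∣ S.ncard ∧ ∀ i ≤ 11, S.ncard = 2 ^ i → i = 0 ∨ i = 10 := by
  obtain ⟨b0, b1, b2, b3, k, k'⟩ := pat h o n
  obtain rfl : b0 = true := (k 0 (by decide)).1 (by rwa [o.t3.1, h.toVB.v0])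
  rw [ncd h l k']
  exact o.sz b1 b2 b3
theorem spn (k : ∀ k < 10, v (cl11 d.Dm k) ∈ X) : VS v 10 ≤ X := fun x hx => by
  obtain ⟨i, hi, rfl⟩ := h.toVB.exVS hx
  have p := lin_induction (fun i => v i ∈ X) (by rw [h.toVB.v0]; exact one_mem _) fun a b x y => h.vx a b ▸ mul_mem x y
  have := p (fun j => 2 ^ j) 10 (fun j hj => (o.hc j hj).2.2.2 ▸ p _ 10 k _) i
  rwa [lin_two_pow, Nat.mod_eq_of_lt hi] at this
theorem hh {k : ℕ} (hk : k < 10) : ∃ a ∈ C[f], a ∈ C[v j0] ∧ a * a * v d.u0 * (a * a)⁻¹ = v (cl11 d.Dm k) * v d.u0 := by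
  obtain ⟨r1, r2, r3, -⟩ := o.hc k hk
  obtain ⟨a, ha, e⟩ := act' h r1
  exact ⟨a, ha, mem_cent1.2 (mul_inv_eq_iff_eq_mul.1 (by rw [e, r2])), by rw [← conj_conj', e, e, r3, h.vx]⟩

theorem k0 {φ : G → G} (ad : ∀ u ∈ VS v 10, ∀ u' ∈ VS v 10, φ (u * u') * (φ u * φ u') ∈ zpowers (v j0))
    (eq : ∀ h ∈ C[f], h ∈ C[v j0] → ∀ u ∈ VS v 10, φ (h * h * u * (h * h)⁻¹) * (h * h * φ u * (h * h)⁻¹) ∈ zpowers (v j0))
    (h1 : φ 1 ∈ V) (hW : C[f] ≤ N(VS v 10)) (hu0 : φ (v d.u0) ∈ zpowers (v j0)) : ∀ u ∈ VS v 10, φ u ∈ zpowers (v j0) := by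
  obtain ⟨K, hK⟩ := mkS (fun u => u ∈ VS v 10 ∧ φ u ∈ zpowers (v j0)) ⟨one_mem _, by
    simpa [h.el _ h1] using ad 1 (one_mem _) 1 (one_mem _)⟩ fun a b x y => ⟨mul_mem x.1 y.1,
      (Subgroup.mul_mem_cancel_right _ (mul_mem x.2 y.2)).1 (ad a x.1 b y.1)⟩
  have u0 := h.toVB.mVS (k := 10) o.t3.2.2.2.1
  refine fun u hu => ((hK u).1 (spn h o (fun k hk => ?_) hu)).2
  obtain ⟨a, ha, c, e⟩ := hh h o hk
  refine (Subgroup.mul_mem_cancel_right _ ((hK _).2 ⟨u0, hu0⟩)).1 (e ▸ (hK _).2 ⟨conj_mem_of_norm (hW (mul_mem ha ha)) u0,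
    (Subgroup.mul_mem_cancel_right _ ?_).1 (eq a ha c _ u0)⟩)
  obtain ⟨n, e⟩ := hu0
  rw [← e, ← conj_zpow, mul_inv_eq_iff_eq_mul.2 (mem_cent1.1 (mul_mem c c))]
  exact ⟨n, rfl⟩

theorem mf0 (hW : C[f] ≤ N(VS v 10)) : MFs f (VS v 10) (v j0) := by
  have hv := h.toVB
  have l0 := j0l h o
  have u0 := hv.mVS (k := 10) o.t3.2.2.2.1
  have WV := hv.VS_le (k := 10)
  refine ⟨fun X l n => ?_, hv.mVS l0, fun e => o.t3.2.2.1 (h.vi _ (by omega) _ (by decide) (e.trans hv.v0.symm)),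
    fun X k => spn h o fun j hj => ?_, fun φ m ad eq => ?_, fun Y l n d31 => ?_, fun S l h1 n => (sz' h o l h1 n).1⟩
  · obtain ⟨i, hi, e⟩ := H19.FA.cdV h.toFH (l.trans WV)
    rcases (sz' h o l (one_mem X) fun c hc x => conj_mem_of_norm (n hc)).2 i hi e with rfl | rfl
    · exact .inl (card_eq_one.1 e)
    · exact .inr (eq_of_le_of_card_ge l (by rw [e, hv.cVS (by decide)]))
  · obtain ⟨a, ha, c, e⟩ := hh h o hj
    have := k a ha c _ u0
    rwa [e, mul_inv_cancel_right] at this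
  · obtain ⟨y, hy, e⟩ := hv.exVS (m _ u0)
    obtain ⟨r1, r2, r3, r4, r5, r6, r7, r8⟩ := o.fc
    have fx : ∀ {c M}, InA c → mt ub dc c = M → mv M j0 = j0 → mv M d.u0 = d.u0 →
        y ^^^ mv M (mv M y) = 0 ∨ y ^^^ mv M (mv M y) = j0 := fun r s t u => by
      obtain ⟨a, ha, k⟩ := act' h r
      have := eq a ha (mem_cent1.2 (mul_inv_eq_iff_eq_mul.1 (by rw [k, s, t]))) _ u0
      have q := conj_mem_of_norm (hW (mul_mem ha ha)) (hv.mVS (k := 10) hy)
      rw [← conj_conj', k, k, s] at q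
      rw [← conj_conj', ← conj_conj', k, k, s, u, u, ← e, k, k, s, ← h.vx] at this
      exact (vz h (Nat.xor_lt_two_pow (n := 10) hy ((hv.memVS (by decide) (mv_lt _ _)).1 q)) l0).1 this
    have ix : ∀ x ∈ VS v 10, ∃ i, v i = x := fun x hx => let ⟨i, _, e⟩ := hv.exVS hx; ⟨i, e⟩
    refine (o.fy y hy (fx r1 r3 r5 r7) (fx r2 r4 r6 r8)).imp
      (fun r => k0 h o ad eq (WV (m 1 (one_mem _))) hW (e ▸ (vz h hy l0).2 r))
      fun r => k0 h o (φ := fun u => φ u * u) (fun a ha b hb => ?_) (fun g hg c a ha => ?_) (by simpa using WV (m 1 (one_mem _))) hW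
        (by rw [← e, ← h.vx]; exact (vz h (Nat.xor_lt_two_pow (n := 10) hy o.t3.2.2.2.1) l0).2 r)
    · refine (show φ (a * b) * (a * b) * (φ a * a * (φ b * b)) = φ (a * b) * (φ a * φ b) from ?_) ▸ ad a ha b hb
      obtain ⟨p, e1⟩ := ix _ (m a ha)
      obtain ⟨q, e2⟩ := ix _ (m b hb)
      obtain ⟨a, rfl⟩ := ix a ha
      obtain ⟨b, rfl⟩ := ix b hb
      rw [mul_assoc, ← e1, ← e2]
      simp only [← h.vx]
      exact congrArg (fun i => _ * v i) <| Nat.eq_of_testBit_eq fun i => by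
        simp only [Nat.testBit_xor]; cases a.testBit i <;> cases b.testBit i <;> simp
    · refine (show φ (g * g * a * (g * g)⁻¹) * (g * g * a * (g * g)⁻¹) * (g * g * (φ a * a) * (g * g)⁻¹) =
        φ (g * g * a * (g * g)⁻¹) * (g * g * φ a * (g * g)⁻¹) from ?_) ▸ eq g hg c a ha
      have := h.el _ (WV ha)
      have c := mem_cent.1 (h.cen.ge (WV ha)) _ (WV (m a ha))
      rw [mul_assoc, conj_mul, c, ← mul_assoc a, this, one_mul]
  obtain ⟨b0, b1, b2, b3, k, k'⟩ := pat h o (S := cl Y (v j0)) fun c hc _ ⟨a, ha, e⟩ =>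
    ⟨c * a, mul_mem (l hc) ha, by rw [← conj_conj', e]⟩
  have OW : cl Y (v j0) ⊆ VS v 10 := fun _ ⟨a, ha, e⟩ => e ▸ conj_mem_of_norm (n ha) (hv.mVS l0)
  obtain rfl : b0 = false := Bool.eq_false_iff.2 fun e => by
    obtain ⟨a, -, r⟩ := (k 0 (by decide)).2 e
    rw [o.t3.1, hv.v0, conj_eq_one_iff, ← hv.v0] at r
    exact o.t3.2.2.1 (h.vi _ (by omega) _ (by decide) r)
  obtain rfl : b1 = true := (k 1 (by decide)).1 ⟨1, one_mem _, by rw [o.t3.2.1]; simp⟩
  have iv : ∀ y ∈ Y, ∀ w, y * w * y⁻¹ ∈ cl Y (v j0) ↔ w ∈ cl Y (v j0) := fun y hy w =>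
    ⟨fun ⟨a, ha, e⟩ => ⟨y⁻¹ * a, mul_mem (inv_mem hy) ha, by rw [← conj_conj', e]; group⟩,
      fun ⟨a, ha, e⟩ => ⟨y * a, mul_mem hy ha, by rw [← conj_conj', e]⟩⟩
  have F : ∀ y ∈ Y, ∀ i < 1024, ∀ j < 1024, y * v i * y⁻¹ = v j →
      d.F [false, true, b2, b3] j = d.F [false, true, b2, b3] i := fun y hy i hi j hj e => by
    have r : ∀ i < 1024, {w | w ∈ cl Y (v j0) ∧ v i * w ∈ cl Y (v j0)}.ncard = d.F [false, true, b2, b3] i := fun i hi =>
      ncd h (fun _ r => OW r.1) fun j hj => by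
        rw [band_iff, ← k' j hj, ← k' _ (Nat.xor_lt_two_pow (n := 10) hi hj), h.vx]; rfl
    rw [← r i hi, ← r j hj, ← Set.ncard_image_of_injective _ (MulAut.conj y⁻¹).injective]
    congr 1
    ext w
    rw [← (MulAut.conj y⁻¹).apply_symm_apply w, (MulAut.conj y⁻¹).injective.mem_set_image]
    simp only [Set.mem_setOf_eq, MulAut.conj_symm_apply, MulAut.conj_apply, inv_inv, ← e, conj_mul, iv y hy]
    simp [mul_assoc]
  rcases o.ov b2 b3 with r | ⟨j, hj, r1, r2⟩ | r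
  · exact absurd ((r.trans (ncd h OW k').symm.dvd).trans (Dvd.intro _ (cl_card Y _))) d31
  · obtain ⟨a, ha, e⟩ := (k j hj).2 r1
    exact absurd (F a ha _ l0 _ (o.t3.2.2.2.2 j hj) e) r2
  choose θ hθ using fun y i => show ∃ j, y ∈ Y → i < 1024 → j < 1024 ∧ v j = y * v i * y⁻¹ by
    by_cases c : y ∈ Y ∧ i < 1024
    · exact let ⟨j, e⟩ := hv.exVS (conj_mem_of_norm (n c.1) (hv.mVS (k := 10) c.2)); ⟨j, fun _ _ => e⟩
    · exact ⟨0, fun a b => absurd ⟨a, b⟩ c⟩
  have vi : ∀ {i j}, i < 1024 → j < 1024 → v i = v j → i = j := fun a b => h.vi _ (by omega) _ (by omega)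
  have F' : ∀ i < 1024, d.F [false, true, b2, b3] (cl11 d.RP (d.ty i)) = d.F [false, true, b2, b3] i := fun i hi =>
    let ⟨c, hc, e⟩ := cls h o hi; F c (l hc) i hi _ (o.t3.2.2.2.2 _ (o.t2 i hi).1) e
  rw [← o.ch.2]
  refine H8.FA.LA.chain (θ := θ) ⟨fun y a i b => (hθ y i a b).1, fun x a y b i c => ?_, fun i c => ?_, fun y a i b j c => ?_⟩
    (by decide) (fun y a i b => r _ (o.t2 _ (hθ y i a b).1).1 _ (o.t2 i b).1 (Bool.eq_iff_iff.2 (by
      rw [← k' _ (hθ y i a b).1, ← k' i b, (hθ y i a b).2, iv y a])) ?_) o.ch.1 fun y a e => mem_cent.2 fun x hx => ?_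
  · have := hθ y i b c
    exact vi (hθ _ i (mul_mem a b) c).1 (hθ x _ a this.1).1 (by
      rw [(hθ _ i (mul_mem a b) c).2, (hθ x _ a this.1).2, this.2, conj_conj'])
  · exact vi (hθ 1 i (one_mem _) c).1 c (by simpa using (hθ 1 i (one_mem _) c).2)
  · have x := Nat.xor_lt_two_pow b c
    exact vi (hθ y _ a x).1 (Nat.xor_lt_two_pow (n := 10) (hθ y i a b).1 (hθ y j a c).1) (by
      rw [(hθ y _ a x).2, h.vx, h.vx, (hθ y i a b).2, (hθ y j a c).2, conj_mul])
  · rw [F' _ (hθ y i a b).1, F' i b, F y a i b _ (hθ y i a b).1 (hθ y i a b).2.symm]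
  · obtain ⟨i, hi, rfl⟩ := hv.exVS hx
    have := (hθ y i a hi).2
    rw [e i hi] at this
    exact eq_mul_inv_iff_mul_eq.1 this

omit o in
theorem nW (k : ∀ g ∈ [pid, cA, cB, cC], ∀ j < 10, cl11 (mt ub dc g) j < 2 ^ 10) : C[f] ≤ N(VS v 10) := fun n hn =>
  H19.FA.ind h.toFH (P := (· ∈ N(VS v 10))) (one_mem _) (fun n hn a ha e p => mul_mem p (mem_norm_of_cj_le fun y hy => by
    obtain ⟨y, hz, rfl⟩ := mem_cj'.1 hy
    obtain ⟨i, l, rfl⟩ := h.toVB.exVS hz
    rw [h.ac a ha, mv_eq, lin_succ, if_neg (by simp [Nat.testBit_lt_two_pow l]), Nat.xor_zero]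
    exact h.toVB.mVS (lin_lt _ _ _ (k _ e) i))) n hn

omit h o in
theorem mf : MF.{u} := by
  rintro G _ _ f V π v ub dc j0 h (⟨rfl, rfl, rfl⟩ | ⟨rfl, rfl, rfl⟩)
  exacts [mf0 h okS (nW h (by decide +kernel)), mf0 h okT (nW h (by decide +kernel))]

end H1.FA
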