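/-
Fixed points of an automorphism of odd prime order on `[H, P]` (Flavell).
-/
import Cfsg.Agent.H1.SF0
import Cfsg.Agent.H0.LiftAmb
import Cfsg.Agent.H18.G1b
import Cfsg.Agent.H18.Rep2

set_option autoImplicit false
set_option linter.unusedSectionVars false

open Cfsg Subgroup
open scoped Pointwise commutatorElement
namespace H1
open H19

universe u

variable {G : Type u} [Group G] [Finite G] {p q r : ℕ}
  {A B D E H K L M N P U V W X Y Z : Subgroup G} {a b c g h x y : G}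

/-- `[h, P]` -/
def cP (P : Subgroup G) (h : G) : Subgroup G := closure {c | ∃ y ∈ P, c = h⁻¹ * (y * h * y⁻¹)}
/-- the join of the `C_{[h,P]}(P)`, `h ∈ H` -/
def cD (H P : Subgroup G) : Subgroup G := ⨆ h ∈ H, cP P h ⊓ C(P)

theorem mem_cP (hy : y ∈ P) : h⁻¹ * (y * h * y⁻¹) ∈ cP P h := subset_closure ⟨y, hy, rfl⟩

theorem cP_le (H' : ∀ y ∈ P, h⁻¹ * (y * h * y⁻¹) ∈ L) : cP P h ≤ L :=
  (closure_le _).2 (by rintro _ ⟨y, hy, rfl⟩; exact H' y hy)

theorem cP_le_comm (hh : h ∈ X) : cP P h ≤ ⁅X, P⁆ := cP_le fun y hy => by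
  have := commutator_mem_commutator (inv_mem hh) hy
  rw [commutatorElement_def] at this
  simpa [mul_assoc] using this

theorem cP_le_self (hn : P ≤ N(X)) (hh : h ∈ X) : cP P h ≤ X :=
  (cP_le_comm hh).trans (commg_le_left hn)

theorem cP_norm (P : Subgroup G) (h : G) : P ≤ N(cP P h) := fun z hz => mem_norm_of_cj_le (by
  rw [cj_le_iff]
  refine cP_le fun y hy => mem_cj_inv.2 ?_
  have := mul_mem (inv_mem (mem_cP (h := h) hz)) (mem_cP (h := h) (mul_mem hz hy))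
  convert this using 1
  group)

theorem comm_le_iSup_cP (H' : ∀ h ∈ H, cP P h ≤ L) : ⁅H, P⁆ ≤ L :=
  commutator_le.2 fun g hg y hy => by
    have := H' g⁻¹ (inv_mem hg) (mem_cP hy)
    rw [commutatorElement_def]
    simpa [mul_assoc] using this

theorem cj_cP (hc : c ∈ C(P)) (h : G) : cj c (cP P h) = cP P (h * c⁻¹) := by
  have key : ∀ y ∈ P, c * (h⁻¹ * (y * h * y⁻¹)) * c⁻¹ = (h * c⁻¹)⁻¹ * (y * (h * c⁻¹) * y⁻¹) :=
    fun y hy => by
      have := mem_cent.1 (inv_mem hc) _ (inv_mem hy)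
      simp only [mul_inv_rev, inv_inv, mul_assoc, this]
  refine le_antisymm (cj_le_iff.2 (cP_le fun y hy => mem_cj_inv.2 ?_)) (cP_le fun y hy => ?_)
  · rw [key y hy]; exact mem_cP hy
  · rw [← key y hy]; exact conj_mem_cj.2 (mem_cP hy)

theorem le_cD (hh : h ∈ H) : cP P h ⊓ C(P) ≤ cD H P :=
  le_iSup₂_of_le (f := fun h (_ : h ∈ H) => cP P h ⊓ C(P)) h hh le_rfl

theorem cD_le (H' : ∀ h ∈ H, cP P h ⊓ C(P) ≤ L) : cD H P ≤ L := iSup₂_le H'

theorem cD_mono (hle : X ≤ H) : cD X P ≤ cD H P := cD_le fun _ hh => le_cD (hle hh)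

theorem cD_le_inf (hn : P ≤ N(H)) : cD H P ≤ H ⊓ C(P) :=
  cD_le fun _ hh => inf_le_inf_right _ (cP_le_self hn hh)

theorem cD_norm : H ⊓ C(P) ≤ N(cD H P) := fun c hc => mem_norm_of_cj_le (by
  rw [cj_le_iff]
  refine cD_le fun h hh => cj_le_iff.1 ?_
  rw [cj_inf, cj_cP hc.2, cj_cent, cj_of_mem_cent hc.2]
  exact le_cD (mul_mem hh (inv_mem hc.1)))

theorem quo_cP (hh : h ∈ N(V)) :
    cP (quo V P) (qmk V ⟨h, hh⟩) ≤ quo V (cP P h) := cP_le fun y hy => by
  obtain ⟨z, hz, rfl⟩ := mem_im.1 hy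
  refine mem_im.2 ⟨⟨h, hh⟩⁻¹ * (z * ⟨h, hh⟩ * z⁻¹), mem_cP hz, ?_⟩
  simp only [map_mul, map_inv]

theorem quo_cD (hP : P ≤ N(V)) (hle : V ≤ H)
    (hc : (#H).Coprime #P) (hs : Sol H) : cD (quo V H) (quo V P) ≤ quo V (cD H P) :=
  cD_le fun h hh => by
    obtain ⟨k, hk, rfl⟩ := mem_im.1 hh
    refine (inf_le_inf_right _ (quo_cP k.2)).trans ?_
    have e : V ⊓ cP P k ≤ H := inf_le_left.trans hle
    rw [quo_inf_cent hP (cP_norm P k) (hc.coprime_dvd_left (card_dvd e)) (Or.inr (sol_mono hs e))]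
    exact quo_mono _ (le_cD hk)

/-- the configuration of a minimal counterexample -/
structure CF (H P : Subgroup G) : Prop where
  pr : (#P).Prime
  odd : #P ≠ 2
  n : P ≤ N(H)
  cop : (#H).Coprime #P
  sol : Sol H
  eq : ⁅H, P⁆ = H
  ih1 : ∀ X, X < H → P ≤ N(X) → ⁅X, P⁆ ⊓ C(P) ≤ cD H P
  ih2 : ∀ V, V ≠ ⊥ → V ≤ H → H ≤ N(V) → P ≤ N(V) → H ⊓ C(P) ≤ cD H P ⊔ (V ⊓ C(P))
  ne : ¬ H ⊓ C(P) ≤ cD H P

namespace CF
variable (s : CF H P)
include s

theorem cop' (hX : X ≤ H) : (#X).Coprime #P := s.cop.coprime_dvd_left (card_dvd hX)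
theorem sol' (hX : X ≤ H) : Sol P ∨ Sol X := Or.inr (sol_mono s.sol hX)

theorem star (hle : W ≤ H) (h1 : H ≤ N(W)) (h2 : P ≤ N(W)) (h : W ⊓ C(P) ≤ cD H P) : W = ⊥ := by
  by_contra h0
  exact s.ne ((s.ih2 W h0 hle h1 h2).trans (sup_le le_rfl h))

theorem ne_bot : H ≠ ⊥ := fun e => s.ne (by rw [e, bot_inf_eq]; exact bot_le)

theorem der_C (hV : V ≠ ⊥) (hle : V ≤ H) (h1 : H ≤ N(V)) (h2 : P ≤ N(V)) (hab : Ab V) :
    ⁅H ⊓ C(P), H ⊓ C(P)⁆ ≤ cD H P := by
  have e := s.ih2 V hV hle h1 h2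
  refine (der_mono e).trans ((der_sup_le ((inf_le_inf_right _ hle).trans cD_norm)).trans
    (sup_le le_rfl ?_))
  rw [comm_iff_der.1 (comm_mono hab inf_le_left)]
  exact bot_le

theorem cP_ne (hh : h ∈ H) : cP P h ≠ H := fun e => s.ne (by
  have := le_cD (P := P) hh
  rwa [e] at this)

/-- the Frobenius case -/
theorem frob {r : ℕ} (hr : r.Prime) (hV : Abelem r V) (hm : MinNormal V (H ⊔ P)) (hN : PiG {r}ᶜ N)
    (hPN : P ≤ N(N)) (e : V ⊔ N = H) (hab : Ab N) (h0 : N ⊓ C(P) = ⊥) (h1 : N ⊓ C(V) = ⊥)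
    (h2 : N ≠ ⊥) : False := by
  have hVH : V ≤ H := e ▸ le_sup_left
  have hNH : N ≤ H := e ▸ le_sup_right
  have nH : H ≤ N(V) := le_sup_left.trans hm.norm
  have nP : P ≤ N(V) := le_sup_right.trans hm.norm
  have hVr := H19.abelem_pg hr hV
  have vab : V ≤ C(V) := comm_iff_le_cent.1 hV.1
  have hst : ¬ V ⊓ C(P) ≤ cD H P := fun h => hm.ne (s.star hVH nH nP h)
  -- invariant subgroups of `V`
  have inv : ∀ {W K}, W ≤ V → V ⊔ K = H → K ≤ N(W) → P ≤ N(W) → W = ⊥ ∨ W = V :=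
    fun {W K} a b c d => hm.min W a (sup_le (b ▸ sup_le (norms_of_cents (vab.trans (cent_mono a))) c) d)
  obtain ⟨x, hx, x1⟩ := exists_ne_one (ne_bot_of_prime s.pr)
  have hCx := cent_eq_cent1_of_prime s.pr hx x1
  obtain ⟨h, hh, hh1⟩ := exists_ne_one h2
  have kN : cP P h ≤ N := cP_le_self hPN hh
  have k0 : cP P h ≠ ⊥ := fun k => hh1 (by
    have := mem_cP (h := h) hx
    rw [k, mem_bot, inv_mul_eq_one, eq_mul_inv_iff_mul_eq] at this
    have : h ∈ N ⊓ C(P) := ⟨hh, hCx ▸ mem_cent1.2 this⟩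
    rwa [h0] at this)
  have fix : ∀ {K}, K ≤ N → K ≠ ⊥ → P ≤ N(K) → V ⊓ C(K) = ⊥ := fun {K} a b c =>
    (inv inf_le_left e (norms_inf (hNH.trans nH) (norms_cent (norms_of_comm hab le_rfl a)))
      (norms_inf nP (norms_cent c))).resolve_right fun d =>
      b (H19.eq_bot_mono (le_inf a (cents_symm (inf_eq_left.1 d))) h1)
  have kH : V ⊔ cP P h = H := by
    by_contra hne
    have hlt : V ⊔ cP P h < H := lt_of_le_of_ne (sup_le hVH (kN.trans hNH)) hne
    refine hst (le_trans (inf_le_inf_right _ ?_) (s.ih1 _ hlt (norms_sup nP (cP_norm P h))))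
    have c1 := commg_eq_of_cent_eq_bot ((kN.trans hNH).trans nH)
      (cop_of_pg (hN.of_le kN) hVr).symm (Or.inr (sol_mono s.sol hVH)) (fix kN k0 (cP_norm P h))
    have c2 := commg_eq_of_cent_eq_bot (cP_norm P h) (s.cop' (kN.trans hNH)) (s.sol' (kN.trans hNH))
      (H19.eq_bot_mono (inf_le_inf_right _ kN) h0)
    have c3 : cP P h ≤ ⁅V ⊔ cP P h, P⁆ := c2.ge.trans (commutator_mono le_sup_right le_rfl)
    exact c1.ge.trans ((commutator_mono le_rfl c3).trans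
      (commg_le_right (le_sup_left.trans (commg_norml _ _))))
  have hC : H ⊓ C(P) = V ⊓ C(P) := by
    rw [← e, sup_inf_cent_of_disjoint nP hPN (hNH.trans nH) (hVr.inf_eq_bot hN), h0, sup_bot_eq]
  have hall : ∀ {K}, V ⊔ K = H → V ⊓ K = ⊥ → Hall {r}ᶜ K H := fun {K} a b => by
    have hK : K ≤ H := a ▸ le_sup_right
    have sd : Sdprod V K H := ⟨hK.trans nH, a, b⟩
    have sd' : Sdprod V N H := ⟨hNH.trans nH, e, hVr.inf_eq_bot hN⟩
    exact (sd'.hall_right (sd'.hall_of_pi hVr hN)).of_card hK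
      (Nat.eq_of_mul_eq_mul_left (H19.card_pos V) (sd.card.trans sd'.card.symm))
  have key : V ≤ (V ⊓ C[h⁻¹ * x * h]) ⊔ (V ⊓ C(P)) := fun v hv => by
    have hv' : h * v ∈ H := mul_mem (hNH hh) (hVH hv)
    have k1 : V ⊔ cP P (h * v) = H := by
      refine le_antisymm (sup_le hVH (cP_le_self s.n hv')) (kH.ge.trans (sup_le le_sup_left
        (cP_le fun y hy => ?_)))
      have := mul_mem (mul_mem (mem_sup_left hv) (mem_sup_right (mem_cP (h := h * v) hy)))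
        (mem_sup_left (T := cP P (h * v)) (conj_mem_of_norm (nP hy) (inv_mem hv)))
      convert this using 1
      group
    have k2 : V ⊓ cP P (h * v) = ⊥ := (inv inf_le_left k1
      (norms_inf ((cP_le_self s.n hv').trans nH) (norms_of_le le_rfl))
      (norms_inf nP (cP_norm P _))).resolve_right fun d =>
        hst ((inf_le_inf_right _ (inf_eq_left.1 d)).trans (le_cD hv'))
    obtain ⟨u, hu, e1⟩ := inv_hall_conj s.n s.cop s.sol (hall k1 k2) (cP_norm P _)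
      (hall e (hVr.inf_eq_bot hN)) hPN
    rw [cj_cP hu.2] at e1
    rw [hC] at hu
    have hw : v * u⁻¹ ∈ V := mul_mem hv (inv_mem hu.1)
    have hn := kN (mem_cP (h := h) hx)
    have m1 := mul_mem (inv_mem hn) (e1.le (mem_cP hx))
    have m2 := mul_mem (conj_mem_of_norm' (nH (hNH hn)) (inv_mem hw)) (conj_mem_of_norm (nP hx) hw)
    have m3 : _ ∈ V ⊓ N := mem_inf.2 ⟨m2, by convert m1 using 1; group⟩
    rw [hVr.inf_eq_bot hN, mem_bot] at m3
    have m4 : v * u⁻¹ ∈ C[h⁻¹ * x * h] := mem_cent1.2 (by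
      generalize v * u⁻¹ = w at m3
      have e3 : (h⁻¹ * x * h) * w = w * (h⁻¹ * (x * h * x⁻¹)) *
        ((h⁻¹ * (x * h * x⁻¹))⁻¹ * w⁻¹ * (h⁻¹ * (x * h * x⁻¹)) * (x * w * x⁻¹)) * x := by group
      rw [e3, m3]; group)
    simpa using mul_mem (mem_sup_left (T := V ⊓ C(P)) (show _ ∈ V ⊓ C[h⁻¹ * x * h] from ⟨hw, m4⟩))
      (mem_sup_right hu)
  have c1 : #(V ⊓ C[h⁻¹ * x * h]) = #(V ⊓ C(P)) := by
    rw [← card_cj h, cj_inf, cj_cent1, cj_of_mem_norm (nH (hNH hh)), hCx]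
    simp [mul_assoc]
  have c2 := (card_le key).trans (Nat.le_of_dvd (Nat.mul_pos (H19.card_pos _) (H19.card_pos _))
    (H19.card_sup_dvd (norms_of_comm hV.1 inf_le_left inf_le_left)))
  have hNP := inf_eq_bot_of_cop (s.cop' hNH)
  have w := H0.wielandt (sdprod_sup hPN hNP)
    (fun y hy y1 => by rw [← cent_eq_cent1_of_prime s.pr hy y1, h0]) (sup_le (hNH.trans nH) nP)
    (by rw [H19.card_sup_of_disjoint hPN hNP]
        exact (cop_of_pg hN hVr).symm.mul_right (s.cop' hVH)) (sol_mono s.sol hVH)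
  rw [H19.eq_bot_mono (inf_le_inf_left V (cent_mono le_sup_left)) (fix le_rfl h2 hPN),
    fix le_rfl h2 hPN] at w
  simp only [card_bot, one_pow, one_mul, mul_one] at w
  have c3 : 1 < #(V ⊓ C(P)) := ne_bot_iff_one_lt_card.1 fun d => hst (d ▸ bot_le)
  rw [c1, w, ← pow_two, Nat.pow_le_pow_iff_right c3] at c2
  exact s.odd (le_antisymm c2 s.pr.two_le)

/-- minimal normal subgroups are central -/
theorem central (hle : V ≤ H) (hm : MinNormal V (H ⊔ P)) : H ≤ C(V) := by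
  by_contra hnc
  obtain ⟨r, hr, hV⟩ := H18.minnormal_abelem hm (sol_mono s.sol hle)
  have hVr := H19.abelem_pg hr hV
  have nH : H ≤ N(V) := le_sup_left.trans hm.norm
  have nP : P ≤ N(V) := le_sup_right.trans hm.norm
  have vab : V ≤ C(V) := comm_iff_le_cent.1 hV.1
  have hG : H ⊴ H ⊔ P := left_normal_sup s.n
  have hC0 : H ⊓ C(V) ⊴ H ⊔ P :=
    ⟨inf_le_left.trans le_sup_left, norms_inf hG.norm (norms_cent hm.norm)⟩
  obtain ⟨T, hT, ch⟩ := H18.chief_exists_above hC0 hG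
    (lt_of_le_of_ne inf_le_left fun e => hnc (inf_eq_left.1 e))
  have hsG : Sol (H ⊔ P) := sol_sup s.sol (sol_of_prime s.pr) s.n
  obtain ⟨q, -, hTT, -⟩ := H18.chief_abelem ch hsG
  have nT : H ⊔ P ≤ N(T) := ch.normU.norm
  have lt := ch.lt
  have sT := sol_mono s.sol hT
  have hab : Ab (quo (H ⊓ C(V)) T) := (ab_quo_iff (hT.trans (le_sup_left.trans hC0.norm))).2 hTT
  -- `C_V(L) = 1` whenever `C_H(V) L = T`
  have fx : ∀ {L}, (H ⊓ C(V)) ⊔ L = T → V ⊓ C(L) = ⊥ := fun {L} e => by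
    have e1 : V ⊓ C(L) = V ⊓ C(T) := by
      rw [← e, cent_sup, ← inf_assoc, inf_eq_left.2 (cents_symm inf_le_right)]
    rw [e1]
    refine (hm.min _ inf_le_left (norms_inf hm.norm (norms_cent nT))).resolve_right fun d => ?_
    exact lt.not_ge (le_inf hT (cents_symm (inf_eq_left.1 d)))
  obtain ⟨R, hR⟩ := exists_syl r T
  have hR0 : R ≤ H ⊓ C(V) := by
    have n1 := hR.sup_norm_of_nil_quo (hT.trans (le_sup_left.trans hC0.norm)) (nil_of_ab hab)
      hC0.norm nT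
    rcases ch.min _ le_sup_left (sup_le lt.le hR.le) n1 with d | d
    · exact le_sup_right.trans d.le
    · exact absurd (fx d) (hVr.meet_cent hR.pi ((hR.le.trans hT).trans nH) hm.ne)
  obtain ⟨N, hN, hPN⟩ := inv_hall_exists {r}ᶜ (le_sup_right.trans nT) (s.cop' hT) sT
  have hNH : N ≤ H := hN.le.trans hT
  have eT : (H ⊓ C(V)) ⊔ N = T :=
    le_antisymm (sup_le lt.le hN.le) ((hR.sup_compl hN).ge.trans (sup_le_sup_right hR0 _))
  have f0 := fx eT
  have eN := commg_sup_cent hPN (s.cop' hNH) (s.sol' hNH)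
  set N1 := ⁅N, P⁆ with hN1
  have l1 : N1 ≤ N := commg_le_left hPN
  have p1 : P ≤ N(N1) := commg_normr _ _
  have e1 : ⁅N1, P⁆ = N1 := commg_commg hPN (s.cop' hNH)
  have h1H := l1.trans hNH
  have cVN : ∀ {L}, L ≤ N → (#V).Coprime #L := fun h => (cop_of_pg (hN.pi.of_le h) hVr).symm
  have dp := ab_cent_dprod hV.1 (h1H.trans nH) (cVN l1)
  have hW : V ⊓ C(N1) ⊓ C(P) ≤ cD H P := by
    have n0 : N ⊓ C(P) ≤ N(V ⊓ C(N1) ⊓ C(P)) := norms_inf (norms_inf ((inf_le_left.trans hNH).trans nH)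
      (norms_cent (inf_le_left.trans (commg_norml _ _)))) (norms_of_le inf_le_right)
    have := commg_eq_of_cent_eq_bot n0 ((cVN inf_le_left).coprime_dvd_left
      (card_dvd (inf_le_left.trans inf_le_left)))
      (Or.inr (sol_mono s.sol ((inf_le_left.trans inf_le_left).trans hle)))
      (H19.eq_bot_mono (le_inf (inf_le_left.trans (inf_le_left.trans inf_le_left))
        (((inf_le_inf_right _ (inf_le_left.trans inf_le_right)).trans (cent_sup _ _).ge).trans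
          (cent_mono eN.ge))) f0)
    exact this.ge.trans ((commutator_mono (inf_le_inf_right _ (inf_le_left.trans hle))
      (inf_le_inf_right _ hNH)).trans (s.der_C hm.ne hle nH nP hV.1))
  have hst : ¬ V ⊓ C(P) ≤ cD H P := fun h => hm.ne (s.star hle nH nP h)
  have eH : V ⊔ N1 = H := by
    by_contra hne
    have hlt : V ⊔ N1 < H := lt_of_le_of_ne (sup_le hle h1H) hne
    refine hst ?_
    rw [← dp.sd.sup, sup_inf_cent_of_disjoint (norms_inf nP (norms_cent p1)) (norms_comm nP p1)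
      dp.sd.norm dp.sd.inf]
    refine sup_le hW (le_trans (inf_le_inf_right _ ?_) (s.ih1 _ hlt (norms_sup nP p1)))
    exact (commutator_mono le_rfl (e1.ge.trans (commutator_mono le_sup_right le_rfl))).trans
      (commg_le_right (le_sup_left.trans (commg_norml _ _)))
  have hVN : V ⊓ N1 = ⊥ := hVr.inf_eq_bot (hN.pi.of_le l1)
  have hlt : N1 < H := lt_of_le_of_ne h1H fun d => hm.ne (by rwa [d, inf_eq_left.2 hle] at hVN)
  have f1 : N1 ⊓ C(V) = ⊥ := s.star (inf_le_left.trans h1H)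
    (eH ▸ sup_le (norms_of_cents (cents_symm inf_le_right))
      (norms_inf (norms_of_le le_rfl) (norms_cent (h1H.trans nH))))
    (norms_inf p1 (norms_cent nP))
    ((inf_le_inf_right _ (inf_le_left.trans e1.ge)).trans (s.ih1 _ hlt p1))
  have ab1 : Ab N1 := comm_iff_der.2 (H19.eq_bot_mono (le_inf (der_le _)
    (((der_mono (l1.trans hN.le)).trans hTT).trans inf_le_right)) f1)
  refine s.frob hr hV hm (hN.pi.of_le l1) p1 eH ab1 ?_ f1 fun d => hnc ?_
  · rw [← e1]; exact ab_commg_inf_cent ab1 p1 (s.cop' h1H)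
  · rw [← eH, d, sup_bot_eq]; exact vab

theorem minn (hle : V ≤ H) (hm : MinNormal V (H ⊔ P)) : V ≤ C(P) := by
  have nH : H ≤ N(V) := le_sup_left.trans hm.norm
  have nP : P ≤ N(V) := le_sup_right.trans hm.norm
  refine inf_eq_left.1 ((hm.min _ inf_le_left (sup_le (norms_of_cents
    ((s.central hle hm).trans (cent_mono inf_le_left)))
    (norms_inf nP (norms_cent (norms_of_le le_rfl))))).resolve_left fun d => hm.ne ?_)
  exact s.star hle nH nP (d ▸ bot_le)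

theorem der_max (hX : X < H) (h1 : H ≤ N(X)) : X ⊔ ⁅H, H⁆ < H :=
  lt_of_le_of_ne (sup_le hX.le (der_le H)) fun e => by
    have : quo X H = ⊥ := sol_eq_bot_of_le_der (sol_quo s.sol X) (by
      rw [← quo_comm h1 h1, ← quo_sup_left ((der_le H).trans h1), e])
    exact hX.not_ge ((quo_eq_bot_iff h1).1 this)

theorem C_le_der : H ⊓ C(P) ≤ ⁅H, H⁆ := by
  have n1 : H ≤ N(⁅H, H⁆) := commg_norml _ _
  have n2 : P ≤ N(⁅H, H⁆) := norms_der s.n
  have := ab_commg_inf_cent ((ab_quo_iff n1).2 le_rfl) (quo_norms (K := ⁅H, H⁆) s.n) (cop_quo s.cop _)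
  rw [← quo_comm n1 n2, s.eq, quo_inf_cent' n2 (der_le H) (s.cop' (der_le H)) (s.sol' (der_le H))] at this
  exact (quo_eq_bot_iff (inf_le_left.trans n1)).1 this

/-- proper invariant overgroups of `H'` are abelian `r`-groups -/
theorem ab_of_der (hle : V ≤ H) (hm : MinNormal V (H ⊔ P)) (hV : PG r V) (hM : M < H)
    (h1 : ⁅H, H⁆ ≤ M) (h2 : P ≤ N(M)) : Ab M ∧ PG r M := by
  have nH : H ≤ N(M) := norms_of_der_le h1 hM.le
  have hC : H ⊓ C(P) ≤ M := s.C_le_der.trans h1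
  have hD := cD_le_inf s.n
  have n1 : cD H P ≤ N(⁅M, P⁆) := (hD.trans hC).trans (commg_norml _ _)
  have hL : ∀ W, W ≤ ⁅M, P⁆ ⊔ cD H P → H ≤ N(W) → P ≤ N(W) → W = ⊥ := fun W a b c =>
    s.star (a.trans (sup_le ((commg_le_left h2).trans hM.le) (hD.trans inf_le_left))) b c (by
      refine (inf_le_inf_right _ a).trans ?_
      rw [sup_inf_modr n1 (hD.trans inf_le_right)]
      exact sup_le (s.ih1 M hM h2) le_rfl)
  set L := ⁅M, P⁆ ⊔ cD H P
  have hLM : L ≤ M := sup_le (commg_le_left h2) (hD.trans hC)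
  have hVM : V ≤ M := (le_inf hle (s.minn hle hm)).trans hC
  have e : L ⊔ V = M := le_antisymm (sup_le hLM hVM) ((commg_sup_cent h2 (s.cop' hM.le)
    (s.sol' hM.le)).ge.trans (sup_le (le_sup_left.trans le_sup_left) ((inf_le_inf_right _ hM.le).trans
      ((s.ih2 V hm.ne hle (le_sup_left.trans hm.norm) (le_sup_right.trans hm.norm)).trans
        (sup_le_sup le_sup_right inf_le_left)))))
  have cV : V ≤ C(L) := cents_symm ((hLM.trans hM.le).trans (s.central hle hm))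
  have ab : Ab M := comm_iff_der.2 (hL _ (by
    rw [← e, der_sup_cent cV, commg_eq_bot.2 (hle.trans (s.central hle hm)), sup_bot_eq]
    exact der_le L) (norms_der nH) (norms_der h2))
  refine ⟨ab, ?_⟩
  have : Oc {r}ᶜ M = ⊥ := hL _ (le_of_pi_of_relIndex (norms_of_comm ab (Oc_le _ _) hLM) hLM
    (Oc_le _ _) (Oc_pi _ _) (by
      rw [← e, relIndex_sup_of_norm (norms_of_cents cV)]
      exact (hV.relIndex L).compl_compl)) (norms_Oc _ nH) (norms_Oc _ h2)
  have d := (nil_dprod (nil_of_ab ab) {r}).sd.sup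
  rw [this, sup_bot_eq] at d
  exact d ▸ Oc_pi _ _

theorem pg (hle : V ≤ H) (hm : MinNormal V (H ⊔ P)) (hV : PG r V) : PG r H := by
  have lt := sol_der_lt s.sol s.ne_bot
  obtain ⟨a1, a2⟩ := s.ab_of_der hle hm hV lt le_rfl (norms_der s.n)
  obtain ⟨S, hS, nS⟩ := inv_hall_exists {r}ᶜ s.n s.cop s.sol
  have n1 : S ≤ N(⁅H, H⁆) := hS.le.trans (commg_norml _ _)
  by_cases e : ⁅H, H⁆ ⊔ S = H
  · exfalso
    have c := (cop_of_pg hS.pi a2).symm
    have e1 : ⁅H, H⁆ ≤ ⁅⁅H, H⁆, S⁆ := by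
      have := der_sup n1
      rw [e, comm_iff_der.1 a1, bot_sup_eq, H19.eq_bot_mono (le_inf (der_mono hS.le) (der_le S))
        (a2.inf_eq_bot hS.pi), sup_bot_eq] at this
      exact this.le
    exact hm.ne (H19.eq_bot_mono (le_inf (((le_inf hle (s.minn hle hm)).trans s.C_le_der).trans e1)
      (cents_symm (hS.le.trans (s.central hle hm)))) (ab_commg_inf_cent a1 n1 c))
  · have := (s.ab_of_der hle hm hV (lt_of_le_of_ne (sup_le (der_le H) hS.le) e) le_sup_left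
      (norms_sup (norms_der s.n) nS)).2
    have h0 : S = ⊥ := (this.of_le le_sup_right).eq_bot hS.pi
    have := (h0 ▸ hS).pi'_of_eq_bot
    rwa [compl_compl] at this

/-- proper invariant subgroups lie in abelian overgroups of `H'` -/
theorem exists_ab (hX : X < H) (h : P ≤ N(X)) : ∃ M, X ≤ M ∧ M < H ∧ ⁅H, H⁆ ≤ M ∧ Ab M := by
  obtain ⟨V, hle, hm⟩ := H18.minnormal_exists s.ne_bot (left_normal_sup s.n).norm
  obtain ⟨r, hr, hV⟩ := H18.minnormal_abelem hm (sol_mono s.sol hle)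
  have hVr := H19.abelem_pg hr hV
  obtain ⟨M, hXM, hM⟩ := Finite.exists_le_maximal (p := fun M => M < H ∧ P ≤ N(M)) ⟨hX, h⟩
  have h1 : H ≤ N(M) := by
    by_contra hn
    have lt := nil_lt_norm (s.pg hle hm hVr).nil hM.prop.1
    exact lt.not_ge (hM.le_of_ge ⟨lt_of_le_of_ne inf_le_left fun e => hn (inf_eq_left.1 e),
      norms_inf s.n (norms_norm hM.prop.2)⟩ lt.le)
  have h2 : ⁅H, H⁆ ≤ M := le_sup_right.trans (hM.le_of_ge ⟨s.der_max hM.prop.1 h1,
    norms_sup hM.prop.2 (norms_der s.n)⟩ le_sup_left)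
  exact ⟨M, hXM, hM.prop.1, h2, (s.ab_of_der hle hm hVr hM.prop.1 h2 hM.prop.2).1⟩

theorem false : False := by
  have kH : ∀ {h}, h ∈ H → cP P h < H := fun hh => lt_of_le_of_ne (cP_le_self s.n hh) (s.cP_ne hh)
  have z1 : ⁅H, H⁆ ≤ C(H) := cents_symm (s.eq.ge.trans (comm_le_iSup_cP fun h hh => by
    obtain ⟨M, a, -, b, c⟩ := s.exists_ab (kH hh) (cP_norm P h)
    exact cents_of_comm c a b))
  have nZ : P ≤ N(H ⊓ C(H)) := norms_inf s.n (norms_cent s.n)
  have z2 : H ⊓ C(H) ≤ C(P) := commg_eq_bot.1 (s.star ((commg_le_left nZ).trans inf_le_left)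
    (norms_of_cents (cents_symm ((commg_le_left nZ).trans inf_le_right))) (commg_normr _ _)
    (by rw [ab_commg_inf_cent (comm_center H) nZ (s.cop' inf_le_left)]; exact bot_le))
  have fpf : ∀ {y a}, y ∈ P → y ≠ 1 → a ∈ H → y * a * y⁻¹ * a⁻¹ ∈ C(H) → a ∈ C(H) :=
    fun {y a} hy y1 ha h => by
    have hq := quo_inf_cent' nZ inf_le_left (s.cop' inf_le_left) (s.sol' inf_le_left)
    have nH : H ≤ N(H ⊓ C(H)) := (center_normal H).norm
    have : qmk _ ⟨a, nH ha⟩ ∈ quo (H ⊓ C(H)) H ⊓ C(quo (H ⊓ C(H)) P) := by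
      refine ⟨mem_im_of ha, ?_⟩
      rw [← eq_zpowers_of_prime s.pr hy y1, quo_zpowers (nZ hy), cent_zpowers]
      refine mem_cent1.2 ?_
      rw [← map_mul, ← map_mul, qmk_eq]
      have m : y * a * y⁻¹ * a⁻¹ ∈ H ⊓ C(H) :=
        mem_inf.2 ⟨mul_mem (conj_mem_of_norm (s.n hy) ha) (inv_mem ha), h⟩
      have := conj_mem_of_norm' (mul_mem (nH ha) (nZ hy)) m
      convert this using 1
      simp only [coe_mul]
      group
    rw [hq, quo_eq_bot (le_inf inf_le_left (s.C_le_der.trans z1)), mem_bot, qmk_eq_one] at this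
    exact this.2
  obtain ⟨x, hx, x1⟩ := exists_ne_one (ne_bot_of_prime s.pr)
  have cm : ∀ {a b}, a ∈ H → b ∈ H → ⁅a, b⁆ ∈ C(H) := fun ha hb =>
    z1 (commutator_mem_commutator ha hb)
  have cx : ∀ {a b}, a ∈ H → b ∈ H → ⁅x * a * x⁻¹, x * b * x⁻¹⁆ = ⁅a, b⁆ := fun {a b} ha hb => by
    have := mem_cent.1 (z2 ⟨der_le H (commutator_mem_commutator ha hb), cm ha hb⟩) x hx
    rw [← conjugate_commutatorElement, this, mul_inv_cancel_right]
  have ml : ∀ {a b c}, a ∈ H → b ∈ H → c ∈ H → ⁅a * b, c⁆ = ⁅b, c⁆ * ⁅a, c⁆ :=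
    fun {a b c} ha hb hc => by
    have e : ⁅a * b, c⁆ = a * ⁅b, c⁆ * a⁻¹ * ⁅a, c⁆ := by simp only [commutatorElement_def]; group
    rw [e, mem_cent.1 (cm hb hc) a ha, mul_inv_cancel_right]
  have mr : ∀ {a b c}, a ∈ H → b ∈ H → c ∈ H → ⁅a, b * c⁆ = ⁅a, b⁆ * ⁅a, c⁆ :=
    fun {a b c} ha hb hc => by
    have e : ⁅a, b * c⁆ = ⁅a, b⁆ * (b * ⁅a, c⁆ * b⁻¹) := by simp only [commutatorElement_def]; group
    rw [e, mem_cent.1 (cm ha hc) b hb, mul_inv_cancel_right]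
  have cj1 : ∀ {a}, a ∈ H → x * a * x⁻¹ ∈ H := fun ha => conj_mem_of_norm (s.n hx) ha
  -- `w` commutes with `w^x`
  have q1 : ∀ {w}, w ∈ H → ⁅w, x * w * x⁻¹⁆ = 1 := fun {w} hw => by
    have nH : H ≤ N(H ⊓ C(H)) := (center_normal H).norm
    have hq : quo (H ⊓ C(H)) H ⊓ C[(qmk _ ⟨x, nZ hx⟩)⁻¹] = ⊥ := by
      rw [← cent_zpowers, zpowers_inv, ← quo_zpowers (nZ hx), eq_zpowers_of_prime s.pr hx x1,
        quo_inf_cent' nZ inf_le_left (s.cop' inf_le_left) (s.sol' inf_le_left)]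
      exact quo_eq_bot (le_inf inf_le_left (s.C_le_der.trans z1))
    obtain ⟨b, hb, e⟩ := H18.exists_comm_eq (inv_mem (quo_norms s.n (mem_im_of (x := ⟨x, nZ hx⟩) hx)))
      hq (inv_mem (mem_im_of (f := qmk _) (x := ⟨w, nH hw⟩) hw))
    obtain ⟨b, hb', rfl⟩ := mem_im.1 hb
    rw [inv_inv, ← map_inv, ← map_inv, ← map_inv, ← map_mul, ← map_mul, ← map_mul, qmk_eq] at e
    simp only [coe_mul, coe_inv, inv_inv] at e
    obtain ⟨M, a, -, -, c⟩ := s.exists_ab (kH (inv_mem hb')) (cP_norm P _)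
    have m1 := mem_cP (h := (b : G)⁻¹) hx
    have m2 := conj_mem_of_norm (cP_norm P _ hx) m1
    set u := (b : G)⁻¹⁻¹ * (x * (b : G)⁻¹ * x⁻¹) with hu
    have uH : u ∈ H := (kH (inv_mem hb')).le m1
    set z := w * (x * b * x⁻¹ * (b : G)⁻¹)
    have ew : w = z * u := by rw [hu]; simp only [z]; group
    have ez : x * z * x⁻¹ = z := by rw [mem_cent.1 (z2 e) x hx, mul_inv_cancel_right]
    have : x * w * x⁻¹ = z * (x * u * x⁻¹) := by
      rw [ew, show x * (z * u) * x⁻¹ = x * z * x⁻¹ * (x * u * x⁻¹) by group, ez]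
    rw [this]
    conv_lhs => rw [ew]
    rw [ml e.1 uH (mul_mem e.1 (cj1 uH)), mr uH e.1 (cj1 uH),
      commutatorElement_eq_one_iff_mul_comm.2 (mem_cent.1 e.2 u uH),
      commutatorElement_eq_one_iff_mul_comm.2 (mul_comm_of_comm c (a m1) (a m2)),
      commutatorElement_eq_one_iff_mul_comm.2 (mem_cent.1 e.2 _ (mul_mem e.1 (cj1 uH))).symm]
    simp
  have hab : H ≤ C(H) := fun b hb => by
    have x2 : x * x ≠ 1 := fun e => s.odd (by
      rw [← eq_zpowers_of_prime s.pr hx x1, Nat.card_zpowers]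
      exact orderOf_eq_prime (by rw [pow_two, e]) x1)
    refine fpf (mul_mem hx hx) x2 hb (mem_cent.2 fun a ha => ?_)
    have hb1 := cj1 hb
    have e := q1 (mul_mem ha hb1)
    have e' : x * (a * (x * b * x⁻¹)) * x⁻¹ = x * a * x⁻¹ * (x * (x * b * x⁻¹) * x⁻¹) := by group
    rw [e', ml ha hb1 (mul_mem (cj1 ha) (cj1 hb1)), mr hb1 (cj1 ha) (cj1 hb1), mr ha (cj1 ha) (cj1 hb1),
      q1 ha, q1 hb1, cx hb ha, mul_one, one_mul] at e
    rw [← commutatorElement_eq_one_iff_mul_comm]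
    have e2 : x * x * b * (x * x)⁻¹ * b⁻¹ * b = x * (x * b * x⁻¹) * x⁻¹ := by group
    have m : x * x * b * (x * x)⁻¹ * b⁻¹ ∈ H :=
      mul_mem (conj_mem_of_norm (s.n (mul_mem hx hx)) hb) (inv_mem hb)
    rw [← e2, mr ha m hb, ← commutatorElement_inv a b, inv_mul_eq_one, ← mem_cent.1 (cm ha m) _
      (der_le H (commutator_mem_commutator ha hb)), left_eq_mul] at e
    exact e
  refine s.ne ?_
  have := ab_commg_inf_cent (comm_iff_le_cent.2 hab) s.n s.cop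
  rw [s.eq] at this
  exact this ▸ bot_le

end CF

/-- **Flavell**: `C_{[H,P]}(P) = ⟨C_{[h,P]}(P) : h ∈ H⟩` -/
theorem comm_inf_cent_le_cD (hp : (#P).Prime) (h2 : #P ≠ 2) (hn : P ≤ N(H)) (hc : (#H).Coprime #P)
    (hs : Sol H) : ⁅H, P⁆ ⊓ C(P) ≤ cD H P := by
  induction hk : #H using Nat.strong_induction_on generalizing G with | _ n ih =>
  subst hk
  have ih1 : ∀ X, X < H → P ≤ N(X) → ⁅X, P⁆ ⊓ C(P) ≤ cD H P := fun X a b =>
    (ih _ (card_lt a) hp h2 b (hc.coprime_dvd_left (card_dvd a.le)) (sol_mono hs a.le) rfl).trans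
      (cD_mono a.le)
  rcases (commg_le_left hn).eq_or_lt with e | e
  swap
  · have := ih1 _ e (commg_normr _ _)
    rwa [commg_commg hn hc] at this
  by_contra hne
  rw [e] at hne
  refine CF.false ⟨hp, h2, hn, hc, hs, e, ih1, fun V h0 hle h1 h3 => ?_, hne⟩
  have cP : #(quo V P) = #P := card_quo_of_disjoint h3
    (inf_eq_bot_of_cop (hc.coprime_dvd_left (card_dvd hle)))
  have lt : #(quo V H) < #H := by
    rw [card_quo h1, ← card_mul_relIndex hle]
    exact lt_mul_left (relIndex_pos _ _) (ne_bot_iff_one_lt_card.1 h0)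
  have := (ih _ lt (cP ▸ hp) (cP ▸ h2) (quo_norms hn) (cop_quo hc V) (sol_quo hs V) rfl).trans
    (quo_cD h3 hle hc hs)
  rw [← quo_comm h1 h3, e, quo_inf_cent' h3 hle (hc.coprime_dvd_left (card_dvd hle))
    (Or.inr (sol_mono hs hle)), quo_le_quo_iff (inf_le_left.trans h1)
      (((cD_le_inf hn).trans inf_le_left).trans h1)] at this
  refine (le_inf this inf_le_right).trans ?_
  rw [sup_inf_modr (((cD_le_inf hn).trans inf_le_left).trans h1) ((cD_le_inf hn).trans inf_le_right),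
    sup_comm]

end H1
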