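/-
A finite group all of whose two-generator subgroups are solvable is solvable: local analysis.
-/
import Cfsg.Agent.H1.Fla1
import Cfsg.Agent.H1.SF4
import Cfsg.Agent.H3.ThompsonFpf
import Cfsg.Agent.H5.Burnside
import Cfsg.Agent.S3815

set_option autoImplicit false
set_option linter.unusedSectionVars false

open Cfsg Subgroup
open scoped Pointwise commutatorElement
namespace H1
open H19

universe u

variable {G : Type u} [Group G] [Finite G] {p q r : ℕ}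
  {A B D E H K L M N P Q R S T U V W X Y Z : Subgroup G} {a b c d g h w x y z : G}

theorem powell (hp : p.Prime) (hd : d ∈ L) (h0 : PiE {p}ᶜ d)
    (h : ∀ g ∈ L, PiE {p}ᶜ g → PiE {p}ᶜ (d * g)) : d ∈ Oc {p}ᶜ L := by
  have := Fact.mk hp
  have e := Cfsg.Agent.S3815.result (p := p) (⟨d, hd⟩ : L)
    (by rw [← orderOf_coe]; exact PiN.coprime_prime h0 hp) fun g hg => by
      rw [← orderOf_coe] at hg ⊢
      exact PiN.coprime_prime (h g g.2 (PiN.of_coprime hg)) hp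
  rw [← pPrimeCore_map_eq hp]
  exact ⟨_, e, rfl⟩

theorem mem_zpowers_mul (hc : a * b = b * a) (h1 : PiE {p} a) (h2 : PiE {p}ᶜ b) :
    a ∈ zpowers (a * b) ∧ b ∈ zpowers (a * b) := by
  have c : Commute a b := hc
  have co : (orderOf a).Coprime (orderOf b) := PiN.coprime h1 h2
  have ha : a ∈ zpowers (a * b) := by
    have m := npow_mem_zpowers (a * b) (orderOf b)
    rw [c.mul_pow, pow_orderOf_eq_one, mul_one] at m
    exact zpowers_le.2 m (mem_zpowers_pow_iff.2 co.symm)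
  exact ⟨ha, by simpa using mul_mem (inv_mem ha) (mem_zpowers _)⟩

theorem piE_mul (hd : d ∈ Oc {p}ᶜ K) (hg : g ∈ K) (h : PiE {p}ᶜ g) : PiE {p}ᶜ (d * g) :=
  ((Oc_pi _ K).sup (piG_zpowers.2 h) ((zpowers_le.2 hg).trans (Oc_norm _ K))).elt
    (mul_mem (mem_sup_left hd) (mem_sup_right (mem_zpowers g)))

/-- a minimal counterexample -/
structure M2 (G : Type u) [Group G] : Prop where
  simple : ∀ N : Subgroup G, N(N) = ⊤ → N = ⊥ ∨ N = ⊤
  two : ∀ a b : G, closure {a, b} ≠ ⊤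
  sol : ∀ H : Subgroup G, H ≠ ⊤ → Sol H
  ns : ¬ Sol (⊤ : Subgroup G)

/-- maximal `p`-local subgroups -/
def ML (p : ℕ) (M : Subgroup G) : Prop := Maximal (fun M => Oc {p} M ≠ ⊥) M

theorem Oc_norm_ne (hX : PG p X) (h0 : X ≠ ⊥) : Oc {p} N(X) ≠ ⊥ :=
  ne_bot_mono (le_Oc (normalIn_norm X) hX) h0

theorem exists_ML (hX : PG p X) (h0 : X ≠ ⊥) : ∃ M, ML p M ∧ N(X) ≤ M :=
  let ⟨M, a, b⟩ := Finite.exists_le_maximal (p := fun M => Oc {p} M ≠ ⊥) (Oc_norm_ne hX h0)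
  ⟨M, b, a⟩

theorem ML.eq_norm (h : ML p M) (hX : PG p X) (h0 : X ≠ ⊥) (hn : M ≤ N(X)) : N(X) = M :=
  le_antisymm (Maximal.le_of_ge h (Oc_norm_ne hX h0) hn) hn

theorem ML.norm_Oc (h : ML p M) : N(Oc {p} M) = M := h.eq_norm (Oc_pi _ _) h.prop (Oc_norm _ _)

theorem mem_cl1 (a b : G) : a ∈ closure ({a, b} : Set G) := subset_closure (by simp)
theorem mem_cl2 (a b : G) : b ∈ closure ({a, b} : Set G) := subset_closure (by simp)

namespace M2
variable (s : M2 G)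
include s

theorem norm_ne (h0 : H ≠ ⊥) (h1 : Sol H) : N(H) ≠ ⊤ := fun e =>
  (s.simple H e).elim h0 fun e' => s.ns (e' ▸ h1)

theorem cent1_ne (z1 : z ≠ 1) : C[z] ≠ ⊤ := fun e =>
  s.norm_ne (zpowers_ne_bot.2 z1) (sol_zpowers z) (top_le_iff.1 (e ▸ cent1_le_norm_zpowers z))

theorem Oc_top (π : Set ℕ) (hp : p.Prime) (h1 : p ∉ π) (hd : p ∣ #(⊤ : Subgroup G)) :
    Oc π (⊤ : Subgroup G) = ⊥ :=
  (s.simple _ (top_le_iff.1 (Oc_norm _ _))).resolve_right fun e =>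
    h1 (PiN.mem (e ▸ Oc_pi π (⊤ : Subgroup G)) hp hd)

theorem cent_core (hp : p.Prime) (hz : PiE {p} z) (z1 : z ≠ 1) : Oc {p}ᶜ C[z] = ⊥ := by
  refine eq_bot_iff.2 fun d hd => ?_
  have hd' := (Oc_pi _ _).elt hd
  rw [← s.Oc_top {p}ᶜ hp (by simp)
    ((hz.dvd_of_ne_one (mt orderOf_eq_one_iff.1 z1)).2.trans (orderOf_dvd_card' (mem_top z)))]
  refine powell hp (mem_top d) hd' fun g _ hg => ?_
  obtain ⟨m1, m2⟩ := mem_zpowers_mul (mem_cent1.1 (Oc_le _ _ hd)).symm hz hd'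
  have l := zpowers_le.2 (mem_cl1 (z * d) g)
  refine piE_mul (K := closure {z * d, g}) ?_ (mem_cl2 _ _) hg
  refine H18.p'core_cent_pgroup (piG_zpowers.2 hz) (zpowers_le.2 (l m1)) (s.sol _ (s.two _ _)) ?_
  rw [cent_zpowers]
  exact Oc_inf_le inf_le_right ⟨hd, l m2, Oc_le _ _ hd⟩

theorem norm_core (hX : PG p X) (h0 : X ≠ ⊥) : Oc {p}ᶜ N(X) = ⊥ := by
  obtain ⟨z, hz, z1⟩ := exists_ne_one (hX.center_ne_bot h0)
  have c : Oc {p}ᶜ N(X) ≤ C(X) := Oc_cents' (normalIn_norm X) hX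
  refine H19.eq_bot_mono ((Oc_le_Oc_of_le inf_le_right (le_inf (c.trans (cent_le_cent1 hz.1))
    (Oc_le _ _))).trans (H18.p'core_norm_pgroup hX (le_cent1_iff.2 hz.2) (s.sol _ (s.cent1_ne z1))))
    (s.cent_core (hX.prime_of_ne_bot h0) (hX.elt hz.1) z1)

theorem ML_ne (h : ML p M) : M ≠ ⊤ := h.norm_Oc ▸ s.norm_ne h.prop (Oc_pi _ _).sol
theorem ML_core (h : ML p M) : Oc {p}ᶜ M = ⊥ := h.norm_Oc ▸ s.norm_core (Oc_pi _ _) h.prop
theorem ML_cent (h : ML p M) : C(Oc {p} M) ≤ Oc {p} M :=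
  (le_inf ((cent_le_norm _).trans h.norm_Oc.le) le_rfl).trans
    (H18.cent_pcore_sub (s.sol _ (s.ML_ne h)) (s.ML_core h))

theorem ML_zj (h5 : 5 ≤ p) (h : ML p M) (hR : Syl p R M) : N(H9.ZJ p R) = M := by
  have hp := (Oc_pi _ _).prime_of_ne_bot h.prop
  have hs := s.sol _ (s.ML_ne h)
  have := zj_fac hp (by omega) hs (not_inv hp (by omega) hs (Or.inl h5)) hR
  rw [s.ML_core h, bot_sup_eq] at this
  exact h.eq_norm (hR.pi.of_le (H9.ZJ_le _ _)) (ZJ_ne_bot hR.pi (ne_bot_mono (Oc_le_hall hR) h.prop))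
    (this.trans inf_le_right)

theorem ML_syl (h5 : 5 ≤ p) (h : ML p M) (hR : Syl p R M) : Syl p R ⊤ :=
  hR.syl_of_norm_le le_top (inf_le_right.trans ((norms_ZJ le_rfl).trans (s.ML_zj h5 h hR).le))

theorem ML_uniq (h5 : 5 ≤ p) (hX : PG p X) (h0 : X ≠ ⊥) (h1 : ML p M) (h2 : ML p H) (l1 : X ≤ M)
    (l2 : X ≤ H) : M = H := by
  induction X using WellFoundedGT.induction generalizing M H with | _ X ih =>
  have key : ∀ {M H}, ML p M → ML p H → X ≤ H → Syl p X M → M = H := fun a b c d =>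
    (s.ML_zj h5 a d).symm.trans (s.ML_zj h5 b ((s.ML_syl h5 a d).of_le c le_top))
  by_cases e1 : Syl p X M
  · exact key h1 h2 l2 e1
  by_cases e2 : Syl p X H
  · exact (key h2 h1 l1 e2).symm
  obtain ⟨Q1, a1, b1, c1, d1⟩ := hX.exists_lt_norm l1 e1
  obtain ⟨Q2, a2, b2, c2, d2⟩ := hX.exists_lt_norm l2 e2
  obtain ⟨K, hK, l⟩ := exists_ML hX h0
  exact (ih Q1 a1 b1 (ne_bot_mono a1.le h0) h1 hK c1 (d1.trans l)).trans
    (ih Q2 a2 b2 (ne_bot_mono a2.le h0) h2 hK c2 (d2.trans l)).symm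

end M2

/-- a subgroup of order `p ≥ 5` in the `p`-core of a maximal `p`-local subgroup -/
structure FX (p : ℕ) (M X : Subgroup G) : Prop where
  s : M2 G
  h5 : 5 ≤ p
  ml : ML p M
  el : El p 1 X (Oc {p} M)

/-- `p'`-subgroups on which `X` acts fixed point freely -/
structure YY (p : ℕ) (X Y : Subgroup G) : Prop where
  pi : PiG {p}ᶜ Y
  n : X ≤ N(Y)
  fpf : Y ⊓ C(X) = ⊥

namespace FX
variable (f : FX p M X)
include f

theorem pr : p.Prime := f.el.prime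
theorem prX : (#X).Prime := f.el.prime_card
theorem XM : X ≤ M := f.el.le.trans (Oc_le _ _)
theorem cop (h : PiG {p}ᶜ Y) : (#Y).Coprime #X := cop_of_pg h f.el.pg
theorem sX {Q : Prop} : Sol X ∨ Q := Or.inl f.el.pg.sol

theorem norm_le (hR : PG p R) (h0 : R ≠ ⊥) (hle : R ≤ M) : N(R) ≤ M := by
  obtain ⟨K, hK, l⟩ := exists_ML hR h0
  exact f.s.ML_uniq f.h5 hR h0 hK f.ml (le_normalizer.trans l) hle ▸ l

theorem nX : N(X) ≤ M := f.norm_le f.el.pg f.el.ne_bot f.XM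

theorem pg_le (hR : PG p R) (hle : X ≤ R) : R ≤ M := by
  obtain ⟨K, hK, l⟩ := exists_ML hR (ne_bot_mono hle f.el.ne_bot)
  exact f.s.ML_uniq f.h5 f.el.pg f.el.ne_bot hK f.ml (hle.trans (le_normalizer.trans l)) f.XM ▸
    le_normalizer.trans l

theorem cyc (hK : K ≠ ⊤) (hn : ¬ K ≤ M) (hS : Syl p S K) (hX : X ≤ S) : Cyc S := by
  by_contra hc
  have hSM := f.pg_le hS.pi hX
  have h5 := f.h5
  obtain ⟨A, hA⟩ := hS.pi.exists_el2 (by
    obtain ⟨k, e⟩ := hS.pi.exists_card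
    exact e ▸ (f.pr.odd_of_ne_two (by omega)).pow) hc
  have hO : Oc {p}ᶜ K ≤ M := hA.le_of_cent_le ((hA.le.trans hS.le).trans (Oc_norm _ _)) (Oc_pi _ _)
    fun B hB => inf_le_right.trans ((cent_le_norm _).trans
      (f.norm_le hB.pg hB.ne_bot ((hB.le.trans hA.le).trans hSM)))
  have hT := hS.inf_normal (H18.Opp_normal p K)
  have h0 : S ⊓ Opp p K ≠ ⊥ := fun e => by
    have := H18.solvable_p_constrained f.pr (f.s.sol K hK) hT
    rw [e, cent_bot, inf_top_eq] at this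
    rw [inf_eq_left.2 (hS.le.trans this)] at e
    exact f.el.ne_bot (H19.eq_bot_mono hX e)
  refine hn ((hT.frattini (H18.Opp_normal p K)).ge.trans (sup_le ?_ (inf_le_right.trans
    (f.norm_le hT.pi h0 (inf_le_left.trans hSM)))))
  rw [← H18.sup_syl_Opp f.pr hT]
  exact sup_le hO (inf_le_left.trans hSM)

theorem fac (hK : K ≠ ⊤) (hX : X ≤ K) (hn : ¬ K ≤ M) : K ≤ Oc {p}ᶜ K ⊔ (K ⊓ N(X)) := by
  obtain ⟨S, hS, hXS⟩ := f.el.pg.exists_syl hX
  have hc := f.cyc hK hn hS hXS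
  have hT := hS.inf_normal (H18.Opp_normal p K)
  have h1 : S ≤ Opp p K := (le_inf hS.le (cents_of_comm (comm_of_cyclic hc) le_rfl
    inf_le_left)).trans (H18.solvable_p_constrained f.pr (f.s.sol K hK) hT)
  rw [inf_eq_left.2 h1] at hT
  refine (hT.frattini (H18.Opp_normal p K)).ge.trans (sup_le ?_ (le_sup_right.trans'
    (inf_le_inf_left _ (cyc_norm hc hXS))))
  rw [← H18.sup_syl_Opp f.pr hT]
  exact sup_le_sup_left (le_inf hS.le (norms_of_comm (comm_of_cyclic hc) le_rfl hXS)) _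

theorem comm_M (hY : PiG {p}ᶜ Y) (hn : X ≤ N(Y)) (hle : Y ≤ M) : ⁅Y, X⁆ = ⊥ :=
  H19.eq_bot_mono (le_inf (commg_le_left hn) ((commutator_mono le_rfl f.el.le).trans
    ((Oc_normal _ M).commg_le' hle))) (hY.inf_eq_bot' (Oc_pi _ _))

theorem comm_le (hK : K ≠ ⊤) (hX : X ≤ K) (hY : PiG {p}ᶜ Y) (hn : X ≤ N(Y)) (hle : Y ≤ K) :
    ⁅Y, X⁆ ≤ Oc {p}ᶜ K := by
  by_cases h : K ≤ M
  · rw [f.comm_M hY hn (hle.trans h)]; exact bot_le
  have n1 : X ≤ N(Oc {p}ᶜ K) := hX.trans (Oc_norm _ _)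
  have n2 : K ≤ N(Oc {p}ᶜ K ⊔ X) := (f.fac hK hX h).trans (sup_le (norms_of_le le_sup_left)
    (norms_sup (inf_le_left.trans (Oc_norm _ _)) inf_le_right))
  exact ((sdprod_sup n1 ((Oc_pi _ _).inf_eq_bot' f.el.pg)).hall_of_pi (Oc_pi _ _)
    f.el.pg.compl_compl).le_of_normal (left_normal_sup n1).norm
    ((commutator_mono le_rfl le_sup_right).trans (commg_le_right (hle.trans n2)))
    (hY.of_le (commg_le_left hn))

theorem ne_top (hY : PiG {p}ᶜ Y) : Y ≠ ⊤ := fun e =>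
  f.el.ne_bot (f.el.pg.eq_bot (hY.of_le (e ▸ le_top)))

theorem yy_comm (hY : PiG {p}ᶜ Y) (hn : X ≤ N(Y)) : YY p X ⁅Y, X⁆ := by
  refine ⟨hY.of_le (commg_le_left hn), commg_normr _ _, ?_⟩
  have h5 := f.h5
  obtain ⟨x, x1, ox, rfl⟩ := f.el.exists_gen
  have hx := piG_zpowers.1 f.el.pg
  refine H19.eq_bot_mono ((comm_inf_cent_le_cD f.prX (by rw [f.el.card1]; omega) hn (f.cop hY)
    (f.s.sol _ (f.ne_top hY))).trans (cD_le fun h hh d hd => ?_)) (f.s.cent_core f.pr hx x1)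
  refine powell f.pr (cent_zpowers x ▸ hd.2) (hY.elt (cP_le_self hn hh hd.1)) fun g hg hg' => ?_
  obtain ⟨m1, m2⟩ := mem_zpowers_mul (mem_cent1.1 hg).symm hx hg'
  have l := zpowers_le.2 (mem_cl1 (x * g) h)
  have hX := zpowers_le.2 (l m1)
  exact piE_mul (f.comm_le (f.s.two _ _) hX (hY.infl _) (norms_inf hn (norms_of_le hX)) inf_le_right
    (cP_le_comm (mem_inf.2 ⟨hh, mem_cl2 _ _⟩) hd.1)) (l m2) hg'

end FX

end H1
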