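/-
A finite group all of whose two-generator subgroups are solvable is solvable.
-/
import Cfsg.Agent.H1.Fla2

set_option autoImplicit false
set_option linter.unusedSectionVars false

open Cfsg Subgroup
open scoped Pointwise commutatorElement
namespace H1
open H19

universe u

variable {G : Type u} [Group G] [Finite G] {p q r : ℕ}
  {A B D E H K L M N P Q R S T U V W X Y Y' Z : Subgroup G} {a b c d g h w x y z : G}

theorem YY.sub (h : YY p X Y) (hle : D ≤ Y) (hn : X ≤ N(D)) : YY p X D :=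
  ⟨h.pi.of_le hle, hn, H19.eq_bot_mono (inf_le_inf_right _ hle) h.fpf⟩

theorem YY.J (h : YY p X Y) (hg : g ∈ N(X)) : YY p X (cj g Y) :=
  ⟨h.pi.J g, by rw [← cj_norm, ← cj_of_mem_norm hg]; exact cj_mono g h.n,
    by rw [← cj_of_mem_norm hg, ← cj_cent, ← cj_inf, h.fpf, cj_bot]⟩

/-- maximal nontrivial members -/
def MY (p : ℕ) (X Y : Subgroup G) : Prop := Maximal (YY p X) Y ∧ Y ≠ ⊥

theorem MY.J (h : MY p X Y) (hg : g ∈ N(X)) : MY p X (cj g Y) :=
  ⟨⟨h.1.prop.J hg, fun _ hZ hle => le_cj_iff.2 (h.1.le_of_ge (hZ.J (inv_mem hg)) (cj_le_iff.1 hle))⟩,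
    mt cj_eq_bot.1 h.2⟩

theorem YY.exists_MY (h : YY p X Y) (h0 : Y ≠ ⊥) : ∃ Y', MY p X Y' ∧ Y ≤ Y' :=
  let ⟨Y', a, b⟩ := Finite.exists_le_maximal h
  ⟨Y', ⟨b, ne_bot_mono a h0⟩, a⟩

/-- `[O_{p'}(K), X]` -/
def NK (p : ℕ) (X K : Subgroup G) : Subgroup G := ⁅Oc {p}ᶜ K, X⁆

namespace FX
variable (f : FX p M X)
include f

theorem nil (h : YY p X Y) : Nil Y := H3.isNilpotent_of_fpf_prime h.n f.prX h.fpf
theorem yy_eq (h : YY p X Y) : ⁅Y, X⁆ = Y := commg_eq_of_cent_eq_bot h.n (f.cop h.pi) f.sX h.fpf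
theorem yy_M (h : YY p X Y) (hle : Y ≤ M) : Y = ⊥ := (f.yy_eq h).symm.trans (f.comm_M h.pi h.n hle)
theorem yy_NK (hX : X ≤ K) : YY p X (NK p X K) := f.yy_comm (Oc_pi _ _) (hX.trans (Oc_norm _ _))

theorem le_NK (hK : K ≠ ⊤) (hX : X ≤ K) (h : YY p X Y) (hle : Y ≤ K) : Y ≤ NK p X K :=
  (f.yy_eq h).ge.trans (commutator_mono ((f.yy_eq h).ge.trans (f.comm_le hK hX h.pi h.n hle)) le_rfl)

theorem fac' (hK : K ≠ ⊤) (hX : X ≤ K) (hn : ¬ K ≤ M) : K ≤ NK p X K ⊔ (K ⊓ N(X)) :=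
  (f.fac hK hX hn).trans (sup_le ((commg_sup_cent (hX.trans (Oc_norm _ _)) (f.cop (Oc_pi _ _))
    f.sX).ge.trans (sup_le_sup_left (inf_le_inf (Oc_le _ _) (cent_le_norm _)) _)) le_sup_right)

theorem NK_normal (hK : K ≠ ⊤) (hX : X ≤ K) (hn : ¬ K ≤ M) : NK p X K ⊴ K :=
  ⟨(commg_le_left (hX.trans (Oc_norm _ _))).trans (Oc_le _ _), (f.fac' hK hX hn).trans
    (sup_le (norms_of_le le_rfl) (norms_comm (inf_le_left.trans (Oc_norm _ _)) inf_le_right))⟩

theorem NK_ne (hK : K ≠ ⊤) (hX : X ≤ K) (hn : ¬ K ≤ M) : NK p X K ≠ ⊥ := fun e =>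
  hn ((f.fac' hK hX hn).trans (sup_le (e ▸ bot_le) (inf_le_right.trans f.nX)))

theorem NK_pg (hL : ML q L) (hX : X ≤ L) (hn : ¬ L ≤ M) : PG q (NK p X L) :=
  (Oc_pi _ L).of_le ((le_Fit (f.NK_normal (f.s.ML_ne hL) hX hn) (f.nil (f.yy_NK hX))).trans
    (Fit_eq_Oc (f.s.ML_core hL)).le)

theorem exists_pg (h : YY p X Y) (h0 : Y ≠ ⊥) : ∃ q, q.Prime ∧ PG q Y := by
  obtain ⟨q, hq, h1⟩ := exists_Oc_ne_bot (sol_of_nil (f.nil h)) h0
  obtain ⟨L, hL, l⟩ := exists_ML (Oc_pi _ Y) h1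
  have hX := (norms_Oc {q} h.n).trans l
  have hY := (Oc_norm {q} Y).trans l
  exact ⟨q, hq, (f.NK_pg hL hX fun e => h0 (f.yy_M h (hY.trans e))).of_le
    (f.le_NK (f.s.ML_ne hL) hX h hY)⟩

theorem ti (h1 : MY p X Y) (h2 : MY p X Y') (h0 : D ≠ ⊥) (l1 : D ≤ Y) (l2 : D ≤ Y') : Y = Y' := by
  induction D using WellFoundedGT.induction generalizing Y Y' with | _ D ih =>
  by_contra hne
  rcases (le_inf l1 l2).eq_or_lt with e | e
  swap
  · exact hne (ih _ e h1 h2 (ne_bot_mono e.le h0) inf_le_left inf_le_right)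
  have hD : YY p X D := h1.1.prop.sub l1 (e ▸ norms_inf h1.1.prop.n h2.1.prop.n)
  have hK := f.s.norm_ne h0 (sol_of_nil (f.nil hD))
  obtain ⟨Z, hZ, lZ⟩ := (f.yy_NK hD.n).exists_MY
    (f.NK_ne hK hD.n fun e => h0 (f.yy_M hD (le_normalizer.trans e)))
  have key : ∀ {Y}, MY p X Y → D < Y → Y = Z := fun {Y} a b => by
    have lt := nil_lt_norm (f.nil a.1.prop) b
    exact ih _ lt a hZ (ne_bot_mono lt.le h0) inf_le_left ((f.le_NK hK hD.n
      (a.1.prop.sub inf_le_left (norms_inf a.1.prop.n (norms_norm hD.n))) inf_le_right).trans lZ)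
  refine hne ((key h1 (lt_of_le_of_ne l1 fun e1 => hne ?_)).trans
    (key h2 (lt_of_le_of_ne l2 fun e2 => hne ?_)).symm)
  · exact le_antisymm (e1 ▸ l2) (h1.1.le_of_ge h2.1.prop (e1 ▸ l2))
  · exact le_antisymm (h2.1.le_of_ge h1.1.prop (e2 ▸ l1)) (e2 ▸ l1)

theorem le_norm (hK : K ≠ ⊤) (hX : X ≤ K) (hn : ¬ K ≤ M) (h : MY p X Y) (l : NK p X K ≤ Y) :
    K ≤ N(Y) :=
  (f.fac' hK hX hn).trans (sup_le (norms_of_le l) fun g hg => mem_norm_iff_cj.2
    (f.ti (h.J hg.2) h (f.NK_ne hK hX hn)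
      (((f.NK_normal hK hX hn).cj_eq hg.1).ge.trans (cj_mono g l)) l))

theorem cover (hw : w ∉ M) : ∃ Y, MY p X Y ∧ w ∈ N(Y) := by
  obtain ⟨x, -, -, rfl⟩ := f.el.exists_gen
  have hX := zpowers_le.2 (mem_cl1 x w)
  have hn : ¬ closure {x, w} ≤ M := fun e => hw (e (mem_cl2 _ _))
  obtain ⟨Y, hY, l⟩ := (f.yy_NK hX).exists_MY (f.NK_ne (f.s.two _ _) hX hn)
  exact ⟨Y, hY, f.le_norm (f.s.two _ _) hX hn hY l (mem_cl2 _ _)⟩

theorem exists_MY : ∃ Y, MY p X Y := by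
  obtain ⟨w, -, hw⟩ := SetLike.not_le_iff_exists.1 (mt top_le_iff.1 (f.s.ML_ne f.ml))
  exact (f.cover hw).imp fun _ h => h.1

theorem norm_norm (h : MY p X Y) : N(X) ≤ N(Y) := fun n hn => by
  obtain ⟨y, hy, y1⟩ := exists_ne_one h.2
  have yM : y ∉ M := fun e => y1 (by
    have := f.yy_M (h.1.prop.sub inf_le_left (norms_inf h.1.prop.n (norms_of_le f.XM))) inf_le_right
    exact mem_bot.1 (this ▸ mem_inf.2 ⟨hy, e⟩))
  obtain ⟨x, x1, -, e⟩ := f.el.exists_gen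
  have hX : X ≤ closure {x, y * n} := e ▸ zpowers_le.2 (mem_cl1 x _)
  have hK := f.s.two x (y * n)
  have hn' : ¬ closure {x, y * n} ≤ M := fun l =>
    yM (by simpa using mul_mem (l (mem_cl2 _ _)) (inv_mem (f.nX hn)))
  obtain ⟨Z, hZ, l⟩ := (f.yy_NK hX).exists_MY (f.NK_ne hK hX hn')
  have m : n * x * n⁻¹ ∈ X := conj_mem_of_norm hn (e ▸ mem_zpowers x)
  have h0 : Y ⊓ closure {x, y * n} ≠ ⊥ := by
    refine ne_bot_of_mem (x := y * (n * x * n⁻¹ * y⁻¹ * (n * x * n⁻¹)⁻¹))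
      (mem_inf.2 ⟨mul_mem hy (conj_mem_of_norm (h.1.prop.n m) (inv_mem hy)), ?_⟩) fun e1 => y1 ?_
    · have := mul_mem (conj_mem_of_norm (le_normalizer (mem_cl2 x (y * n))) (mem_cl1 x _))
        (inv_mem (hX m))
      convert this using 1
      group
    · have : y ∈ Y ⊓ C(X) := ⟨hy, by
        rw [cent_eq_cent1_of_prime f.prX m (by simpa using x1)]
        refine mem_cent1.2 ?_
        rw [← mul_assoc, ← mul_assoc, mul_inv_eq_one, mul_inv_eq_iff_eq_mul] at e1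
        exact e1⟩
      rwa [h.1.prop.fpf] at this
  have e2 := f.ti h hZ h0 inf_le_left ((f.le_NK hK hX (h.1.prop.sub inf_le_left
    (norms_inf h.1.prop.n (norms_of_le hX))) inf_le_right).trans l)
  have := f.le_norm hK hX hn' h (e2 ▸ l) (mem_cl2 _ _)
  simpa using mul_mem (inv_mem (le_normalizer hy)) this

theorem MY_ne (h : MY p X Y) : N(Y) ≠ ⊤ := f.s.norm_ne h.2 (sol_of_nil (f.nil h.1.prop))
theorem MY_M (h : MY p X Y) : ¬ N(Y) ≤ M := fun e => h.2 (f.yy_M h.1.prop (le_normalizer.trans e))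

theorem norm_eq (h : MY p X Y) (hL : L ≠ ⊤) (l : N(Y) ≤ L) : L = N(Y) ∧ NK p X L = Y := by
  have hX := h.1.prop.n.trans l
  have l1 := f.le_NK hL hX h.1.prop (le_normalizer.trans l)
  have e := le_antisymm (h.1.le_of_ge (f.yy_NK hX) l1) l1
  exact ⟨le_antisymm (e ▸ (f.NK_normal hL hX fun e => f.MY_M h (l.trans e)).norm) l, e⟩

end FX

theorem M2.exists_FX (s : M2 G) (h5 : 5 ≤ p) (hP : Syl p P ⊤) (h0 : P ≠ ⊥) :
    ∃ M X, FX p M X ∧ N(P) ≤ M ∧ X ≤ Z(P) := by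
  obtain ⟨M, hM, l⟩ := exists_ML hP.pi h0
  obtain ⟨X, hX⟩ := (hP.pi.infl C(P)).exists_el1 (hP.pi.center_ne_bot h0)
  exact ⟨M, X, ⟨s, h5, hM, hX.of_le ((hX.le.trans inf_le_right).trans ((cent_mono
    (Oc_le_hall (hP.of_le (le_normalizer.trans l) le_top))).trans (s.ML_cent hM)))⟩, l, hX.le⟩

theorem M2.cyc (s : M2 G) (h5 : 5 ≤ p) (hP : PG p P) : Cyc P := by
  obtain ⟨S, hS, l⟩ := hP.exists_syl le_top
  refine cyc_mono ?_ l
  by_cases h0 : S = ⊥
  · exact h0 ▸ cyc_bot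
  obtain ⟨M, X, f, -, hX⟩ := s.exists_FX h5 hS h0
  obtain ⟨Y, hY⟩ := f.exists_MY
  exact f.cyc (f.MY_ne hY) (f.MY_M hY) (hS.of_le (((cents_symm (hX.trans inf_le_right)).trans
    (cent_le_norm _)).trans (f.norm_norm hY)) le_top) (hX.trans inf_le_left)

/-- the elementary Thompson subgroup -/
def JE (q : ℕ) (T : Subgroup G) : Subgroup G := ⨆ A : {A // El q (prk q T) A T}, A.1

theorem cj_JE (g : G) (T : Subgroup G) : cj g (JE q T) = JE q (cj g T) :=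
  equivariant_of_le (JE q) (fun g T => cj_le_iff.2 (iSup_le fun A => cj_le_iff.1
    (le_iSup (fun A : {A // El q (prk q (cj g T)) A (cj g T)} => A.1)
      ⟨cj g A.1, (prk_cj q g T).symm ▸ A.2.J g⟩))) g T

theorem JE_le : JE q T ≤ T := iSup_le fun A => A.2.le

theorem JE_ne (hT : PG q T) (h0 : T ≠ ⊥) : JE q T ≠ ⊥ := by
  have hq := hT.prime_of_ne_bot h0
  obtain ⟨A, hA⟩ := exists_el_prk hq T
  obtain ⟨n, e⟩ := Nat.exists_eq_succ_of_ne_zero (prk_pos hq (hT.dvd_of_ne_bot h0)).ne'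
  exact ne_bot_mono (le_iSup (fun A : {A // El q (prk q T) A T} => A.1) ⟨A, hA⟩) (e ▸ hA).ne_bot

theorem JE_eq (hq : q.Prime) (hle : Y ≤ T) (h : ∀ A, El q (prk q T) A T → A ≤ Y) : JE q T = JE q Y := by
  obtain ⟨A, hA⟩ := exists_el_prk hq T
  have e : prk q Y = prk q T := le_antisymm (prk_mono q hle) (hA.of_le (h A hA)).le_prk
  exact le_antisymm (iSup_le fun A => le_iSup (fun A : {A // El q (prk q Y) A Y} => A.1)
    ⟨A.1, by rw [e]; exact A.2.of_le (h _ A.2)⟩) (iSup_le fun A => le_iSup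
      (fun A : {A // El q (prk q T) A T} => A.1) ⟨A.1, by rw [← e]; exact A.2.mono hle⟩)

theorem num_aux {k : ℕ} (hr : r.Prime) (l5 : r < 5) (hp : p.Prime) (h5 : 5 ≤ p) (c0 : 1 < r ^ k)
    (c8 : r ^ k ≤ r * r) (c9 : p ∣ r ^ k - 1) : False := by
  rw [← pow_two, Nat.pow_le_pow_iff_right hr.one_lt] at c8
  have l9 : p ≤ 8 := (Nat.le_of_dvd (by omega) c9).trans (by
    have : r ≠ 4 := by rintro rfl; exact absurd hr (by decide)
    have : r ^ k ≤ 3 ^ 2 := (Nat.pow_le_pow_left (by omega) _).trans (Nat.pow_le_pow_right (by omega) c8)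
    omega)
  interval_cases k <;> interval_cases r <;> interval_cases p <;> simp_all (config := {decide := true})

namespace FX
variable (f : FX p M X)
include f

theorem cycO : Cyc (Oc {p} M) := f.s.cyc f.h5 (Oc_pi _ _)

theorem syl : Syl p (Oc {p} M) ⊤ := by
  obtain ⟨S, hS⟩ := exists_syl p M
  have := f.s.ML_syl f.h5 f.ml hS
  rwa [le_antisymm ((cents_of_comm (comm_of_cyclic (f.s.cyc f.h5 hS.pi)) le_rfl
    (Oc_le_hall hS)).trans (f.s.ML_cent f.ml)) (Oc_le_hall hS)] at this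

theorem MX : M ≤ N(X) := (Oc_norm _ _).trans (cyc_norm f.cycO f.el.le)

theorem le_of_ne (hle : Y ≤ Oc {p} M) (h0 : Y ≠ ⊥) : X ≤ Y :=
  f.el.le_of_cyc f.cycO hle (((Oc_pi _ _).of_le hle).dvd_of_ne_bot h0)

theorem le_der : X ≤ ⁅M, M⁆ := by
  refine (f.le_of_ne (commg_le_left (Oc_norm _ M)) fun e => f.s.ns ?_).trans
    (commutator_mono (Oc_le _ _) le_rfl)
  have := H18.Burnside_normal_complement f.syl (by
    rw [f.ml.norm_Oc]; exact inf_le_right.trans (cents_symm (commg_eq_bot.1 e)))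
  rw [f.s.Oc_top {p}ᶜ f.pr (by simp) (f.el.mono le_top).dvd] at this
  have := this.pi'_of_eq_bot
  rw [compl_compl] at this
  exact this.sol

theorem cent_eq_one (hc : g ∈ C(X)) (h : PiE {p}ᶜ g) : g = 1 := by
  have n : zpowers g ≤ N(Oc {p} M) := (zpowers_le.2 (f.nX (cent_le_norm _ hc))).trans (Oc_norm _ _)
  have e := ab_commg_inf_cent (comm_of_cyclic f.cycO) n
    (cop_of_pg (piG_zpowers.2 h) (Oc_pi _ _)).symm
  by_cases h0 : ⁅Oc {p} M, zpowers g⁆ = ⊥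
  · exact ((Oc_pi _ _).elt (f.s.ML_cent f.ml (cents_symm (commg_eq_bot.1 h0)
      (mem_zpowers g)))).e_eq_one h
  · exact absurd (H19.eq_bot_mono (le_inf (f.le_of_ne (commg_le_left n) h0)
      (cents_symm (zpowers_le.2 hc))) e) f.el.ne_bot

theorem Mn (h : MY p X Y) : M ≤ N(Y) := f.MX.trans (f.norm_norm h)

theorem lt5 (h : MY p X Y) (hY : PG q Y) : q < 5 := by
  by_contra e
  exact h.2 (H19.eq_bot_mono (le_inf le_rfl (cents_symm (f.le_der.trans
    (H18.der1_cent_cyclic (f.s.cyc (not_lt.1 e) hY) (f.Mn h))))) h.1.prop.fpf)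

theorem norm_fac (h : MY p X Y) : N(Y) ≤ Y ⊔ M := by
  have := f.fac' (f.MY_ne h) h.1.prop.n (f.MY_M h)
  rw [(f.norm_eq h (f.MY_ne h) le_rfl).2] at this
  exact this.trans (sup_le_sup_left (inf_le_right.trans f.nX) _)

theorem dec (h : MY p X Y) (hY : PG q Y) (ha : a ∈ N(Y)) (h1 : PiE {q} a) (h2 : a ∉ Y) (hx : x ∈ X)
    (x1 : x ≠ 1) : ∃ y ∈ Y, ∃ z ∈ X, z ≠ 1 ∧ a⁻¹ * (x * a * x⁻¹) = y * z := by
  obtain ⟨y, hy, m, hm, rfl⟩ := (mem_sup_of_norm (f.Mn h)).1 (f.norm_fac h ha)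
  refine ⟨m⁻¹ * (y⁻¹ * (x * y * x⁻¹)) * m, conj_mem_of_norm' (f.Mn h hm) (mul_mem (inv_mem hy)
    (conj_mem_of_norm (h.1.prop.n hx) hy)), m⁻¹ * x * m * x⁻¹,
    mul_mem (conj_mem_of_norm' (f.MX hm) hx) (inv_mem hx), fun e => h2 ?_, by group⟩
  have c : m ∈ C(X) := by
    rw [cent_eq_cent1_of_prime f.prX hx x1, mem_cent1]
    rw [mul_inv_eq_one, mul_assoc, inv_mul_eq_iff_eq_mul] at e
    exact e.symm
  have hm' : PiE {q} m := (hY.sup (piG_zpowers.2 h1) (zpowers_le.2 ha)).elt (by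
    simpa using mul_mem (mem_sup_left (T := zpowers (y * m)) (inv_mem hy))
      (mem_sup_right (mem_zpowers (y * m))))
  have hne : q ≠ p := fun e => h.2 ((e ▸ hY).eq_bot h.1.prop.pi)
  rw [f.cent_eq_one c (hm'.sing_ne hne), mul_one]
  exact hy

theorem off (h : MY p X Y) (hY : PG q Y) (l1 : Y ≤ T) (l2 : T ≤ N(Y)) (hA : El q (prk q T) A T) :
    A ≤ Y := fun a ha => by
  by_contra h2
  have hq := hY.prime_of_ne_bot h.2
  have hne : q ≠ p := fun e => h.2 ((e ▸ hY).eq_bot h.1.prop.pi)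
  have nA : A ≤ N(Y) := hA.le.trans l2
  have yy := h.1.prop
  have hXY : Y ⊓ X = ⊥ := yy.pi.inf_eq_bot' f.el.pg
  have i1 : Y.relIndex A ≤ q := by
    by_contra e
    have := le_of_cent1 (L := ⊥) hq (abelem_quo hA.ab Y) (by rw [card_quo nA]; omega)
      ((quo_mono Y (nA.trans (f.norm_fac h))).trans (by
        rw [quo_sup_left (f.Mn h)]; exact quo_norms f.MX))
      ((f.el.pg.sing_ne hne.symm).quo Y) fun b hb b1 x hx => by
        obtain ⟨b, hb', rfl⟩ := mem_im.1 hb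
        obtain ⟨x', hx', rfl⟩ := mem_im.1 hx.1
        by_contra x1
        obtain ⟨y, hy, z, hz, z1, e⟩ := f.dec h hY b.2 (hA.pg.elt hb') (fun e => b1 (qmk_eq_one.2 e))
          hx' fun e => x1 (by rw [show x' = 1 from Subtype.ext e, map_one]; exact one_mem _)
        have m : (b : G)⁻¹ * (x' * b * (x' : G)⁻¹) ∈ Y := by
          have := mem_cent1.1 hx.2
          refine (qmk_eq (K := Y) (x := b) (y := x' * b * x'⁻¹)).1 ?_
          rw [map_mul, map_mul, this, map_inv, mul_inv_cancel_right]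
        rw [e] at m
        exact z1 (mem_bot.1 (hXY ▸ mem_inf.2 ⟨by simpa using mul_mem (inv_mem hy) m, hz⟩))
    exact f.el.ne_bot (H19.eq_bot_mono (le_inf ((quo_eq_bot_iff yy.n).1 (le_bot_iff.1 this)) le_rfl) hXY)
  obtain ⟨V, hV, hm⟩ := H18.minnormal_exists (hY.center_ne_bot h.2)
    (norms_inf (le_refl N(Y)) (norm_le_norm_cent Y))
  have hVY := hV.trans inf_le_left
  have cV : V ≤ C(Y) := hV.trans inf_le_right
  obtain ⟨r, hr, ab⟩ := H18.minnormal_abelem hm (hY.of_le hVY).sol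
  obtain rfl : r = q := (hY.of_le hVY).eq_of_dvd hr ((H19.abelem_pg hr ab).dvd_of_ne_bot hm.ne)
  have cB : Y ⊓ A ≤ C(V) := inf_le_left.trans (cents_symm cV)
  obtain ⟨n, hn⟩ := abelem_el hr (abelem_sup (abelem_mono hA.ab inf_le_right) ab cB)
    (sup_le (inf_le_left.trans l1) (hVY.trans l1))
  have c1 : #(Y ⊓ A ⊔ V) ≤ #A := by
    rw [hn.card, hA.card]; exact Nat.pow_le_pow_right hr.pos hn.le_prk
  have c2 := card_sup_mul_inf (norms_of_cents (cents_symm cB))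
  have c3 := card_inf_mul_relIndex Y A
  have c4 : #(Y ⊓ A ⊓ V) ≤ #(V ⊓ C[a]) := card_le (le_inf inf_le_right
    ((inf_le_left.trans inf_le_right).trans (hA.le_cent.trans (cent_le_cent1 ha))))
  have c5 : #V ≤ r * #(V ⊓ C[a]) := by
    refine Nat.le_of_mul_le_mul_left ?_ (H19.card_pos (Y ⊓ A))
    rw [← c2, ← mul_assoc]
    exact Nat.mul_le_mul (c1.trans (c3 ▸ Nat.mul_le_mul_left _ i1)) c4
  obtain ⟨x, x1, -, ex⟩ := f.el.exists_gen
  have hx : x ∈ X := ex ▸ mem_zpowers x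
  have nV : X ≤ N(V) := yy.n.trans hm.norm
  have fV : Semireg V X := fun z hz z1 => by
    rw [← cent_eq_cent1_of_prime f.prX hz z1]; exact (yy.sub hVY nV).fpf
  have d1 : (V ⊓ C[a]) ⊓ cj x (V ⊓ C[a]) = ⊥ := by
    obtain ⟨y, hy, z, hz, z1, e⟩ := f.dec h hY (nA ha) (hA.pg.elt ha) h2 hx x1
    rw [cj_inf, cj_cent1]
    refine H19.eq_bot_mono (fun v hv => mem_inf.2 ⟨hv.1.1, mem_cent1_symm.1 ?_⟩) (fV z hz z1)
    have m := mul_mem (inv_mem (mem_cent1_symm.1 hv.1.2)) (mem_cent1_symm.1 hv.2.2)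
    rw [e] at m
    simpa using mul_mem (inv_mem (cent_le_cent1 hv.1.1 (cents_symm cV hy))) m
  have l3 : cj x (V ⊓ C[a]) ≤ V := cj_le_of_mem_norm (nV hx) inf_le_left
  have c6 := card_le (sup_le inf_le_left l3 : (V ⊓ C[a]) ⊔ cj x (V ⊓ C[a]) ≤ V)
  rw [H19.card_sup_of_disjoint (norms_of_comm ab.1 l3 inf_le_left) d1, card_cj] at c6
  have c7 : #(V ⊓ C[a]) ≤ r := Nat.le_of_mul_le_mul_right (c6.trans c5) (H19.card_pos _)
  have c8 := c5.trans (Nat.mul_le_mul_left _ c7)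
  have c9 := H18.regular_norm_dvd_pred nV fV
  obtain ⟨k, ek⟩ := (H19.abelem_pg hr ab).exists_card
  have c0 := ne_bot_iff_one_lt_card.1 hm.ne
  rw [f.el.card1] at c9
  rw [ek] at c0 c8 c9
  exact num_aux hr (f.lt5 h hY) f.pr f.h5 c0 c8 c9

theorem norm_JE (h : MY p X Y) (hY : PG q Y) (hT : Syl q T N(Y)) : N(JE q T) = N(Y) := by
  have l : Y ≤ T := hT.le_of_norm' le_normalizer hY hT.le
  rw [JE_eq (hY.prime_of_ne_bot h.2) l fun A hA => f.off h hY l hT.le hA]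
  exact (f.norm_eq h (f.s.norm_ne (JE_ne hY h.2) (hY.of_le JE_le).sol)
    (norm_le_norm_of_equivariant _ cj_JE Y)).1

theorem uniq (h1 : MY p X Y) (h2 : MY p X Y') (p1 : PG q Y) (p2 : PG q Y') : N(Y) = N(Y') := by
  have key : ∀ {Y}, MY p X Y → PG q Y → ∃ T, Syl q T ⊤ ∧ N(JE q T) = N(Y) := fun {Y} a b => by
    obtain ⟨T, hT⟩ := exists_syl q N(Y)
    exact ⟨T, hT.syl_of_norm_le le_top (inf_le_right.trans
      ((norm_le_norm_of_equivariant _ cj_JE T).trans (f.norm_JE a b hT).le)), f.norm_JE a b hT⟩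
  obtain ⟨T1, s1, e1⟩ := key h1 p1
  obtain ⟨T2, s2, e2⟩ := key h2 p2
  obtain ⟨g, -, rfl⟩ := s2.sconj s1
  rw [← cj_JE, ← cj_norm, e2] at e1
  obtain ⟨l, hl, e⟩ := ((f.syl.Jtop g).of_le (e1 ▸ cj_mono g ((Oc_le _ _).trans (f.Mn h2))) le_top).sconj
    (f.syl.of_le ((Oc_le _ _).trans (f.Mn h1)) le_top)
  rw [cj_cj, ← mem_norm_iff_cj, f.ml.norm_Oc] at e
  rw [← cj_of_mem hl, ← e1, cj_cj, cj_of_mem (f.Mn h2 e)]

theorem false : False := by
  have cov : ∀ w, ∃ Y, MY p X Y ∧ w ∈ N(Y) := fun w => by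
    by_cases hw : w ∈ M
    · exact f.exists_MY.imp fun Y h => ⟨h, f.Mn h hw⟩
    · exact f.cover hw
  have ex : ∀ {Y}, MY p X Y → ∃ w, w ∉ N(Y) := fun h =>
    (SetLike.not_le_iff_exists.1 (mt top_le_iff.1 (f.MY_ne h))).imp fun _ h => h.2
  have pg : ∀ {Y}, MY p X Y → PG 2 Y ∨ PG 3 Y := fun h => by
    obtain ⟨q, hq, h1⟩ := f.exists_pg h.1.prop h.2
    have := f.lt5 h h1
    interval_cases q <;> first | exact absurd hq (by decide) | exact Or.inl h1 | exact Or.inr h1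
  obtain ⟨Y0, h0⟩ := f.exists_MY
  obtain ⟨w1, hw1⟩ := ex h0
  obtain ⟨Y1, h1, m1⟩ := cov w1
  have hne : N(Y0) ≠ N(Y1) := fun e => hw1 (e ▸ m1)
  have all : ∀ w, w ∈ N(Y0) ∨ w ∈ N(Y1) := fun w => by
    obtain ⟨Y, h, m⟩ := cov w
    rcases pg h0 with a | a <;> rcases pg h1 with b | b <;> rcases pg h with c | c <;>
      first | exact absurd (f.uniq h0 h1 a b) hne | exact Or.inl (f.uniq h h0 c a ▸ m)
            | exact Or.inr (f.uniq h h1 c b ▸ m)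
  obtain ⟨w0, hw0⟩ := ex h1
  rcases all (w0 * w1) with e | e
  · exact hw1 (by simpa using mul_mem (inv_mem ((all w0).resolve_right hw0)) e)
  · exact hw0 (by simpa using mul_mem e (inv_mem m1))

end FX

theorem M2.false (s : M2 G) : False := by
  by_cases h : ∃ p, p.Prime ∧ 5 ≤ p ∧ p ∣ #(⊤ : Subgroup G)
  · obtain ⟨p, hp, h5, hd⟩ := h
    obtain ⟨P, hP⟩ := exists_syl p (⊤ : Subgroup G)
    obtain ⟨M, X, f, -⟩ := s.exists_FX h5 hP (hP.sne_bot hp hd)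
    exact f.false
  · obtain ⟨a, b, e, ha, hb⟩ := exists_pi_factor {2} (card_ne_zero (⊤ : Subgroup G))
    have hb' : PiN {3} b := fun q hq hd => by
      have h2 : q ≠ 2 := hb.mem hq hd
      have h5 : q < 5 := not_le.1 fun h5 => h ⟨q, hq, h5, e ▸ hd.mul_left a⟩
      interval_cases q <;> first | exact absurd hq (by decide) | exact absurd rfl h2 | rfl
    have h0 := e ▸ card_ne_zero (⊤ : Subgroup G)
    obtain ⟨i, rfl⟩ := ha.exists_pow (left_ne_zero_of_mul h0)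
    obtain ⟨j, rfl⟩ := hb'.exists_pow (right_ne_zero_of_mul h0)
    exact s.ns (H5.isSolvable_of_card_dvd_prime_pow_mul Nat.prime_two Nat.prime_three e.dvd)

/-- **Thompson, Flavell**: two-generator criterion for solvability -/
theorem solvable_of_two (h : ∀ a b : G, Sol (closure ({a, b} : Set G))) : Group.IsSolvable G := by
  induction hk : Nat.card G using Nat.strong_induction_on generalizing G with | _ n ih =>
  subst hk
  by_contra ns
  have ns' : ¬ Sol (⊤ : Subgroup G) := fun e => ns (Group.isSolvable_of_surjective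
    (f := (⊤ : Subgroup G).subtype) fun g => ⟨⟨g, mem_top g⟩, rfl⟩)
  have sub : ∀ H : Subgroup G, H ≠ ⊤ → Sol H := fun H hH => by
    refine ih _ (by rw [← card_top (G := G)]; exact card_lt (lt_top_iff_ne_top.2 hH))
      (fun a b => ?_) rfl
    have := h a b
    rw [show ({(a : G), (b : G)} : Set G) = H.subtype '' {a, b} by simp [Set.image_pair],
      ← MonoidHom.map_closure] at this
    exact Group.isSolvable_of_isSolvable_injective (f := (equivMapOfInjective _ _ H.subtype_injective).toMonoidHom)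
      (MulEquiv.injective _)
  refine M2.false ⟨fun N hN => ?_, fun a b e => ns' (e ▸ h a b), sub, ns'⟩
  by_contra! e
  have : N.Normal := normalizer_eq_top_iff.1 hN
  have := sub N e.2
  have : Group.IsSolvable (G ⧸ N) := by
    refine ih _ ?_ (fun a b => ?_) rfl
    · rw [N.card_eq_card_quotient_mul_card_subgroup]
      exact lt_mul_right Nat.card_pos (ne_bot_iff_one_lt_card.1 e.1)
    · obtain ⟨a, rfl⟩ := QuotientGroup.mk'_surjective N a
      obtain ⟨b, rfl⟩ := QuotientGroup.mk'_surjective N b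
      have := h a b
      rw [← Set.image_pair, ← MonoidHom.map_closure]
      exact Group.isSolvable_of_surjective ((QuotientGroup.mk' N).subgroupMap_surjective _)
  exact ns (Group.isSolvable_of_ker_le_range N.subtype (QuotientGroup.mk' N) (by simp))

end H1
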