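/-
Consequences of the two-generator criterion.
-/
import Cfsg.Agent.H1.Fla3
import Cfsg.Agent.H20.FT

set_option autoImplicit false
set_option linter.unusedSectionVars false

open Cfsg Subgroup
open scoped Pointwise commutatorElement
namespace H1
open H19

universe u

variable {G : Type u} [Group G] [Finite G] {H K T : Subgroup G} {s t x y : G}

theorem sol_invol_pair (hs : s * s = 1) (ht : t * t = 1) : Sol (closure ({s, t} : Set G)) := by
  have n : zpowers s ≤ N(zpowers (s * t)) := zpowers_le.2 (mem_norm_iff_cj.2 (by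
    rw [cj_zpowers, ← zpowers_inv, mul_inv_rev, mul_inv_rev, inv_inv, mul_inv_rev,
      inv_eq_of_mul_eq_one_right hs, inv_eq_of_mul_eq_one_right ht, mul_assoc, hs,
      mul_one]))
  refine sol_mono (sol_sup (sol_zpowers _) (sol_zpowers s) n) ((closure_le _).2 ?_)
  refine Set.pair_subset (mem_sup_right (mem_zpowers _)) ?_
  have := mul_mem (mem_sup_right (S := zpowers (s * t)) (mem_zpowers s)) (mem_sup_left (mem_zpowers _))
  rwa [← mul_assoc, hs, one_mul] at this

theorem sol_of_pairs (h : ∀ a ∈ H, ∀ b ∈ H, Sol (closure ({a, b} : Set G))) : Sol H :=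
  solvable_of_two fun a b => by
    have := h a a.2 b b.2
    rw [show ({(a : G), (b : G)} : Set G) = H.subtype '' {a, b} by simp [Set.image_pair],
      ← MonoidHom.map_closure] at this
    exact Group.isSolvable_of_isSolvable_injective
      (f := (equivMapOfInjective _ _ H.subtype_injective).toMonoidHom) (MulEquiv.injective _)

theorem sol_map_iff (T : Subgroup G) [T.Normal] (hT : Sol T) :
    Sol (K.map (QuotientGroup.mk' T)) ↔ Sol K := by
  refine ⟨fun h => ?_, fun h => Group.isSolvable_of_surjective (MonoidHom.subgroupMap_surjective _ _)⟩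
  have : Sol (T ⊓ K) := sol_mono hT inf_le_left
  refine Group.isSolvable_of_ker_le_range (inclusion (inf_le_right : T ⊓ K ≤ K))
    ((QuotientGroup.mk' T).subgroupMap K) fun x hx => ⟨⟨x, ?_, x.2⟩, rfl⟩
  exact (QuotientGroup.eq_one_iff _).1 (congrArg Subtype.val hx)

theorem solvable_of_sol_subgroup
    (h : ∀ x : G, ∃ H : Subgroup G, (H : Set G) = {y | Sol (closure ({x, y} : Set G))}) :
    Group.IsSolvable G := by
  induction hk : Nat.card G using Nat.strong_induction_on generalizing G with | _ n ih =>
  subst hk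
  rcases Nat.even_or_odd (Nat.card G) with he | ho
  swap
  · exact H20.odd_solvable G ho
  let T : Subgroup G := closure {t | t * t = 1}
  have k : ∀ x : G, (∀ t, t * t = 1 → Sol (closure {x, t})) → ∀ y ∈ T, Sol (closure {x, y}) :=
    fun x hx y hy => by
      obtain ⟨H, e⟩ := h x
      exact (e.subset ((closure_le H).2 (fun t ht => e.symm.subset (hx t ht)) hy) :)
  have hT : Sol T := sol_of_pairs fun a ha b hb => k a (fun t ht => by
    rw [Set.pair_comm]; exact k t (fun s hs => sol_invol_pair ht hs) a ha) b hb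
  have : T.Normal := ⟨fun x hx g => mem_cj_inv.1 (cj_le_iff.1 (show cj g T ≤ T by
    rw [cj_closure]
    refine closure_mono ?_
    rintro _ ⟨t, ht, rfl⟩
    show g * t * g⁻¹ * (g * t * g⁻¹) = 1
    rw [conj_mul, show t * t = 1 from ht]; simp) hx)⟩
  have h0 : T ≠ ⊥ := by
    obtain ⟨t, ht⟩ := exists_prime_orderOf_dvd_card' (G := G) 2 he.two_dvd
    exact ne_bot_of_mem (subset_closure (show t * t = 1 by rw [← pow_two, ← ht, pow_orderOf_eq_one]))
      (by rintro rfl; simp at ht)
  have : Group.IsSolvable (G ⧸ T) := by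
    refine ih _ ?_ (fun x => ?_) rfl
    · rw [T.card_eq_card_quotient_mul_card_subgroup]
      exact lt_mul_right Nat.card_pos (ne_bot_iff_one_lt_card.1 h0)
    · obtain ⟨x, rfl⟩ := QuotientGroup.mk'_surjective T x
      obtain ⟨H, e⟩ := h x
      have key : ∀ y, Sol (closure {QuotientGroup.mk' T x, QuotientGroup.mk' T y}) ↔ y ∈ H := fun y => by
        rw [← Set.image_pair, ← MonoidHom.map_closure, sol_map_iff T hT, ← SetLike.mem_coe, e]
        rfl
      refine ⟨H.map (QuotientGroup.mk' T), Set.ext fun y => ⟨?_, fun hy => ?_⟩⟩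
      · rintro ⟨y, hy, rfl⟩
        exact (key y).2 hy
      · obtain ⟨y, rfl⟩ := QuotientGroup.mk'_surjective T y
        exact ⟨y, (key y).1 hy, rfl⟩
  exact Group.isSolvable_of_ker_le_range T.subtype (QuotientGroup.mk' T) (by simp)

end H1
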