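/-
Coordinates on `T / Z(T)`, `T ∈ Syl₂(M₂₄)`.
-/
import Cfsg.Agent.H1.Gd5
import Cfsg.Agent.H25.Sp.M24

set_option autoImplicit false
set_option linter.unusedSectionVars false
set_option maxRecDepth 100000

namespace H1.Gd
open Cfsg Subgroup H18 H17.GS
open H19 hiding eq_bot_mono

universe u

noncomputable def actT (c e : ℕ) : ℕ := H16.lk (nat_lit 0xcb3c31df6d74e39ebbf7cffe9a79258e2860b2dbafa68aea61969b75c7de4934115d655430d38f2482ca1871050c2040c70cf2d35db7efae78fbff3d9259a78608e2bafb2daeaa686586da71d79f4d245059751530d38f2482ca1871050c2040d74df6c31cb3f7cffee39ebb9259a78608e2b2dbafa68aea7de75c69b6195d655449341138f30d2ca2481871050c2040db7d35cf2c70fbff3defae789a79258e2860bafb2daeaa6879f71d6da6585975154d245038f30d2ca2481871050c2040ebbe39fbff3dc31cb3d35db7beeb6caeaa689649e68608e261969b71d79f49341159751534c3ce2482ca1c61440c2040e78efaf7cffecf2c70df6d74b6cbeea68aea9e69648e28606586da75c7de4d24505d655434c3ce2482ca1c61440c2040f3dfbfe39ebbd35db7c31cb3b6cbeea68aea9649e68608e279f71d69b6195975154934113ce34c2ca2481c61440c2040ffef7cefae78df6d74cf2c70beeb6caeaa689e69648e28607de75c6da6585d65544d24503ce34c2ca2481c61440c2040)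 (nat_lit 6) (nat_lit 63) (64 * c + e)
noncomputable def mT (c e : ℕ) : ℕ := H16.lk (nat_lit 0x21a977053b3e4c1de5688facb3e05397721ade54c1fac688) (nat_lit 3) (nat_lit 7) (8 * c + e)
noncomputable def cnt (c d : ℕ) : ℕ := ((Finset.range 64).filter fun f => actT c f = f ∧ actT d f = f).card

theorem actT_lt : ∀ c < 8, ∀ e < 64, actT c e < 64 := by decide +kernel
theorem mT_lt : ∀ c < 8, ∀ e < 8, mT c e < 8 := by decide +kernel
theorem cnt1 : ∀ c < 8, c ≠ 0 → cnt c c ≤ 16 ∧ (mT c c = 0 → cnt c c = 16) := by decide +kernel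
theorem cnt2 : ∀ c < 8, ∀ d < 8, c ≠ 0 → d ≠ 0 → c ≠ d → cnt c d ≤ 8 := by decide +kernel
theorem cnt2' : ∀ c < 8, ∀ d < 8, 8 ≤ cnt c d → ∀ f < 64, actT d (f ^^^ actT c f) = f ^^^ actT c f := by
  decide +kernel
theorem cnt3 : ∀ f < 64, (∀ c < 8, actT c f = f) → ∃ e < 64, ∃ c < 8, ∃ d < 8,
    f = (e ^^^ actT c e) ^^^ actT d (e ^^^ actT c e) := by decide +kernel
theorem xor_lt {e f : ℕ} (he : e < 64) (hf : f < 64) : e ^^^ f < 64 := Nat.xor_lt_two_pow (n := 6) he hf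

variable {G : Type u} [Group G] [Finite G] {K S : Subgroup G} {α δ : ℕ → G} {c d e f : ℕ} {x : G}

/-- coordinates -/
structure Co (α δ : ℕ → G) (S : Subgroup G) : Prop where
  mul : ∀ e < 64, ∀ f < 64, α e * α f = α (e ^^^ f)
  act : ∀ c < 8, ∀ e < 64, δ c * α e = α (actT c e) * δ c
  mul' : ∀ c < 8, ∀ d < 8, δ c * δ d = δ (mT c d)
  inj : ∀ e < 64, ∀ c < 8, ∀ f < 64, ∀ d < 8, α e * δ c = α f * δ d → e = f ∧ c = d
  mem : ∀ x, x ∈ S ↔ ∃ e < 64, ∃ c < 8, α e * δ c = x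

namespace Co
variable (h : Co α δ S)
include h

theorem map {G' : Type*} [Group G'] {φ : G →* G'} (hφ : Function.Injective φ) :
    Co (φ ∘ α) (φ ∘ δ) (S.map φ) where
  mul e he f hf := by simp [← map_mul, h.mul e he f hf]
  act c hc e he := by simp [← map_mul, h.act c hc e he]
  mul' e he f hf := by simp [← map_mul, h.mul' e he f hf]
  inj e he c hc f hf d hd k := h.inj e he c hc f hf d hd (hφ (by simpa using k))
  mem x := ⟨fun ⟨y, hy, k⟩ => let ⟨e, he, c, hc, l⟩ := (h.mem y).1 hy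
    ⟨e, he, c, hc, by simp [← k, ← l]⟩, fun ⟨e, he, c, hc, l⟩ =>
    ⟨_, (h.mem _).2 ⟨e, he, c, hc, rfl⟩, by simp [← l]⟩⟩

theorem a0 : α 0 = 1 := by simpa using h.mul 0 (by omega) 0 (by omega)
theorem d0 : δ 0 = 1 := by
  have := h.mul' 0 (by omega) 0 (by omega)
  rwa [show mT 0 0 = 0 by decide +kernel, mul_eq_left] at this
theorem sq (he : e < 64) : α e * α e = 1 := by rw [h.mul e he e he, Nat.xor_self, h.a0]
theorem inv (he : e < 64) : (α e)⁻¹ = α e := inv_eq_of_mul_eq_one_right (h.sq he)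
theorem comm (he : e < 64) (hf : f < 64) : α e * α f = α f * α e := by
  rw [h.mul e he f hf, h.mul f hf e he, Nat.xor_comm]
theorem injα (he : e < 64) (hf : f < 64) (k : α e = α f) : e = f :=
  (h.inj e he 0 (by omega) f hf 0 (by omega) (by rw [k])).1

/-- the abelian subgroup -/
def A : Subgroup G where
  carrier := {x | ∃ e < 64, α e = x}
  one_mem' := ⟨0, by omega, h.a0⟩
  mul_mem' := by
    rintro _ _ ⟨e, he, rfl⟩ ⟨f, hf, rfl⟩
    exact ⟨_, xor_lt he hf, (h.mul e he f hf).symm⟩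
  inv_mem' := by
    rintro _ ⟨e, he, rfl⟩
    exact ⟨e, he, (h.inv he).symm⟩

theorem memA (he : e < 64) : α e ∈ h.A := ⟨e, he, rfl⟩
theorem memS (he : e < 64) (hc : c < 8) : α e * δ c ∈ S := (h.mem _).2 ⟨e, he, c, hc, rfl⟩

theorem card (p : ℕ → Prop) [DecidablePred p] (k : ∀ e < 64, α e ∈ K ↔ p e) :
    #(h.A ⊓ K) = ((Finset.range 64).filter p).card := by
  have : ((h.A ⊓ K : Subgroup G) : Set G) = α '' ((Finset.range 64).filter p) := by
    ext x
    simp only [coe_inf, Set.mem_inter_iff, SetLike.mem_coe, Finset.coe_filter, Finset.mem_range,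
      Set.mem_image, Set.mem_ofPred_eq]
    exact ⟨fun ⟨⟨e, he, l⟩, l'⟩ => ⟨e, ⟨he, (k e he).1 (l ▸ l')⟩, l⟩,
      fun ⟨e, ⟨he, l'⟩, l⟩ => ⟨⟨e, he, l⟩, l ▸ (k e he).2 l'⟩⟩
  rw [← Set.ncard_coe_finset, ← Set.InjOn.ncard_image (f := α) (fun e he f hf => h.injα
    (by simpa using (Finset.mem_filter.1 he).1) (by simpa using (Finset.mem_filter.1 hf).1)), ← this]
  rfl

theorem cS : #S = 512 := by
  have : (S : Set G) = (fun p : ℕ × ℕ => α p.1 * δ p.2) '' (Finset.range 64 ×ˢ Finset.range 8 :) := by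
    ext x
    simp [h.mem x, and_assoc]
  rw [show 512 = (Finset.range 64 ×ˢ Finset.range 8).card by simp, ← Set.ncard_coe_finset,
    ← Set.InjOn.ncard_image (f := fun p : ℕ × ℕ => α p.1 * δ p.2) (fun p hp q hq k => by
      simp only [Finset.coe_product, Finset.coe_range, Set.mem_prod, Set.mem_Iio] at hp hq
      exact Prod.ext_iff.2 (h.inj _ hp.1 _ hp.2 _ hq.1 _ hq.2 k)), ← this]
  rfl

theorem notA (he : e < 64) (hc : c < 8) : α e * δ c ∈ h.A ↔ c = 0 :=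
  ⟨fun ⟨f, hf, k⟩ => (h.inj e he c hc f hf 0 (by omega) (by rw [h.d0, mul_one, k])).2,
    fun k => ⟨e, he, by rw [k, h.d0, mul_one]⟩⟩

theorem cm (hf : f < 64) (he : e < 64) (hc : c < 8) :
    α f * (α e * δ c) * (α f)⁻¹ * (α e * δ c)⁻¹ = α (f ^^^ actT c f) := by
  rw [← h.mul f hf _ (actT_lt c hc f hf), h.inv hf, mul_inv_eq_iff_eq_mul, mul_assoc, mul_assoc,
    h.act c hc f hf, ← mul_assoc (α e), h.comm he (actT_lt c hc f hf)]
  group

theorem cent (hf : f < 64) (he : e < 64) (hc : c < 8) : α f ∈ C[α e * δ c] ↔ actT c f = f := by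
  rw [mem_cent1, ← mul_inv_eq_one, mul_inv_rev, ← mul_assoc, h.cm hf he hc, ← h.a0]
  exact ⟨fun k => (Nat.xor_eq_zero_iff.1 (h.injα (xor_lt hf (actT_lt c hc f hf)) (by omega) k)).symm,
    fun k => by rw [k, Nat.xor_self]⟩

theorem c2 (he : e < 64) (hc : c < 8) (hf : f < 64) (hd : d < 8) :
    #(h.A ⊓ C[α e * δ c] ⊓ C[α f * δ d]) = cnt c d := by
  rw [inf_assoc]
  exact h.card _ fun g hg => by rw [mem_inf, h.cent hg he hc, h.cent hg hf hd]

theorem c1 (he : e < 64) (hc : c < 8) : #(h.A ⊓ C[α e * δ c]) = cnt c c := by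
  rw [← h.c2 he hc he hc, inf_assoc, inf_idem]

theorem norm : S ≤ N(h.A) := norms_of_commg_le (commg_le_iff.2 (by
  rintro _ ⟨f, hf, rfl⟩ x hx
  obtain ⟨e, he, c, hc, rfl⟩ := (h.mem x).1 hx
  exact h.cm hf he hc ▸ h.memA (xor_lt hf (actT_lt c hc f hf))))

theorem toMT : MT S h.A where
  pg := PiN.of_card_pow (k := 9) Nat.prime_two h.cS
  le := by rintro _ ⟨e, he, rfl⟩; simpa [h.d0] using h.memS he (c := 0) (by omega)
  norm := h.norm
  ab := abelem_of_sq (by rintro _ ⟨e, he, rfl⟩; exact h.sq he)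
  cA := by simpa using h.card (K := ⊤) (fun _ => True) (by simp)
  cS := h.cS
  nab k := by
    have m := fun c hc => h.memS (e := 0) (c := c) (by omega) hc
    simp only [h.a0, one_mul] at m
    obtain ⟨e, he, l⟩ := commg_le_iff.1 k _ (m 2 (by omega)) _ (m 4 (by omega))
    refine absurd (h.inj e he _ (mT_lt 4 (by omega) 2 (by omega)) 0 (by omega) _
      (mT_lt 2 (by omega) 4 (by omega)) ?_).2 (by decide +kernel)
    rw [l, h.a0, ← h.mul' 4 (by omega) 2 (by omega), ← h.mul' 2 (by omega) 4 (by omega)]; group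
  c16 x hx k := by
    obtain ⟨e, he, c, hc, rfl⟩ := (h.mem x).1 hx
    exact h.c1 he hc ▸ (cnt1 c hc (mt (h.notA he hc).2 k)).1
  e16 x hx k l := by
    obtain ⟨e, he, c, hc, rfl⟩ := (h.mem x).1 hx
    refine h.c1 he hc ▸ (cnt1 c hc (mt (h.notA he hc).2 k)).2 ((h.notA (xor_lt he (actT_lt c hc e he))
      (mT_lt c hc c hc)).1 ?_)
    rwa [← h.mul e he _ (actT_lt c hc e he), ← h.mul' c hc c hc, ← mul_assoc, mul_assoc (α e),
      ← h.act c hc e he, ← mul_assoc, mul_assoc _ (α e)]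
  c8 x hx y hy k1 k2 k3 := by
    obtain ⟨e, he, c, hc, rfl⟩ := (h.mem x).1 hx
    obtain ⟨f, hf, d, hd, rfl⟩ := (h.mem y).1 hy
    refine h.c2 he hc hf hd ▸ cnt2 c hc d hd (mt (h.notA he hc).2 k1) (mt (h.notA hf hd).2 k2) ?_
    rintro rfl
    exact k3 (by simpa [mul_assoc, h.a0] using (conj_mem_of_norm' (h.norm (h.memS (e := 0) (by omega) hc))
      (mul_mem (inv_mem (h.memA he)) (h.memA hf))))
  quad x hx y hy k := by
    obtain ⟨e, he, c, hc, rfl⟩ := (h.mem x).1 hx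
    obtain ⟨f, hf, d, hd, rfl⟩ := (h.mem y).1 hy
    rintro _ ⟨g, hg, rfl⟩
    rw [h.cm hg he hc, h.cent (xor_lt hg (actT_lt c hc g hg)) hf hd]
    exact cnt2' c hc d hd (h.c2 he hc hf hd ▸ k) g hg
  soc := by
    rintro _ ⟨⟨f, hf, rfl⟩, k⟩
    have z : 0 < 64 := by omega
    obtain ⟨e, he, c, hc, d, hd, rfl⟩ := cnt3 f hf fun c hc =>
      (h.cent hf z hc).1 (cent_le_cent1 (h.memS z hc) k)
    rw [← h.cm (xor_lt he (actT_lt c hc e he)) z hd, ← h.cm he z hc]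
    exact commutator_mem_commutator (commutator_mem_commutator (h.memA he) (h.memS z hc)) (h.memS z hd)

end Co

end H1.Gd
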