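/-
The Sylow 2-subgroup of `M₂₄` as `UT₅(2)`.
-/
import Cfsg.Agent.H1.Gd6

set_option autoImplicit false
set_option linter.unusedSectionVars false
set_option maxRecDepth 100000

namespace H1.Gd
open Cfsg Subgroup H16 H25

noncomputable def Ws2 : List (List ℕ) := [[nat_lit 0],
  [nat_lit 0, nat_lit 1],
  [nat_lit 1, nat_lit 4],
  [nat_lit 0, nat_lit 1, nat_lit 4, nat_lit 5],
  [nat_lit 1, nat_lit 2],
  [nat_lit 0, nat_lit 1, nat_lit 2, nat_lit 5, nat_lit 6, nat_lit 9],
  [nat_lit 0, nat_lit 2, nat_lit 3, nat_lit 7, nat_lit 8, nat_lit 9],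
  [nat_lit 3, nat_lit 4, nat_lit 5],
  [nat_lit 7],
  [nat_lit 0, nat_lit 2, nat_lit 3, nat_lit 4, nat_lit 5, nat_lit 6]]
noncomputable def Pd2 : List ℕ := [nat_lit 0x128859ca11399a15d9287ba951dd80,
  nat_lit 0xa45979caca73db55c12831c4119480,
  nat_lit 0xba894426117b8011da53398b55898d,
  nat_lit 0x332279caa4289b658528a5df01b940,
  nat_lit 0x158856ae307ba619286039a954dd88,
  nat_lit 0x23c419c9c6b45a559d28541971d680,
  nat_lit 0xbaaa55b6303ba419d80379a8440989,
  nat_lit 0xbc59468eca7ba754c160398a190888,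
  nat_lit 0xbb2341b6a47ba564040b398b098949,
  nat_lit 0x2a82202611399041da4d7baec5d2b3]
noncomputable def P2 (k i : ℕ) : ℕ := lk (nth (nat_lit 0) Pd2 k) (nat_lit 5) (nat_lit 31) i
noncomputable def r2 (k j : ℕ) : ℕ := lk (nat_lit 0x1802005008010028040080100000200400a014020040080100000000440881002004008010000000000080100200400c01000000000000010020050080100000000000000002404008010000000000000000000400801000000000000000000000080100000000000000000000000010000000000000000000000000) (nat_lit 10) (nat_lit 1023) (10 * k + j)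
noncomputable def nk2 (c _f : ℕ) : ℕ := lk (nat_lit 0x11111111111111111111111111111111222222222222222233333333333333331111111111111111111111111111111122222222222222223333333333333333111111111111111111111111111111112222222222222222333333333333333311111111111111111111111111111111222222222222222233333333333333331111111111111111111111111111111122222222222222223333333344444444111111111111111111111111111111112222222222222222333333334444444411111111111111111111111111111111222222222222222233333333444455551111111111111111111111111111111122222222222222223333333344445560) (nat_lit 4) (nat_lit 15) c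
/-- `0` iff the words agree modulo the centre -/
noncomputable def dz (W W' : List ℕ) : ℕ := Nat.mul (dfL P2 SM24.B W W') (dfL P2 SM24.B W (W' ++ [0]))

theorem dz1 : allZ2 (fun e f => dz (pw 1 6 f ++ pw 1 6 e) (pw 1 6 (e ^^^ f))) 64 64 = true := by
  decide +kernel
theorem dz2 : allZ2 (fun c e => dz (pw 1 6 e ++ pw 7 3 c) (pw 7 3 c ++ pw 1 6 (actT c e))) 8 64 = true := by
  decide +kernel
theorem dz3 : allZ2 (fun c d => dz (pw 7 3 d ++ pw 7 3 c) (pw 7 3 (mT c d))) 8 8 = true := by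
  decide +kernel
theorem act_surj : ∀ c < 8, ∀ e < 64, ∃ f < 64, actT c f = e := by decide +kernel

variable {G Ω : Type*} [Group G] [Finite G] [MulAction G Ω] {g t : ℕ → G} {pt : ℕ → Ω}

theorem res1 (h : Mod g pt H15.MM24.P 24 11 H15.MM24.B) :
    Mod (wds g SM24.Ws) (fun i => pt (SM24.idx i)) SM24.P 24 10 SM24.B :=
  h.res (by decide +kernel) (by decide +kernel)

theorem res2 (h : Mod g pt SM24.P 24 10 SM24.B) :
    Mod (wds g Ws2) (fun i => pt (SM24.idx i)) P2 24 10 SM24.B :=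
  h.res (by decide +kernel) (by decide +kernel)

theorem pc2 (h : Mod t pt P2 24 10 SM24.B) : PC t 10 :=
  h.pc (r := r2) (by decide +kernel) (by decide +kernel)

theorem cen2 (h : Mod t pt P2 24 10 SM24.B) : gen t 10 ⊓ cz (gen t 10) = gen t 1 := by
  refine le_antisymm (h.cen (lo := 1) (cnt := 9) (pc2 h) (nk := nk2) (by decide +kernel))
    (le_inf (gen_mono t (by omega)) (gen_le.2 fun j hj => ?_))
  obtain rfl : j = 0 := by omega
  refine le_cz_comm.1 (gen_le.2 fun k hk => ?_) (mem_zpowers _)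
  have := (h.df (by simp; omega) (by simp; omega)).1
    ((by decide +kernel : ∀ k < 10, dfL P2 SM24.B [0, k] [k, 0] = 0) k hk)
  exact mem_cz_zpowers.2 (by simpa [mul_inv_eq_iff_eq_mul] using this)

theorem co_of (h : Mod t pt P2 24 10 SM24.B) {Q : Type*} [Group Q] [Finite Q] (f : gen t 10 →* Q)
    (hf : Function.Surjective f) (hk : ∀ x, f x = 1 ↔ (x : G) ∈ gen t 1) :
    ∃ α δ : ℕ → Q, Co α δ ⊤ := by
  have hp := pc2 h
  have l1 : ∀ e, ∀ k ∈ pw 1 6 e, k < 10 := fun e => pw_lt (by omega)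
  have l2 : ∀ e, ∀ k ∈ pw 7 3 e, k < 10 := fun e => pw_lt (by omega)
  have key : ∀ {W W'} (hW : ∀ k ∈ W, k < 10) (hW' : ∀ k ∈ W', k < 10), dz W W' = 0 →
      f ⟨_, evA_mem_gen t hW⟩ = f ⟨_, evA_mem_gen t hW'⟩ := fun {W W'} hW hW' k => by
    rcases Nat.mul_eq_zero.1 k with k | k
    · exact congrArg f (Subtype.ext ((h.df hW hW').1 k))
    · have := (h.df hW (lt_app hW' (by simp))).1 k
      rw [← mul_inv_eq_one, ← map_inv, ← map_mul, hk]
      simpa [this, evA_append] using mem_gen t Nat.one_pos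
  have app : ∀ {W W'} (hW : ∀ k ∈ W, k < 10) (hW' : ∀ k ∈ W', k < 10),
      f ⟨_, evA_mem_gen t hW'⟩ * f ⟨_, evA_mem_gen t hW⟩ = f ⟨_, evA_mem_gen t (lt_app hW hW')⟩ :=
    fun hW hW' => by rw [← map_mul]; exact congrArg f (Subtype.ext (evA_append ..).symm)
  have act : ∀ c < 8, ∀ e < 64, f ⟨_, evA_mem_gen t (l2 c)⟩ * f ⟨_, evA_mem_gen t (l1 e)⟩ =
      f ⟨_, evA_mem_gen t (l1 (actT c e))⟩ * f ⟨_, evA_mem_gen t (l2 c)⟩ := fun c hc e he => by
    exact (app (l1 e) (l2 c)).trans ((key (lt_app (l1 e) (l2 c)) (lt_app (l2 c) (l1 _))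
      (allZ2_sound dz2 c hc e he)).trans (app (l2 c) (l1 _)).symm)
  refine ⟨fun e => f ⟨_, evA_mem_gen t (l1 e)⟩, fun c => f ⟨_, evA_mem_gen t (l2 c)⟩,
    fun e he e' he' => ?_, act, fun c hc d hd => ?_, fun e he c hc e' he' d hd k => ?_,
    fun x => iff_of_true (mem_top x) ?_⟩
  · exact (app (l1 e') (l1 e)).trans (key (lt_app (l1 e') (l1 e)) (l1 _) (allZ2_sound dz1 e he e' he'))
  · exact (app (l2 d) (l2 c)).trans (key (lt_app (l2 d) (l2 c)) (l2 _) (allZ2_sound dz3 c hc d hd))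
  · replace he := act_surj c hc e he
    replace he' := act_surj d hd e' he'
    obtain ⟨e, he, rfl⟩ := he
    obtain ⟨e', he', rfl⟩ := he'
    rw [← act c hc e he, ← act d hd e' he', ← inv_mul_eq_one, ← map_mul, ← map_mul, ← map_inv,
      ← map_mul, hk] at k
    replace k : (nf t 1 6 e)⁻¹ * ((nf t 7 3 c)⁻¹ * nf t 7 3 d) * nf t 1 6 e' ∈ gen t 1 := by
      simpa [nf, mul_assoc] using k
    have k' := gen_mono t (by omega : 1 ≤ 7) k
    have m : ∀ e, nf t 1 6 e ∈ gen t 7 := fun e => nf_mem (by omega)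
    rw [mul_mem_cancel_right (m _), mul_mem_cancel_left (inv_mem (m _))] at k'
    obtain rfl := hp.uniq (lo := 7) (cnt := 3) (by omega) hc hd k'
    obtain rfl := hp.uniq (lo := 1) (cnt := 6) (by omega) he he' (by simpa using k)
    exact ⟨rfl, rfl⟩
  · obtain ⟨x, rfl⟩ := hf x
    obtain ⟨c, hc, k⟩ := hp.1.exists (lo := 7) (cnt := 3) (by omega) x.2
    obtain ⟨e, he, k⟩ := hp.1.exists (lo := 1) (cnt := 6) (by omega) k
    refine ⟨_, actT_lt c hc e he, c, hc, ?_⟩
    rw [← act c hc e he, ← inv_mul_eq_one, ← map_mul, ← map_inv, ← map_mul, hk]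
    simpa [nf, mul_assoc] using k

theorem model24 : ∃ (g : ℕ → M24) (pt : ℕ → GolayPt), Mod g pt H15.MM24.P 24 11 H15.MM24.B ∧
    IsBase (⊤ : Subgroup M24) pt H15.MM24.B ∧ (∀ p, ∃ i < 24, p = pt i) ∧ Nat.card M24 = 244823040 := by
  have b : IsBase (⊤ : Subgroup M24) _ H15.MM24.B := fun a _ ha =>
    Subtype.ext (H15.MM24.isBase a (H15.MM24.gen_eq.ge a.2) ha)
  refine ⟨fun k => if hk : k < 11 then ⟨H15.MM24.g k, H15.MM24.gen_eq ▸ mem_gen _ hk⟩ else 1, _,
    ⟨fun k hk i hi => ⟨(H15.MM24.act k hk i hi).1, ?_⟩, H15.MM24.inj, H15.MM24.Blt, b.mono le_top⟩, b,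
    H15.exists_pt, H15.MM24.gen_eq ▸ H15.MM24.card⟩
  rw [← (H15.MM24.act k hk i hi).2, dif_pos hk]; rfl

theorem co24 (P : Sylow 2 M24) : Nat.card (center P) = 2 ∧
    ∃ α δ, Co α δ (⊤ : Subgroup (P ⧸ center P)) := by
  obtain ⟨g, pt, h, -, -, hc⟩ := model24
  replace h := res2 (res1 h)
  generalize wds (wds g SM24.Ws) Ws2 = t at h
  have hp := pc2 h
  have hi : ¬ 2 ∣ (gen t 10).index := by
    have := (gen t 10).card_mul_index
    rw [hp.card, hc] at this; omega
  have e : gen t 10 ≃* P := Sylow.equiv (hp.pg.toSylow hi) P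
  have k : ∀ x, e x ∈ center P ↔ (x : M24) ∈ gen t 1 := fun x => by
    rw [← cen2 h, mem_center_iff]
    refine ⟨fun k => ⟨x.2, mem_centralizer_iff.2 fun y hy => congrArg Subtype.val (e.injective
      (a₁ := ⟨y, hy⟩ * x) (a₂ := x * ⟨y, hy⟩) (by simp [k]))⟩, fun k y => ?_⟩
    obtain ⟨y, rfl⟩ := e.surjective y
    rw [← map_mul, ← map_mul]
    exact congrArg e (Subtype.ext (mem_centralizer_iff.1 k.2 y y.2))
  refine ⟨?_, co_of h ((QuotientGroup.mk' _).comp e.toMonoidHom)
    ((QuotientGroup.mk'_surjective _).comp e.surjective) fun x => by simp [← k]⟩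
  have : center P = ((gen t 1).subgroupOf (gen t 10)).map e.toMonoidHom := by
    ext x
    obtain ⟨x, rfl⟩ := e.surjective x
    rw [k, ← mem_subgroupOf]; exact (mem_map_iff_mem (f := e.toMonoidHom) e.injective).symm
  rw [this, card_map_of_injective e.injective, Nat.card_congr (subgroupOfEquivOfLe
    (gen_mono t (by omega))).toEquiv]
  exact PC.card ⟨fun k hk => hp.1 k (by omega), fun k hk => hp.2 k (by omega)⟩

end H1.Gd
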