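import Cfsg.Agent.H1.HQ1
import Cfsg.Agent.H6.DH4

/-! Soundness of the rule `rXT` (extremal conjugates). -/

set_option autoImplicit false
set_option linter.unusedSectionVars false

namespace H1.HQ
open Cfsg Subgroup H16 H1.Am H24.SS H19 H6.HS

universe u
variable {G : Type u} [Group G] [Finite G] {F H : Subgroup G} {p : Par} {el : ℕ → G} {N n x y a b c i j l q d : ℕ}
  {M mul : Mu} {g w : G} {us vs xs ys r : List ℕ} {s : St} {W L : Wl} {A : List Wl}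

theorem chi_cj (T : Tm F p el N M) (h : hmK p l N M c = true) (hx : x < N) (hy : y < N) (m : el x ∈ HL F l)
    (k : Cj (T.md.K ⊓ HL F l) (el x) (el y)) : chi c x = false → chi c y = false := by
  obtain ⟨ψ, e⟩ := T.chi h
  obtain ⟨g, g1, g2⟩ := k
  have a : el x ∈ T.md.K ⊓ HL F l := ⟨T.md.mem hx, m⟩
  have b : el y ∈ T.md.K ⊓ HL F l := g2 ▸ mul_mem (mul_mem g1 a) (inv_mem g1)
  rw [← sgn_one, ← sgn_one, ← e x hx a, ← e y hy b, show (⟨el y, b⟩ : ↥(T.md.K ⊓ HL F l)) =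
    ⟨g, g1⟩ * ⟨el x, a⟩ * ⟨g, g1⟩⁻¹ from Subtype.ext g2.symm, map_mul, map_mul, map_inv]
  intro z
  rw [z, mul_one, mul_inv_cancel]

theorem h2K_s (o : Ok F p el mul s) (hq : q < s.N) {k : List Wl → Bool} (e : h2K p (ff mul) s l c q d k L A = true) :
    (∀ r ∈ L, h0 r < s.N → n1 r 3 = d → chi c (h0 r) = true → ¬ Cj (HL F l) (el (h0 r)) (el q)) ∧ ∃ A, k A = true := by
  induction L generalizing A with
  | nil => exact ⟨nofun, A, e⟩
  | cons r L ih =>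
    have k : sel (Nat.beq (n1 r 3) d &&' chi c (h0 r)) (two A fun a W' A => one a fun e W =>
      force (sqn (ff mul) (n1 e 2) (h0 r)) (fun x => force (sqn (ff mul) (n1 e 2) q) fun y =>
        nfc p (ff mul) s l x y e W W') &&' h2K p (ff mul) s l c q d k L A) (h2K p (ff mul) s l c q d k L A) = true := e
    rcases sel_iff.1 k with ⟨-, k⟩ | ⟨j, k⟩
    · obtain ⟨a, W', A, rfl, k2⟩ := two_iff.1 k
      obtain ⟨e', W, rfl, k3⟩ := one_iff.1 k2
      rw [an_iff, force_eq, force_eq] at k3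
      refine ⟨List.forall_mem_cons.2 ⟨fun h _ _ z => ?_, (ih k3.2).1⟩, (ih k3.2).2⟩
      have a := sqn_s o.tm.md h (n1 e' 2)
      have b := sqn_s o.tm.md hq (n1 e' 2)
      refine nfc_s o a.1 b.1 k3.1 ?_
      rw [a.2, b.2]
      exact Cj.pow z _
    · refine ⟨List.forall_mem_cons.2 ⟨fun _ a b _ => ?_, (ih k).1⟩, (ih k).2⟩
      rw [b, Nat.beq_eq.mpr a] at j
      cases j

theorem h2Q_s (o : Ok F p el mul s) (hl : l < 2) (h : hmK p l s.N (ff mul) c = true) (co : 0 < s.co l) (hq : q < s.N)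
    (m : el q ∈ HL F l) (z : el q ^ 2 ^ s.co l = 1) {k : List Wl → Bool} (e : h2Q p (ff mul) s l c q k A = true) :
    (∀ y < s.N, Cj (HL F l) (el q) (el y) → chi c y = false) ∧ ∃ A, k A = true := by
  have T := o.tm
  rcases sel_iff.1 e with ⟨a, e⟩ | ⟨-, e⟩
  · refine ⟨fun y hy ⟨g, _, j⟩ => ?_, A, e⟩
    rw [Nat.beq_eq.mp a, T.md.e0, mul_one, mul_inv_cancel, eq_comm, ← z_iff T.md hy] at j
    rw [j, chi_zero]
  · rw [force_eq] at e
    refine ⟨fun y hy j => ?_, (h2K_s o hq e).2⟩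
    have m' : el y ∈ HL F l := let ⟨g, a, b⟩ := j; b ▸ mul_mem (mul_mem a m) (inv_mem a)
    obtain ⟨r, r1, r2⟩ := (o.tb hl).cov co y hy m' (Cj.pw1 j z)
    have R := (o.tb hl).rw r r1
    refine chi_cj T h R.lt hy R.mem (R.kj T r2) (Bool.eq_false_iff.2 fun v => ?_)
    exact (h2K_s o hq e).1 r r1 R.lt (by rw [← R.bod r2, olg_s T.md hq, Cj.og j]) v ((R.cj r2).trans j.symm)

theorem xtK_s {ex : List ℕ → Bool} {k1 : Kt} (e : xtK mul s l x y ex k1 L i = true) (h : r ∈ L) (k : ¬ ex r = true) :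
    ∃ i, k1 i mul (s.sEx [l, x, y, h0 r]) = true := by
  induction L generalizing i with
  | nil => cases h
  | cons r' L ih =>
    have j : sel (ex r') (xtK mul s l x y ex k1 L i) (k1 i mul (s.sEx [l, x, y, h0 r']) &&'
      force (Nat.succ i) (xtK mul s l x y ex k1 L)) = true := e
    rcases sel_iff.1 j with ⟨a, j⟩ | ⟨a, j⟩ <;> rcases List.mem_cons.1 h with rfl | h
    exacts [absurd a k, ih j h, ⟨_, (an_iff.1 j).1⟩, ih ((force_eq _ _).symm.trans (an_iff.1 j).2) h]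

theorem lmX_s (o : Ok F p el mul s) (R : Rw (HL F l) el s.N r) (e : Ex (HL F l) el s.N (el (h0 r)))
    (k : Cj (HL F l) (el x) (el (h0 r))) : ¬ lmX p s l x (n1 r 2) = true := fun c => by
  simp only [lmX, an_iff, Nat.beq_eq, Nat.blt_eq] at c
  obtain ⟨c1, rfl, c3, c4⟩ := c
  obtain ⟨y, hy, a, b⟩ := lmx o c1 c3 e k
  exact land_ne (R.of o.tm hy b) a c4

theorem sXT : Snd.{u} rXT := by
  intro G _ _ F p gl mul s A k1 k2 el hg h1 h2 o c
  have := Fact.mk Nat.prime_two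
  simp only [rXT, force_eq, an_iff, Nat.blt_eq, Nat.ble_eq, Nat.beq_eq] at c
  obtain ⟨c1, c2, c3, hl, hx, hy, c7, c8, c9, c10, c11, c12, c13, c14⟩ := c
  have T := o.tm
  generalize nm A 0 = md at *
  generalize nm A 1 = l at *
  generalize nm A 2 = x at *
  generalize nm A 3 = y at *
  generalize nm A 4 = c at *
  have B := o.tb hl
  have mx := (T.inL hx).1 c7
  have px := (sqn_z T.md hx).1 c10
  by_cases xy : Cj (HL F l) (el x) (el y)
  swap
  · rcases sel_iff.1 c14 with ⟨-, e⟩ | ⟨e, -⟩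
    · exact h2 _ _ _ el e (o.sNf ⟨hx, hy, xy⟩)
    · rcases oo_iff.1 c9 with z | z
      exacts [absurd (e ▸ z) Bool.false_ne_true, absurd (Nat.beq_eq.mp z ▸ Cj.rfl) xy]
  obtain ⟨r, r1, r2, r3, r4⟩ : ∃ r ∈ s.ct l, Cj (HL F l) (el x) (el (h0 r)) ∧ Ex (HL F l) el s.N (el (h0 r)) ∧
      (md = 2 → chi c (h0 r) = false) := by
    have fin : ∀ w < s.N, Cj (HL F l) (el x) (el w) → Ex (HL F l) el s.N (el w) →
        ∃ r ∈ s.ct l, bt (n1 r 2) w = true ∧ Cj (HL F l) (el x) (el (h0 r)) ∧ Ex (HL F l) el s.N (el (h0 r)) :=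
      fun w hw a b => by
        obtain ⟨r, r1, r2⟩ := B.cov c2 w hw (let ⟨g, u, v⟩ := a; v ▸ mul_mem (mul_mem u mx) (inv_mem u)) (Cj.pw1 a px)
        exact ⟨r, r1, r2, a.trans ((B.rw r r1).cj r2).symm, (B.rw r r1).bex T r2 b⟩
    by_cases m2 : md = 2
    swap
    · obtain ⟨w, hw, a, b⟩ := T.ex (o.sy c1) hx mx
      obtain ⟨r, r1, -, r2, r3⟩ := fin w hw a b
      exact ⟨r, r1, r2, r3, fun z => absurd z m2⟩
    subst m2
    have d := (oo_iff.1 ((sel_iff.1 c14).resolve_left fun z => absurd z.1 (by decide)).2).resolve_left (by decide)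
    rw [an_iff, an_iff, Bool.not_eq_true', ← T.fi x hx] at d
    obtain ⟨d1, d2, d3⟩ := d
    have q1 := T.md.ml hx hx
    have q2 := T.md.ml q1.1 q1.1
    have e1 : el (ff mul x x) = el x ^ 2 ^ (0 + 1) := by rw [q1.2, zero_add, pow_one, sq]
    have e2 : el (ff mul (ff mul x x) (ff mul x x)) = el x ^ 2 ^ (1 + 1) := by rw [q2.2, e1, ← pow_add]; rfl
    have pp : ∀ j, (el x ^ j) ^ 2 ^ s.co l = 1 := fun j => by rw [← pow_mul, mul_comm, pow_mul, px, one_pow]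
    obtain ⟨a1, A', d4⟩ := h2Q_s o hl d2 c2 q1.1 (e1 ▸ pow_mem mx _) (e1 ▸ pp _) d3
    obtain ⟨a2, -⟩ := h2Q_s o hl d2 c2 q2.1 (e2 ▸ pow_mem mx _) (e2 ▸ pp _) d4
    obtain ⟨ψ, e⟩ := T.chi d2
    obtain ⟨P, p1, p2, p3⟩ := H25.exists_syl_ge (p := 2) (X := zpowers (el x)) (H := HL F l ⊓ C[el x])
      (T.pgl (zpowers_le.2 (T.md.mem hx))) (zpowers_le.2 ⟨mx, mem_cent1_self _⟩)
    obtain ⟨g, g1, g2, g3, g4⟩ := ext1 (T.sylH (o.sy c1)) ψ px mx (fun φ => T.nohom φ d1) (fun j g a b => by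
      obtain ⟨z, hz, v⟩ := b.1
      have : ∀ t k, el z = t → ψ ⟨t, k⟩ = sgn (chi c z) := by rintro _ k rfl; exact e z hz k
      rw [this _ b v, sgn_one]
      rcases j with _ | _ | j
      · exact a1 z hz ⟨g, a, e1 ▸ v.symm⟩
      · exact a2 z hz ⟨g, a, e2 ▸ v.symm⟩
      · obtain ⟨k, z1⟩ : 2 ^ s.co l ∣ 2 ^ (j + 1 + 1 + 1) := pow_dvd_pow 2 (by omega)
        rw [z1, pow_mul, px, one_pow, mul_one, mul_inv_cancel, ← z_iff T.md hz] at v
        rw [v, chi_zero]) p2 p3.1 (p1 (mem_zpowers _))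
    obtain ⟨w, hw, v⟩ := g3.1
    obtain ⟨r, r1, r2, r3, r4⟩ := fin w hw ⟨g, g1, v.symm⟩ (v ▸ T.ex_cj p3 g1 (g2.trans inf_le_left))
    refine ⟨r, r1, r3, r4, fun _ => chi_cj T d2 hw (B.rw r r1).lt (v ▸ g3.2) ((B.rw r r1).kj T r2).symm ?_⟩
    rw [← sgn_one, ← e w hw (v ▸ g3), ← g4]
    congr 2
  have R := B.rw r r1
  have ry := xy.symm.trans r2
  obtain ⟨i, e⟩ := xtK_s c13 r1 (by
    simp only [oo_iff, an_iff, nt_iff, Nat.beq_eq, Nat.blt_eq, bq_iff, not_or, not_not]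
    refine ⟨by rw [R.od, olg_s T.md hx, Cj.og r2], ?_, T.fb_cj hx R.lt r2.isConj, fun z => ?_,
      fun z => by rw [r4 z.1] at z; exact absurd z.2 Bool.false_ne_true, lmX_s o R r3 r2, lmX_s o R r3 ry⟩
    · obtain ⟨g, u, hu, g1, g2, z⟩ := o.wk1 (x := sel (Nat.beq (nm A 5) 0) x y) (by rw [sel_beq]; split_ifs <;> assumption) c12
      rw [← (B.rw _ (row_mem z)).bsz T z, R.sz, not_lt]
      refine T.ex_le r3 hu ((Cj.symm ⟨g, g2.ev c11, g1⟩).trans ?_)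
      rw [sel_beq]; split_ifs <;> assumption
    · cases e : bt s.yb x ||' bt s.yb y <;> rw [e] at z
      · cases e' : bt s.nb x ||' bt s.nb y <;> rw [e'] at z
        · exact bt_zero z
        · rcases oo_iff.1 e' with v | v
          exacts [(o.nb _ v).2 ((o.yb _ z).2.trans r2.isConj.symm), (o.nb _ v).2 ((o.yb _ z).2.trans ry.isConj.symm)]
      · rcases oo_iff.1 e with v | v
        exacts [(o.nb _ z).2 ((o.yb _ v).2.trans r2.isConj), (o.nb _ z).2 ((o.yb _ v).2.trans ry.isConj)])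
  refine h1 _ _ _ el e (o.sEx fun _ => ⟨fun j hj => ?_, R.mem, r3⟩)
  rcases j with _ | _ | _ | j
  exacts [⟨hx, r2⟩, ⟨hy, ry⟩, ⟨R.lt, Cj.rfl⟩, absurd hj (by omega)]

end H1.HQ
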