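import Cfsg.Agent.H1.Hd10

/-! The two machines; the possible actions. -/

set_option autoImplicit false
set_option maxRecDepth 100000
set_option maxHeartbeats 4000000
set_option linter.unusedVariables false

namespace H1.Hd
open H0.PM H16 Subgroup

noncomputable def mv (h : ℕ) (A : List ℕ) : List ℕ → Bool :=
  List.rec (motive := fun _ => List ℕ → Bool) (fun _ => false) (fun a _ ih B =>
    List.rec (motive := fun _ => Bool) false (fun b B' _ => Bool.rec (motive := fun _ => Bool) true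
      (ih B') (Nat.beq (mm h a) (mm b h))) B) A

noncomputable def trK (As Bs l : List ℕ) : Bool :=
  allP o (fun h => force h fun h => mv h As Bs || elem h l) LH o.one

noncomputable def trW (cl : List ℕ) (A B : List (List ℕ)) (w : List ℕ) (Wz : List (List ℕ))
    (L : List (ℕ × List (List ℕ))) (As Bs : List ℕ) : Bool :=
  Nat.beq (cchk cl A B w Wz cz) cz && allH A (L.map Prod.fst) &&
    Nat.beq (neL (L.map fun p => nth o.one cl p.1) As) 0 &&
    Nat.beq (neL (L.map fun p => cchk cl A B w p.2 (nth o.one cl p.1)) Bs) 0 &&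
    Bs.all (Nat.blt 0)

noncomputable abbrev HS.cs' : List ℕ := cs

noncomputable def WH : List (List (List ℕ)) := [[[], [(nat_lit 0)], [(nat_lit 2)], [(nat_lit 2), (nat_lit 0)], [(nat_lit 5)], [(nat_lit 5), (nat_lit 0)], [(nat_lit 5), (nat_lit 2)], [(nat_lit 5), (nat_lit 2), (nat_lit 0)], [(nat_lit 9)], [(nat_lit 9), (nat_lit 0)], [(nat_lit 9), (nat_lit 2)], [(nat_lit 9), (nat_lit 2), (nat_lit 0)], [(nat_lit 9), (nat_lit 5)], [(nat_lit 9), (nat_lit 5), (nat_lit 0)], [(nat_lit 9), (nat_lit 5), (nat_lit 2)], [(nat_lit 9), (nat_lit 5), (nat_lit 2), (nat_lit 0)]],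
  [[(nat_lit 4), (nat_lit 11), (nat_lit 10), (nat_lit 11), (nat_lit 10), (nat_lit 4)], [(nat_lit 4), (nat_lit 11), (nat_lit 10), (nat_lit 11), (nat_lit 10)], [(nat_lit 7), (nat_lit 4), (nat_lit 11), (nat_lit 10), (nat_lit 11), (nat_lit 4)], [(nat_lit 7), (nat_lit 4), (nat_lit 11), (nat_lit 10), (nat_lit 11)], [(nat_lit 8), (nat_lit 4), (nat_lit 10), (nat_lit 11), (nat_lit 10), (nat_lit 4)], [(nat_lit 8), (nat_lit 4), (nat_lit 10), (nat_lit 11), (nat_lit 10)], [(nat_lit 8), (nat_lit 4), (nat_lit 10), (nat_lit 11), (nat_lit 10), (nat_lit 7)], [(nat_lit 7), (nat_lit 4), (nat_lit 11), (nat_lit 10), (nat_lit 11), (nat_lit 8)], [(nat_lit 7), (nat_lit 11), (nat_lit 8), (nat_lit 10), (nat_lit 8), (nat_lit 4)], [(nat_lit 7), (nat_lit 11), (nat_lit 8), (nat_lit 10), (nat_lit 8)], [(nat_lit 7), (nat_lit 4), (nat_lit 11), (nat_lit 10), (nat_lit 8), (nat_lit 4)], [(nat_lit 7), (nat_lit 4), (nat_lit 11), (nat_lit 10), (nat_lit 8)], [(nat_lit 7), (nat_lit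 11), (nat_lit 8), (nat_lit 10), (nat_lit 4)], [(nat_lit 7), (nat_lit 11), (nat_lit 8), (nat_lit 10)], [(nat_lit 7), (nat_lit 4), (nat_lit 11), (nat_lit 10), (nat_lit 4)], [(nat_lit 7), (nat_lit 4), (nat_lit 11), (nat_lit 10)], [(nat_lit 7), (nat_lit 11), (nat_lit 8), (nat_lit 10), (nat_lit 11), (nat_lit 4)], [(nat_lit 7), (nat_lit 11), (nat_lit 8), (nat_lit 10), (nat_lit 11)], [(nat_lit 4), (nat_lit 10), (nat_lit 11), (nat_lit 10), (nat_lit 8), (nat_lit 4)], [(nat_lit 4), (nat_lit 10), (nat_lit 11), (nat_lit 10), (nat_lit 8)], [(nat_lit 4), (nat_lit 10), (nat_lit 11), (nat_lit 10), (nat_lit 7)], [(nat_lit 4), (nat_lit 10), (nat_lit 11), (nat_lit 4), (nat_lit 10)], [(nat_lit 4), (nat_lit 10), (nat_lit 11), (nat_lit 10), (nat_lit 4)], [(nat_lit 4), (nat_lit 10), (nat_lit 11), (nat_lit 10)], [(nat_lit 8), (nat_lit 10), (nat_lit 7), (nat_lit 11), (nat_lit 7), (nat_lit 4)], [(nat_lit 8), (nat_lit 10), (nat_lit 7), (nat_lit 11), (nat_lit 4)],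 [(nat_lit 8), (nat_lit 10), (nat_lit 7), (nat_lit 11), (nat_lit 7)], [(nat_lit 8), (nat_lit 10), (nat_lit 7), (nat_lit 11)], [(nat_lit 8), (nat_lit 4), (nat_lit 10), (nat_lit 11), (nat_lit 7), (nat_lit 4)], [(nat_lit 8), (nat_lit 4), (nat_lit 10), (nat_lit 11)], [(nat_lit 8), (nat_lit 4), (nat_lit 10), (nat_lit 11), (nat_lit 7)], [(nat_lit 8), (nat_lit 4), (nat_lit 10), (nat_lit 11), (nat_lit 4)], [(nat_lit 8), (nat_lit 10), (nat_lit 8)], [(nat_lit 8), (nat_lit 10), (nat_lit 8), (nat_lit 4)], [(nat_lit 8), (nat_lit 10), (nat_lit 8), (nat_lit 7)], [(nat_lit 8), (nat_lit 10), (nat_lit 7), (nat_lit 8)], [(nat_lit 8), (nat_lit 10), (nat_lit 11), (nat_lit 8)], [(nat_lit 8), (nat_lit 10), (nat_lit 4), (nat_lit 11)], [(nat_lit 8), (nat_lit 10), (nat_lit 11), (nat_lit 8), (nat_lit 7)], [(nat_lit 8), (nat_lit 10), (nat_lit 4), (nat_lit 11), (nat_lit 7)], [(nat_lit 8), (nat_lit 10)], [(nat_lit 8), (nat_lit 10), (nat_lit 4)], [(nat_lit 8), (nat_lit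 4), (nat_lit 10)], [(nat_lit 8), (nat_lit 10), (nat_lit 7)], [(nat_lit 8), (nat_lit 10), (nat_lit 11)], [(nat_lit 8), (nat_lit 10), (nat_lit 11), (nat_lit 4)], [(nat_lit 8), (nat_lit 10), (nat_lit 11), (nat_lit 7), (nat_lit 4)], [(nat_lit 8), (nat_lit 10), (nat_lit 11), (nat_lit 7)], [(nat_lit 8), (nat_lit 10), (nat_lit 7), (nat_lit 11), (nat_lit 10), (nat_lit 4)], [(nat_lit 4), (nat_lit 11), (nat_lit 10), (nat_lit 11), (nat_lit 8)], [(nat_lit 4), (nat_lit 11), (nat_lit 10), (nat_lit 4), (nat_lit 11)], [(nat_lit 8), (nat_lit 10), (nat_lit 7), (nat_lit 11), (nat_lit 10)], [(nat_lit 4), (nat_lit 11), (nat_lit 10), (nat_lit 11), (nat_lit 7), (nat_lit 4)], [(nat_lit 4), (nat_lit 11), (nat_lit 10), (nat_lit 11)], [(nat_lit 4), (nat_lit 11), (nat_lit 10), (nat_lit 11), (nat_lit 4)], [(nat_lit 4), (nat_lit 11), (nat_lit 10), (nat_lit 11), (nat_lit 7)], [(nat_lit 11), (nat_lit 8), (nat_lit 10), (nat_lit 8)], [(nat_lit 11), (nat_lit 8), (nat_lit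 10), (nat_lit 8), (nat_lit 4)], [(nat_lit 4), (nat_lit 11), (nat_lit 10), (nat_lit 8)], [(nat_lit 4), (nat_lit 11), (nat_lit 10), (nat_lit 8), (nat_lit 4)], [(nat_lit 10), (nat_lit 11), (nat_lit 8), (nat_lit 10)], [(nat_lit 10), (nat_lit 11), (nat_lit 8), (nat_lit 10), (nat_lit 4)], [(nat_lit 10), (nat_lit 4), (nat_lit 11), (nat_lit 10), (nat_lit 4)], [(nat_lit 10), (nat_lit 4), (nat_lit 11), (nat_lit 10)], [(nat_lit 11), (nat_lit 8), (nat_lit 10), (nat_lit 11)], [(nat_lit 11), (nat_lit 8), (nat_lit 10), (nat_lit 11), (nat_lit 4)], [(nat_lit 11), (nat_lit 8), (nat_lit 10), (nat_lit 11), (nat_lit 7), (nat_lit 4)], [(nat_lit 11), (nat_lit 8), (nat_lit 10), (nat_lit 11), (nat_lit 7)], [(nat_lit 11), (nat_lit 8), (nat_lit 10)], [(nat_lit 11), (nat_lit 8), (nat_lit 10), (nat_lit 4)], [(nat_lit 4), (nat_lit 11), (nat_lit 10)], [(nat_lit 4), (nat_lit 11), (nat_lit 10), (nat_lit 4)], [(nat_lit 7), (nat_lit 11), (nat_lit 7)], [(nat_lit 7), (nat_lit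 11)], [(nat_lit 7), (nat_lit 11), (nat_lit 7), (nat_lit 4)], [(nat_lit 7), (nat_lit 11), (nat_lit 4)], [], [(nat_lit 7)], [(nat_lit 4)], [(nat_lit 7), (nat_lit 4)], [(nat_lit 11)], [(nat_lit 11), (nat_lit 7)], [(nat_lit 11), (nat_lit 4)], [(nat_lit 11), (nat_lit 7), (nat_lit 4)], [(nat_lit 7), (nat_lit 4), (nat_lit 11), (nat_lit 7)], [(nat_lit 7), (nat_lit 11), (nat_lit 8)], [(nat_lit 7), (nat_lit 11), (nat_lit 8), (nat_lit 7)], [(nat_lit 7), (nat_lit 4), (nat_lit 11)], [(nat_lit 8)], [(nat_lit 7), (nat_lit 8)], [(nat_lit 8), (nat_lit 4)], [(nat_lit 8), (nat_lit 7)], [(nat_lit 11), (nat_lit 8)], [(nat_lit 4), (nat_lit 11), (nat_lit 7)], [(nat_lit 4), (nat_lit 11)], [(nat_lit 11), (nat_lit 8), (nat_lit 7)], [(nat_lit 7), (nat_lit 11), (nat_lit 10), (nat_lit 7)], [(nat_lit 7), (nat_lit 11), (nat_lit 10)], [(nat_lit 7), (nat_lit 11), (nat_lit 10), (nat_lit 4)], [(nat_lit 7), (nat_lit 11), (nat_lit 4), (nat_lit 10)], [(nat_lit 11), (nat_lit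 10), (nat_lit 11), (nat_lit 10)], [(nat_lit 7), (nat_lit 11), (nat_lit 10), (nat_lit 11)], [(nat_lit 11), (nat_lit 10), (nat_lit 11), (nat_lit 10), (nat_lit 4)], [(nat_lit 7), (nat_lit 11), (nat_lit 10), (nat_lit 11), (nat_lit 4)], [(nat_lit 10), (nat_lit 11), (nat_lit 10)], [(nat_lit 10), (nat_lit 11), (nat_lit 10), (nat_lit 7)], [(nat_lit 10), (nat_lit 11), (nat_lit 10), (nat_lit 4)], [(nat_lit 10), (nat_lit 11), (nat_lit 4), (nat_lit 10)], [(nat_lit 7), (nat_lit 11), (nat_lit 10), (nat_lit 7), (nat_lit 8)], [(nat_lit 7), (nat_lit 11), (nat_lit 10), (nat_lit 8)], [(nat_lit 7), (nat_lit 11), (nat_lit 10), (nat_lit 8), (nat_lit 4)], [(nat_lit 7), (nat_lit 11), (nat_lit 10), (nat_lit 8), (nat_lit 7)], [(nat_lit 10), (nat_lit 11), (nat_lit 10), (nat_lit 8)], [(nat_lit 10), (nat_lit 11), (nat_lit 10), (nat_lit 7), (nat_lit 8)], [(nat_lit 10), (nat_lit 11), (nat_lit 10), (nat_lit 8), (nat_lit 4)], [(nat_lit 10), (nat_lit 11), (nat_lit 10),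 (nat_lit 8), (nat_lit 7)], [(nat_lit 8), (nat_lit 10), (nat_lit 11), (nat_lit 10)], [(nat_lit 7), (nat_lit 11), (nat_lit 10), (nat_lit 11), (nat_lit 8)], [(nat_lit 8), (nat_lit 10), (nat_lit 11), (nat_lit 10), (nat_lit 4)], [(nat_lit 8), (nat_lit 10), (nat_lit 11), (nat_lit 10), (nat_lit 7)], [(nat_lit 10), (nat_lit 7), (nat_lit 11), (nat_lit 7)], [(nat_lit 10), (nat_lit 7), (nat_lit 11)], [(nat_lit 10), (nat_lit 7), (nat_lit 11), (nat_lit 7), (nat_lit 4)], [(nat_lit 10), (nat_lit 7), (nat_lit 11), (nat_lit 4)], [(nat_lit 10)], [(nat_lit 10), (nat_lit 7)], [(nat_lit 4), (nat_lit 10)], [(nat_lit 10), (nat_lit 4)], [(nat_lit 10), (nat_lit 11)], [(nat_lit 10), (nat_lit 11), (nat_lit 7)], [(nat_lit 10), (nat_lit 11), (nat_lit 7), (nat_lit 4)], [(nat_lit 10), (nat_lit 11), (nat_lit 4)], [(nat_lit 10), (nat_lit 8)], [(nat_lit 10), (nat_lit 7), (nat_lit 8)], [(nat_lit 10), (nat_lit 8), (nat_lit 7)], [(nat_lit 10), (nat_lit 8), (nat_lit 4)],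 [(nat_lit 10), (nat_lit 11), (nat_lit 8)], [(nat_lit 10), (nat_lit 4), (nat_lit 11), (nat_lit 7)], [(nat_lit 10), (nat_lit 11), (nat_lit 8), (nat_lit 7)], [(nat_lit 10), (nat_lit 4), (nat_lit 11)], [(nat_lit 4), (nat_lit 10), (nat_lit 11), (nat_lit 7)], [(nat_lit 4), (nat_lit 10), (nat_lit 11), (nat_lit 4)], [(nat_lit 4), (nat_lit 10), (nat_lit 11), (nat_lit 7), (nat_lit 4)], [(nat_lit 4), (nat_lit 10), (nat_lit 11)], [(nat_lit 11), (nat_lit 10), (nat_lit 7), (nat_lit 11)], [(nat_lit 10), (nat_lit 7), (nat_lit 11), (nat_lit 10)], [(nat_lit 10), (nat_lit 7), (nat_lit 11), (nat_lit 10), (nat_lit 4)], [(nat_lit 11), (nat_lit 10), (nat_lit 7), (nat_lit 11), (nat_lit 4)], [(nat_lit 11), (nat_lit 10), (nat_lit 11)], [(nat_lit 11), (nat_lit 10), (nat_lit 11), (nat_lit 7)], [(nat_lit 11), (nat_lit 10), (nat_lit 11), (nat_lit 7), (nat_lit 4)], [(nat_lit 11), (nat_lit 10), (nat_lit 11), (nat_lit 4)], [(nat_lit 11), (nat_lit 10)], [(nat_lit 11),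 (nat_lit 10), (nat_lit 7)], [(nat_lit 11), (nat_lit 4), (nat_lit 10)], [(nat_lit 11), (nat_lit 10), (nat_lit 4)], [(nat_lit 11), (nat_lit 10), (nat_lit 8)], [(nat_lit 11), (nat_lit 10), (nat_lit 7), (nat_lit 8)], [(nat_lit 11), (nat_lit 10), (nat_lit 8), (nat_lit 7)], [(nat_lit 11), (nat_lit 10), (nat_lit 8), (nat_lit 4)], [(nat_lit 11), (nat_lit 10), (nat_lit 11), (nat_lit 8)], [(nat_lit 11), (nat_lit 10), (nat_lit 4), (nat_lit 11), (nat_lit 7)], [(nat_lit 11), (nat_lit 10), (nat_lit 11), (nat_lit 8), (nat_lit 7)], [(nat_lit 11), (nat_lit 10), (nat_lit 4), (nat_lit 11)], [(nat_lit 11), (nat_lit 4), (nat_lit 10), (nat_lit 11), (nat_lit 4)], [(nat_lit 11), (nat_lit 4), (nat_lit 10), (nat_lit 11), (nat_lit 7)], [(nat_lit 11), (nat_lit 4), (nat_lit 10), (nat_lit 11), (nat_lit 7), (nat_lit 4)], [(nat_lit 11), (nat_lit 4), (nat_lit 10), (nat_lit 11)]],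
  [[], [(nat_lit 6)], [(nat_lit 3)], [(nat_lit 6), (nat_lit 3)], [(nat_lit 1)], [(nat_lit 6), (nat_lit 1)], [(nat_lit 3), (nat_lit 1)], [(nat_lit 6), (nat_lit 3), (nat_lit 1)]]]
theorem WH_ok : enumW o HS.cs' 12 LH WH = true := by decide +kernel
noncomputable def A0 : List ℕ := [(nat_lit 17043529), (nat_lit 17051713), (nat_lit 17109057), (nat_lit 17567809), (nat_lit 25694273)]
noncomputable def A1 : List ℕ := [(nat_lit 17043523), (nat_lit 17043537), (nat_lit 17045569), (nat_lit 17043529), (nat_lit 17059905), (nat_lit 17109057), (nat_lit 17051713), (nat_lit 17567809), (nat_lit 19140673), (nat_lit 25432129)]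
noncomputable def A4 : List ℕ := [(nat_lit 17043523), (nat_lit 17045569), (nat_lit 17043537), (nat_lit 17109057), (nat_lit 17059905), (nat_lit 17043529), (nat_lit 17567809), (nat_lit 17051713), (nat_lit 17043525), (nat_lit 17174593)]
noncomputable def W01 : List (List ℕ) := [[(nat_lit 2), (nat_lit 0), (nat_lit 2), (nat_lit 0)], [(nat_lit 3), (nat_lit 0), (nat_lit 3), (nat_lit 0)], [(nat_lit 2), (nat_lit 1), (nat_lit 2), (nat_lit 1)], [(nat_lit 0)], [(nat_lit 3), (nat_lit 1), (nat_lit 3), (nat_lit 1)], [(nat_lit 2)], [(nat_lit 1)], [(nat_lit 3)], [(nat_lit 4), (nat_lit 4), (nat_lit 2), (nat_lit 4)], [(nat_lit 4), (nat_lit 3)]]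
noncomputable def B00 : List ℕ := [(nat_lit 17045571), (nat_lit 17059921), (nat_lit 17045569), (nat_lit 17051721), (nat_lit 17059905), (nat_lit 17109057), (nat_lit 17051713), (nat_lit 17567809), (nat_lit 19140673), (nat_lit 25432129)]
theorem B00_ok : W01.map (evW o A0) = A1 ∧ W01.map (evW o [(nat_lit 17051721), (nat_lit 17051713), (nat_lit 17109057), (nat_lit 17567809), (nat_lit 25694273)]) = B00 := by decide +kernel
noncomputable def B01 : List ℕ := [(nat_lit 17045571), (nat_lit 17059921), (nat_lit 17045569), (nat_lit 17051721), (nat_lit 17059905), (nat_lit 17109057), (nat_lit 17051713), (nat_lit 17569857), (nat_lit 19140673), (nat_lit 25434177)]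
theorem B01_ok : W01.map (evW o A0) = A1 ∧ W01.map (evW o [(nat_lit 17051721), (nat_lit 17051713), (nat_lit 17109057), (nat_lit 17569857), (nat_lit 25694273)]) = B01 := by decide +kernel
noncomputable def B10 : List ℕ := [(nat_lit 17045571), (nat_lit 17059921), (nat_lit 17045569), (nat_lit 17051721), (nat_lit 17059905), (nat_lit 17127489), (nat_lit 17051713), (nat_lit 17567809), (nat_lit 19150913), (nat_lit 25432129)]
theorem B10_ok : W01.map (evW o A0) = A1 ∧ W01.map (evW o [(nat_lit 17051721), (nat_lit 17051713), (nat_lit 17127489), (nat_lit 17567809), (nat_lit 25694273)]) = B10 := by decide +kernel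
noncomputable def B11 : List ℕ := [(nat_lit 17045571), (nat_lit 17059921), (nat_lit 17045569), (nat_lit 17051721), (nat_lit 17059905), (nat_lit 17127489), (nat_lit 17051713), (nat_lit 17569857), (nat_lit 19150913), (nat_lit 25434177)]
theorem B11_ok : W01.map (evW o A0) = A1 ∧ W01.map (evW o [(nat_lit 17051721), (nat_lit 17051713), (nat_lit 17127489), (nat_lit 17569857), (nat_lit 25694273)]) = B11 := by decide +kernel
noncomputable def C00 : List ℕ := [(nat_lit 17043539), (nat_lit 17061953), (nat_lit 17043537), (nat_lit 17633345), (nat_lit 17059905), (nat_lit 17043529), (nat_lit 17567809), (nat_lit 17051713), (nat_lit 17043525), (nat_lit 17174593)]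
noncomputable def C11 : List ℕ := [(nat_lit 17043539), (nat_lit 17061953), (nat_lit 17043537), (nat_lit 17633345), (nat_lit 17059905), (nat_lit 17059929), (nat_lit 17567809), (nat_lit 17051729), (nat_lit 17567829), (nat_lit 17174609)]
theorem A4_ok : A1.map gam = A4 ∧ B00.map gam = C00 ∧ B11.map gam = C11 := by decide +kernel
noncomputable def cl1 : List ℕ := [(nat_lit 17043523), (nat_lit 17043537), (nat_lit 17045569), (nat_lit 17043529), (nat_lit 17059905), (nat_lit 17109057), (nat_lit 17043525), (nat_lit 17051713), (nat_lit 17567809), (nat_lit 19140673), (nat_lit 25432129), (nat_lit 17174593), (nat_lit 17043521)]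
noncomputable def cl2 : List ℕ := [(nat_lit 17043523), (nat_lit 17043537), (nat_lit 17045569), (nat_lit 17043529), (nat_lit 17059905), (nat_lit 17109057), (nat_lit 17043525), (nat_lit 17051713), (nat_lit 17567809), (nat_lit 19140673), (nat_lit 25432129), (nat_lit 17043521), (nat_lit 17043521), (nat_lit 17174593)]
noncomputable def AA1 (A : List ℕ) : List (List ℕ) := [[], [], [], [], [], [], [], [], [], [], [], [], A]
noncomputable def AA2 (A B : List ℕ) : List (List ℕ) := [[], [], [], [], [], [], [], [], [], [], [], A, B, []]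
theorem x01_a : trW cl1 (AA1 A1) (AA1 B01) [(nat_lit 12), (nat_lit 11), (nat_lit 7), (nat_lit 12), (nat_lit 11), (nat_lit 12)] [[(nat_lit 0)], [(nat_lit 5), (nat_lit 0)], [(nat_lit 2), (nat_lit 0)]] [((nat_lit 1), [[(nat_lit 1)], [(nat_lit 7), (nat_lit 1)], [(nat_lit 5), (nat_lit 4), (nat_lit 2), (nat_lit 1)]])] [(nat_lit 17043537)] [(nat_lit 17111121)] = true := by decide +kernel
theorem x01_b : trK [(nat_lit 17043537)] [(nat_lit 17111121)] [] = true := by decide +kernel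
theorem x10_a : trW cl1 (AA1 A1) (AA1 B10) [(nat_lit 12), (nat_lit 6), (nat_lit 11), (nat_lit 12), (nat_lit 11), (nat_lit 7), (nat_lit 12), (nat_lit 11), (nat_lit 12), (nat_lit 6), (nat_lit 11), (nat_lit 12)] [[(nat_lit 0)], [(nat_lit 5), (nat_lit 2)], [(nat_lit 7), (nat_lit 5), (nat_lit 2)], [(nat_lit 5), (nat_lit 4)], [(nat_lit 2), (nat_lit 0)]] [((nat_lit 2), [[(nat_lit 2)], [(nat_lit 5), (nat_lit 2), (nat_lit 0)], [(nat_lit 7), (nat_lit 2), (nat_lit 0)], [(nat_lit 7), (nat_lit 0)], [(nat_lit 7), (nat_lit 5), (nat_lit 2)]])] [(nat_lit 17045569)] [(nat_lit 17649729)] = true := by decide +kernel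
theorem x10_b : trK [(nat_lit 17045569)] [(nat_lit 17649729)] [] = true := by decide +kernel
noncomputable def LEg : List ℕ := [(nat_lit 17043529), (nat_lit 17051713), (nat_lit 17567809), (nat_lit 17109057)]
noncomputable def LE : List ℕ := [(nat_lit 17043521), (nat_lit 17043523), (nat_lit 17043537), (nat_lit 17043539), (nat_lit 17045569), (nat_lit 17045571), (nat_lit 17045585), (nat_lit 17045587), (nat_lit 17059905), (nat_lit 17059907), (nat_lit 17059921), (nat_lit 17059923), (nat_lit 17061953), (nat_lit 17061955), (nat_lit 17061969), (nat_lit 17061971)]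
theorem LE_ok : trK LEg LEg LE = true := by decide +kernel
noncomputable def LA1g : List ℕ := [(nat_lit 17043529), (nat_lit 17051713), (nat_lit 17043537), (nat_lit 17059905), (nat_lit 17045569)]
noncomputable def LA1 : List ℕ := [(nat_lit 17043521), (nat_lit 17043523), (nat_lit 17043529), (nat_lit 17043531), (nat_lit 17043537), (nat_lit 17043539), (nat_lit 17043545), (nat_lit 17043547), (nat_lit 17045569), (nat_lit 17045571), (nat_lit 17045577), (nat_lit 17045579), (nat_lit 17045585), (nat_lit 17045587), (nat_lit 17045593), (nat_lit 17045595), (nat_lit 17051713), (nat_lit 17051715), (nat_lit 17051721), (nat_lit 17051723), (nat_lit 17051729), (nat_lit 17051731), (nat_lit 17051737), (nat_lit 17051739), (nat_lit 17053761), (nat_lit 17053763), (nat_lit 17053769), (nat_lit 17053771), (nat_lit 17053777), (nat_lit 17053779), (nat_lit 17053785), (nat_lit 17053787), (nat_lit 17059905), (nat_lit 17059907), (nat_lit 17059913), (nat_lit 17059915),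 (nat_lit 17059921), (nat_lit 17059923), (nat_lit 17059929), (nat_lit 17059931), (nat_lit 17061953), (nat_lit 17061955), (nat_lit 17061961), (nat_lit 17061963), (nat_lit 17061969), (nat_lit 17061971), (nat_lit 17061977), (nat_lit 17061979), (nat_lit 17068097), (nat_lit 17068099), (nat_lit 17068105), (nat_lit 17068107), (nat_lit 17068113), (nat_lit 17068115), (nat_lit 17068121), (nat_lit 17068123), (nat_lit 17070145), (nat_lit 17070147), (nat_lit 17070153), (nat_lit 17070155), (nat_lit 17070161), (nat_lit 17070163), (nat_lit 17070169), (nat_lit 17070171)]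
theorem LA1_ok : trK LA1g LA1g LA1 = true := by decide +kernel
noncomputable def LA2g : List ℕ := [(nat_lit 17567809), (nat_lit 17109057), (nat_lit 17043537), (nat_lit 17059905), (nat_lit 17045569)]
noncomputable def LA2 : List ℕ := [(nat_lit 17043521), (nat_lit 17043523), (nat_lit 17043537), (nat_lit 17043539), (nat_lit 17045569), (nat_lit 17045571), (nat_lit 17045585), (nat_lit 17045587), (nat_lit 17059905), (nat_lit 17059907), (nat_lit 17059921), (nat_lit 17059923), (nat_lit 17061953), (nat_lit 17061955), (nat_lit 17061969), (nat_lit 17061971), (nat_lit 17109057), (nat_lit 17109059), (nat_lit 17109073), (nat_lit 17109075), (nat_lit 17111105), (nat_lit 17111107), (nat_lit 17111121), (nat_lit 17111123), (nat_lit 17125441), (nat_lit 17125443), (nat_lit 17125457), (nat_lit 17125459), (nat_lit 17127489), (nat_lit 17127491), (nat_lit 17127505), (nat_lit 17127507), (nat_lit 17567809), (nat_lit 17567811), (nat_lit 17567825), (nat_lit 17567827),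 (nat_lit 17569857), (nat_lit 17569859), (nat_lit 17569873), (nat_lit 17569875), (nat_lit 17584193), (nat_lit 17584195), (nat_lit 17584209), (nat_lit 17584211), (nat_lit 17586241), (nat_lit 17586243), (nat_lit 17586257), (nat_lit 17586259), (nat_lit 17633345), (nat_lit 17633347), (nat_lit 17633361), (nat_lit 17633363), (nat_lit 17635393), (nat_lit 17635395), (nat_lit 17635409), (nat_lit 17635411), (nat_lit 17649729), (nat_lit 17649731), (nat_lit 17649745), (nat_lit 17649747), (nat_lit 17651777), (nat_lit 17651779), (nat_lit 17651793), (nat_lit 17651795)]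
theorem LA2_ok : trK LA2g LA2g LA2 = true := by decide +kernel
noncomputable def LUg : List ℕ := [(nat_lit 17045569), (nat_lit 17109057), (nat_lit 19140673), (nat_lit 17043537)]
noncomputable def LU : List ℕ := [(nat_lit 17043521), (nat_lit 17043523), (nat_lit 17045569), (nat_lit 17045571), (nat_lit 17109057), (nat_lit 17109059), (nat_lit 17111105), (nat_lit 17111107)]
theorem LU_ok : trK LUg LUg LU = true := by decide +kernel

variable {G : Type*} [Group G]

theorem mv_false {R : ℕ → G → Prop} (μ : IsMod o R) {h : ℕ} {x : G} (hx : R h x) {As Bs : List ℕ}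
    (e : List.Forall₂ (fun a b => ∃ y y', R a y ∧ R b y' ∧ x * y = y' * x) As Bs) :
    mv h As Bs = false := by
  induction e with
  | nil => rfl
  | @cons a b As Bs e _ ih =>
    obtain ⟨y, y', h1, h2, h3⟩ := e
    have : mm h a = mm b h := (μ.inj (μ.mul hx h1) (μ.mul h2 hx)).2 h3
    show Bool.rec (motive := fun _ => Bool) true (mv h As Bs) (Nat.beq (mm h a) (mm b h)) = false
    rw [this, Nat.beq_refl]; exact ih

namespace HS
variable (S : HS G)

theorem tr {As Bs l : List ℕ} (h : trK As Bs l = true) {x : G} (hx : x ∈ S.H)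
    (e : List.Forall₂ (fun a b => ∃ y y', S.R a y ∧ S.R b y' ∧ x * y = y' * x) As Bs) :
    InS S.R l x := by
  obtain ⟨c, hc, h1⟩ := S.EH.iff.2 hx
  unfold trK at h
  rw [allP_eq] at h
  have := List.all_eq_true.1 h c hc
  rw [force_eq, mv_false S.μ h1 e, Bool.false_or, elem_iff] at this
  exact ⟨c, this, h1⟩

theorem H_le {A : Subgroup G} (h : ∀ x ∈ [S.z, S.a14, S.a25, S.a13, S.a24, S.a35, S.a12, S.a23,
    S.a34, S.a45, S.b3, S.b2], x ∈ A) : S.H ≤ A := fun x hx => by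
  obtain ⟨c, hc, h1⟩ := S.EH.iff.2 hx
  obtain ⟨y, h2, h3⟩ := enumW_sound S.μ.1 S.reps WH_ok c hc
  exact S.μ.fn h3 h1 ▸ gen_nthG_le h h2

variable {S}
section
variable {g : ℕ → G} {cl : List ℕ} {A B : List (List ℕ)} (M : Mach S.R g cl A B)
include M

theorem trM {w : List ℕ} {Wz : List (List ℕ)} {L : List (ℕ × List (List ℕ))} {As Bs l : List ℕ}
    (h : trW cl A B w Wz L As Bs = true) (h' : trK As Bs l = true) : InS S.R l (evA g w) := by
  simp only [trW, Bool.and_eq_true, Nat.beq_eq, allH, allB_eq, List.all_eq_true, isN_iff,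
    Nat.blt_eq] at h
  obtain ⟨⟨⟨⟨h1, h2⟩, h3⟩, h4⟩, h5⟩ := h
  refine S.tr h' (mem_centralizer_singleton_iff.2
    (mul_inv_eq_iff_eq_mul.1 (M.conj_eq w Wz S.R_z S.R_z h1))) ?_
  rw [← neL_zero h4] at h5
  rw [← neL_zero h3, ← neL_zero h4, List.forall₂_map_left_iff, List.forall₂_map_right_iff,
    List.forall₂_same]
  intro p hp
  have k := M.pl _ (h2 _ (List.mem_map_of_mem hp))
  exact ⟨_, _, k, M.chain w p.2 k (h5 _ (List.mem_map_of_mem hp)).ne', by group⟩

theorem cenM (g0 : g 0 = S.z) {ks As l : List ℕ}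
    (h : allH A ks = true ∧ ks.map (nth o.one cl) = As) (h' : trK As As l = true) (x : G)
    (e : ∀ k ∈ 0 :: ks, x * g k = g k * x) : InS S.R l x := by
  refine S.tr h' (mem_centralizer_singleton_iff.2 (g0 ▸ e 0 List.mem_cons_self)) ?_
  rw [← h.2, List.forall₂_map_left_iff, List.forall₂_map_right_iff, List.forall₂_same]
  intro k hk
  have h1 := h.1
  simp only [allH, allB_eq, List.all_eq_true, isN_iff] at h1
  exact ⟨_, _, M.pl _ (h1 k hk), M.pl _ (h1 k hk), e k (List.mem_cons_of_mem _ hk)⟩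
end

theorem consT {xs : List G} {cl : List ℕ} {A B : List (List ℕ)} (M : Mach S.R (nthG xs) cl A B) :
    Mach S.R (nthG (S.z :: S.a14 :: S.a25 :: S.a13 :: S.a24 :: S.a35 :: S.a12 :: S.a23 :: S.a34 ::
      S.a45 :: S.b3 :: xs)) (nat_lit 17043523 :: nat_lit 17043537 :: nat_lit 17045569 ::
      nat_lit 17043529 :: nat_lit 17059905 :: nat_lit 17109057 :: nat_lit 17043525 ::
      nat_lit 17051713 :: nat_lit 17567809 :: nat_lit 19140673 :: nat_lit 25432129 :: cl)
      ([] :: [] :: [] :: [] :: [] :: [] :: [] :: [] :: [] :: [] :: [] :: A)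
      ([] :: [] :: [] :: [] :: [] :: [] :: [] :: [] :: [] :: [] :: [] :: B) :=
  ((((((((((M.consH S.R_b3 S.sq_b3).consH S.R_a45 S.sq_a45).consH S.R_a34 S.sq_a34).consH S.R_a23
    S.sq_a23).consH S.R_a12 S.sq_a12).consH S.R_a35 S.sq_a35).consH S.R_a24 S.sq_a24).consH
    S.R_a13 S.sq_a13).consH S.R_a25 S.sq_a25).consH S.R_a14 S.sq_a14).consH S.R_z S.sq_z

variable (S) in
/-- the letters with one new involution -/
noncomputable def g1 (b : G) : ℕ → G := nthG [S.z, S.a14, S.a25, S.a13, S.a24, S.a35, S.a12,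
  S.a23, S.a34, S.a45, S.b3, S.b2, b]

variable (S) in
/-- the letters with two new involutions -/
noncomputable def g2 (b b' : G) : ℕ → G := nthG [S.z, S.a14, S.a25, S.a13, S.a24, S.a35, S.a12,
  S.a23, S.a34, S.a45, S.b3, b, b', S.b2]

theorem mach1 {r b : G} {B : List ℕ} (h : BC S.R r b A1 B) :
    Mach S.R (S.g1 b) cl1 (AA1 A1) (AA1 B) :=
  consT (((Mach.nil S.μ).consB h.sq h.cj).consH S.R_b2 S.sq_b2)

theorem mach2 {r r' b b' : G} {B B' : List ℕ} (h : BC S.R r b A1 B) (h' : BC S.R r' b' A4 B') :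
    Mach S.R (S.g2 b b') cl2 (AA2 A1 A4) (AA2 B B') :=
  consT ((((Mach.nil S.μ).consH S.R_b2 S.sq_b2).consB h'.sq h'.cj).consB h.sq h.cj)

theorem H_le1 (b : G) : S.H ≤ gen (S.g1 b) 13 := S.H_le fun x hx =>
  mem_gen_nthG (xs := [_, _, _, _, _, _, _, _, _, _, _, _, _]) (by
    simp only [List.mem_cons, List.not_mem_nil, or_false] at hx ⊢; tauto)

theorem H_le2 (b b' : G) : S.H ≤ gen (S.g2 b b') 14 := S.H_le fun x hx =>
  mem_gen_nthG (xs := [_, _, _, _, _, _, _, _, _, _, _, _, _, _]) (by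
    simp only [List.mem_cons, List.not_mem_nil, or_false] at hx ⊢; tauto)

theorem Bt.bc {b y3 y4 : G} (h : S.Bt b y3 y4) {c3 c4 : ℕ} (h3 : S.R c3 y3) (h4 : S.R c4 y4)
    {B : List ℕ} (e : W01.map (evW o A0) = A1 ∧ W01.map (evW o
      [mm (nat_lit 17043529) (nat_lit 17051713), nat_lit 17051713, c3, c4, nat_lit 25694273]) = B) :
    BC S.R S.a12 b A1 B :=
  ⟨h.sq, h.br, cj_ext S.μ h.sq (.cons ⟨_, S.R_a13, h.e1 ▸ S.μ.mul S.R_a13 S.R_a23⟩
    (.cons ⟨_, S.R_a23, h.e2.symm ▸ S.R_a23⟩ (.cons ⟨_, S.R_a35, h.e3 ▸ h3⟩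
      (.cons ⟨_, S.R_a34, h.e4 ▸ h4⟩ (.cons ⟨_, S.R_p, h.ep.symm ▸ S.R_p⟩ .nil))))) W01 e⟩

theorem typ1 [Finite G] (h : IsConj S.z S.a25) :
    ∃ b, BC S.R S.a12 b A1 B00 ∨ BC S.R S.a12 b A1 B11 := by
  obtain ⟨b, y3, y4, hb, rfl | rfl, rfl | rfl⟩ := S.exists_b h
  · exact ⟨b, Or.inl (hb.bc S.R_a35 S.R_a34 B00_ok)⟩
  · obtain ⟨_, k, -⟩ := trM (mach1 (hb.bc S.R_a35 (S.μ.mul S.R_a34 S.R_a25) B01_ok)) x01_a x01_b
    cases k
  · obtain ⟨_, k, -⟩ := trM (mach1 (hb.bc (S.μ.mul (S.μ.mul S.R_a35 S.R_a24) S.R_a25) S.R_a34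
      B10_ok)) x10_a x10_b
    cases k
  · exact ⟨b, Or.inr (hb.bc (S.μ.mul (S.μ.mul S.R_a35 S.R_a24) S.R_a25)
      (S.μ.mul S.R_a34 S.R_a25) B11_ok)⟩

end HS
end H1.Hd
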