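import Cfsg.Agent.H1.HdT0

/-! Generated by tools/h16 (computation kit). -/

set_option maxRecDepth 100000
set_option maxHeartbeats 0

namespace H1.HdT.O

open H16

noncomputable def Rl : List (List ℕ) := [[nat_lit 0, nat_lit 0],
  [nat_lit 1, nat_lit 1],
  [nat_lit 2, nat_lit 2],
  [nat_lit 3, nat_lit 3],
  [nat_lit 4, nat_lit 4],
  [nat_lit 5, nat_lit 5],
  [nat_lit 6, nat_lit 6],
  [nat_lit 7, nat_lit 7],
  [nat_lit 8, nat_lit 8],
  [nat_lit 9, nat_lit 9],
  [nat_lit 10, nat_lit 10],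
  [nat_lit 11, nat_lit 11],
  [nat_lit 12, nat_lit 12],
  [nat_lit 13, nat_lit 13],
  [nat_lit 1, nat_lit 0, nat_lit 1, nat_lit 0],
  [nat_lit 2, nat_lit 0, nat_lit 2, nat_lit 0],
  [nat_lit 3, nat_lit 0, nat_lit 3, nat_lit 0],
  [nat_lit 4, nat_lit 0, nat_lit 4, nat_lit 0],
  [nat_lit 5, nat_lit 0, nat_lit 5, nat_lit 0],
  [nat_lit 6, nat_lit 0, nat_lit 6, nat_lit 0],
  [nat_lit 7, nat_lit 0, nat_lit 7, nat_lit 0],
  [nat_lit 8, nat_lit 0, nat_lit 8, nat_lit 0],
  [nat_lit 9, nat_lit 0, nat_lit 9, nat_lit 0],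
  [nat_lit 2, nat_lit 1, nat_lit 2, nat_lit 1],
  [nat_lit 3, nat_lit 1, nat_lit 3, nat_lit 1],
  [nat_lit 4, nat_lit 1, nat_lit 4, nat_lit 1],
  [nat_lit 5, nat_lit 1, nat_lit 5, nat_lit 1],
  [nat_lit 6, nat_lit 1, nat_lit 6, nat_lit 1],
  [nat_lit 7, nat_lit 1, nat_lit 7, nat_lit 1],
  [nat_lit 8, nat_lit 1, nat_lit 8, nat_lit 1],
  [nat_lit 0, nat_lit 9, nat_lit 1, nat_lit 9, nat_lit 1],
  [nat_lit 3, nat_lit 2, nat_lit 3, nat_lit 2],
  [nat_lit 4, nat_lit 2, nat_lit 4, nat_lit 2],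
  [nat_lit 5, nat_lit 2, nat_lit 5, nat_lit 2],
  [nat_lit 0, nat_lit 6, nat_lit 2, nat_lit 6, nat_lit 2],
  [nat_lit 7, nat_lit 2, nat_lit 7, nat_lit 2],
  [nat_lit 8, nat_lit 2, nat_lit 8, nat_lit 2],
  [nat_lit 9, nat_lit 2, nat_lit 9, nat_lit 2],
  [nat_lit 4, nat_lit 3, nat_lit 4, nat_lit 3],
  [nat_lit 0, nat_lit 5, nat_lit 3, nat_lit 5, nat_lit 3],
  [nat_lit 6, nat_lit 3, nat_lit 6, nat_lit 3],
  [nat_lit 7, nat_lit 3, nat_lit 7, nat_lit 3],
  [nat_lit 1, nat_lit 8, nat_lit 3, nat_lit 8, nat_lit 3],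
  [nat_lit 9, nat_lit 3, nat_lit 9, nat_lit 3],
  [nat_lit 5, nat_lit 4, nat_lit 5, nat_lit 4],
  [nat_lit 1, nat_lit 6, nat_lit 4, nat_lit 6, nat_lit 4],
  [nat_lit 7, nat_lit 4, nat_lit 7, nat_lit 4],
  [nat_lit 8, nat_lit 4, nat_lit 8, nat_lit 4],
  [nat_lit 2, nat_lit 9, nat_lit 4, nat_lit 9, nat_lit 4],
  [nat_lit 6, nat_lit 5, nat_lit 6, nat_lit 5],
  [nat_lit 2, nat_lit 7, nat_lit 5, nat_lit 7, nat_lit 5],
  [nat_lit 8, nat_lit 5, nat_lit 8, nat_lit 5],
  [nat_lit 9, nat_lit 5, nat_lit 9, nat_lit 5],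
  [nat_lit 3, nat_lit 7, nat_lit 6, nat_lit 7, nat_lit 6],
  [nat_lit 8, nat_lit 6, nat_lit 8, nat_lit 6],
  [nat_lit 9, nat_lit 6, nat_lit 9, nat_lit 6],
  [nat_lit 4, nat_lit 8, nat_lit 7, nat_lit 8, nat_lit 7],
  [nat_lit 9, nat_lit 7, nat_lit 9, nat_lit 7],
  [nat_lit 5, nat_lit 9, nat_lit 8, nat_lit 9, nat_lit 8],
  [nat_lit 0, nat_lit 10, nat_lit 0, nat_lit 10],
  [nat_lit 1, nat_lit 3, nat_lit 10, nat_lit 1, nat_lit 10],
  [nat_lit 2, nat_lit 10, nat_lit 2, nat_lit 10],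
  [nat_lit 3, nat_lit 10, nat_lit 3, nat_lit 10],
  [nat_lit 4, nat_lit 7, nat_lit 10, nat_lit 4, nat_lit 10],
  [nat_lit 5, nat_lit 9, nat_lit 10, nat_lit 5, nat_lit 10],
  [nat_lit 6, nat_lit 10, nat_lit 6, nat_lit 10],
  [nat_lit 7, nat_lit 10, nat_lit 7, nat_lit 10],
  [nat_lit 9, nat_lit 10, nat_lit 9, nat_lit 10],
  [nat_lit 10, nat_lit 8, nat_lit 10, nat_lit 8, nat_lit 10, nat_lit 8],
  [nat_lit 0, nat_lit 11, nat_lit 0, nat_lit 11],
  [nat_lit 1, nat_lit 11, nat_lit 1, nat_lit 11],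
  [nat_lit 2, nat_lit 5, nat_lit 11, nat_lit 2, nat_lit 11],
  [nat_lit 3, nat_lit 6, nat_lit 11, nat_lit 3, nat_lit 11],
  [nat_lit 4, nat_lit 8, nat_lit 11, nat_lit 4, nat_lit 11],
  [nat_lit 5, nat_lit 11, nat_lit 5, nat_lit 11],
  [nat_lit 6, nat_lit 11, nat_lit 6, nat_lit 11],
  [nat_lit 8, nat_lit 11, nat_lit 8, nat_lit 11],
  [nat_lit 9, nat_lit 11, nat_lit 9, nat_lit 11],
  [nat_lit 11, nat_lit 7, nat_lit 11, nat_lit 7, nat_lit 11, nat_lit 7],
  [nat_lit 8, nat_lit 10, nat_lit 8, nat_lit 7, nat_lit 11, nat_lit 7, nat_lit 8, nat_lit 10, nat_lit 8, nat_lit 7, nat_lit 11, nat_lit 7, nat_lit 8, nat_lit 10, nat_lit 8, nat_lit 7, nat_lit 11, nat_lit 7],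
  [nat_lit 12, nat_lit 0, nat_lit 12, nat_lit 0, nat_lit 2],
  [nat_lit 12, nat_lit 1, nat_lit 12, nat_lit 1, nat_lit 4],
  [nat_lit 12, nat_lit 2, nat_lit 12, nat_lit 2],
  [nat_lit 12, nat_lit 3, nat_lit 12, nat_lit 3, nat_lit 7],
  [nat_lit 12, nat_lit 4, nat_lit 12, nat_lit 4],
  [nat_lit 12, nat_lit 5, nat_lit 12, nat_lit 5],
  [nat_lit 12, nat_lit 7, nat_lit 12, nat_lit 7],
  [nat_lit 12, nat_lit 8, nat_lit 12, nat_lit 8],
  [nat_lit 12, nat_lit 9, nat_lit 12, nat_lit 9],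
  [nat_lit 12, nat_lit 10, nat_lit 12, nat_lit 10],
  [nat_lit 12, nat_lit 6, nat_lit 12, nat_lit 6, nat_lit 12, nat_lit 6],
  [nat_lit 7, nat_lit 11, nat_lit 7, nat_lit 6, nat_lit 12, nat_lit 6, nat_lit 7, nat_lit 11, nat_lit 7, nat_lit 6, nat_lit 12, nat_lit 6, nat_lit 7, nat_lit 11, nat_lit 7, nat_lit 6, nat_lit 12, nat_lit 6]]
noncomputable def Tb12d : List ℕ := [nat_lit 0x996ac66c9cc8,
  nat_lit 0x996ac66c9cc8,
  nat_lit 0x996ac66c9cc8,
  nat_lit 0x996ac66c9cc8,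
  nat_lit 0x94f3358c9cc8,
  nat_lit 0x996ac66c9cc8,
  nat_lit 0x996ac66c9cc8,
  nat_lit 0x996bb6906548,
  nat_lit 0x1121ce9ac9cc8,
  nat_lit 0x996ac66c9cc8,
  nat_lit 0xb9ac283325c8,
  nat_lit 0x86785949eea049]
noncomputable def Tb12 (k u : ℕ) : ℕ := Nat.land (Nat.shiftRight (nth (nat_lit 0) Tb12d k) (Nat.mul u (nat_lit 7))) (nat_lit 127)
noncomputable def Ib12d : List ℕ := [nat_lit 0x12e2,
  nat_lit 0x12e2,
  nat_lit 0x12e2,
  nat_lit 0x12e2,
  nat_lit 0xc40a9,
  nat_lit 0x12e2,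
  nat_lit 0x12e2,
  nat_lit 0x4c01a,
  nat_lit 0x480e2,
  nat_lit 0x12e2,
  nat_lit 0x91203,
  nat_lit 0x143301]
noncomputable def Ib12 (k u : ℕ) : ℕ := Nat.land (Nat.shiftRight (nth (nat_lit 0) Ib12d k) (Nat.mul u (nat_lit 3))) (nat_lit 7)
noncomputable def Db12d : ℕ := nat_lit 0x6be386b1a24591322c00
noncomputable def Db12 (u : ℕ) : ℕ := Nat.land (Nat.shiftRight Db12d (Nat.mul u (nat_lit 10))) (nat_lit 1023)
noncomputable def Eb12td : ℕ := nat_lit 0x15
noncomputable def Eb12t (u : ℕ) : ℕ := Nat.land (Nat.shiftRight Eb12td (Nat.mul u (nat_lit 5))) (nat_lit 31)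
noncomputable def Jb12td : ℕ := nat_lit 0x23
noncomputable def Jb12t (u : ℕ) : ℕ := Nat.land (Nat.shiftRight Jb12td (Nat.mul u (nat_lit 6))) (nat_lit 63)
noncomputable def Wb12td : ℕ := nat_lit 7
noncomputable def Wb12t (u : ℕ) : ℕ := Nat.land (Nat.shiftRight Wb12td (Nat.mul u (nat_lit 3))) (nat_lit 7)
@[irreducible] noncomputable def Eb12 (a : ℕ) : ℕ := force (Nat.sub a (nat_lit 7)) Eb12t
@[irreducible] noncomputable def Jb12 (a : ℕ) : ℕ := force (Nat.sub a (nat_lit 7)) Jb12t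
@[irreducible] noncomputable def Wb12 (a : ℕ) : ℕ := force (Nat.sub a (nat_lit 7)) Wb12t
noncomputable def RLb12 : List (List Rule) := [[.rel (nat_lit 42) (nat_lit 1) [nat_lit 8, nat_lit 0, nat_lit 8], .rel (nat_lit 118) (nat_lit 0) [nat_lit 10, nat_lit 0, nat_lit 10], .sub (nat_lit 0) [] [], .rel (nat_lit 40) (nat_lit 1) [nat_lit 7, nat_lit 0, nat_lit 7], .rel (nat_lit 138) (nat_lit 0) [nat_lit 11, nat_lit 0, nat_lit 11]],
  [.rel (nat_lit 58) (nat_lit 1) [nat_lit 8, nat_lit 1, nat_lit 8], .rel (nat_lit 120) (nat_lit 3) [nat_lit 10, nat_lit 1, nat_lit 3, nat_lit 10], .sub (nat_lit 2) [] [], .rel (nat_lit 56) (nat_lit 1) [nat_lit 7, nat_lit 1, nat_lit 7], .rel (nat_lit 140) (nat_lit 0) [nat_lit 11, nat_lit 1, nat_lit 11]],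
  [.rel (nat_lit 72) (nat_lit 1) [nat_lit 8, nat_lit 2, nat_lit 8], .rel (nat_lit 122) (nat_lit 0) [nat_lit 10, nat_lit 2, nat_lit 10], .sub (nat_lit 4) [] [], .rel (nat_lit 70) (nat_lit 1) [nat_lit 7, nat_lit 2, nat_lit 7], .rel (nat_lit 142) (nat_lit 3) [nat_lit 11, nat_lit 2, nat_lit 5, nat_lit 11]],
  [.rel (nat_lit 84) (nat_lit 2) [nat_lit 8, nat_lit 3, nat_lit 1, nat_lit 8], .rel (nat_lit 124) (nat_lit 0) [nat_lit 10, nat_lit 3, nat_lit 10], .sub (nat_lit 6) [] [], .rel (nat_lit 82) (nat_lit 1) [nat_lit 7, nat_lit 3, nat_lit 7], .rel (nat_lit 144) (nat_lit 3) [nat_lit 11, nat_lit 3, nat_lit 6, nat_lit 11]],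
  [.rel (nat_lit 8) (nat_lit 0) [nat_lit 4], .sub (nat_lit 8) [] [], .rel (nat_lit 92) (nat_lit 1) [nat_lit 7, nat_lit 4, nat_lit 7], .rel (nat_lit 94) (nat_lit 1) [nat_lit 8, nat_lit 4, nat_lit 8], .rel (nat_lit 126) (nat_lit 3) [nat_lit 10, nat_lit 4, nat_lit 7, nat_lit 10], .rel (nat_lit 146) (nat_lit 3) [nat_lit 11, nat_lit 4, nat_lit 8, nat_lit 11]],
  [.rel (nat_lit 102) (nat_lit 1) [nat_lit 8, nat_lit 5, nat_lit 8], .rel (nat_lit 128) (nat_lit 3) [nat_lit 10, nat_lit 5, nat_lit 9, nat_lit 10], .sub (nat_lit 10) [] [], .rel (nat_lit 100) (nat_lit 2) [nat_lit 7, nat_lit 5, nat_lit 2, nat_lit 7], .rel (nat_lit 148) (nat_lit 0) [nat_lit 11, nat_lit 5, nat_lit 11]],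
  [.rel (nat_lit 108) (nat_lit 1) [nat_lit 8, nat_lit 6, nat_lit 8], .rel (nat_lit 130) (nat_lit 0) [nat_lit 10, nat_lit 6, nat_lit 10], .sub (nat_lit 12) [] [], .rel (nat_lit 106) (nat_lit 2) [nat_lit 7, nat_lit 6, nat_lit 3, nat_lit 7], .rel (nat_lit 150) (nat_lit 0) [nat_lit 11, nat_lit 6, nat_lit 11]],
  [.rel (nat_lit 14) (nat_lit 0) [nat_lit 7], .rel (nat_lit 112) (nat_lit 2) [nat_lit 8, nat_lit 7, nat_lit 4, nat_lit 8], .sub (nat_lit 14) [] [], .defn, .rel (nat_lit 132) (nat_lit 0) [nat_lit 10, nat_lit 7, nat_lit 10]],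
  [.defn, .rel (nat_lit 16) (nat_lit 0) [nat_lit 8], .sub (nat_lit 16) [] [], .rel (nat_lit 112) (nat_lit 3) [nat_lit 7, nat_lit 4, nat_lit 8, nat_lit 7], .rel (nat_lit 152) (nat_lit 0) [nat_lit 11, nat_lit 8, nat_lit 11]],
  [.rel (nat_lit 116) (nat_lit 3) [nat_lit 8, nat_lit 5, nat_lit 9, nat_lit 8], .rel (nat_lit 134) (nat_lit 0) [nat_lit 10, nat_lit 9, nat_lit 10], .sub (nat_lit 18) [] [], .rel (nat_lit 114) (nat_lit 0) [nat_lit 7, nat_lit 9, nat_lit 7], .rel (nat_lit 154) (nat_lit 0) [nat_lit 11, nat_lit 9, nat_lit 11]],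
  [.defn, .rel (nat_lit 20) (nat_lit 0) [nat_lit 10], .rel (nat_lit 136) (nat_lit 0) [nat_lit 8, nat_lit 10, nat_lit 8, nat_lit 10, nat_lit 8], .sub (nat_lit 20) [] []],
  [.rel (nat_lit 22) (nat_lit 0) [nat_lit 11], .defn, .rel (nat_lit 146) (nat_lit 4) [nat_lit 4, nat_lit 8, nat_lit 11, nat_lit 4], .rel (nat_lit 152) (nat_lit 1) [nat_lit 8, nat_lit 11, nat_lit 8], .rel (nat_lit 156) (nat_lit 0) [nat_lit 7, nat_lit 11, nat_lit 7, nat_lit 11, nat_lit 7], .rel (nat_lit 158) (nat_lit 4) [nat_lit 7, nat_lit 8, nat_lit 10, nat_lit 8, nat_lit 7, nat_lit 11, nat_lit 7, nat_lit 8, nat_lit 10, nat_lit 8, nat_lit 7, nat_lit 11, nat_lit 7, nat_lit 8, nat_lit 10, nat_lit 8, nat_lit 7]]]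
noncomputable def cb12 : TCert2 := ⟨7, 7, 8, 12, 7, 127, 1, Tb12, Ib12, Db12, Eb12, Jb12, Wb12, [[nat_lit 0],
  [nat_lit 1],
  [nat_lit 2],
  [nat_lit 3],
  [nat_lit 4],
  [nat_lit 5],
  [nat_lit 6],
  [nat_lit 7],
  [nat_lit 8],
  [nat_lit 9],
  [nat_lit 10]], RLb12⟩
noncomputable def Tb13d : List ℕ := [nat_lit 0x339daec75c2a130883c9a4b24a1d0ac3a0,
  nat_lit 0x1a00000234dcca64ab1570683ba24b24a1d0ac3a0,
  nat_lit 0x339daec75c2a130883c9a4b24a1d0ac3a0,
  nat_lit 0x2391acc64b29570682ba1cf439250ac3a0,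
  nat_lit 0x331d4ae843364ceb83c264b24a1d0ac3a0,
  nat_lit 0x339daec75c2a130883c9a4b24a1d0ac3a0,
  nat_lit 0x339daea75b32132683c224b63a260745a0,
  nat_lit 0x339daecb442acd4bc252707a7d2d0ac3a0,
  nat_lit 0x62f1388d761b5bac83eaa4b24a1d0ac3a0,
  nat_lit 0x339daec75c2a130883c9a4b24a1d0ac3a0,
  nat_lit 0x3ba1b0cc3cab0b84d5e0f53a8d350ac3a0,
  nat_lit 0x186000b99a6825a1953b193ec28b82c0e9347a0,
  nat_lit 0xc1ab8d48c659354ca873a2546c4d7d8b01a1]
noncomputable def Tb13 (k u : ℕ) : ℕ := Nat.land (Nat.shiftRight (nth (nat_lit 0) Tb13d k) (Nat.mul u (nat_lit 9))) (nat_lit 511)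
noncomputable def Ib13d : List ℕ := [nat_lit 0x209453774,
  nat_lit 0x80c38044113bd,
  nat_lit 0x209453774,
  nat_lit 0x49442a0613b,
  nat_lit 0x9061820c9bd,
  nat_lit 0x209453774,
  nat_lit 0x4941261e02c,
  nat_lit 0x49658002574,
  nat_lit 0x49040413774,
  nat_lit 0x209453774,
  nat_lit 0x9228904012b,
  nat_lit 0xf041986004d,
  nat_lit 0x49412e05783]
noncomputable def Ib13 (k u : ℕ) : ℕ := Nat.land (Nat.shiftRight (nth (nat_lit 0) Ib13d k) (Nat.mul u (nat_lit 3))) (nat_lit 7)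
noncomputable def Db13d : ℕ := nat_lit 0x2b9c59667a5ebed70acb15a25c3e876cc59732543084c86000
noncomputable def Db13 (u : ℕ) : ℕ := Nat.land (Nat.shiftRight Db13d (Nat.mul u (nat_lit 11))) (nat_lit 2047)
noncomputable def Eb13td : ℕ := nat_lit 0x8caac5
noncomputable def Eb13t (u : ℕ) : ℕ := Nat.land (Nat.shiftRight Eb13td (Nat.mul u (nat_lit 8))) (nat_lit 255)
noncomputable def Jb13td : ℕ := nat_lit 0x52c0
noncomputable def Jb13t (u : ℕ) : ℕ := Nat.land (Nat.shiftRight Jb13td (Nat.mul u (nat_lit 7))) (nat_lit 127)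
noncomputable def Wb13td : ℕ := nat_lit 0x460f
noncomputable def Wb13t (u : ℕ) : ℕ := Nat.land (Nat.shiftRight Wb13td (Nat.mul u (nat_lit 5))) (nat_lit 31)
@[irreducible] noncomputable def Eb13 (a : ℕ) : ℕ := force (Nat.sub a (nat_lit 15)) Eb13t
@[irreducible] noncomputable def Jb13 (a : ℕ) : ℕ := force (Nat.sub a (nat_lit 15)) Jb13t
@[irreducible] noncomputable def Wb13 (a : ℕ) : ℕ := force (Nat.sub a (nat_lit 15)) Wb13t
noncomputable def RLb13 : List (List Rule) := [[.rel (nat_lit 42) (nat_lit 1) [nat_lit 8, nat_lit 0, nat_lit 8], .rel (nat_lit 118) (nat_lit 0) [nat_lit 10, nat_lit 0, nat_lit 10], .rel (nat_lit 40) (nat_lit 1) [nat_lit 7, nat_lit 0, nat_lit 7], .rel (nat_lit 138) (nat_lit 0) [nat_lit 11, nat_lit 0, nat_lit 11], .sub (nat_lit 0) [] [], .rel (nat_lit 38) (nat_lit 1) [nat_lit 6, nat_lit 0, nat_lit 6], .rel (nat_lit 160) (nat_lit 1) [nat_lit 12, nat_lit 0, nat_lit 2, nat_lit 12]],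
  [.rel (nat_lit 2) (nat_lit 0) [nat_lit 1], .rel (nat_lit 140) (nat_lit 0) [nat_lit 11, nat_lit 1, nat_lit 11], .rel (nat_lit 56) (nat_lit 1) [nat_lit 7, nat_lit 1, nat_lit 7], .rel (nat_lit 58) (nat_lit 1) [nat_lit 8, nat_lit 1, nat_lit 8], .rel (nat_lit 120) (nat_lit 3) [nat_lit 10, nat_lit 1, nat_lit 3, nat_lit 10], .sub (nat_lit 2) [] [], .rel (nat_lit 54) (nat_lit 1) [nat_lit 6, nat_lit 1, nat_lit 6], .rel (nat_lit 162) (nat_lit 1) [nat_lit 12, nat_lit 1, nat_lit 4, nat_lit 12]],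
  [.rel (nat_lit 72) (nat_lit 1) [nat_lit 8, nat_lit 2, nat_lit 8], .rel (nat_lit 122) (nat_lit 0) [nat_lit 10, nat_lit 2, nat_lit 10], .rel (nat_lit 70) (nat_lit 1) [nat_lit 7, nat_lit 2, nat_lit 7], .rel (nat_lit 142) (nat_lit 3) [nat_lit 11, nat_lit 2, nat_lit 5, nat_lit 11], .sub (nat_lit 4) [] [], .rel (nat_lit 68) (nat_lit 2) [nat_lit 6, nat_lit 2, nat_lit 0, nat_lit 6], .rel (nat_lit 164) (nat_lit 1) [nat_lit 12, nat_lit 2, nat_lit 12]],
  [.rel (nat_lit 6) (nat_lit 0) [nat_lit 3], .rel (nat_lit 84) (nat_lit 2) [nat_lit 8, nat_lit 3, nat_lit 1, nat_lit 8], .rel (nat_lit 124) (nat_lit 0) [nat_lit 10, nat_lit 3, nat_lit 10], .sub (nat_lit 6) [] [], .rel (nat_lit 80) (nat_lit 1) [nat_lit 6, nat_lit 3, nat_lit 6], .rel (nat_lit 82) (nat_lit 1) [nat_lit 7, nat_lit 3, nat_lit 7], .rel (nat_lit 144) (nat_lit 3) [nat_lit 11, nat_lit 3, nat_lit 6, nat_lit 11], .rel (nat_lit 166) (nat_lit 1) [nat_lit 12, nat_lit 3, nat_lit 7, nat_lit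 12]],
  [.rel (nat_lit 8) (nat_lit 0) [nat_lit 4], .rel (nat_lit 92) (nat_lit 1) [nat_lit 7, nat_lit 4, nat_lit 7], .rel (nat_lit 94) (nat_lit 1) [nat_lit 8, nat_lit 4, nat_lit 8], .rel (nat_lit 126) (nat_lit 3) [nat_lit 10, nat_lit 4, nat_lit 7, nat_lit 10], .rel (nat_lit 146) (nat_lit 3) [nat_lit 11, nat_lit 4, nat_lit 8, nat_lit 11], .sub (nat_lit 8) [] [], .rel (nat_lit 90) (nat_lit 2) [nat_lit 6, nat_lit 4, nat_lit 1, nat_lit 6], .rel (nat_lit 168) (nat_lit 1) [nat_lit 12, nat_lit 4, nat_lit 12]],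
  [.rel (nat_lit 102) (nat_lit 1) [nat_lit 8, nat_lit 5, nat_lit 8], .rel (nat_lit 128) (nat_lit 3) [nat_lit 10, nat_lit 5, nat_lit 9, nat_lit 10], .rel (nat_lit 100) (nat_lit 2) [nat_lit 7, nat_lit 5, nat_lit 2, nat_lit 7], .rel (nat_lit 148) (nat_lit 0) [nat_lit 11, nat_lit 5, nat_lit 11], .sub (nat_lit 10) [] [], .rel (nat_lit 98) (nat_lit 1) [nat_lit 6, nat_lit 5, nat_lit 6], .rel (nat_lit 170) (nat_lit 1) [nat_lit 12, nat_lit 5, nat_lit 12]],
  [.rel (nat_lit 12) (nat_lit 0) [nat_lit 6], .rel (nat_lit 108) (nat_lit 1) [nat_lit 8, nat_lit 6, nat_lit 8], .rel (nat_lit 130) (nat_lit 0) [nat_lit 10, nat_lit 6, nat_lit 10], .rel (nat_lit 106) (nat_lit 2) [nat_lit 7, nat_lit 6, nat_lit 3, nat_lit 7], .sub (nat_lit 12) [] [], .defn, .rel (nat_lit 150) (nat_lit 0) [nat_lit 11, nat_lit 6, nat_lit 11]],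
  [.rel (nat_lit 14) (nat_lit 0) [nat_lit 7], .rel (nat_lit 112) (nat_lit 2) [nat_lit 8, nat_lit 7, nat_lit 4, nat_lit 8], .defn, .rel (nat_lit 132) (nat_lit 0) [nat_lit 10, nat_lit 7, nat_lit 10], .sub (nat_lit 14) [] [], .rel (nat_lit 106) (nat_lit 3) [nat_lit 6, nat_lit 3, nat_lit 7, nat_lit 6], .rel (nat_lit 172) (nat_lit 1) [nat_lit 12, nat_lit 7, nat_lit 12]],
  [.defn, .rel (nat_lit 16) (nat_lit 0) [nat_lit 8], .rel (nat_lit 112) (nat_lit 3) [nat_lit 7, nat_lit 4, nat_lit 8, nat_lit 7], .rel (nat_lit 152) (nat_lit 0) [nat_lit 11, nat_lit 8, nat_lit 11], .sub (nat_lit 16) [] [], .rel (nat_lit 108) (nat_lit 0) [nat_lit 6, nat_lit 8, nat_lit 6], .rel (nat_lit 174) (nat_lit 1) [nat_lit 12, nat_lit 8, nat_lit 12]],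
  [.rel (nat_lit 116) (nat_lit 3) [nat_lit 8, nat_lit 5, nat_lit 9, nat_lit 8], .rel (nat_lit 134) (nat_lit 0) [nat_lit 10, nat_lit 9, nat_lit 10], .rel (nat_lit 114) (nat_lit 0) [nat_lit 7, nat_lit 9, nat_lit 7], .rel (nat_lit 154) (nat_lit 0) [nat_lit 11, nat_lit 9, nat_lit 11], .sub (nat_lit 18) [] [], .rel (nat_lit 110) (nat_lit 0) [nat_lit 6, nat_lit 9, nat_lit 6], .rel (nat_lit 176) (nat_lit 1) [nat_lit 12, nat_lit 9, nat_lit 12]],
  [.defn, .rel (nat_lit 20) (nat_lit 0) [nat_lit 10], .rel (nat_lit 136) (nat_lit 0) [nat_lit 8, nat_lit 10, nat_lit 8, nat_lit 10, nat_lit 8], .sub (nat_lit 20) [] [], .rel (nat_lit 130) (nat_lit 1) [nat_lit 6, nat_lit 10, nat_lit 6], .rel (nat_lit 178) (nat_lit 1) [nat_lit 12, nat_lit 10, nat_lit 12]],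
  [.rel (nat_lit 22) (nat_lit 0) [nat_lit 11], .defn, .rel (nat_lit 146) (nat_lit 4) [nat_lit 4, nat_lit 8, nat_lit 11, nat_lit 4], .rel (nat_lit 152) (nat_lit 1) [nat_lit 8, nat_lit 11, nat_lit 8], .rel (nat_lit 156) (nat_lit 0) [nat_lit 7, nat_lit 11, nat_lit 7, nat_lit 11, nat_lit 7], .sub (nat_lit 22) [] [], .rel (nat_lit 158) (nat_lit 4) [nat_lit 7, nat_lit 8, nat_lit 10, nat_lit 8, nat_lit 7, nat_lit 11, nat_lit 7, nat_lit 8, nat_lit 10, nat_lit 8, nat_lit 7, nat_lit 11, nat_lit 7, nat_lit 8, nat_lit 10, nat_lit 8, nat_lit 7]],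
  [.rel (nat_lit 24) (nat_lit 0) [nat_lit 12], .rel (nat_lit 174) (nat_lit 0) [nat_lit 8, nat_lit 12, nat_lit 8], .rel (nat_lit 178) (nat_lit 0) [nat_lit 10, nat_lit 12, nat_lit 10], .defn, .rel (nat_lit 166) (nat_lit 2) [nat_lit 3, nat_lit 7, nat_lit 12, nat_lit 3], .rel (nat_lit 172) (nat_lit 0) [nat_lit 7, nat_lit 12, nat_lit 7], .rel (nat_lit 180) (nat_lit 0) [nat_lit 6, nat_lit 12, nat_lit 6, nat_lit 12, nat_lit 6], .rel (nat_lit 182) (nat_lit 4) [nat_lit 6, nat_lit 7, nat_lit 11, nat_lit 7, nat_lit 6, nat_lit 12, nat_lit 6, nat_lit 7, nat_lit 11, nat_lit 7, nat_lit 6, nat_lit 12, nat_lit 6, nat_lit 7, nat_lit 11, nat_lit 7, nat_lit 6]]]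
noncomputable def cb13 : TCert2 := ⟨15, 15, 18, 13, 31, 255, 1, Tb13, Ib13, Db13, Eb13, Jb13, Wb13, [[nat_lit 0],
  [nat_lit 1],
  [nat_lit 2],
  [nat_lit 3],
  [nat_lit 4],
  [nat_lit 5],
  [nat_lit 6],
  [nat_lit 7],
  [nat_lit 8],
  [nat_lit 9],
  [nat_lit 10],
  [nat_lit 11]], RLb13⟩
noncomputable def Rf : List (List ℕ) := [[nat_lit 0, nat_lit 0],
  [nat_lit 1, nat_lit 1],
  [nat_lit 2, nat_lit 2],
  [nat_lit 3, nat_lit 3],
  [nat_lit 4, nat_lit 4],
  [nat_lit 5, nat_lit 5],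
  [nat_lit 6, nat_lit 6],
  [nat_lit 7, nat_lit 7],
  [nat_lit 8, nat_lit 8],
  [nat_lit 9, nat_lit 9],
  [nat_lit 10, nat_lit 10],
  [nat_lit 11, nat_lit 11],
  [nat_lit 12, nat_lit 12],
  [nat_lit 13, nat_lit 13],
  [nat_lit 1, nat_lit 0, nat_lit 1, nat_lit 0],
  [nat_lit 2, nat_lit 0, nat_lit 2, nat_lit 0],
  [nat_lit 3, nat_lit 0, nat_lit 3, nat_lit 0],
  [nat_lit 4, nat_lit 0, nat_lit 4, nat_lit 0],
  [nat_lit 5, nat_lit 0, nat_lit 5, nat_lit 0],
  [nat_lit 6, nat_lit 0, nat_lit 6, nat_lit 0],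
  [nat_lit 7, nat_lit 0, nat_lit 7, nat_lit 0],
  [nat_lit 8, nat_lit 0, nat_lit 8, nat_lit 0],
  [nat_lit 9, nat_lit 0, nat_lit 9, nat_lit 0],
  [nat_lit 2, nat_lit 1, nat_lit 2, nat_lit 1],
  [nat_lit 3, nat_lit 1, nat_lit 3, nat_lit 1],
  [nat_lit 4, nat_lit 1, nat_lit 4, nat_lit 1],
  [nat_lit 5, nat_lit 1, nat_lit 5, nat_lit 1],
  [nat_lit 6, nat_lit 1, nat_lit 6, nat_lit 1],
  [nat_lit 7, nat_lit 1, nat_lit 7, nat_lit 1],
  [nat_lit 8, nat_lit 1, nat_lit 8, nat_lit 1],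
  [nat_lit 0, nat_lit 9, nat_lit 1, nat_lit 9, nat_lit 1],
  [nat_lit 3, nat_lit 2, nat_lit 3, nat_lit 2],
  [nat_lit 4, nat_lit 2, nat_lit 4, nat_lit 2],
  [nat_lit 5, nat_lit 2, nat_lit 5, nat_lit 2],
  [nat_lit 0, nat_lit 6, nat_lit 2, nat_lit 6, nat_lit 2],
  [nat_lit 7, nat_lit 2, nat_lit 7, nat_lit 2],
  [nat_lit 8, nat_lit 2, nat_lit 8, nat_lit 2],
  [nat_lit 9, nat_lit 2, nat_lit 9, nat_lit 2],
  [nat_lit 4, nat_lit 3, nat_lit 4, nat_lit 3],
  [nat_lit 0, nat_lit 5, nat_lit 3, nat_lit 5, nat_lit 3],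
  [nat_lit 6, nat_lit 3, nat_lit 6, nat_lit 3],
  [nat_lit 7, nat_lit 3, nat_lit 7, nat_lit 3],
  [nat_lit 1, nat_lit 8, nat_lit 3, nat_lit 8, nat_lit 3],
  [nat_lit 9, nat_lit 3, nat_lit 9, nat_lit 3],
  [nat_lit 5, nat_lit 4, nat_lit 5, nat_lit 4],
  [nat_lit 1, nat_lit 6, nat_lit 4, nat_lit 6, nat_lit 4],
  [nat_lit 7, nat_lit 4, nat_lit 7, nat_lit 4],
  [nat_lit 8, nat_lit 4, nat_lit 8, nat_lit 4],
  [nat_lit 2, nat_lit 9, nat_lit 4, nat_lit 9, nat_lit 4],
  [nat_lit 6, nat_lit 5, nat_lit 6, nat_lit 5],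
  [nat_lit 2, nat_lit 7, nat_lit 5, nat_lit 7, nat_lit 5],
  [nat_lit 8, nat_lit 5, nat_lit 8, nat_lit 5],
  [nat_lit 9, nat_lit 5, nat_lit 9, nat_lit 5],
  [nat_lit 3, nat_lit 7, nat_lit 6, nat_lit 7, nat_lit 6],
  [nat_lit 8, nat_lit 6, nat_lit 8, nat_lit 6],
  [nat_lit 9, nat_lit 6, nat_lit 9, nat_lit 6],
  [nat_lit 4, nat_lit 8, nat_lit 7, nat_lit 8, nat_lit 7],
  [nat_lit 9, nat_lit 7, nat_lit 9, nat_lit 7],
  [nat_lit 5, nat_lit 9, nat_lit 8, nat_lit 9, nat_lit 8],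
  [nat_lit 0, nat_lit 10, nat_lit 0, nat_lit 10],
  [nat_lit 1, nat_lit 3, nat_lit 10, nat_lit 1, nat_lit 10],
  [nat_lit 2, nat_lit 10, nat_lit 2, nat_lit 10],
  [nat_lit 3, nat_lit 10, nat_lit 3, nat_lit 10],
  [nat_lit 4, nat_lit 7, nat_lit 10, nat_lit 4, nat_lit 10],
  [nat_lit 5, nat_lit 9, nat_lit 10, nat_lit 5, nat_lit 10],
  [nat_lit 6, nat_lit 10, nat_lit 6, nat_lit 10],
  [nat_lit 7, nat_lit 10, nat_lit 7, nat_lit 10],
  [nat_lit 9, nat_lit 10, nat_lit 9, nat_lit 10],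
  [nat_lit 10, nat_lit 8, nat_lit 10, nat_lit 8, nat_lit 10, nat_lit 8],
  [nat_lit 0, nat_lit 11, nat_lit 0, nat_lit 11],
  [nat_lit 1, nat_lit 11, nat_lit 1, nat_lit 11],
  [nat_lit 2, nat_lit 5, nat_lit 11, nat_lit 2, nat_lit 11],
  [nat_lit 3, nat_lit 6, nat_lit 11, nat_lit 3, nat_lit 11],
  [nat_lit 4, nat_lit 8, nat_lit 11, nat_lit 4, nat_lit 11],
  [nat_lit 5, nat_lit 11, nat_lit 5, nat_lit 11],
  [nat_lit 6, nat_lit 11, nat_lit 6, nat_lit 11],
  [nat_lit 8, nat_lit 11, nat_lit 8, nat_lit 11],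
  [nat_lit 9, nat_lit 11, nat_lit 9, nat_lit 11],
  [nat_lit 11, nat_lit 7, nat_lit 11, nat_lit 7, nat_lit 11, nat_lit 7],
  [nat_lit 8, nat_lit 10, nat_lit 8, nat_lit 7, nat_lit 11, nat_lit 7, nat_lit 8, nat_lit 10, nat_lit 8, nat_lit 7, nat_lit 11, nat_lit 7, nat_lit 8, nat_lit 10, nat_lit 8, nat_lit 7, nat_lit 11, nat_lit 7],
  [nat_lit 12, nat_lit 0, nat_lit 12, nat_lit 0, nat_lit 2],
  [nat_lit 12, nat_lit 1, nat_lit 12, nat_lit 1, nat_lit 4],
  [nat_lit 12, nat_lit 2, nat_lit 12, nat_lit 2],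
  [nat_lit 12, nat_lit 3, nat_lit 12, nat_lit 3, nat_lit 7],
  [nat_lit 12, nat_lit 4, nat_lit 12, nat_lit 4],
  [nat_lit 12, nat_lit 5, nat_lit 12, nat_lit 5],
  [nat_lit 12, nat_lit 7, nat_lit 12, nat_lit 7],
  [nat_lit 12, nat_lit 8, nat_lit 12, nat_lit 8],
  [nat_lit 12, nat_lit 9, nat_lit 12, nat_lit 9],
  [nat_lit 12, nat_lit 10, nat_lit 12, nat_lit 10],
  [nat_lit 12, nat_lit 6, nat_lit 12, nat_lit 6, nat_lit 12, nat_lit 6],
  [nat_lit 5, nat_lit 2, nat_lit 0, nat_lit 7, nat_lit 11, nat_lit 7, nat_lit 6, nat_lit 12, nat_lit 6, nat_lit 7, nat_lit 11, nat_lit 7, nat_lit 6, nat_lit 12, nat_lit 6, nat_lit 7, nat_lit 11, nat_lit 7, nat_lit 6, nat_lit 12, nat_lit 6]]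
noncomputable def R2 : List (List ℕ) := [[nat_lit 0, nat_lit 0],
  [nat_lit 1, nat_lit 1],
  [nat_lit 2, nat_lit 2],
  [nat_lit 3, nat_lit 3],
  [nat_lit 4, nat_lit 4],
  [nat_lit 5, nat_lit 5],
  [nat_lit 6, nat_lit 6],
  [nat_lit 7, nat_lit 7],
  [nat_lit 1, nat_lit 0, nat_lit 1, nat_lit 0],
  [nat_lit 3, nat_lit 0, nat_lit 3, nat_lit 0],
  [nat_lit 2, nat_lit 0, nat_lit 2, nat_lit 0],
  [nat_lit 4, nat_lit 0, nat_lit 4, nat_lit 0],
  [nat_lit 5, nat_lit 0, nat_lit 5, nat_lit 0],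
  [nat_lit 3, nat_lit 1, nat_lit 3, nat_lit 1],
  [nat_lit 2, nat_lit 1, nat_lit 2, nat_lit 1],
  [nat_lit 0, nat_lit 4, nat_lit 1, nat_lit 4, nat_lit 1],
  [nat_lit 5, nat_lit 1, nat_lit 5, nat_lit 1],
  [nat_lit 0, nat_lit 2, nat_lit 3, nat_lit 2, nat_lit 3],
  [nat_lit 4, nat_lit 3, nat_lit 4, nat_lit 3],
  [nat_lit 5, nat_lit 3, nat_lit 5, nat_lit 3],
  [nat_lit 4, nat_lit 2, nat_lit 4, nat_lit 2],
  [nat_lit 1, nat_lit 5, nat_lit 2, nat_lit 5, nat_lit 2],
  [nat_lit 3, nat_lit 5, nat_lit 4, nat_lit 5, nat_lit 4],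
  [nat_lit 0, nat_lit 6, nat_lit 0, nat_lit 6],
  [nat_lit 1, nat_lit 2, nat_lit 6, nat_lit 1, nat_lit 6],
  [nat_lit 3, nat_lit 4, nat_lit 6, nat_lit 3, nat_lit 6],
  [nat_lit 2, nat_lit 6, nat_lit 2, nat_lit 6],
  [nat_lit 4, nat_lit 6, nat_lit 4, nat_lit 6],
  [nat_lit 6, nat_lit 5, nat_lit 6, nat_lit 5, nat_lit 6, nat_lit 5],
  [nat_lit 7, nat_lit 0, nat_lit 7, nat_lit 0, nat_lit 1],
  [nat_lit 7, nat_lit 1, nat_lit 7, nat_lit 1],
  [nat_lit 7, nat_lit 3, nat_lit 7, nat_lit 3, nat_lit 5],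
  [nat_lit 7, nat_lit 2, nat_lit 7, nat_lit 2],
  [nat_lit 7, nat_lit 5, nat_lit 7, nat_lit 5],
  [nat_lit 7, nat_lit 4, nat_lit 7, nat_lit 4, nat_lit 7, nat_lit 4],
  [nat_lit 2, nat_lit 1, nat_lit 0, nat_lit 5, nat_lit 6, nat_lit 5, nat_lit 4, nat_lit 7, nat_lit 4, nat_lit 5, nat_lit 6, nat_lit 5, nat_lit 4, nat_lit 7, nat_lit 4, nat_lit 5, nat_lit 6, nat_lit 5, nat_lit 4, nat_lit 7, nat_lit 4]]
noncomputable def Tfd : List ℕ := [nat_lit 0xc51c00000000cd6e00000000bd07000000000000beeebeea00000000c6a3cb7ac48ec286000000000000c63ec81cc80ecc03ce000000000000000000000000000000000000001f36bb3400000000000000004554bb20000000000000000000000000000000000000bb1000000000bd1a000000000000000000000000b90a00000000000000000000000000000000215a0000b95900000000c8ce00000000c2ec512d00000000532a00005f8200000000000000000000c0fe0000b953bd1200000000c37d000000000000bee90000c0e7000000000000bb1f0000000000000000000000000000000000000000bb77000000000000000000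0000000000000000000000bebc0000beba000000000000c0a5c0a4000000000000000000000000bd730000c12e0000bd720000c09bbf160000000000000000bea8c09f0000c0ae00000000000000000000000000000000000000000000c878d179000000000000c7310000cc71cc6f00000000c68bc68ac689c6870000000000003cc1000000000000d12500000000bcfac0a90000000000000000c68400000000000000000000bedf0000000000000000beb9bce200000000bef6000000000000c48c0000bee116700000346dbee800000000c2650000c2640000000000000000c451c4590000c36d00000000c4c8c4c7c4c600000000c16c0000c4b40000000000000000c44b0000c453c456c448d0dc000000000000000000000000cc2dcc2b00000000cacb000000000000ca3c00003e693aac00000000c098c096000000000000ca360000000000000000000000000000c64f0000c27c00000000c27d0000c2910000c458c83d00000000c27f00000000c27b0000c62100000000084300000000c83300000000c64ec86bc828c827c826c8240000c86000000000c640c817c815c812c811c80fca7300000000ce07d06ec63b000000000000000000000000c4460000000000000000c76700000000ca14d169c6320000c631c819cc0dc630c62f000000000000ca13cc06cc05cc04cc02cc01d02aca0cca0bca0acb65ca09ca08d164,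
  nat_lit 0xbb7b0000b5500000bb38bb2d0000bb7ebf760000000000000000c8f3000060eaaf20000000000000cce7bcee00000000bb770000b979bd890000c10cbb30bf28bf6e0000cc8ebd71c4a3c26900000000c433c8190000cc09ca2ed0080000000025610000000000000000bb39bb371d5a29590000000000000000000000009356bb40000000000000bb2abd276d2c0000bb1d000000000000000000000000cb3d00000000b8f100000000c8dd0000c8dab95cb98d00002336000027340000cecebd04bd7300002f2eb98c6b4b4f63b94d0000c1720000c30000004354b8e6ccbdccbcad8100000000b949bf16c10b000040c3bec200000000000000000000000000000000c4b70000c4f4bf74bf1b000000000000bed2bed01b050000bec40000000000000000000000000000000000000000000000000000c0b10000c7840000b73f00000000bb7c00000000c4c95f8200000000cb7d00000000000000000000c4ccc498c08b0000000000000000c73abc8ccc7a0000cc78000000000000bd070000bd06d135d1320000c2e1000000000000c0ae189ec86fc86cbd030000bd1800000000c69bc69acb220000000000000000000000000000c2a8c2ab0000c0a5bef5c4a20000bec8c49dc268c0b40000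00000000c862cc5400000000c36dc2b000000000c2710000c2ad00000000c4be0000c2e00000000000000000000000000000c451c458cb6f0000bad9bedfc8700000000000000000ca7bd0e500000000c27dc67300000000c0810000c885cad80000cad60000000000000000c4800000c09fc68a0000c63c0000c6c5cc29cc27c16c00000000ca48d0bb00000000c6a7c6530000cc1f000000000000000000000000c28fc84ec84bc624caa6c4610000c29000000000c65700000000c65600000000c8660000c636c6340000441c00000000c818c631c814d16bc46e364a00000000000000000000000000000000cc300000ca32cc0bcd65d07700000000c80dca6b0000ca6ace060000c4550000000000000000ca5fce040000d16a00000000c7680000cc120000d052c63ecc07ca17cc05ca0acc03cc020000d0390000c810cb66cf640000d026ca11d01eca0fca0ece00d001,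
  nat_lit 0xbd540000000000000000000000000000000000000000000000000000bb7b000000000000000000000000c4ea0000bcfebd770000bd70baee000000000000c16e0000c0d200000000000000000000c47ac29bc2730000c82ace0f0d67ce080000d0094955000000000000815100000000000000000000bb81bb4d000000000000bb940000bb44000077600000b939b9580000000000000000bf460000bd480000b9520000bcf40000000000000000bd0d00000000bcf1b74e00000000000000000000000000000000bd07bd05000000000000000000000000c4c4c4c30000bce76d2ccebcbd1cbce62b59ccba0000c8b8bb2200000000bf0200000000c0bd0000c0fc000000000000000000000000000000000000000000000000bb300000bb2fbeec0000bd19bee9c4c10000bb7d0000bf140000000000000000000000000000bb42bedd0000bb3a0000000000000000bd0412ebc37fbd01c886bb25bb21c0980000000000000000c484c0cc0000bcf3c08e000000000000c0a30000c08c0000cc750000bf7300000000000000000000bedfc0ad00000000c09fc09e00000000c328c327000000000000c869c4ac0000d123c0b4cb1f0000c71d00000000cc63bebb0000c85ec85a00000000c471becb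0000c4650000c49600000000c46000000000bed8000000000000bec8bec7c289c46dc16cc8680000bee5000000000000000000000000000000000000bedc0000bed600000000c09d00001087c6e8cc380000000000000000c83dc83cc836c445c46e0000c36d0000d0d9c44e00000000000000000000c2ae148a30c6c27cc29c326cc44b0000c6bfc69a0000cc24c2abd0b9cab5000000000000ca53c6b200000000ce1bc6b1cc1dcc1ac82dc829c648c821c85fc81e000000000000c27700000000c26bc8280000c45500000000000000000000000000000000cc10ca2e0000c67f00000e3ac830ca850000c67e0000d081cc0dcc0ccc0a000000000000c6570000d0740000c656c64a0000c8120000ca6600000000c6540000d061c652ca590a1cd05bca58ce03cc07cc06ca11cc04cd650000c626c816ca3fd168ce01ca33ca32d037ca31cf64d166ca18ca17d022ca15d019ce00d00ed002,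
  nat_lit 0xc7610000000000000000000000000000000000000000000000000000000000000000000000000000000000000000cf6e00000000cd38000000000000000000000000d191d186d184d17bd174d118bed90000c474c766ca350000cf64d165cd940000c9920000000000000000cf07000000000000cd0200000000cd54cb5500000000000000000000ceee000000004763000000000000cee10000cd44cb45ccde0000000000000000bcf00000ced8cd3acb3bced2cb78ccd1c933c932b3610000c73500000000cd2ecb2fcec4cd2bcb2cccc3000000000000000000000000bce50000000000000000000000000000000000000000cf6cc50f00000000ceabcd12cb13ccaa0000c31700000000cea3cd0acb0bcca20000d15c000000000000d18c00000000c4f90000d1560000ce98ccfa0000c300c29a0000000000000000ce8eccf1caf20000bed4d14e0000000000000000ce8600000000ce840000cce3cae40000d147000000000000ce7a0000ccdacadbc16bd13c0000ce770000bcef0000d1390000ce71cccecacfcc70000000000000000000000000ce6b0000d12d0000ce69c4b70000000000000000ce65d121000000000000c2c1c26800000000000000000000000000000000ce560000d114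0000ce54caa4c65500000000c8a8d10c0000ce4e0000d1060000ce4b0000d1010000ca92d0fc0000ce46c64800000000c899000000000000d0f30000ce3d00000000ce3ccc87ca88d0e90000d0e60000ce360000000000000000000000000000d0dd0000ce2dd0d6cc75ca76c769d0d30000d0d00000ce29d0cbcc6cca6dd0c60000d0c20000ca5c0000d0bcce210000c62400000000000000000000c86700000000000000000000d0ad0000d0a9000000000000cc16cc15d0a100000000d09d0000cc44c4950000d0960000ca490000cc11cc10000000000000d08cd0890000ce0c000000000000d082cd67000000000000000000000000ce08d0780000ce07d072d06f0000ce06d06acc1dc46200000000d064cc1c00000000ca25ca20cc05cc04000000000000ca500000ce02d04c0000ca420000ce01d03e0000d03a000000000000d02ed02bd027ca1b0000ce00d014d00fd003,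
  nat_lit 0xb1780000c9150000cd710000cf0700000000cd0300000000000000000000cd700000ceee000000000000674b000000000000c9440000000000009f1ccebd00000000a2bd000000000000000000000000d119d0ef0000d0af0000c63a00000000d00ab138cb610000000000000000cf0b0000cb5ac95b0000cf01cf00000000007b72000000000000cef1bb3e0000cee9cee8657f95480000974ac1320000cd6ec77b00000000cedb000000000000ced8000000000000ad440000cb36c937c2e1b315c8d1bf4700000000ccc80000c92bccc40000cec2cec16b24cebf0000000000000000a17c0000000000000000ceb59d7700000000cf6c000000000000c792c912ccabc7140000cea8d15fcea4cea3d15ed15dd18fcb08c909d18e0000cc9f0000cb8bce9bd158d157c4f8d18900000000cc980000d187c2ffc89a00000000ce8e00000000d15000000000d18300000000ce870000d14dd14c9d79c8e30000cc840000d149c13500000000ce7ad143d142d1410000c4d4d13d00000000c879c2d900000000c733c8cecc710000000000000000ce6dce6ccb2f0000000000000000ce69d12ad129c4b6d1270000d1760000000000000000ce630000c2c0d11d0000ce5a000000000000cf6900000000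0000cb13ce54d111d11000000000ce51d10ed10d00000000cc4e0000ce4b00000000d1020000cc48000000000000c69200000000c495d0f600000000d0f4000000000000ce3c00000000d0eb471900000000000000000000000000000000000000000000d0dec6d5c8750000cc2dc678000000000000cacfce29d0cd0000d0cad0c9d0c70000d0c300000000000000000000d0b8c65c000000000000ce1dc82800000000d0b3d0b2ce19000000000000d0aaca500000d0a5c853ce140000ce130000d09e00000000ca990000d097ca42d0940000c845ce0f00000000d08f0000d08a0000c967000000000000d083cc0c000000000000ce09000000000000ca76000000000000d070c65dc81c000000000000000000000000cc06ca1b0000d05e0000c81fce03d058000000000000ce02d04fd04d0000d047ce01d041d03f000000000000cf64d0310000d02cca20d023ce00d01ad015d010d004,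
  nat_lit 0x91440000cf1200000000c70d0000000000008744000000000000bf020000000000000000ccee0000000063790000712b60ea000000000000ccd20000000000000000000000000000000000000000cb1b0000d0f0000000000000000000000000d00b0000cf14cf13793dbf19c55d000000000000cf050000bd57bb58c954ccfec756000000000000c6f4000000000000000047449932000000000000cedf00008f94c5410000000083020000ced90000c93accd80000c938c739ced0cecf0000b312cece00000000597200000000000000006f7dbd29bb2a5b730000ccbf00000000000000000000cebab159730d00004b2bcd6dceaebd5fc10fcd6c0000ceabd162d161d192c310c1110000c4aac58fc90acca3c70c0000cea00000d15bd15a00000000bd87c0f9cc9bce99cb55000000000000d153bf01ce95ce92c0af0000c550c8f1cc8e0000cf6bd14fcb8200000000c68a5f7c00000000000000000000000000000000d1480000d1460000c8da0000cc7ac6ddd13e000000000000ce7500000000cb78ce71d137d136d133c4ca000000000000c670000000000000000000000000c0b7cc69ce6700000000000000000000d12000000000bec2ce620000000000000000000000000000d11a0000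ce55d115c30ec6a4cc54000000000000c4a90000ce4ed109d10800000000000000000000ce48d0ffd0fd00000000d0f8c64dce43d0f7c47400000000000000000000d0edc4ebc887cc3c00000000000000000000000000000000000000000000000000000000ce2d0000d0d70000d0d5c29100000000d0d1c4c9c86c0000cc29c66f00000000cac1ce24d0c0d0be000000000000d0b60000000000000000ce1c0000cb68000000000000d0b00000d0ac0000ce1500000000ce140000d0a20000c8440000ce12cc13d09acc410000ce100000d093ce0f0000000000000000d08d00000000000000000000000000000000ce0a00000000d07d000000000000d0790000c81d00000000ce0600000000cc07d068cc1a000000000000ce04d05f0000d05dce030000000000000000ce02d053d0500000d04ace01d045d04200000000d03bcf64d0340000d02f0000d028ce00d01fd01bd016d011d005,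
  nat_lit 0xcb580000000000000000000000000000000000000000000000000000cee700000000cb430000a8dc0000a56f0000cf6d0000a96dcf6ccea3ce8ea777ce7ad175d172c369c768c16b0000cf650000d167d00c000000000000cf0f0000000055290000000000000000c98c0000953c7b187b1900000000cef100000000000000000000694c000000000000000000000000cedd000000000000ceda0000000096fe000000007f5f0000000000000000000000000000000000000000cec7cec6cb2acec3cec2c92d000000006b2400009cf4000000000000000000000000000000000000592600007d540000000000000000cb11ceaacea9c9140000d1600000d1900000000000000000000000000000ce9ece9dce9bd18b000000000000d18a000000000000ce9600000000cc9300000000d185d1520000d1510000beaf00000000ce890000ce860000d17fd17e000000000000ce820000000000000000d145d144d17a0000d140000000000000000000000000000000000000cacdce70ce6f0000ce6ed13100000000ce6bd12fd12e0000ce69d12cd12b570b0000d1280000000000000000ce64d11f0000d11e0000000000000000000000000000bcefce560000383bce54d113d1120000000000000000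0000d171000000000000ce4bd105d1040000d103cc4ace47ce46d0fbd0fa00000000caf7ce42000000000000d17000000000ce3c0000d0ec00000000d0ea0000ce36d0e4d0e300000000d0e1d0e00000d0dfce2fd16e0000000000000000ce2bd0d4ce2a0000ce29d0cfd0ced0cc00000000d0c80000d0c4cc28ce230000ce21d0ba0000ce1f0000d0b4000000000000ce1b00000000000000000000d0aece16d0abd0a70000000000000000ce13d0a00000d09fca9a0000ce11d099d098d0950000ce0fd0920000000000000000ce0dd08b000000000000ce0bd085d08400000000d08000000000ce08d07b0000ce07d076d075d073d071ca68000000000000ce05d067d066d0650000d06200000000ce03d05c00000000d057ce02d05500000000d04ece01d0480000d0430000d03dcf64d038d035d032d030d02dce00d024d020d01cd017d012d006,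
  nat_lit 0xcf14cf120000000000000000000000000000000000000000cefb000000000000bb3e00000000ceec0000000000000000000000000000bee1ced1cecc000000000000ceae00000000000000000000ce57ce55d16f0000c766d0910000c5690000d00d00000000b736000000000000000000000000000000000000000000000000cefcad2e0000000000000000000000000000cee600000000657f0000000000008f6200000000000000000000b984000000000000ced6cb37ced00000b5619ae4ceceb31200000000cec8a8fbab5300006f23000000000000000000000000000000000000000000000000000000000000ceb400005d28000000000000ceabd163d1940000d19300000000cea700000000cb09cea2cea1c90c0000ce9fd18d0000d15900000000c0f8ce9a0000ce98d155d154d1880000ce950000000000000000000000000000ce8c00000000ce8bd182d1810000d18000000000ce84d14bd17d0000d14a000000000000d17c000000000000ce79ce78d13fce77d13bd13a000000000000ce71d178d1380000d1340000d177000000000000d13000000000000000000000c0b6ce680000ce66d126ce65d124d122000000000000ce6200000000d11ccc5e0000ce58d11b0000d1730000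d117d11600000000ce53d10f00000000ce4fce4ed10bd10a0000d107000000000000ce48d1000000d0fe00000000d0f900000000000000000000d0f5ce3dd0f2d0f1d0ee000000000000ce3ace38d0e8d0e700000000d0e2000000000000000000000000ce2dd0dbd0dad0d800000000c65b00000000d0d200000000c639ce28ce270000d0c5ce24d0c10000d0bfd0bd0000ce1fd0b7d0b5ce1e0000cab3000000000000ce1ace19d0b1d16dce17d16cce15d0a8d0a6ce140000d0a4d0a300000000ce12d09c0000d09b000000000000ce0f00000000000000000000d090d08ece0cd088d0870000d0860000ce0a00000000ce09d07fd07ed07c00000000d07a0000ca1b0000ce06d06dd06cd06b0000d06900000000ce040000d063d060ce030000c82bd05ad059ce02d0560000d054d051ce01d04bd049d046d044d040cf64d03c0000d036d0330000ce00d029d025d021d01dd018d013d007]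
noncomputable def Tf (k u : ℕ) : ℕ := Nat.land (Nat.shiftRight (nth (nat_lit 0) Tfd k) (Nat.mul u (nat_lit 16))) (nat_lit 65535)
noncomputable def Ifd : List ℕ := [nat_lit 0x10020010001200101100072730000000000010000b50000000006005000000100000000900002002200e080000010020000003010000000000000000000000000302000610000000000001000001202000000000003400000230026310005000400070000200000000000000000030080100020300001100000000000000001051240000002300000010ac000000010000000600000000020000000100d0010000538200000262530000400000000000000074000010000002567840000004,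
  nat_lit 0x304013024000030cb00011008000030020101100870705003000036870000002200044104000000400100301000108002102004002010a7130000110930000000010400000136020000000000000100000000040000000002220000071030000005500000223100000160000000012040600360000210000002000000000000001400004000025007200000000000000000800130002500070600000002120000000000000016000014350200000000200635008000000000000050000205010643705000005050005,
  nat_lit 0x1000000000000050000002011028000201000001170804003b000900000140000020605000006000004000040010000000001200000024081015020400040010500000000000000020051000000000000500000009001007000022008000105020000000050024000000016037000001004100200205001000000005106000000000000000000402000021161000370000008900a100002030000600000142121070000000600000000004500017000031240000030000700000030083001264500003000300300303033,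
  nat_lit 0x20000001111110006000120400000000500200000000000000030500004002000447000003003050000006000000000002000305000002040100010020100300400000200510000000003001000002061000001003050000000010020000010000400000000001002300010001000103100300000010000020101000000000100130610100120101030100300000000000101000451001020010004500011000001300000001001100120001300004500000010000101000111000111,
  nat_lit 0x803020000200000200000200040005000000000011010000183000000300000020000300000034020000000000000307030002042000500000700000000000004200010011130102000113100201030000010010000119402010000111051003000042000000000000113101000000010000000000011000110020000102000200010010000001000000000000104020000001011101000001200003001100001301000001000013100000101040001200000000000104000000230100010000110101100001010101111,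
  nat_lit 0x60000300000003000020020590002000000000000100000010005330000030420000300000a000000300000042040000000080000030202000000700020042001113003042000011000420000010003004200100030000000001010402010000000011130003000000420000001000000000001001042000000110000001100130120000010420000000000000000101000104020000011000100000060001010000001040021300010000010000000000010001040000021300001010000001101011001010101011111,
  nat_lit 0x2000000000000010020101010111161005510100000010070000102210010000060000001000100100400000000001121110040100000000030300002111000000000001110000000010030000000700101000000100000000000000000021101000100010090000001000000000011081000000000001000031100001100000010000001000000001000001010100000000310100100000100000010000001000101000010000010000100000001001000010001000000010000100001000001000001000000,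
  nat_lit 0x110000000000100020010000000311000100000110030010000900000000000015000000010040008000001000121014110011106000000000000000103000100000010021110100000210100001000000010010000001000000000001101000001000000000000000210101000001000401000000001000110000000100000000000010000001100000000000100000700000311001000001001010001100101001000001000000100000001000001001000000020100000001000101001000010000010000010000000]
noncomputable def If (k u : ℕ) : ℕ := Nat.land (Nat.shiftRight (nth (nat_lit 0) Ifd k) (Nat.mul u (nat_lit 4))) (nat_lit 15)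
noncomputable def Dfd : ℕ := nat_lit 0x68a7d12fa2575c5e86ed0a9a0f341be81bd02d9fdb3fa67dfcf99ae0f3d36b7bcee99dbf3b3e757ce8d9cfb397e6ffb6e75b9ab48568faccf57b2db75b6baaef6d9aa8f5476b6bf0f5a15fc2af83d2c385860307a765cc1095919000d15fa29744ee87ed0f9a19342e683bd06ba0b7413e80cd0099fcf3f7e7e7cfab9e7b3c7678ccefb9dcf3a66744ce6f9c7f38a670dce179bf6b7b56eeadd95b92b6e56d6ad9f5b36b6256c3ad7f5adeb49d687ad0b59f6b3cd677aceb59c6b2f5647ac7d58dab11d61eac2d5852b0655feabf957deaf455e7abc5577eaedd5d5ab9d56faad655a7ab0f55d6db25b63aacf557eaaed55baaad553aaa65544aa7f5492a8e551baa2f543ea86d505a9ff53eea7b54eea9bd5372a6dd4d7a99b531ea62d4c3a97d52daa57d4ada92b5232a3fd474a8e751bea33db5db6b9517ea2ed44ea87950daa19d42fa84f508ea10d41ea82d503e9ff53f6a7cd0f521e9c3d0879f0f1e1e143bf877b0eee1d6c3a687370e3e1c6c38b870d0dfa1be437686e70db21b2435e86b90d6e1abc34e86990d2e1a3c33d866f0cd6197c32b86530c9a191431c862f0c56187c30685a90b32163c2bd96990ada159c2ad854d0a92151c29f853d0a5e1464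27f84ef09d6139c26e84bd097212dc257848f091611f4236846908ce1174224843b085a5a3c1f783e907be0f6c1eb83cd07920f1c1df83af071e0df41b6836906ce0d1419e832f063e0c6c18782fcc5bd8b6b16b62d2c5998af315a62acc54d8a7314c6296c5218a3b13f626ec4cd893b125623cc459887310b61fec3f987d30f761eac3b1872b0de61b4c35d867b0cc618cc2fd85b30af615ac2a5853b0a56148c27984e309b612ec255847b08e6118c21d842b07f60fcc1f583e307760e8c1cd837306760cac18d830b05e60b4c15d82b3055609ec1398263046608ac10d01f203c407680e101ba035406680c5017a02e405880a9013a026404a808500fa01e403a807100d2017402c805500a2013401e8039006a00c40168029593ab26564aac915912b21200e40188029004200640088008000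
noncomputable def Df (u : ℕ) : ℕ := Nat.land (Nat.shiftRight Dfd (Nat.mul u (nat_lit 15))) (nat_lit 32767)
noncomputable def Eftd : ℕ := nat_lit 0x898bb533b534ad5c9b7d751e9d7d8b2d8d38494b993da730ab2f8540ad4e9f25530ca1254b282d2063464b039b424d1c4d30af39ab794cd28b034f07a573ab7350f34cee4aeaab07aaee50a3acd24e8e48864e4e46434c13480f061c4a0104030200
noncomputable def Eft (u : ℕ) : ℕ := Nat.land (Nat.shiftRight Eftd (Nat.mul u (nat_lit 16))) (nat_lit 65535)
noncomputable def Jftd : ℕ := nat_lit 0x42e4c08492d00dd08053975a082546814f8a0a98202ac000831c041011c14183060c18e1e38703823c703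
noncomputable def Jft (u : ℕ) : ℕ := Nat.land (Nat.shiftRight Jftd (Nat.mul u (nat_lit 7))) (nat_lit 127)
noncomputable def Wftd : ℕ := nat_lit 0x194c9e4b2390c7e3a5b38a5e2a6188c3e1b0b0cc1ca30346bfdfa397cbddeaf303bbddaeaf3babaae370b7dbadb6cb5daad3680e59acb64
noncomputable def Wft (u : ℕ) : ℕ := Nat.land (Nat.shiftRight Wftd (Nat.mul u (nat_lit 9))) (nat_lit 511)
@[irreducible] noncomputable def Ef (a : ℕ) : ℕ := force (Nat.sub a (nat_lit 356)) Eft
@[irreducible] noncomputable def Jf (a : ℕ) : ℕ := force (Nat.sub a (nat_lit 356)) Jft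
@[irreducible] noncomputable def Wf (a : ℕ) : ℕ := force (Nat.sub a (nat_lit 356)) Wft
noncomputable def RLf : List (List Rule) := [[.rel (nat_lit 0) (nat_lit 0) [nat_lit 0], .rel (nat_lit 58) (nat_lit 1) [nat_lit 7, nat_lit 0, nat_lit 1, nat_lit 7], .rel (nat_lit 46) (nat_lit 0) [nat_lit 6, nat_lit 0, nat_lit 6], .rel (nat_lit 18) (nat_lit 1) [nat_lit 3, nat_lit 0, nat_lit 3], .defn, .rel (nat_lit 24) (nat_lit 1) [nat_lit 5, nat_lit 0, nat_lit 5], .rel (nat_lit 22) (nat_lit 1) [nat_lit 4, nat_lit 0, nat_lit 4], .rel (nat_lit 20) (nat_lit 1) [nat_lit 2, nat_lit 0, nat_lit 2], .rel (nat_lit 16) (nat_lit 1) [nat_lit 1, nat_lit 0, nat_lit 1], .rel (nat_lit 30) (nat_lit 0) [nat_lit 4, nat_lit 1, nat_lit 4, nat_lit 1], .rel (nat_lit 31) (nat_lit 4) [nat_lit 1, nat_lit 4, nat_lit 1, nat_lit 4], .rel (nat_lit 34) (nat_lit 0) [nat_lit 2, nat_lit 3, nat_lit 2, nat_lit 3], .rel (nat_lit 58) (nat_lit 3) [nat_lit 1, nat_lit 7, nat_lit 0, nat_lit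 7], .rel (nat_lit 70) (nat_lit 2) [nat_lit 5, nat_lit 6, nat_lit 5, nat_lit 4, nat_lit 7, nat_lit 4, nat_lit 5, nat_lit 6, nat_lit 5, nat_lit 4, nat_lit 7, nat_lit 4, nat_lit 5, nat_lit 6, nat_lit 5, nat_lit 4, nat_lit 7, nat_lit 4, nat_lit 2, nat_lit 1], .rel (nat_lit 71) (nat_lit 18) [nat_lit 1, nat_lit 2, nat_lit 4, nat_lit 7, nat_lit 4, nat_lit 5, nat_lit 6, nat_lit 5, nat_lit 4, nat_lit 7, nat_lit 4, nat_lit 5, nat_lit 6, nat_lit 5, nat_lit 4, nat_lit 7, nat_lit 4, nat_lit 5, nat_lit 6, nat_lit 5]],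
  [.rel (nat_lit 2) (nat_lit 0) [nat_lit 1], .rel (nat_lit 60) (nat_lit 1) [nat_lit 7, nat_lit 1, nat_lit 7], .rel (nat_lit 48) (nat_lit 3) [nat_lit 6, nat_lit 1, nat_lit 2, nat_lit 6], .rel (nat_lit 26) (nat_lit 1) [nat_lit 3, nat_lit 1, nat_lit 3], .rel (nat_lit 30) (nat_lit 2) [nat_lit 4, nat_lit 1, nat_lit 0, nat_lit 4], .defn, .rel (nat_lit 32) (nat_lit 1) [nat_lit 5, nat_lit 1, nat_lit 5], .rel (nat_lit 28) (nat_lit 1) [nat_lit 2, nat_lit 1, nat_lit 2], .rel (nat_lit 16) (nat_lit 0) [nat_lit 0, nat_lit 1, nat_lit 0], .rel (nat_lit 48) (nat_lit 0) [nat_lit 2, nat_lit 6, nat_lit 1, nat_lit 6], .rel (nat_lit 30) (nat_lit 4) [nat_lit 0, nat_lit 4, nat_lit 1, nat_lit 4], .rel (nat_lit 42) (nat_lit 0) [nat_lit 5, nat_lit 2, nat_lit 5, nat_lit 2], .rel (nat_lit 43) (nat_lit 4) [nat_lit 2, nat_lit 5, nat_lit 2, nat_lit 5]],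
  [.rel (nat_lit 4) (nat_lit 0) [nat_lit 2], .rel (nat_lit 64) (nat_lit 1) [nat_lit 7, nat_lit 2, nat_lit 7], .rel (nat_lit 52) (nat_lit 0) [nat_lit 6, nat_lit 2, nat_lit 6], .defn, .rel (nat_lit 40) (nat_lit 1) [nat_lit 4, nat_lit 2, nat_lit 4], .rel (nat_lit 34) (nat_lit 3) [nat_lit 3, nat_lit 0, nat_lit 2, nat_lit 3], .rel (nat_lit 42) (nat_lit 2) [nat_lit 5, nat_lit 2, nat_lit 1, nat_lit 5], .rel (nat_lit 28) (nat_lit 0) [nat_lit 1, nat_lit 2, nat_lit 1], .rel (nat_lit 20) (nat_lit 0) [nat_lit 0, nat_lit 2, nat_lit 0], .rel (nat_lit 42) (nat_lit 4) [nat_lit 1, nat_lit 5, nat_lit 2, nat_lit 5], .rel (nat_lit 35) (nat_lit 1) [nat_lit 3, nat_lit 2, nat_lit 0, nat_lit 3], .rel (nat_lit 43) (nat_lit 0) [nat_lit 5, nat_lit 2, nat_lit 5, nat_lit 1]],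
  [.rel (nat_lit 6) (nat_lit 0) [nat_lit 3], .defn, .rel (nat_lit 62) (nat_lit 1) [nat_lit 7, nat_lit 3, nat_lit 5, nat_lit 7], .rel (nat_lit 50) (nat_lit 3) [nat_lit 6, nat_lit 3, nat_lit 4, nat_lit 6], .rel (nat_lit 38) (nat_lit 1) [nat_lit 5, nat_lit 3, nat_lit 5], .rel (nat_lit 36) (nat_lit 1) [nat_lit 4, nat_lit 3, nat_lit 4], .rel (nat_lit 34) (nat_lit 2) [nat_lit 2, nat_lit 3, nat_lit 0, nat_lit 2], .rel (nat_lit 26) (nat_lit 0) [nat_lit 1, nat_lit 3, nat_lit 1]],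
  [.rel (nat_lit 8) (nat_lit 0) [nat_lit 4], .defn, .rel (nat_lit 54) (nat_lit 0) [nat_lit 6, nat_lit 4, nat_lit 6], .rel (nat_lit 44) (nat_lit 2) [nat_lit 5, nat_lit 4, nat_lit 3, nat_lit 5], .rel (nat_lit 36) (nat_lit 0) [nat_lit 3, nat_lit 4, nat_lit 3], .rel (nat_lit 40) (nat_lit 0) [nat_lit 2, nat_lit 4, nat_lit 2], .rel (nat_lit 22) (nat_lit 0) [nat_lit 0, nat_lit 4, nat_lit 0], .rel (nat_lit 30) (nat_lit 3) [nat_lit 1, nat_lit 0, nat_lit 4, nat_lit 1], .rel (nat_lit 68) (nat_lit 1) [nat_lit 7, nat_lit 4, nat_lit 7, nat_lit 4, nat_lit 7], .rel (nat_lit 30) (nat_lit 1) [nat_lit 1, nat_lit 4, nat_lit 1, nat_lit 0], .rel (nat_lit 70) (nat_lit 8) [nat_lit 5, nat_lit 6, nat_lit 5, nat_lit 4, nat_lit 7, nat_lit 4, nat_lit 5, nat_lit 6, nat_lit 5, nat_lit 4, nat_lit 7, nat_lit 4, nat_lit 2, nat_lit 1, nat_lit 0, nat_lit 5, nat_lit 6, nat_lit 5, nat_lit 4, nat_lit 7]],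
  [.rel (nat_lit 10) (nat_lit 0) [nat_lit 5], .defn, .rel (nat_lit 66) (nat_lit 1) [nat_lit 7, nat_lit 5, nat_lit 7], .rel (nat_lit 44) (nat_lit 3) [nat_lit 4, nat_lit 3, nat_lit 5, nat_lit 4], .rel (nat_lit 38) (nat_lit 0) [nat_lit 3, nat_lit 5, nat_lit 3], .rel (nat_lit 56) (nat_lit 1) [nat_lit 6, nat_lit 5, nat_lit 6, nat_lit 5, nat_lit 6], .rel (nat_lit 42) (nat_lit 3) [nat_lit 2, nat_lit 1, nat_lit 5, nat_lit 2], .rel (nat_lit 24) (nat_lit 0) [nat_lit 0, nat_lit 5, nat_lit 0], .rel (nat_lit 32) (nat_lit 0) [nat_lit 1, nat_lit 5, nat_lit 1], .rel (nat_lit 42) (nat_lit 1) [nat_lit 2, nat_lit 5, nat_lit 2, nat_lit 1], .rel (nat_lit 63) (nat_lit 0) [nat_lit 3, nat_lit 7, nat_lit 3, nat_lit 7], .rel (nat_lit 70) (nat_lit 11) [nat_lit 4, nat_lit 7, nat_lit 4, nat_lit 5, nat_lit 6, nat_lit 5, nat_lit 4, nat_lit 7, nat_lit 4, nat_lit 2, nat_lit 1, nat_lit 0, nat_lit 5, nat_lit 6, nat_lit 5, nat_lit 4, nat_lit 7, nat_lit 4, nat_lit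 5, nat_lit 6]],
  [.defn, .rel (nat_lit 12) (nat_lit 0) [nat_lit 6], .rel (nat_lit 50) (nat_lit 4) [nat_lit 3, nat_lit 4, nat_lit 6, nat_lit 3], .rel (nat_lit 56) (nat_lit 0) [nat_lit 5, nat_lit 6, nat_lit 5, nat_lit 6, nat_lit 5], .rel (nat_lit 52) (nat_lit 1) [nat_lit 2, nat_lit 6, nat_lit 2], .rel (nat_lit 48) (nat_lit 4) [nat_lit 1, nat_lit 2, nat_lit 6, nat_lit 1], .rel (nat_lit 49) (nat_lit 0) [nat_lit 1, nat_lit 6, nat_lit 2, nat_lit 1], .rel (nat_lit 54) (nat_lit 1) [nat_lit 4, nat_lit 6, nat_lit 4], .rel (nat_lit 46) (nat_lit 1) [nat_lit 0, nat_lit 6, nat_lit 0], .rel (nat_lit 48) (nat_lit 2) [nat_lit 1, nat_lit 6, nat_lit 1, nat_lit 2], .rel (nat_lit 70) (nat_lit 10) [nat_lit 5, nat_lit 4, nat_lit 7, nat_lit 4, nat_lit 5, nat_lit 6, nat_lit 5, nat_lit 4, nat_lit 7, nat_lit 4, nat_lit 2, nat_lit 1, nat_lit 0, nat_lit 5, nat_lit 6, nat_lit 5, nat_lit 4, nat_lit 7, nat_lit 4, nat_lit 5]],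
  [.defn, .rel (nat_lit 14) (nat_lit 0) [nat_lit 7], .rel (nat_lit 62) (nat_lit 2) [nat_lit 3, nat_lit 5, nat_lit 7, nat_lit 3], .rel (nat_lit 58) (nat_lit 2) [nat_lit 0, nat_lit 1, nat_lit 7, nat_lit 0], .rel (nat_lit 68) (nat_lit 0) [nat_lit 4, nat_lit 7, nat_lit 4, nat_lit 7, nat_lit 4], .rel (nat_lit 59) (nat_lit 2) [nat_lit 0, nat_lit 7, nat_lit 1, nat_lit 0], .rel (nat_lit 63) (nat_lit 2) [nat_lit 3, nat_lit 7, nat_lit 5, nat_lit 3], .rel (nat_lit 64) (nat_lit 0) [nat_lit 2, nat_lit 7, nat_lit 2], .rel (nat_lit 66) (nat_lit 0) [nat_lit 5, nat_lit 7, nat_lit 5], .rel (nat_lit 70) (nat_lit 7) [nat_lit 4, nat_lit 5, nat_lit 6, nat_lit 5, nat_lit 4, nat_lit 7, nat_lit 4, nat_lit 5, nat_lit 6, nat_lit 5, nat_lit 4, nat_lit 7, nat_lit 4, nat_lit 2, nat_lit 1, nat_lit 0, nat_lit 5, nat_lit 6, nat_lit 5, nat_lit 4]]]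
noncomputable def cf : TCert2 := ⟨356, 0, 405, 8, 511, 4095, 2, Tf, If, Df, Ef, Jf, Wf, [], RLf⟩

theorem ivc : ivChk Rl (nat_lit 14) = true := by decide +kernel
theorem app : H1.HdT.RB ++ Rl.drop 69 = Rl := by decide +kernel
theorem tcb12e_a : allZ2 (ent2 Tb12 Eb12 (selR RLb12 Ib12) Db12 (nat_lit 7) (nat_lit 7) (nat_lit 7) (nat_lit 8) (nat_lit 12) (nat_lit 127) (nat_lit 1)) (nat_lit 12) (nat_lit 8) = true := by decide +kernel
theorem tcb12p_0 : allZ (eps2 Tb12 Eb12 Jb12 Wb12 RLb12 (nat_lit 7) (nat_lit 7) (nat_lit 8) (nat_lit 12) (nat_lit 1)) (nat_lit 0) (nat_lit 1) = true := by decide +kernel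
theorem tcb12r : rulesChk Rl cb12.Sl RLb12 (nat_lit 12) = true := by decide +kernel
theorem tcb12n : 0 < cb12.M ∧ cb12.n0 ≤ cb12.M ∧ 0 < cb12.K ∧ cb12.K ≤ 14 ∧ cb12.D 0 = 0 := by decide +kernel
theorem tcb12q : cb12.M - cb12.n = 1 := by decide +kernel
theorem stb12 : allL (ltAll 11) cb12.Sl = true ∧ 0 < cb12.n0 ∧ cb12.K = 12 ∧ cb12.n0 * 3072 = 21504 := by decide +kernel
theorem tcb13e_a : allZ2 (ent2 Tb13 Eb13 (selR RLb13 Ib13) Db13 (nat_lit 31) (nat_lit 15) (nat_lit 15) (nat_lit 18) (nat_lit 13) (nat_lit 255) (nat_lit 1)) (nat_lit 13) (nat_lit 18) = true := by decide +kernel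
theorem tcb13p_0 : allZ (eps2 Tb13 Eb13 Jb13 Wb13 RLb13 (nat_lit 31) (nat_lit 15) (nat_lit 18) (nat_lit 13) (nat_lit 1)) (nat_lit 0) (nat_lit 3) = true := by decide +kernel
theorem tcb13r : rulesChk Rl cb13.Sl RLb13 (nat_lit 13) = true := by decide +kernel
theorem tcb13n : 0 < cb13.M ∧ cb13.n0 ≤ cb13.M ∧ 0 < cb13.K ∧ cb13.K ≤ 14 ∧ cb13.D 0 = 0 := by decide +kernel
theorem tcb13q : cb13.M - cb13.n = 3 := by decide +kernel
theorem stb13 : allL (ltAll 12) cb13.Sl = true ∧ 0 < cb13.n0 ∧ cb13.K = 13 ∧ cb13.n0 * 21504 = 322560 := by decide +kernel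
theorem sub : subChk [nat_lit 0, nat_lit 2, nat_lit 5, nat_lit 3, nat_lit 6, nat_lit 7, nat_lit 11, nat_lit 12] Rf R2 [nat_lit 0, nat_lit 2, nat_lit 5, nat_lit 3, nat_lit 6, nat_lit 7, nat_lit 11, nat_lit 12, nat_lit 15, nat_lit 16, nat_lit 18, nat_lit 19, nat_lit 20, nat_lit 31, nat_lit 33, nat_lit 34, nat_lit 35, nat_lit 39, nat_lit 40, nat_lit 41, nat_lit 49, nat_lit 50, nat_lit 53, nat_lit 69, nat_lit 71, nat_lit 72, nat_lit 74, nat_lit 75, nat_lit 78, nat_lit 80, nat_lit 82, nat_lit 83, nat_lit 85, nat_lit 86, nat_lit 90, nat_lit 91] = true := by decide +kernel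
theorem iv2 : ivChk R2 (nat_lit 8) = true := by decide +kernel
theorem tcfe_a : allZ2 (ent2 Tf Ef (selR RLf If) Df (nat_lit 511) (nat_lit 356) (nat_lit 0) (nat_lit 405) (nat_lit 8) (nat_lit 4095) (nat_lit 2)) (nat_lit 8) (nat_lit 405) = true := by decide +kernel
theorem tcfp_0 : allZ (eps2 Tf Ef Jf Wf RLf (nat_lit 511) (nat_lit 356) (nat_lit 405) (nat_lit 8) (nat_lit 2)) (nat_lit 0) (nat_lit 49) = true := by decide +kernel
theorem tcfr : rulesChk R2 cf.Sl RLf (nat_lit 8) = true := by decide +kernel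
theorem tcfn : 0 < cf.M ∧ cf.n0 ≤ cf.M ∧ 0 < cf.K ∧ cf.K ≤ 8 ∧ cf.D 0 = 0 := by decide +kernel
theorem tcfq : cf.M - cf.n = 49 := by decide +kernel
theorem gl : cf.Sl = [] ∧ cf.goal [0] = 0 := by decide +kernel

theorem tcb12e : ∀ k < 12, ∀ i < 8, (ent2 Tb12 Eb12 (selR RLb12 Ib12) Db12 (nat_lit 7) (nat_lit 7) (nat_lit 7) (nat_lit 8) (nat_lit 12) (nat_lit 127) (nat_lit 1)) k i = 0 := allZ2_sound tcb12e_a
theorem tcb12p : ∀ i < 1, (eps2 Tb12 Eb12 Jb12 Wb12 RLb12 (nat_lit 7) (nat_lit 7) (nat_lit 8) (nat_lit 12) (nat_lit 1)) i = 0 := allZ_sound0 tcb12p_0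
theorem tcb12 : cb12.OK Rl 14 := ⟨tcb12n, ivc, tcb12r, tcb12e, fun i h => tcb12p i (lt_of_lt_of_eq h tcb12q)⟩
theorem bdb12 : Bound Rl 12 21504 := Bound.step2 (H1.HdT.bd_app app) tcb12 stb12
theorem tcb13e : ∀ k < 13, ∀ i < 18, (ent2 Tb13 Eb13 (selR RLb13 Ib13) Db13 (nat_lit 31) (nat_lit 15) (nat_lit 15) (nat_lit 18) (nat_lit 13) (nat_lit 255) (nat_lit 1)) k i = 0 := allZ2_sound tcb13e_a
theorem tcb13p : ∀ i < 3, (eps2 Tb13 Eb13 Jb13 Wb13 RLb13 (nat_lit 31) (nat_lit 15) (nat_lit 18) (nat_lit 13) (nat_lit 1)) i = 0 := allZ_sound0 tcb13p_0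
theorem tcb13 : cb13.OK Rl 14 := ⟨tcb13n, ivc, tcb13r, tcb13e, fun i h => tcb13p i (lt_of_lt_of_eq h tcb13q)⟩
theorem bdb13 : Bound Rl 13 322560 := Bound.step2 (bdb12) tcb13 stb13
theorem tcfe : ∀ k < 8, ∀ i < 405, (ent2 Tf Ef (selR RLf If) Df (nat_lit 511) (nat_lit 356) (nat_lit 0) (nat_lit 405) (nat_lit 8) (nat_lit 4095) (nat_lit 2)) k i = 0 := allZ2_sound tcfe_a
theorem tcfp : ∀ i < 49, (eps2 Tf Ef Jf Wf RLf (nat_lit 511) (nat_lit 356) (nat_lit 405) (nat_lit 8) (nat_lit 2)) i = 0 := allZ_sound0 tcfp_0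
theorem tcf : cf.OK R2 8 := ⟨tcfn, iv2, tcfr, tcfe, fun i h => tcfp i (lt_of_lt_of_eq h tcfq)⟩
theorem coll {G : Type*} [Group G] {g : ℕ → G} (h : Rels g Rf) : g 0 = 1 := by
  have := Subgroup.mem_bot.1 (tcf.mem (h.rl sub) (by simp [gl.1]) gl.2)
  rwa [evA_cons, evA_nil, one_mul] at this

end H1.HdT.O
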