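import Cfsg.Agent.H1.HdT0

/-! Generated by tools/h16 (computation kit). -/

set_option maxRecDepth 100000
set_option maxHeartbeats 0

namespace H1.HdT.L

open H16

noncomputable def Rl : List (List ℕ) := [[nat_lit 0, nat_lit 0],
  [nat_lit 1, nat_lit 1],
  [nat_lit 2, nat_lit 2],
  [nat_lit 3, nat_lit 3],
  [nat_lit 4, nat_lit 4],
  [nat_lit 5, nat_lit 5],
  [nat_lit 6, nat_lit 6],
  [nat_lit 7, nat_lit 7],
  [nat_lit 8, nat_lit 8],
  [nat_lit 9, nat_lit 9],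
  [nat_lit 10, nat_lit 10],
  [nat_lit 11, nat_lit 11],
  [nat_lit 12, nat_lit 12],
  [nat_lit 13, nat_lit 13],
  [nat_lit 1, nat_lit 0, nat_lit 1, nat_lit 0],
  [nat_lit 2, nat_lit 0, nat_lit 2, nat_lit 0],
  [nat_lit 3, nat_lit 0, nat_lit 3, nat_lit 0],
  [nat_lit 4, nat_lit 0, nat_lit 4, nat_lit 0],
  [nat_lit 5, nat_lit 0, nat_lit 5, nat_lit 0],
  [nat_lit 6, nat_lit 0, nat_lit 6, nat_lit 0],
  [nat_lit 7, nat_lit 0, nat_lit 7, nat_lit 0],
  [nat_lit 8, nat_lit 0, nat_lit 8, nat_lit 0],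
  [nat_lit 9, nat_lit 0, nat_lit 9, nat_lit 0],
  [nat_lit 2, nat_lit 1, nat_lit 2, nat_lit 1],
  [nat_lit 3, nat_lit 1, nat_lit 3, nat_lit 1],
  [nat_lit 4, nat_lit 1, nat_lit 4, nat_lit 1],
  [nat_lit 5, nat_lit 1, nat_lit 5, nat_lit 1],
  [nat_lit 6, nat_lit 1, nat_lit 6, nat_lit 1],
  [nat_lit 7, nat_lit 1, nat_lit 7, nat_lit 1],
  [nat_lit 8, nat_lit 1, nat_lit 8, nat_lit 1],
  [nat_lit 0, nat_lit 9, nat_lit 1, nat_lit 9, nat_lit 1],
  [nat_lit 3, nat_lit 2, nat_lit 3, nat_lit 2],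
  [nat_lit 4, nat_lit 2, nat_lit 4, nat_lit 2],
  [nat_lit 5, nat_lit 2, nat_lit 5, nat_lit 2],
  [nat_lit 0, nat_lit 6, nat_lit 2, nat_lit 6, nat_lit 2],
  [nat_lit 7, nat_lit 2, nat_lit 7, nat_lit 2],
  [nat_lit 8, nat_lit 2, nat_lit 8, nat_lit 2],
  [nat_lit 9, nat_lit 2, nat_lit 9, nat_lit 2],
  [nat_lit 4, nat_lit 3, nat_lit 4, nat_lit 3],
  [nat_lit 0, nat_lit 5, nat_lit 3, nat_lit 5, nat_lit 3],
  [nat_lit 6, nat_lit 3, nat_lit 6, nat_lit 3],
  [nat_lit 7, nat_lit 3, nat_lit 7, nat_lit 3],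
  [nat_lit 1, nat_lit 8, nat_lit 3, nat_lit 8, nat_lit 3],
  [nat_lit 9, nat_lit 3, nat_lit 9, nat_lit 3],
  [nat_lit 5, nat_lit 4, nat_lit 5, nat_lit 4],
  [nat_lit 1, nat_lit 6, nat_lit 4, nat_lit 6, nat_lit 4],
  [nat_lit 7, nat_lit 4, nat_lit 7, nat_lit 4],
  [nat_lit 8, nat_lit 4, nat_lit 8, nat_lit 4],
  [nat_lit 2, nat_lit 9, nat_lit 4, nat_lit 9, nat_lit 4],
  [nat_lit 6, nat_lit 5, nat_lit 6, nat_lit 5],
  [nat_lit 2, nat_lit 7, nat_lit 5, nat_lit 7, nat_lit 5],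
  [nat_lit 8, nat_lit 5, nat_lit 8, nat_lit 5],
  [nat_lit 9, nat_lit 5, nat_lit 9, nat_lit 5],
  [nat_lit 3, nat_lit 7, nat_lit 6, nat_lit 7, nat_lit 6],
  [nat_lit 8, nat_lit 6, nat_lit 8, nat_lit 6],
  [nat_lit 9, nat_lit 6, nat_lit 9, nat_lit 6],
  [nat_lit 4, nat_lit 8, nat_lit 7, nat_lit 8, nat_lit 7],
  [nat_lit 9, nat_lit 7, nat_lit 9, nat_lit 7],
  [nat_lit 5, nat_lit 9, nat_lit 8, nat_lit 9, nat_lit 8],
  [nat_lit 0, nat_lit 10, nat_lit 0, nat_lit 10],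
  [nat_lit 1, nat_lit 3, nat_lit 10, nat_lit 1, nat_lit 10],
  [nat_lit 2, nat_lit 10, nat_lit 2, nat_lit 10],
  [nat_lit 3, nat_lit 10, nat_lit 3, nat_lit 10],
  [nat_lit 4, nat_lit 7, nat_lit 10, nat_lit 4, nat_lit 10],
  [nat_lit 5, nat_lit 9, nat_lit 10, nat_lit 5, nat_lit 10],
  [nat_lit 6, nat_lit 10, nat_lit 6, nat_lit 10],
  [nat_lit 7, nat_lit 10, nat_lit 7, nat_lit 10],
  [nat_lit 9, nat_lit 10, nat_lit 9, nat_lit 10],
  [nat_lit 10, nat_lit 8, nat_lit 10, nat_lit 8, nat_lit 10, nat_lit 8],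
  [nat_lit 11, nat_lit 0, nat_lit 11, nat_lit 0, nat_lit 2],
  [nat_lit 11, nat_lit 1, nat_lit 11, nat_lit 1, nat_lit 4],
  [nat_lit 11, nat_lit 2, nat_lit 11, nat_lit 2],
  [nat_lit 11, nat_lit 3, nat_lit 11, nat_lit 3, nat_lit 7],
  [nat_lit 11, nat_lit 4, nat_lit 11, nat_lit 4],
  [nat_lit 11, nat_lit 5, nat_lit 11, nat_lit 5],
  [nat_lit 11, nat_lit 7, nat_lit 11, nat_lit 7],
  [nat_lit 11, nat_lit 8, nat_lit 11, nat_lit 8],
  [nat_lit 11, nat_lit 9, nat_lit 11, nat_lit 9],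
  [nat_lit 11, nat_lit 10, nat_lit 11, nat_lit 10],
  [nat_lit 12, nat_lit 0, nat_lit 12, nat_lit 0, nat_lit 1],
  [nat_lit 12, nat_lit 1, nat_lit 12, nat_lit 1],
  [nat_lit 12, nat_lit 2, nat_lit 12, nat_lit 2, nat_lit 4],
  [nat_lit 12, nat_lit 3, nat_lit 12, nat_lit 3],
  [nat_lit 12, nat_lit 4, nat_lit 12, nat_lit 4],
  [nat_lit 12, nat_lit 5, nat_lit 12, nat_lit 5, nat_lit 8],
  [nat_lit 12, nat_lit 6, nat_lit 12, nat_lit 6],
  [nat_lit 12, nat_lit 7, nat_lit 12, nat_lit 7],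
  [nat_lit 12, nat_lit 8, nat_lit 12, nat_lit 8],
  [nat_lit 12, nat_lit 13, nat_lit 12, nat_lit 13],
  [nat_lit 0, nat_lit 13, nat_lit 0, nat_lit 13],
  [nat_lit 1, nat_lit 13, nat_lit 1, nat_lit 13],
  [nat_lit 2, nat_lit 5, nat_lit 13, nat_lit 2, nat_lit 13],
  [nat_lit 3, nat_lit 6, nat_lit 13, nat_lit 3, nat_lit 13],
  [nat_lit 4, nat_lit 8, nat_lit 13, nat_lit 4, nat_lit 13],
  [nat_lit 5, nat_lit 13, nat_lit 5, nat_lit 13],
  [nat_lit 6, nat_lit 13, nat_lit 6, nat_lit 13],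
  [nat_lit 8, nat_lit 13, nat_lit 8, nat_lit 13],
  [nat_lit 9, nat_lit 13, nat_lit 9, nat_lit 13],
  [nat_lit 13, nat_lit 7, nat_lit 13, nat_lit 7, nat_lit 13, nat_lit 7],
  [nat_lit 8, nat_lit 10, nat_lit 8, nat_lit 7, nat_lit 13, nat_lit 7, nat_lit 8, nat_lit 10, nat_lit 8, nat_lit 7, nat_lit 13, nat_lit 7, nat_lit 8, nat_lit 10, nat_lit 8, nat_lit 7, nat_lit 13, nat_lit 7],
  [nat_lit 11, nat_lit 6, nat_lit 11, nat_lit 6, nat_lit 11, nat_lit 6],
  [nat_lit 12, nat_lit 9, nat_lit 12, nat_lit 9, nat_lit 12, nat_lit 9],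
  [nat_lit 12, nat_lit 11, nat_lit 12, nat_lit 11],
  [nat_lit 12, nat_lit 10, nat_lit 8, nat_lit 12, nat_lit 10, nat_lit 8, nat_lit 12, nat_lit 10, nat_lit 8],
  [nat_lit 11, nat_lit 13, nat_lit 7, nat_lit 11, nat_lit 13, nat_lit 7, nat_lit 11, nat_lit 13, nat_lit 7]]
noncomputable def Tb12d : List ℕ := [nat_lit 0x1930,
  nat_lit 0x1930,
  nat_lit 0x1930,
  nat_lit 0x1930,
  nat_lit 0x1930,
  nat_lit 0x1930,
  nat_lit 0x3650,
  nat_lit 0x1930,
  nat_lit 0x1930,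
  nat_lit 0x1930,
  nat_lit 0x1930,
  nat_lit 0x2991]
noncomputable def Tb12 (k u : ℕ) : ℕ := Nat.land (Nat.shiftRight (nth (nat_lit 0) Tb12d k) (Nat.mul u (nat_lit 5))) (nat_lit 31)
noncomputable def Ib12d : List ℕ := [nat_lit 0x18,
  nat_lit 0x18,
  nat_lit 0x18,
  nat_lit 0x18,
  nat_lit 0x18,
  nat_lit 0x18,
  nat_lit 0x24,
  nat_lit 0x18,
  nat_lit 0x18,
  nat_lit 0x18,
  nat_lit 0x18,
  nat_lit 0x24]
noncomputable def Ib12 (k u : ℕ) : ℕ := Nat.land (Nat.shiftRight (nth (nat_lit 0) Ib12d k) (Nat.mul u (nat_lit 2))) (nat_lit 3)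
noncomputable def Db12d : ℕ := nat_lit 0x924b00
noncomputable def Db12 (u : ℕ) : ℕ := Nat.land (Nat.shiftRight Db12d (Nat.mul u (nat_lit 8))) (nat_lit 255)
noncomputable def Eb12 (_ : ℕ) : ℕ := nat_lit 0
noncomputable def Jb12 (_ : ℕ) : ℕ := nat_lit 0
noncomputable def Wb12 (_ : ℕ) : ℕ := nat_lit 0
noncomputable def RLb12 : List (List Rule) := [[.sub (nat_lit 0) [] [], .rel (nat_lit 38) (nat_lit 1) [nat_lit 6, nat_lit 0, nat_lit 6], .rel (nat_lit 138) (nat_lit 1) [nat_lit 11, nat_lit 0, nat_lit 2, nat_lit 11]],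
  [.sub (nat_lit 2) [] [], .rel (nat_lit 54) (nat_lit 1) [nat_lit 6, nat_lit 1, nat_lit 6], .rel (nat_lit 140) (nat_lit 1) [nat_lit 11, nat_lit 1, nat_lit 4, nat_lit 11]],
  [.sub (nat_lit 4) [] [], .rel (nat_lit 68) (nat_lit 2) [nat_lit 6, nat_lit 2, nat_lit 0, nat_lit 6], .rel (nat_lit 142) (nat_lit 1) [nat_lit 11, nat_lit 2, nat_lit 11]],
  [.sub (nat_lit 6) [] [], .rel (nat_lit 80) (nat_lit 1) [nat_lit 6, nat_lit 3, nat_lit 6], .rel (nat_lit 144) (nat_lit 1) [nat_lit 11, nat_lit 3, nat_lit 7, nat_lit 11]],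
  [.sub (nat_lit 8) [] [], .rel (nat_lit 90) (nat_lit 2) [nat_lit 6, nat_lit 4, nat_lit 1, nat_lit 6], .rel (nat_lit 146) (nat_lit 1) [nat_lit 11, nat_lit 4, nat_lit 11]],
  [.sub (nat_lit 10) [] [], .rel (nat_lit 98) (nat_lit 1) [nat_lit 6, nat_lit 5, nat_lit 6], .rel (nat_lit 148) (nat_lit 1) [nat_lit 11, nat_lit 5, nat_lit 11]],
  [.sub (nat_lit 12) [] [], .defn, .rel (nat_lit 12) (nat_lit 0) [nat_lit 6]],
  [.sub (nat_lit 14) [] [], .rel (nat_lit 106) (nat_lit 3) [nat_lit 6, nat_lit 3, nat_lit 7, nat_lit 6], .rel (nat_lit 150) (nat_lit 1) [nat_lit 11, nat_lit 7, nat_lit 11]],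
  [.sub (nat_lit 16) [] [], .rel (nat_lit 108) (nat_lit 0) [nat_lit 6, nat_lit 8, nat_lit 6], .rel (nat_lit 152) (nat_lit 1) [nat_lit 11, nat_lit 8, nat_lit 11]],
  [.sub (nat_lit 18) [] [], .rel (nat_lit 110) (nat_lit 0) [nat_lit 6, nat_lit 9, nat_lit 6], .rel (nat_lit 154) (nat_lit 1) [nat_lit 11, nat_lit 9, nat_lit 11]],
  [.sub (nat_lit 20) [] [], .rel (nat_lit 130) (nat_lit 1) [nat_lit 6, nat_lit 10, nat_lit 6], .rel (nat_lit 156) (nat_lit 1) [nat_lit 11, nat_lit 10, nat_lit 11]],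
  [.defn, .rel (nat_lit 22) (nat_lit 0) [nat_lit 11], .rel (nat_lit 200) (nat_lit 0) [nat_lit 6, nat_lit 11, nat_lit 6, nat_lit 11, nat_lit 6]]]
noncomputable def cb12 : TCert2 := ⟨3, 3, 3, 12, 3, 63, 0, Tb12, Ib12, Db12, Eb12, Jb12, Wb12, [[nat_lit 0],
  [nat_lit 1],
  [nat_lit 2],
  [nat_lit 3],
  [nat_lit 4],
  [nat_lit 5],
  [nat_lit 6],
  [nat_lit 7],
  [nat_lit 8],
  [nat_lit 9],
  [nat_lit 10]], RLb12⟩
noncomputable def Tb13d : List ℕ := [nat_lit 0x1675c8e2a78,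
  nat_lit 0x1675c8e2a78,
  nat_lit 0x1675c8e2a78,
  nat_lit 0x1675c8e2a78,
  nat_lit 0x1675c8e2a78,
  nat_lit 0x153a3722a78,
  nat_lit 0x1675c8e2a78,
  nat_lit 0x1675c8e2a78,
  nat_lit 0x34cfef62a78,
  nat_lit 0x1e56b931eb8,
  nat_lit 0x1e972c7cef8,
  nat_lit 0x1675c8e2a78,
  nat_lit 0xe8d476ac39]
noncomputable def Tb13 (k u : ℕ) : ℕ := Nat.land (Nat.shiftRight (nth (nat_lit 0) Tb13d k) (Nat.mul u (nat_lit 6))) (nat_lit 63)
noncomputable def Ib13d : List ℕ := [nat_lit 0x12e2,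
  nat_lit 0x12e2,
  nat_lit 0x12e2,
  nat_lit 0x12e2,
  nat_lit 0x12e2,
  nat_lit 0x840e9,
  nat_lit 0x12e2,
  nat_lit 0x12e2,
  nat_lit 0x480e2,
  nat_lit 0x4c01a,
  nat_lit 0x91203,
  nat_lit 0x12e2,
  nat_lit 0xea101]
noncomputable def Ib13 (k u : ℕ) : ℕ := Nat.land (Nat.shiftRight (nth (nat_lit 0) Ib13d k) (Nat.mul u (nat_lit 3))) (nat_lit 7)
noncomputable def Db13d : ℕ := nat_lit 0x23c6bda445d1623000
noncomputable def Db13 (u : ℕ) : ℕ := Nat.land (Nat.shiftRight Db13d (Nat.mul u (nat_lit 10))) (nat_lit 1023)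
noncomputable def Eb13 (_ : ℕ) : ℕ := nat_lit 0
noncomputable def Jb13 (_ : ℕ) : ℕ := nat_lit 0
noncomputable def Wb13 (_ : ℕ) : ℕ := nat_lit 0
noncomputable def RLb13 : List (List Rule) := [[.rel (nat_lit 42) (nat_lit 1) [nat_lit 8, nat_lit 0, nat_lit 8], .rel (nat_lit 118) (nat_lit 0) [nat_lit 10, nat_lit 0, nat_lit 10], .sub (nat_lit 0) [] [], .rel (nat_lit 44) (nat_lit 1) [nat_lit 9, nat_lit 0, nat_lit 9], .rel (nat_lit 158) (nat_lit 1) [nat_lit 12, nat_lit 0, nat_lit 1, nat_lit 12]],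
  [.rel (nat_lit 58) (nat_lit 1) [nat_lit 8, nat_lit 1, nat_lit 8], .rel (nat_lit 120) (nat_lit 3) [nat_lit 10, nat_lit 1, nat_lit 3, nat_lit 10], .sub (nat_lit 2) [] [], .rel (nat_lit 60) (nat_lit 2) [nat_lit 9, nat_lit 1, nat_lit 0, nat_lit 9], .rel (nat_lit 160) (nat_lit 1) [nat_lit 12, nat_lit 1, nat_lit 12]],
  [.rel (nat_lit 72) (nat_lit 1) [nat_lit 8, nat_lit 2, nat_lit 8], .rel (nat_lit 122) (nat_lit 0) [nat_lit 10, nat_lit 2, nat_lit 10], .sub (nat_lit 4) [] [], .rel (nat_lit 74) (nat_lit 1) [nat_lit 9, nat_lit 2, nat_lit 9], .rel (nat_lit 162) (nat_lit 1) [nat_lit 12, nat_lit 2, nat_lit 4, nat_lit 12]],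
  [.rel (nat_lit 84) (nat_lit 2) [nat_lit 8, nat_lit 3, nat_lit 1, nat_lit 8], .rel (nat_lit 124) (nat_lit 0) [nat_lit 10, nat_lit 3, nat_lit 10], .sub (nat_lit 6) [] [], .rel (nat_lit 86) (nat_lit 1) [nat_lit 9, nat_lit 3, nat_lit 9], .rel (nat_lit 164) (nat_lit 1) [nat_lit 12, nat_lit 3, nat_lit 12]],
  [.rel (nat_lit 94) (nat_lit 1) [nat_lit 8, nat_lit 4, nat_lit 8], .rel (nat_lit 126) (nat_lit 3) [nat_lit 10, nat_lit 4, nat_lit 7, nat_lit 10], .sub (nat_lit 8) [] [], .rel (nat_lit 96) (nat_lit 2) [nat_lit 9, nat_lit 4, nat_lit 2, nat_lit 9], .rel (nat_lit 166) (nat_lit 1) [nat_lit 12, nat_lit 4, nat_lit 12]],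
  [.rel (nat_lit 10) (nat_lit 0) [nat_lit 5], .sub (nat_lit 10) [] [], .rel (nat_lit 102) (nat_lit 1) [nat_lit 8, nat_lit 5, nat_lit 8], .rel (nat_lit 104) (nat_lit 1) [nat_lit 9, nat_lit 5, nat_lit 9], .rel (nat_lit 128) (nat_lit 3) [nat_lit 10, nat_lit 5, nat_lit 9, nat_lit 10], .rel (nat_lit 168) (nat_lit 1) [nat_lit 12, nat_lit 5, nat_lit 8, nat_lit 12]],
  [.rel (nat_lit 108) (nat_lit 1) [nat_lit 8, nat_lit 6, nat_lit 8], .rel (nat_lit 130) (nat_lit 0) [nat_lit 10, nat_lit 6, nat_lit 10], .sub (nat_lit 12) [] [], .rel (nat_lit 110) (nat_lit 1) [nat_lit 9, nat_lit 6, nat_lit 9], .rel (nat_lit 170) (nat_lit 1) [nat_lit 12, nat_lit 6, nat_lit 12]],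
  [.rel (nat_lit 112) (nat_lit 2) [nat_lit 8, nat_lit 7, nat_lit 4, nat_lit 8], .rel (nat_lit 132) (nat_lit 0) [nat_lit 10, nat_lit 7, nat_lit 10], .sub (nat_lit 14) [] [], .rel (nat_lit 114) (nat_lit 1) [nat_lit 9, nat_lit 7, nat_lit 9], .rel (nat_lit 172) (nat_lit 1) [nat_lit 12, nat_lit 7, nat_lit 12]],
  [.defn, .rel (nat_lit 16) (nat_lit 0) [nat_lit 8], .sub (nat_lit 16) [] [], .rel (nat_lit 116) (nat_lit 2) [nat_lit 9, nat_lit 8, nat_lit 5, nat_lit 9], .rel (nat_lit 174) (nat_lit 1) [nat_lit 12, nat_lit 8, nat_lit 12]],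
  [.rel (nat_lit 18) (nat_lit 0) [nat_lit 9], .rel (nat_lit 116) (nat_lit 3) [nat_lit 8, nat_lit 5, nat_lit 9, nat_lit 8], .sub (nat_lit 18) [] [], .defn, .rel (nat_lit 134) (nat_lit 0) [nat_lit 10, nat_lit 9, nat_lit 10]],
  [.defn, .rel (nat_lit 20) (nat_lit 0) [nat_lit 10], .rel (nat_lit 136) (nat_lit 0) [nat_lit 8, nat_lit 10, nat_lit 8, nat_lit 10, nat_lit 8], .sub (nat_lit 20) [] []],
  [.rel (nat_lit 152) (nat_lit 0) [nat_lit 8, nat_lit 11, nat_lit 8], .rel (nat_lit 156) (nat_lit 0) [nat_lit 10, nat_lit 11, nat_lit 10], .sub (nat_lit 22) [] [], .rel (nat_lit 154) (nat_lit 0) [nat_lit 9, nat_lit 11, nat_lit 9], .rel (nat_lit 204) (nat_lit 1) [nat_lit 12, nat_lit 11, nat_lit 12]],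
  [.rel (nat_lit 24) (nat_lit 0) [nat_lit 12], .defn, .rel (nat_lit 168) (nat_lit 2) [nat_lit 5, nat_lit 8, nat_lit 12, nat_lit 5], .rel (nat_lit 174) (nat_lit 0) [nat_lit 8, nat_lit 12, nat_lit 8], .rel (nat_lit 202) (nat_lit 0) [nat_lit 9, nat_lit 12, nat_lit 9, nat_lit 12, nat_lit 9], .rel (nat_lit 206) (nat_lit 0) [nat_lit 10, nat_lit 8, nat_lit 12, nat_lit 10, nat_lit 8, nat_lit 12, nat_lit 10, nat_lit 8]]]
noncomputable def cb13 : TCert2 := ⟨7, 7, 7, 13, 7, 127, 0, Tb13, Ib13, Db13, Eb13, Jb13, Wb13, [[nat_lit 0],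
  [nat_lit 1],
  [nat_lit 2],
  [nat_lit 3],
  [nat_lit 4],
  [nat_lit 5],
  [nat_lit 6],
  [nat_lit 7],
  [nat_lit 8],
  [nat_lit 9],
  [nat_lit 10],
  [nat_lit 11]], RLb13⟩
noncomputable def Tb14d : List ℕ := [nat_lit 0x15a100000000000000000000000004984e4439a324c8841a0928e2e5c58d4a647854619194124938955d867e4a313834e0108f1a407964a205953dfd2873a0458a21a9473296546e51b4d6551ad48b51a50634df146c359135e519937a4de53724ddc77d4dd556751a136f31e0c713dd1558555d5565555270553d54e5519a5a25ed4625185460517d64b3d15649490d647517545c5929648555154d554954c554145b394da4445457395ce17355ccd7315cbdb3c6cedb3a590964160d1832590173758fd73658f9b3058f5b2e6cb5b2c6489921647db286471b267095c24708d82b60a9c2060a5c1e7075827706dc1a7065b12705dc167055d14744da187445d10743dd0e7435d0c742de0a7825e08781de067815f047c0df028006200,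
  nat_lit 0x16a2000000056840000001a2d667000000000000000b977a344932a69488521cd810e606911649673563d37f766606b81aa06955dd3964e5568621f0a83261068032505824a38a7529d87855989661598165f522497d25f9063564174f59c567059bd557555975d7e31f8b7e2a1495d494663954d643dd157b55e957955e175e59b175c556cf443160b5951b946d35958423d15667490d64759c974e5d3574c5ce564a89a16485541546394ce5a45457545ce18405cfd73e5cbd62e6279830592d64160d183260d57375ccd7365cc573a58f553c6681925648992a647db28647191b60b1a1d688182b648592360a5c1e64918276099c1a6c4db126c45c166c3dd146865a18685dd106855d0e7435d08742de0a7825c0c781de067815f047c0df028006200,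
  nat_lit 0x4990e69d911a34c8c1a2d1900e48293726109479c4785165cb96165547b2210e6b21a8d641a3878931ddf764dcd37d4df14594a0127f4e293724de12792e0de827961e534a0527a763e04e813566c2d9556e362078759896545d2d84a29b4c863d155695d3d75f598135c5d5d25e5d6da5a4df9d755975555515956875d203980e20375985f707dbe135599d766610984064d1746398da444905749450d74864fd73160f5b3c6cedb3a7d49f517d42122893184764cda2b58f9b3060bdb2e6cb5b2c64c992168a591e6471b267095c24708e23660a9c20687d8287075827706db147065b12705db107055a1a744da187445a16743dd0e7425d0c742de0a7035e08781de067815f047c0df028006200,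
  nat_lit 0x209c6cb5b2c00000000000b9a4a644982e5d3961a08d811e4d2924645e7381c137f1a3538c4dd867e6225288560215e21f08844e0c59532514874a3858a21a878529654617959e554ddd28b59a6051764204f8139f8f85315575d8175d5dac77d55d55526525a48397ce5c850d7584de966d359628659b0d64656de3c25ed66251b9d7975e203980e14687dd21367dc9f7184d626f6509940619d9666cc9a46410502e898d84b3d1584a60cda3e68f5d5a80960247d51f53848a2508935b2b5cfda476cc5c1d6cbcf446a7da9e68d1a21687db286c9db267cedf3a844e23764a9d1964a5c1e6cc1c1c706dc1a7081c127045c167055d14888db186c5dd10743dd0a7435e08742dc0e7825d0c781df047815e067c0df028006200,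
  nat_lit 0x1e961231e844621d9a81ee07a0a0e1771e25672563e06e19ac3991a2858b1a45097818968625b1d98064e0594d86058815d47651d545d7e55f9485514688a4937e4df53535d3d59059c567059bdf8e852c88516348691da93783595666319cd643d15f874a06142652575e4df175c5d6e03b7e09f807dfe139594a27949d155554e153759cd74e5d3574c89b584a617d64864d1746398e12d4906260450d84064fd73e60f60257d6a1238959451514172260d584764cda2b5cc5a2060bd62c891152e64c992a68a592864719267cf211388e96366485930687d91e7065827646db1a6c75b126c5db106c3db148891a186c45a166855d0e7425d08741de0a7035c0c702de067c0df047815f028006200,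
  nat_lit 0x61ad86900000000000000000000000000000002095862e182321e07b7e6a179220087d85d93784e3e16d85a8c8a8a64b8c21fa0622e5d18621961598162298398079385587891e4a1557e5a1548a5129029d629125dd574617d46849c535e513614b8a399675e9628d5e9137261b184a1e14e64418df888508d815dcd2705d4974e64fda5a8a11f8384e627f89f227a514d65d490d637692565c4dbd64089b9766653d93568d1a333d15a44454626164e154c616da2a6ca5b3c6cedb3a895d841554182b61219476519b226c85b30707db2e6cb5b2c5cd993e68f5b1a7061b267095c24708da3268c5c206cbdc147075d12706da287065b27705dd0d7055b1e744dc1c7445e09743dd0e7059d0c742de0a7441e08781de067815f047c0df028006200,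
  nat_lit 0x192d00000000000000000139a46453984e5d38852554942a4c58d42647854e3d58e12493774dd937569ad296561d4861a40a832611482520548051fc86921a9773558956155e4d654a3128b4a2957459f155d35912705131a5759b5a4f662477d1df95527125c4831e0c71598d47b51e9660615555e51c984e78f985a3160b5965b95565d7d7423d15468514563665b175c5d0136f70e5c356d9db6678c9e31394d0445d0d65468e164d78a9d5b809d73c7e799246d2d94164ad5506d29e227885d47751a01d807182e6281c2560ddd3f8061b287cf61156cb183a6c65d3474ce0138049c1e7cc1f2f843dc1a688df298431c168899d147c81f1f8421d10886e1067436217742e1047826211781e20e781620a7c0df028006200,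
  nat_lit 0x16a400000000000000000212000000000000f9a1265098465ce961a2d07a1e4c792464607285bca6e1a34b8c165537b162508821a926625b1284420d2764985f7d495de597a0165d4a28f9449a205421dd1825562150813df90853614c8a3c98e319c8853e9078761891792db5186392ce4a451d7694605749810944855f2140656e13a75f947545fd45280e5f7884dd35684da2747dce13589c62703594d64598135e418da4640d10304cc9f5f84ae25c68fda3e68f6124848e25a7d56122894e2518938f4568cd2436cc4f446cbd71d40821198905a216ca5b286c9db26844e23c88ee23864aa29e6c7dc1e58b9c1c706dc1488b1c12705dc167055b1a8895b187045d10743de0e7825e08742dd0a7435d0c781e004800df067c16101880a200,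
  nat_lit 0x214f00000000000000000189e00000000002194164058e860617a85e629a35fcd7c1e14499563c4981dccd721de216819b216185816861a4496e855c76d8a5e156324c7678554c9285522968a5468b3574b6585494741a34c8c59c567059bc8841a085893d3c95f852628a19f996629d8e64418e1428a2228721a995e39dd75c656d75a2d2e1398a0e28089f627b4d4e275490d6378a9174e5d35a4c296594a89a5a4868d1a463d14f44454626254e1a4068fda3e70a562e60ed9238961441554182b6cd594768cdc226cc5c20707d53c42799255cd9b2a6cf5b287861e1760b1a1960e9b327085b306cbdc1e784de127845c1a6491d27749a00d8031d147475d1c746e0098021d0e7c59f158415e0a7c41f0f840de06882df04881df028006200,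
  nat_lit 0x728400000000000000000000000000000000000e9a2264898324cc8c3e550792e5c58d2645a7869d056d1248b96262d17b2210c773e01c63299478939ac9828558e87418065921a965f42292683e519902e20a76518998f7155c54714dc5171417671239e4b360c77d5d6117a59ba04726161456e193755548f7f55f1e437909e4184f5a5a15f966961262816dcdb726dc54616dc1b6f78e5e3878dde3675b20345d5e0327d9a12f8991a447579d5d757202b84a6127896db3c6cedb3a753dd4e7535d4c8089f4a847df488471b308919b2e6cb5b2c7d0211888fe11688f9b267095c24708df358449c2088ce1107076231706e10d706622a705e2287056109744e221744621e743dd0e8869d0c742de0a8851e08781de067815f047c0df028006200,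
  nat_lit 0x1aa400000000000000000000084761130000e9a1e64798425d196425508f364c69222461713e50c861a34e8c222d37b36253883e00b8e21904845a0c88249c0e87457855921a965c4a2936f49d215339dc9765989179853a14d8a4118149e9766398e14a3e9077d6961550851d66e851498535b55755531143850507f850157c516cc5a19f9969612145184e213789e21364d5946884d627389c946184d226c84c9757899dc46899552e418212b897e25d50a563e54f543c448cd3a848a2558952252893e24b687e24974c4e1d74bd444846512089096184cfd8285c9dc26484d3248a822396c4a29f64cde1e8a75e1c746d80d88b552a78399167455c098a71a217829f10783dd175c6a006782dd116c520047c1df0c8409f088406205880e200,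
  nat_lit 0x149a42650914221596565559485dc4833e61590463c78519acb8c462d18a1210f975188d641a385890e49276498527549753594d6135759ed67a59e56788a4d1824601374513d67259c514c49bd46c2d9536e16348691da9268552cb4a29b4c863d1538746056424d2614045fd448696d75a49f927d49f145254e57545d4d3564cd94504dcd6355d35070519cc66497d55c54d1b46398d02d84ad5604cca25e6cfde286cf572460ed83a515572260dd251553964770cd441787972070be1193d1171d890de1a70a5d3e8059c26684d63c648d6387851830747dd3160b2010746dd2a88ba00d745df27842dd2164960097845f1c841de0e7c621058855f0a7c4a103883e102883210188222068812200,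
  nat_lit 0x89a2e30793265c99621e49941a6058925dc672563c67f41aca9985a07781248a8825819868575f837a121562a0476d163a155259c96c2550a7a1e5488a22461522d9575a193c79069c567059bcc572200a7c3e36149257e28b21f5a6631d5a643d10b422d8488729a5a5e8a15a5c696d67484e4d4b2dba28289f887b70ee27664f193a1dcdb4e6d3574c3161b4a89a9b4880c1b4684b4e6378b8c6278b1b406cfdb3e84998516d4d8508965e25788db2470d602070ce01d70c5f47846dd438915d418065c2a845dc28845623d74e1a3674de0137485f348445d1e7cca10f88bdd1a7cae10c88a610b889de147c8a108887e1078871d0e84162188859e0a840e2128841e068835f048825f028006200,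
  nat_lit 0x214284e40000001b9e0000000840ca9a122d098425ca7a2e54b942e4d37d41d8a784a3c58e19aa1680e64d72859d061321d286299496e2d5d182460538031fc96c4a48c553d5099631e4b908548f912d75474397ce8a55c5470516c88419b487e852458d413e28c8a261462614e644d8d0423e20d6035cd35e29d584e4dbd65a252d1392a0d2568a9e2a65d4e277594563d8a9575c5cfd63e8a8e13389ae13184be2663d14e44510e2a268e212a593554c554183c64ed8268a8594164a5827848611f892a11c892211b891d52e4279c25846224060dda285cd973a6cb1a156c5e11288d611188d1814843e23288c191a843222b688db16649171e84222228881a098875e0e6836219702dd046442213680df066c15c0a8a6e0028402201]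
noncomputable def Tb14 (k u : ℕ) : ℕ := Nat.land (Nat.shiftRight (nth (nat_lit 0) Tb14d k) (Nat.mul u (nat_lit 14))) (nat_lit 16383)
noncomputable def Ib14d : List ℕ := [nat_lit 0xc0000000009601084b02004080033080210000000a00004b12d041804101021500000000e00000009682008128400000040902a0014c000000000801023294c10a000530000000301c81194c532428500030146049466498e5181263a4c7124c711c872046d,
  nat_lit 0x14002800420000018e7018c70240409c05198a00206700c0000cc031d24000010102141d24000002148200000028011046000004080280050c215c50080000025108610a400430a01004000001288621ac094004000800008a358d420000302c6a32c603288a204ad,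
  nat_lit 0x40808428200001a000004410ac00094c141400020e000023000035a0e00002e48800581070112030c0001c000246b00000001221180720000318a319c00001803080229123018a62a8675b00228040518455148010140228a40a8040912448c4d,
  nat_lit 0x319c00004c608426524c3398c5104a1080460800000020099232802700ce0019232800d19464004000200021c00000033800000008194002904940000210403a4000210500085100000104412c00020050100259002589444000252c4a080400a86019cac,
  nat_lit 0x20c640106380c9198c01000042c4000828309060000928003480635800000800490015800049c0308c00001250006b00d6d29004204003940408443000a0038800902411ca00044112800280201048050402508e128140028474280001d2700c8c,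
  nat_lit 0x45000000000001400294003ac0408002180450290028cc0000000006010c01210215006400c000080650000000813046000c630802a2000c180021190b00c20019010ac6003000008c241c81000064242b5000201848480404a0e0101283a4072a40729c872044d,
  nat_lit 0x40000000ca518c655a0040940710ce01a805008c328865195040000101021615040000e21c005000822c0130440020040802c0014021c003980858020300410a000500073000712c010004600000500071180001800009260000248049180491a489204ed,
  nat_lit 0x20000000000008a510845320a7014ab009621286510c8228c050010728040380000810000040000e4500083980020000020e000001000210000001068300012106000400084202008019800090641a40108401190034902348cc0081233246612400118e00002c,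
  nat_lit 0x80000108000013290010105200a001c08010200100000420010020004238000010010140338021019a2188800842110447088eb0142528c8a0044518c821382002ca0194652000200c032240a0006000ca448c00010c300004324000240001826088ac,
  nat_lit 0x600000000000008c61084c02cc523c0048862129201240062446018000244029484518050004000c00000c001ca40100030400000002914e00c030002b000030002422c00000600000309ca4000200a08b500030806140061404e0185013a0271202711ca72906d,
  nat_lit 0x2000000000000884108433bc8000c6a489421000312ca01804300cc0488400002000cc00004e0000500066000002b040198000800000420004000942600021215310280108421204a040000090055a00c08481014274102042ce4081123800710007100000042d,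
  nat_lit 0x4630842302c0640c61104000b001008a11882308d46200083190718d400080f300006000b300002a000028c6400e101ca001c030140b0000429447428071000d284a0100002144012600600ad100224808248000009200240022400200802108e,
  nat_lit 0x24c64a4e202cc0118c0000093940600160000e0394020000201c42298480000101043281c0120221800f0042010445308aa0102420c004144418c00000222a884190600002020c03004000106000c0008c0008023000200b0010b0010a0280888d,
  nat_lit 0x8000154929ca92a14012540000072b06938c8d20c00001cf000e2810423006000001080046000b01002008000142110446080cb080200046718440000021202032c000802008802004040000830020090010900100c00004230c4616b001048a008801]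
noncomputable def Ib14 (k u : ℕ) : ℕ := Nat.land (Nat.shiftRight (nth (nat_lit 0) Ib14d k) (Nat.mul u (nat_lit 5))) (nat_lit 31)
noncomputable def Db14d : ℕ := nat_lit 0x84b384a5845f845a842783a9732b61f461ca61c761a051143037a820a79f9721971696b496a696a3968d968696799638961995fb95d195bd95bc95b895af955695489527952284e384ca84c084bd84bc84b984b284ae84ab84a0849d849c84948489848884848467844e8440843d842f842b841f841e8416840b840a840683ff83ec83e183d083cf83ad83a483a183a08398838b838a8387835f7333732a732673237322731a730c730972fe72fb72f772f072ed72e972e872e272d772c672bb729f729b7282727a72657264726172597247722b722061ff61f161ee61e661e361df61de61db61bf61bb6195619161876186616961686165615d6159614e613d6132612c5111510e510d5109510550fb50fa50e950df50de50d850bf50b550b450ae50a650a54087407d407c4076406e406d405a40524051404e303e30363035303230273026201920182015100d0000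
noncomputable def Db14 (u : ℕ) : ℕ := Nat.land (Nat.shiftRight Db14d (Nat.mul u (nat_lit 16))) (nat_lit 65535)
noncomputable def Eb14td : ℕ := nat_lit 0xd7c83dc5a60d6a598b1496247722c896bcc264bb07
noncomputable def Eb14t (u : ℕ) : ℕ := Nat.land (Nat.shiftRight Eb14td (Nat.mul u (nat_lit 13))) (nat_lit 8191)
noncomputable def Jb14td : ℕ := nat_lit 0x2a01090501007d030103ea5e7d
noncomputable def Jb14t (u : ℕ) : ℕ := Nat.land (Nat.shiftRight Jb14td (Nat.mul u (nat_lit 8))) (nat_lit 255)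
noncomputable def Wb14td : ℕ := nat_lit 0x7ca6a56ba3a2a1a09f2d9d9c9b
noncomputable def Wb14t (u : ℕ) : ℕ := Nat.land (Nat.shiftRight Wb14td (Nat.mul u (nat_lit 8))) (nat_lit 255)
@[irreducible] noncomputable def Eb14 (a : ℕ) : ℕ := force (Nat.sub a (nat_lit 155)) Eb14t
@[irreducible] noncomputable def Jb14 (a : ℕ) : ℕ := force (Nat.sub a (nat_lit 155)) Jb14t
@[irreducible] noncomputable def Wb14 (a : ℕ) : ℕ := force (Nat.sub a (nat_lit 155)) Wb14t
noncomputable def RLb14 : List (List Rule) := [[.rel (nat_lit 0) (nat_lit 0) [nat_lit 0], .rel (nat_lit 40) (nat_lit 1) [nat_lit 7, nat_lit 0, nat_lit 7], .rel (nat_lit 42) (nat_lit 1) [nat_lit 8, nat_lit 0, nat_lit 8], .rel (nat_lit 178) (nat_lit 0) [nat_lit 13, nat_lit 0, nat_lit 13], .rel (nat_lit 118) (nat_lit 0) [nat_lit 10, nat_lit 0, nat_lit 10], .rel (nat_lit 44) (nat_lit 1) [nat_lit 9, nat_lit 0, nat_lit 9], .rel (nat_lit 158) (nat_lit 1) [nat_lit 12, nat_lit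 0, nat_lit 1, nat_lit 12], .rel (nat_lit 138) (nat_lit 1) [nat_lit 11, nat_lit 0, nat_lit 2, nat_lit 11], .rel (nat_lit 34) (nat_lit 1) [nat_lit 4, nat_lit 0, nat_lit 4], .rel (nat_lit 38) (nat_lit 1) [nat_lit 6, nat_lit 0, nat_lit 6], .rel (nat_lit 32) (nat_lit 1) [nat_lit 3, nat_lit 0, nat_lit 3], .rel (nat_lit 36) (nat_lit 1) [nat_lit 5, nat_lit 0, nat_lit 5], .rel (nat_lit 30) (nat_lit 1) [nat_lit 2, nat_lit 0, nat_lit 2], .sub (nat_lit 0) [] [], .rel (nat_lit 28) (nat_lit 1) [nat_lit 1, nat_lit 0, nat_lit 1]],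
  [.rel (nat_lit 2) (nat_lit 0) [nat_lit 1], .rel (nat_lit 56) (nat_lit 1) [nat_lit 7, nat_lit 1, nat_lit 7], .rel (nat_lit 60) (nat_lit 2) [nat_lit 9, nat_lit 1, nat_lit 0, nat_lit 9], .rel (nat_lit 160) (nat_lit 1) [nat_lit 12, nat_lit 1, nat_lit 12], .rel (nat_lit 120) (nat_lit 3) [nat_lit 10, nat_lit 1, nat_lit 3, nat_lit 10], .rel (nat_lit 180) (nat_lit 0) [nat_lit 13, nat_lit 1, nat_lit 13], .rel (nat_lit 58) (nat_lit 1) [nat_lit 8, nat_lit 1, nat_lit 8], .rel (nat_lit 52) (nat_lit 1) [nat_lit 5, nat_lit 1, nat_lit 5], .rel (nat_lit 48) (nat_lit 1) [nat_lit 3, nat_lit 1, nat_lit 3], .rel (nat_lit 50) (nat_lit 1) [nat_lit 4, nat_lit 1, nat_lit 4], .rel (nat_lit 140) (nat_lit 1) [nat_lit 11, nat_lit 1, nat_lit 4, nat_lit 11], .rel (nat_lit 54) (nat_lit 1) [nat_lit 6, nat_lit 1, nat_lit 6], .rel (nat_lit 46) (nat_lit 1) [nat_lit 2, nat_lit 1, nat_lit 2], .sub (nat_lit 2) [] [], .defn],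
  [.rel (nat_lit 4) (nat_lit 0) [nat_lit 2], .rel (nat_lit 72) (nat_lit 1) [nat_lit 8, nat_lit 2, nat_lit 8], .rel (nat_lit 182) (nat_lit 3) [nat_lit 13, nat_lit 2, nat_lit 5, nat_lit 13], .rel (nat_lit 70) (nat_lit 1) [nat_lit 7, nat_lit 2, nat_lit 7], .rel (nat_lit 142) (nat_lit 1) [nat_lit 11, nat_lit 2, nat_lit 11], .rel (nat_lit 162) (nat_lit 1) [nat_lit 12, nat_lit 2, nat_lit 4, nat_lit 12], .rel (nat_lit 74) (nat_lit 1) [nat_lit 9, nat_lit 2, nat_lit 9], .rel (nat_lit 64) (nat_lit 1) [nat_lit 4, nat_lit 2, nat_lit 4], .rel (nat_lit 66) (nat_lit 1) [nat_lit 5, nat_lit 2, nat_lit 5], .rel (nat_lit 122) (nat_lit 0) [nat_lit 10, nat_lit 2, nat_lit 10], .rel (nat_lit 68) (nat_lit 2) [nat_lit 6, nat_lit 2, nat_lit 0, nat_lit 6], .rel (nat_lit 62) (nat_lit 1) [nat_lit 3, nat_lit 2, nat_lit 3], .defn, .sub (nat_lit 4) [] [], .rel (nat_lit 46) (nat_lit 0) [nat_lit 1, nat_lit 2, nat_lit 1]],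
  [.rel (nat_lit 6) (nat_lit 0) [nat_lit 3], .rel (nat_lit 84) (nat_lit 2) [nat_lit 8, nat_lit 3, nat_lit 1, nat_lit 8], .rel (nat_lit 164) (nat_lit 1) [nat_lit 12, nat_lit 3, nat_lit 12], .rel (nat_lit 124) (nat_lit 0) [nat_lit 10, nat_lit 3, nat_lit 10], .rel (nat_lit 86) (nat_lit 1) [nat_lit 9, nat_lit 3, nat_lit 9], .rel (nat_lit 184) (nat_lit 3) [nat_lit 13, nat_lit 3, nat_lit 6, nat_lit 13], .rel (nat_lit 78) (nat_lit 2) [nat_lit 5, nat_lit 3, nat_lit 0, nat_lit 5], .rel (nat_lit 82) (nat_lit 1) [nat_lit 7, nat_lit 3, nat_lit 7], .defn, .rel (nat_lit 76) (nat_lit 1) [nat_lit 4, nat_lit 3, nat_lit 4], .rel (nat_lit 144) (nat_lit 1) [nat_lit 11, nat_lit 3, nat_lit 7, nat_lit 11], .rel (nat_lit 80) (nat_lit 1) [nat_lit 6, nat_lit 3, nat_lit 6], .sub (nat_lit 6) [] [], .rel (nat_lit 48) (nat_lit 0) [nat_lit 1, nat_lit 3, nat_lit 1]],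
  [.rel (nat_lit 8) (nat_lit 0) [nat_lit 4], .rel (nat_lit 96) (nat_lit 2) [nat_lit 9, nat_lit 4, nat_lit 2, nat_lit 9], .rel (nat_lit 166) (nat_lit 1) [nat_lit 12, nat_lit 4, nat_lit 12], .rel (nat_lit 92) (nat_lit 1) [nat_lit 7, nat_lit 4, nat_lit 7], .rel (nat_lit 186) (nat_lit 3) [nat_lit 13, nat_lit 4, nat_lit 8, nat_lit 13], .defn, .rel (nat_lit 88) (nat_lit 1) [nat_lit 5, nat_lit 4, nat_lit 5], .rel (nat_lit 146) (nat_lit 1) [nat_lit 11, nat_lit 4, nat_lit 11], .rel (nat_lit 94) (nat_lit 1) [nat_lit 8, nat_lit 4, nat_lit 8], .rel (nat_lit 126) (nat_lit 3) [nat_lit 10, nat_lit 4, nat_lit 7, nat_lit 10], .rel (nat_lit 90) (nat_lit 2) [nat_lit 6, nat_lit 4, nat_lit 1, nat_lit 6], .rel (nat_lit 76) (nat_lit 0) [nat_lit 3, nat_lit 4, nat_lit 3], .sub (nat_lit 8) [] [], .rel (nat_lit 64) (nat_lit 0) [nat_lit 2, nat_lit 4, nat_lit 2], .rel (nat_lit 97) (nat_lit 0) [nat_lit 9, nat_lit 4, nat_lit 9, nat_lit 2]],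
  [.rel (nat_lit 10) (nat_lit 0) [nat_lit 5], .rel (nat_lit 100) (nat_lit 2) [nat_lit 7, nat_lit 5, nat_lit 2, nat_lit 7], .rel (nat_lit 188) (nat_lit 0) [nat_lit 13, nat_lit 5, nat_lit 13], .defn, .rel (nat_lit 128) (nat_lit 3) [nat_lit 10, nat_lit 5, nat_lit 9, nat_lit 10], .rel (nat_lit 102) (nat_lit 1) [nat_lit 8, nat_lit 5, nat_lit 8], .rel (nat_lit 104) (nat_lit 1) [nat_lit 9, nat_lit 5, nat_lit 9], .rel (nat_lit 148) (nat_lit 1) [nat_lit 11, nat_lit 5, nat_lit 11], .rel (nat_lit 168) (nat_lit 1) [nat_lit 12, nat_lit 5, nat_lit 8, nat_lit 12], .rel (nat_lit 98) (nat_lit 1) [nat_lit 6, nat_lit 5, nat_lit 6], .rel (nat_lit 78) (nat_lit 3) [nat_lit 3, nat_lit 0, nat_lit 5, nat_lit 3], .rel (nat_lit 88) (nat_lit 0) [nat_lit 4, nat_lit 5, nat_lit 4], .rel (nat_lit 66) (nat_lit 0) [nat_lit 2, nat_lit 5, nat_lit 2], .sub (nat_lit 10) [] []],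
  [.rel (nat_lit 12) (nat_lit 0) [nat_lit 6], .rel (nat_lit 106) (nat_lit 2) [nat_lit 7, nat_lit 6, nat_lit 3, nat_lit 7], .rel (nat_lit 170) (nat_lit 1) [nat_lit 12, nat_lit 6, nat_lit 12], .rel (nat_lit 108) (nat_lit 1) [nat_lit 8, nat_lit 6, nat_lit 8], .rel (nat_lit 130) (nat_lit 0) [nat_lit 10, nat_lit 6, nat_lit 10], .rel (nat_lit 98) (nat_lit 0) [nat_lit 5, nat_lit 6, nat_lit 5], .rel (nat_lit 110) (nat_lit 1) [nat_lit 9, nat_lit 6, nat_lit 9], .rel (nat_lit 190) (nat_lit 0) [nat_lit 13, nat_lit 6, nat_lit 13], .rel (nat_lit 90) (nat_lit 3) [nat_lit 4, nat_lit 1, nat_lit 6, nat_lit 4], .defn, .rel (nat_lit 80) (nat_lit 0) [nat_lit 3, nat_lit 6, nat_lit 3], .rel (nat_lit 200) (nat_lit 1) [nat_lit 11, nat_lit 6, nat_lit 11, nat_lit 6, nat_lit 11], .rel (nat_lit 184) (nat_lit 1) [nat_lit 13, nat_lit 3, nat_lit 13, nat_lit 3], .sub (nat_lit 12) [] [], .rel (nat_lit 54) (nat_lit 0) [nat_lit 1, nat_lit 6, nat_lit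 1]],
  [.rel (nat_lit 14) (nat_lit 0) [nat_lit 7], .defn, .rel (nat_lit 112) (nat_lit 2) [nat_lit 8, nat_lit 7, nat_lit 4, nat_lit 8], .rel (nat_lit 172) (nat_lit 1) [nat_lit 12, nat_lit 7, nat_lit 12], .rel (nat_lit 114) (nat_lit 1) [nat_lit 9, nat_lit 7, nat_lit 9], .rel (nat_lit 100) (nat_lit 3) [nat_lit 5, nat_lit 2, nat_lit 7, nat_lit 5], .rel (nat_lit 150) (nat_lit 1) [nat_lit 11, nat_lit 7, nat_lit 11], .rel (nat_lit 132) (nat_lit 0) [nat_lit 10, nat_lit 7, nat_lit 10], .rel (nat_lit 92) (nat_lit 0) [nat_lit 4, nat_lit 7, nat_lit 4], .rel (nat_lit 106) (nat_lit 3) [nat_lit 6, nat_lit 3, nat_lit 7, nat_lit 6], .rel (nat_lit 82) (nat_lit 0) [nat_lit 3, nat_lit 7, nat_lit 3], .rel (nat_lit 196) (nat_lit 1) [nat_lit 13, nat_lit 7, nat_lit 13, nat_lit 7, nat_lit 13], .sub (nat_lit 14) [] []],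
  [.rel (nat_lit 16) (nat_lit 0) [nat_lit 8], .defn, .rel (nat_lit 112) (nat_lit 3) [nat_lit 7, nat_lit 4, nat_lit 8, nat_lit 7], .rel (nat_lit 116) (nat_lit 2) [nat_lit 9, nat_lit 8, nat_lit 5, nat_lit 9], .rel (nat_lit 174) (nat_lit 1) [nat_lit 12, nat_lit 8, nat_lit 12], .rel (nat_lit 192) (nat_lit 0) [nat_lit 13, nat_lit 8, nat_lit 13], .rel (nat_lit 152) (nat_lit 1) [nat_lit 11, nat_lit 8, nat_lit 11], .rel (nat_lit 84) (nat_lit 3) [nat_lit 3, nat_lit 1, nat_lit 8, nat_lit 3], .rel (nat_lit 102) (nat_lit 0) [nat_lit 5, nat_lit 8, nat_lit 5], .rel (nat_lit 108) (nat_lit 0) [nat_lit 6, nat_lit 8, nat_lit 6], .rel (nat_lit 94) (nat_lit 0) [nat_lit 4, nat_lit 8, nat_lit 4], .rel (nat_lit 72) (nat_lit 0) [nat_lit 2, nat_lit 8, nat_lit 2], .sub (nat_lit 16) [] [], .rel (nat_lit 42) (nat_lit 0) [nat_lit 0, nat_lit 8, nat_lit 0], .rel (nat_lit 186) (nat_lit 1) [nat_lit 13, nat_lit 4, nat_lit 13, nat_lit 4]],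
  [.rel (nat_lit 18) (nat_lit 0) [nat_lit 9], .defn, .rel (nat_lit 116) (nat_lit 3) [nat_lit 8, nat_lit 5, nat_lit 9, nat_lit 8], .rel (nat_lit 194) (nat_lit 0) [nat_lit 13, nat_lit 9, nat_lit 13], .rel (nat_lit 114) (nat_lit 0) [nat_lit 7, nat_lit 9, nat_lit 7], .rel (nat_lit 134) (nat_lit 0) [nat_lit 10, nat_lit 9, nat_lit 10], .rel (nat_lit 104) (nat_lit 0) [nat_lit 5, nat_lit 9, nat_lit 5], .rel (nat_lit 154) (nat_lit 1) [nat_lit 11, nat_lit 9, nat_lit 11], .rel (nat_lit 110) (nat_lit 0) [nat_lit 6, nat_lit 9, nat_lit 6], .rel (nat_lit 202) (nat_lit 1) [nat_lit 12, nat_lit 9, nat_lit 12, nat_lit 9, nat_lit 12], .rel (nat_lit 86) (nat_lit 0) [nat_lit 3, nat_lit 9, nat_lit 3], .rel (nat_lit 96) (nat_lit 3) [nat_lit 4, nat_lit 2, nat_lit 9, nat_lit 4], .rel (nat_lit 128) (nat_lit 1) [nat_lit 10, nat_lit 5, nat_lit 10, nat_lit 5], .sub (nat_lit 18) [] [], .rel (nat_lit 74) (nat_lit 0) [nat_lit 2, nat_lit 9, nat_lit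 2], .rel (nat_lit 116) (nat_lit 1) [nat_lit 8, nat_lit 9, nat_lit 8, nat_lit 5]],
  [.rel (nat_lit 20) (nat_lit 0) [nat_lit 10], .defn, .rel (nat_lit 136) (nat_lit 0) [nat_lit 8, nat_lit 10, nat_lit 8, nat_lit 10, nat_lit 8], .rel (nat_lit 128) (nat_lit 4) [nat_lit 5, nat_lit 9, nat_lit 10, nat_lit 5], .rel (nat_lit 128) (nat_lit 2) [nat_lit 5, nat_lit 10, nat_lit 5, nat_lit 9], .rel (nat_lit 134) (nat_lit 1) [nat_lit 9, nat_lit 10, nat_lit 9], .rel (nat_lit 126) (nat_lit 4) [nat_lit 4, nat_lit 7, nat_lit 10, nat_lit 4], .rel (nat_lit 156) (nat_lit 1) [nat_lit 11, nat_lit 10, nat_lit 11], .rel (nat_lit 130) (nat_lit 1) [nat_lit 6, nat_lit 10, nat_lit 6], .rel (nat_lit 118) (nat_lit 1) [nat_lit 0, nat_lit 10, nat_lit 0], .rel (nat_lit 120) (nat_lit 2) [nat_lit 1, nat_lit 10, nat_lit 1, nat_lit 3], .rel (nat_lit 122) (nat_lit 1) [nat_lit 2, nat_lit 10, nat_lit 2], .rel (nat_lit 132) (nat_lit 1) [nat_lit 7, nat_lit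 10, nat_lit 7], .sub (nat_lit 20) [] [], .rel (nat_lit 120) (nat_lit 4) [nat_lit 1, nat_lit 3, nat_lit 10, nat_lit 1], .rel (nat_lit 126) (nat_lit 2) [nat_lit 4, nat_lit 10, nat_lit 4, nat_lit 7], .rel (nat_lit 127) (nat_lit 0) [nat_lit 4, nat_lit 10, nat_lit 7, nat_lit 4], .rel (nat_lit 198) (nat_lit 1) [nat_lit 8, nat_lit 7, nat_lit 13, nat_lit 7, nat_lit 8, nat_lit 10, nat_lit 8, nat_lit 7, nat_lit 13, nat_lit 7, nat_lit 8, nat_lit 10, nat_lit 8, nat_lit 7, nat_lit 13, nat_lit 7, nat_lit 8], .rel (nat_lit 206) (nat_lit 1) [nat_lit 8, nat_lit 12, nat_lit 10, nat_lit 8, nat_lit 12, nat_lit 10, nat_lit 8, nat_lit 12]],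
  [.rel (nat_lit 22) (nat_lit 0) [nat_lit 11], .rel (nat_lit 152) (nat_lit 0) [nat_lit 8, nat_lit 11, nat_lit 8], .rel (nat_lit 204) (nat_lit 1) [nat_lit 12, nat_lit 11, nat_lit 12], .rel (nat_lit 148) (nat_lit 0) [nat_lit 5, nat_lit 11, nat_lit 5], .defn, .rel (nat_lit 154) (nat_lit 0) [nat_lit 9, nat_lit 11, nat_lit 9], .rel (nat_lit 156) (nat_lit 0) [nat_lit 10, nat_lit 11, nat_lit 10], .rel (nat_lit 144) (nat_lit 0) [nat_lit 3, nat_lit 11, nat_lit 3, nat_lit 7], .rel (nat_lit 150) (nat_lit 0) [nat_lit 7, nat_lit 11, nat_lit 7], .rel (nat_lit 200) (nat_lit 0) [nat_lit 6, nat_lit 11, nat_lit 6, nat_lit 11, nat_lit 6], .rel (nat_lit 146) (nat_lit 0) [nat_lit 4, nat_lit 11, nat_lit 4], .rel (nat_lit 140) (nat_lit 0) [nat_lit 1, nat_lit 11, nat_lit 1, nat_lit 4], .rel (nat_lit 144) (nat_lit 2) [nat_lit 3, nat_lit 7, nat_lit 11, nat_lit 3], .rel (nat_lit 141) (nat_lit 4) [nat_lit 4, nat_lit 1, nat_lit 11, nat_lit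 1], .sub (nat_lit 22) [] [], .rel (nat_lit 140) (nat_lit 2) [nat_lit 1, nat_lit 4, nat_lit 11, nat_lit 1], .rel (nat_lit 208) (nat_lit 0) [nat_lit 13, nat_lit 7, nat_lit 11, nat_lit 13, nat_lit 7, nat_lit 11, nat_lit 13, nat_lit 7]],
  [.rel (nat_lit 24) (nat_lit 0) [nat_lit 12], .defn, .rel (nat_lit 172) (nat_lit 0) [nat_lit 7, nat_lit 12, nat_lit 7], .rel (nat_lit 202) (nat_lit 0) [nat_lit 9, nat_lit 12, nat_lit 9, nat_lit 12, nat_lit 9], .rel (nat_lit 176) (nat_lit 0) [nat_lit 13, nat_lit 12, nat_lit 13], .rel (nat_lit 164) (nat_lit 0) [nat_lit 3, nat_lit 12, nat_lit 3], .rel (nat_lit 168) (nat_lit 2) [nat_lit 5, nat_lit 8, nat_lit 12, nat_lit 5], .rel (nat_lit 168) (nat_lit 0) [nat_lit 5, nat_lit 12, nat_lit 5, nat_lit 8], .rel (nat_lit 204) (nat_lit 0) [nat_lit 11, nat_lit 12, nat_lit 11], .rel (nat_lit 174) (nat_lit 0) [nat_lit 8, nat_lit 12, nat_lit 8], .rel (nat_lit 162) (nat_lit 2) [nat_lit 2, nat_lit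 4, nat_lit 12, nat_lit 2], .rel (nat_lit 166) (nat_lit 0) [nat_lit 4, nat_lit 12, nat_lit 4], .rel (nat_lit 170) (nat_lit 0) [nat_lit 6, nat_lit 12, nat_lit 6], .sub (nat_lit 24) [] [], .rel (nat_lit 169) (nat_lit 2) [nat_lit 5, nat_lit 12, nat_lit 8, nat_lit 5], .rel (nat_lit 206) (nat_lit 0) [nat_lit 10, nat_lit 8, nat_lit 12, nat_lit 10, nat_lit 8, nat_lit 12, nat_lit 10, nat_lit 8]],
  [.rel (nat_lit 26) (nat_lit 0) [nat_lit 13], .defn, .rel (nat_lit 196) (nat_lit 0) [nat_lit 7, nat_lit 13, nat_lit 7, nat_lit 13, nat_lit 7], .rel (nat_lit 176) (nat_lit 1) [nat_lit 12, nat_lit 13, nat_lit 12], .rel (nat_lit 194) (nat_lit 1) [nat_lit 9, nat_lit 13, nat_lit 9], .rel (nat_lit 192) (nat_lit 1) [nat_lit 8, nat_lit 13, nat_lit 8], .rel (nat_lit 184) (nat_lit 4) [nat_lit 3, nat_lit 6, nat_lit 13, nat_lit 3], .rel (nat_lit 186) (nat_lit 2) [nat_lit 4, nat_lit 13, nat_lit 4, nat_lit 8], .rel (nat_lit 186) (nat_lit 4)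 [nat_lit 4, nat_lit 8, nat_lit 13, nat_lit 4], .rel (nat_lit 188) (nat_lit 1) [nat_lit 5, nat_lit 13, nat_lit 5], .rel (nat_lit 182) (nat_lit 2) [nat_lit 2, nat_lit 13, nat_lit 2, nat_lit 5], .rel (nat_lit 182) (nat_lit 4) [nat_lit 2, nat_lit 5, nat_lit 13, nat_lit 2], .rel (nat_lit 184) (nat_lit 2) [nat_lit 3, nat_lit 13, nat_lit 3, nat_lit 6], .rel (nat_lit 198) (nat_lit 4) [nat_lit 7, nat_lit 8, nat_lit 10, nat_lit 8, nat_lit 7, nat_lit 13, nat_lit 7, nat_lit 8, nat_lit 10, nat_lit 8, nat_lit 7, nat_lit 13, nat_lit 7, nat_lit 8, nat_lit 10, nat_lit 8, nat_lit 7], .rel (nat_lit 180) (nat_lit 1) [nat_lit 1, nat_lit 13, nat_lit 1], .rel (nat_lit 183) (nat_lit 2) [nat_lit 5, nat_lit 2, nat_lit 13, nat_lit 2], .rel (nat_lit 187) (nat_lit 0) [nat_lit 4, nat_lit 13, nat_lit 8, nat_lit 4], .rel (nat_lit 190) (nat_lit 1) [nat_lit 6, nat_lit 13, nat_lit 6], .rel (nat_lit 208) (nat_lit 1) [nat_lit 7, nat_lit 11, nat_lit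 13, nat_lit 7, nat_lit 11, nat_lit 13, nat_lit 7, nat_lit 11]]]
noncomputable def cb14 : TCert2 := ⟨155, 155, 168, 14, 255, 4095, 1, Tb14, Ib14, Db14, Eb14, Jb14, Wb14, [[nat_lit 0],
  [nat_lit 1],
  [nat_lit 2],
  [nat_lit 3],
  [nat_lit 4],
  [nat_lit 5],
  [nat_lit 6],
  [nat_lit 7],
  [nat_lit 8],
  [nat_lit 9],
  [nat_lit 10],
  [nat_lit 11],
  [nat_lit 12]], RLb14⟩

theorem ivc : ivChk Rl (nat_lit 14) = true := by decide +kernel
theorem app : H1.HdT.RB ++ Rl.drop 69 = Rl := by decide +kernel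
theorem tcb12e_a : allZ2 (ent2 Tb12 Eb12 (selR RLb12 Ib12) Db12 (nat_lit 3) (nat_lit 3) (nat_lit 3) (nat_lit 3) (nat_lit 12) (nat_lit 63) (nat_lit 0)) (nat_lit 12) (nat_lit 3) = true := by decide +kernel
theorem tcb12p_0 : allZ (eps2 Tb12 Eb12 Jb12 Wb12 RLb12 (nat_lit 3) (nat_lit 3) (nat_lit 3) (nat_lit 12) (nat_lit 0)) (nat_lit 0) (nat_lit 0) = true := by decide +kernel
theorem tcb12r : rulesChk Rl cb12.Sl RLb12 (nat_lit 12) = true := by decide +kernel
theorem tcb12n : 0 < cb12.M ∧ cb12.n0 ≤ cb12.M ∧ 0 < cb12.K ∧ cb12.K ≤ 14 ∧ cb12.D 0 = 0 := by decide +kernel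
theorem tcb12q : cb12.M - cb12.n = 0 := by decide +kernel
theorem stb12 : allL (ltAll 11) cb12.Sl = true ∧ 0 < cb12.n0 ∧ cb12.K = 12 ∧ cb12.n0 * 3072 = 9216 := by decide +kernel
theorem tcb13e_a : allZ2 (ent2 Tb13 Eb13 (selR RLb13 Ib13) Db13 (nat_lit 7) (nat_lit 7) (nat_lit 7) (nat_lit 7) (nat_lit 13) (nat_lit 127) (nat_lit 0)) (nat_lit 13) (nat_lit 7) = true := by decide +kernel
theorem tcb13p_0 : allZ (eps2 Tb13 Eb13 Jb13 Wb13 RLb13 (nat_lit 7) (nat_lit 7) (nat_lit 7) (nat_lit 13) (nat_lit 0)) (nat_lit 0) (nat_lit 0) = true := by decide +kernel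
theorem tcb13r : rulesChk Rl cb13.Sl RLb13 (nat_lit 13) = true := by decide +kernel
theorem tcb13n : 0 < cb13.M ∧ cb13.n0 ≤ cb13.M ∧ 0 < cb13.K ∧ cb13.K ≤ 14 ∧ cb13.D 0 = 0 := by decide +kernel
theorem tcb13q : cb13.M - cb13.n = 0 := by decide +kernel
theorem stb13 : allL (ltAll 12) cb13.Sl = true ∧ 0 < cb13.n0 ∧ cb13.K = 13 ∧ cb13.n0 * 9216 = 64512 := by decide +kernel
theorem tcb14e_a : allZ2 (ent2 Tb14 Eb14 (selR RLb14 Ib14) Db14 (nat_lit 255) (nat_lit 155) (nat_lit 155) (nat_lit 168) (nat_lit 14) (nat_lit 4095) (nat_lit 1)) (nat_lit 14) (nat_lit 168) = true := by decide +kernel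
theorem tcb14p_0 : allZ (eps2 Tb14 Eb14 Jb14 Wb14 RLb14 (nat_lit 255) (nat_lit 155) (nat_lit 168) (nat_lit 14) (nat_lit 1)) (nat_lit 0) (nat_lit 13) = true := by decide +kernel
theorem tcb14r : rulesChk Rl cb14.Sl RLb14 (nat_lit 14) = true := by decide +kernel
theorem tcb14n : 0 < cb14.M ∧ cb14.n0 ≤ cb14.M ∧ 0 < cb14.K ∧ cb14.K ≤ 14 ∧ cb14.D 0 = 0 := by decide +kernel
theorem tcb14q : cb14.M - cb14.n = 13 := by decide +kernel
theorem stb14 : allL (ltAll 13) cb14.Sl = true ∧ 0 < cb14.n0 ∧ cb14.K = 14 ∧ cb14.n0 * 64512 = 9999360 := by decide +kernel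

theorem tcb12e : ∀ k < 12, ∀ i < 3, (ent2 Tb12 Eb12 (selR RLb12 Ib12) Db12 (nat_lit 3) (nat_lit 3) (nat_lit 3) (nat_lit 3) (nat_lit 12) (nat_lit 63) (nat_lit 0)) k i = 0 := allZ2_sound tcb12e_a
theorem tcb12p : ∀ i < 0, (eps2 Tb12 Eb12 Jb12 Wb12 RLb12 (nat_lit 3) (nat_lit 3) (nat_lit 3) (nat_lit 12) (nat_lit 0)) i = 0 := allZ_sound0 tcb12p_0
theorem tcb12 : cb12.OK Rl 14 := ⟨tcb12n, ivc, tcb12r, tcb12e, fun i h => tcb12p i (lt_of_lt_of_eq h tcb12q)⟩
theorem bdb12 : Bound Rl 12 9216 := Bound.step2 (H1.HdT.bd_app app) tcb12 stb12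
theorem tcb13e : ∀ k < 13, ∀ i < 7, (ent2 Tb13 Eb13 (selR RLb13 Ib13) Db13 (nat_lit 7) (nat_lit 7) (nat_lit 7) (nat_lit 7) (nat_lit 13) (nat_lit 127) (nat_lit 0)) k i = 0 := allZ2_sound tcb13e_a
theorem tcb13p : ∀ i < 0, (eps2 Tb13 Eb13 Jb13 Wb13 RLb13 (nat_lit 7) (nat_lit 7) (nat_lit 7) (nat_lit 13) (nat_lit 0)) i = 0 := allZ_sound0 tcb13p_0
theorem tcb13 : cb13.OK Rl 14 := ⟨tcb13n, ivc, tcb13r, tcb13e, fun i h => tcb13p i (lt_of_lt_of_eq h tcb13q)⟩
theorem bdb13 : Bound Rl 13 64512 := Bound.step2 (bdb12) tcb13 stb13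
theorem tcb14e : ∀ k < 14, ∀ i < 168, (ent2 Tb14 Eb14 (selR RLb14 Ib14) Db14 (nat_lit 255) (nat_lit 155) (nat_lit 155) (nat_lit 168) (nat_lit 14) (nat_lit 4095) (nat_lit 1)) k i = 0 := allZ2_sound tcb14e_a
theorem tcb14p : ∀ i < 13, (eps2 Tb14 Eb14 Jb14 Wb14 RLb14 (nat_lit 255) (nat_lit 155) (nat_lit 168) (nat_lit 14) (nat_lit 1)) i = 0 := allZ_sound0 tcb14p_0
theorem tcb14 : cb14.OK Rl 14 := ⟨tcb14n, ivc, tcb14r, tcb14e, fun i h => tcb14p i (lt_of_lt_of_eq h tcb14q)⟩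
theorem bdb14 : Bound Rl 14 9999360 := Bound.step2 (bdb13) tcb14 stb14

end H1.HdT.L
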