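import Cfsg.Agent.H1.HdTS.C0
import Cfsg.Agent.H1.HdTS.C1
import Cfsg.Agent.H1.HdTS.C2

/-! Generated by tools/h16 (computation kit). -/

set_option maxRecDepth 100000
set_option maxHeartbeats 0

namespace H1.HdT.S

open H16

theorem tcb12e : ∀ k < 12, ∀ i < 3, (ent2 Tb12 Eb12 (selR RLb12 Ib12) Db12 (nat_lit 3) (nat_lit 3) (nat_lit 3) (nat_lit 3) (nat_lit 12) (nat_lit 63) (nat_lit 0)) k i = 0 := allZ2_sound tcb12e_a
theorem tcb12p : ∀ i < 0, (eps2 Tb12 Eb12 Jb12 Wb12 RLb12 (nat_lit 3) (nat_lit 3) (nat_lit 3) (nat_lit 12) (nat_lit 0)) i = 0 := allZ_sound0 tcb12p_0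
theorem tcb12 : cb12.OK Rl 14 := ⟨tcb12n, ivc, tcb12r, tcb12e, fun i h => tcb12p i (lt_of_lt_of_eq h tcb12q)⟩
theorem bdb12 : Bound Rl 12 9216 := Bound.step2 (H1.HdT.bd_app app) tcb12 stb12
theorem tcb13e : ∀ k < 13, ∀ i < 15, (ent2 Tb13 Eb13 (selR RLb13 Ib13) Db13 (nat_lit 15) (nat_lit 15) (nat_lit 15) (nat_lit 15) (nat_lit 13) (nat_lit 255) (nat_lit 0)) k i = 0 := allZ2_sound tcb13e_a
theorem tcb13p : ∀ i < 0, (eps2 Tb13 Eb13 Jb13 Wb13 RLb13 (nat_lit 15) (nat_lit 15) (nat_lit 15) (nat_lit 13) (nat_lit 0)) i = 0 := allZ_sound0 tcb13p_0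
theorem tcb13 : cb13.OK Rl 14 := ⟨tcb13n, ivc, tcb13r, tcb13e, fun i h => tcb13p i (lt_of_lt_of_eq h tcb13q)⟩
theorem bdb13 : Bound Rl 13 138240 := Bound.step2 (bdb12) tcb13 stb13
theorem tcb14e_0_g0 : ∀ i < 11904, (ent2 Tb14 Eb14 (selR RLb14 Ib14) Db14 (nat_lit 32767) (nat_lit 29155) (nat_lit 29155) (nat_lit 30834) (nat_lit 14) (nat_lit 524287) (nat_lit 3) (nat_lit 0)) i = 0 := allZ_sound0 tcb14e_0_0
theorem tcb14e_0_g1 : ∀ i < 23808, (ent2 Tb14 Eb14 (selR RLb14 Ib14) Db14 (nat_lit 32767) (nat_lit 29155) (nat_lit 29155) (nat_lit 30834) (nat_lit 14) (nat_lit 524287) (nat_lit 3) (nat_lit 0)) i = 0 := range_glue tcb14e_0_g0 tcb14e_0_1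
theorem tcb14e_0 : ∀ i < 30834, (ent2 Tb14 Eb14 (selR RLb14 Ib14) Db14 (nat_lit 32767) (nat_lit 29155) (nat_lit 29155) (nat_lit 30834) (nat_lit 14) (nat_lit 524287) (nat_lit 3) (nat_lit 0)) i = 0 := range_glue tcb14e_0_g1 tcb14e_0_2
theorem tcb14e_1_g0 : ∀ i < 11840, (ent2 Tb14 Eb14 (selR RLb14 Ib14) Db14 (nat_lit 32767) (nat_lit 29155) (nat_lit 29155) (nat_lit 30834) (nat_lit 14) (nat_lit 524287) (nat_lit 3) (nat_lit 1)) i = 0 := allZ_sound0 tcb14e_1_0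
theorem tcb14e_1_g1 : ∀ i < 23680, (ent2 Tb14 Eb14 (selR RLb14 Ib14) Db14 (nat_lit 32767) (nat_lit 29155) (nat_lit 29155) (nat_lit 30834) (nat_lit 14) (nat_lit 524287) (nat_lit 3) (nat_lit 1)) i = 0 := range_glue tcb14e_1_g0 tcb14e_1_1
theorem tcb14e_1 : ∀ i < 30834, (ent2 Tb14 Eb14 (selR RLb14 Ib14) Db14 (nat_lit 32767) (nat_lit 29155) (nat_lit 29155) (nat_lit 30834) (nat_lit 14) (nat_lit 524287) (nat_lit 3) (nat_lit 1)) i = 0 := range_glue tcb14e_1_g1 tcb14e_1_2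
theorem tcb14e_2_g0 : ∀ i < 11840, (ent2 Tb14 Eb14 (selR RLb14 Ib14) Db14 (nat_lit 32767) (nat_lit 29155) (nat_lit 29155) (nat_lit 30834) (nat_lit 14) (nat_lit 524287) (nat_lit 3) (nat_lit 2)) i = 0 := allZ_sound0 tcb14e_2_0
theorem tcb14e_2_g1 : ∀ i < 23680, (ent2 Tb14 Eb14 (selR RLb14 Ib14) Db14 (nat_lit 32767) (nat_lit 29155) (nat_lit 29155) (nat_lit 30834) (nat_lit 14) (nat_lit 524287) (nat_lit 3) (nat_lit 2)) i = 0 := range_glue tcb14e_2_g0 tcb14e_2_1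
theorem tcb14e_2 : ∀ i < 30834, (ent2 Tb14 Eb14 (selR RLb14 Ib14) Db14 (nat_lit 32767) (nat_lit 29155) (nat_lit 29155) (nat_lit 30834) (nat_lit 14) (nat_lit 524287) (nat_lit 3) (nat_lit 2)) i = 0 := range_glue tcb14e_2_g1 tcb14e_2_2
theorem tcb14e_3_g0 : ∀ i < 11520, (ent2 Tb14 Eb14 (selR RLb14 Ib14) Db14 (nat_lit 32767) (nat_lit 29155) (nat_lit 29155) (nat_lit 30834) (nat_lit 14) (nat_lit 524287) (nat_lit 3) (nat_lit 3)) i = 0 := allZ_sound0 tcb14e_3_0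
theorem tcb14e_3_g1 : ∀ i < 23040, (ent2 Tb14 Eb14 (selR RLb14 Ib14) Db14 (nat_lit 32767) (nat_lit 29155) (nat_lit 29155) (nat_lit 30834) (nat_lit 14) (nat_lit 524287) (nat_lit 3) (nat_lit 3)) i = 0 := range_glue tcb14e_3_g0 tcb14e_3_1
theorem tcb14e_3 : ∀ i < 30834, (ent2 Tb14 Eb14 (selR RLb14 Ib14) Db14 (nat_lit 32767) (nat_lit 29155) (nat_lit 29155) (nat_lit 30834) (nat_lit 14) (nat_lit 524287) (nat_lit 3) (nat_lit 3)) i = 0 := range_glue tcb14e_3_g1 tcb14e_3_2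
theorem tcb14e_4_g0 : ∀ i < 11776, (ent2 Tb14 Eb14 (selR RLb14 Ib14) Db14 (nat_lit 32767) (nat_lit 29155) (nat_lit 29155) (nat_lit 30834) (nat_lit 14) (nat_lit 524287) (nat_lit 3) (nat_lit 4)) i = 0 := allZ_sound0 tcb14e_4_0
theorem tcb14e_4_g1 : ∀ i < 23552, (ent2 Tb14 Eb14 (selR RLb14 Ib14) Db14 (nat_lit 32767) (nat_lit 29155) (nat_lit 29155) (nat_lit 30834) (nat_lit 14) (nat_lit 524287) (nat_lit 3) (nat_lit 4)) i = 0 := range_glue tcb14e_4_g0 tcb14e_4_1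
theorem tcb14e_4 : ∀ i < 30834, (ent2 Tb14 Eb14 (selR RLb14 Ib14) Db14 (nat_lit 32767) (nat_lit 29155) (nat_lit 29155) (nat_lit 30834) (nat_lit 14) (nat_lit 524287) (nat_lit 3) (nat_lit 4)) i = 0 := range_glue tcb14e_4_g1 tcb14e_4_2
theorem tcb14e_5_g0 : ∀ i < 11456, (ent2 Tb14 Eb14 (selR RLb14 Ib14) Db14 (nat_lit 32767) (nat_lit 29155) (nat_lit 29155) (nat_lit 30834) (nat_lit 14) (nat_lit 524287) (nat_lit 3) (nat_lit 5)) i = 0 := allZ_sound0 tcb14e_5_0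
theorem tcb14e_5_g1 : ∀ i < 22912, (ent2 Tb14 Eb14 (selR RLb14 Ib14) Db14 (nat_lit 32767) (nat_lit 29155) (nat_lit 29155) (nat_lit 30834) (nat_lit 14) (nat_lit 524287) (nat_lit 3) (nat_lit 5)) i = 0 := range_glue tcb14e_5_g0 tcb14e_5_1
theorem tcb14e_5 : ∀ i < 30834, (ent2 Tb14 Eb14 (selR RLb14 Ib14) Db14 (nat_lit 32767) (nat_lit 29155) (nat_lit 29155) (nat_lit 30834) (nat_lit 14) (nat_lit 524287) (nat_lit 3) (nat_lit 5)) i = 0 := range_glue tcb14e_5_g1 tcb14e_5_2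
theorem tcb14e_6_g0 : ∀ i < 11840, (ent2 Tb14 Eb14 (selR RLb14 Ib14) Db14 (nat_lit 32767) (nat_lit 29155) (nat_lit 29155) (nat_lit 30834) (nat_lit 14) (nat_lit 524287) (nat_lit 3) (nat_lit 6)) i = 0 := allZ_sound0 tcb14e_6_0
theorem tcb14e_6_g1 : ∀ i < 23680, (ent2 Tb14 Eb14 (selR RLb14 Ib14) Db14 (nat_lit 32767) (nat_lit 29155) (nat_lit 29155) (nat_lit 30834) (nat_lit 14) (nat_lit 524287) (nat_lit 3) (nat_lit 6)) i = 0 := range_glue tcb14e_6_g0 tcb14e_6_1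
theorem tcb14e_6 : ∀ i < 30834, (ent2 Tb14 Eb14 (selR RLb14 Ib14) Db14 (nat_lit 32767) (nat_lit 29155) (nat_lit 29155) (nat_lit 30834) (nat_lit 14) (nat_lit 524287) (nat_lit 3) (nat_lit 6)) i = 0 := range_glue tcb14e_6_g1 tcb14e_6_2
theorem tcb14e_7_g0 : ∀ i < 11840, (ent2 Tb14 Eb14 (selR RLb14 Ib14) Db14 (nat_lit 32767) (nat_lit 29155) (nat_lit 29155) (nat_lit 30834) (nat_lit 14) (nat_lit 524287) (nat_lit 3) (nat_lit 7)) i = 0 := allZ_sound0 tcb14e_7_0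
theorem tcb14e_7_g1 : ∀ i < 23680, (ent2 Tb14 Eb14 (selR RLb14 Ib14) Db14 (nat_lit 32767) (nat_lit 29155) (nat_lit 29155) (nat_lit 30834) (nat_lit 14) (nat_lit 524287) (nat_lit 3) (nat_lit 7)) i = 0 := range_glue tcb14e_7_g0 tcb14e_7_1
theorem tcb14e_7 : ∀ i < 30834, (ent2 Tb14 Eb14 (selR RLb14 Ib14) Db14 (nat_lit 32767) (nat_lit 29155) (nat_lit 29155) (nat_lit 30834) (nat_lit 14) (nat_lit 524287) (nat_lit 3) (nat_lit 7)) i = 0 := range_glue tcb14e_7_g1 tcb14e_7_2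
theorem tcb14e_8_g0 : ∀ i < 11776, (ent2 Tb14 Eb14 (selR RLb14 Ib14) Db14 (nat_lit 32767) (nat_lit 29155) (nat_lit 29155) (nat_lit 30834) (nat_lit 14) (nat_lit 524287) (nat_lit 3) (nat_lit 8)) i = 0 := allZ_sound0 tcb14e_8_0
theorem tcb14e_8_g1 : ∀ i < 23552, (ent2 Tb14 Eb14 (selR RLb14 Ib14) Db14 (nat_lit 32767) (nat_lit 29155) (nat_lit 29155) (nat_lit 30834) (nat_lit 14) (nat_lit 524287) (nat_lit 3) (nat_lit 8)) i = 0 := range_glue tcb14e_8_g0 tcb14e_8_1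
theorem tcb14e_8 : ∀ i < 30834, (ent2 Tb14 Eb14 (selR RLb14 Ib14) Db14 (nat_lit 32767) (nat_lit 29155) (nat_lit 29155) (nat_lit 30834) (nat_lit 14) (nat_lit 524287) (nat_lit 3) (nat_lit 8)) i = 0 := range_glue tcb14e_8_g1 tcb14e_8_2
theorem tcb14e_9_g0 : ∀ i < 11712, (ent2 Tb14 Eb14 (selR RLb14 Ib14) Db14 (nat_lit 32767) (nat_lit 29155) (nat_lit 29155) (nat_lit 30834) (nat_lit 14) (nat_lit 524287) (nat_lit 3) (nat_lit 9)) i = 0 := allZ_sound0 tcb14e_9_0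
theorem tcb14e_9_g1 : ∀ i < 23424, (ent2 Tb14 Eb14 (selR RLb14 Ib14) Db14 (nat_lit 32767) (nat_lit 29155) (nat_lit 29155) (nat_lit 30834) (nat_lit 14) (nat_lit 524287) (nat_lit 3) (nat_lit 9)) i = 0 := range_glue tcb14e_9_g0 tcb14e_9_1
theorem tcb14e_9 : ∀ i < 30834, (ent2 Tb14 Eb14 (selR RLb14 Ib14) Db14 (nat_lit 32767) (nat_lit 29155) (nat_lit 29155) (nat_lit 30834) (nat_lit 14) (nat_lit 524287) (nat_lit 3) (nat_lit 9)) i = 0 := range_glue tcb14e_9_g1 tcb14e_9_2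
theorem tcb14e_10_g0 : ∀ i < 11968, (ent2 Tb14 Eb14 (selR RLb14 Ib14) Db14 (nat_lit 32767) (nat_lit 29155) (nat_lit 29155) (nat_lit 30834) (nat_lit 14) (nat_lit 524287) (nat_lit 3) (nat_lit 10)) i = 0 := allZ_sound0 tcb14e_10_0
theorem tcb14e_10_g1 : ∀ i < 23936, (ent2 Tb14 Eb14 (selR RLb14 Ib14) Db14 (nat_lit 32767) (nat_lit 29155) (nat_lit 29155) (nat_lit 30834) (nat_lit 14) (nat_lit 524287) (nat_lit 3) (nat_lit 10)) i = 0 := range_glue tcb14e_10_g0 tcb14e_10_1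
theorem tcb14e_10 : ∀ i < 30834, (ent2 Tb14 Eb14 (selR RLb14 Ib14) Db14 (nat_lit 32767) (nat_lit 29155) (nat_lit 29155) (nat_lit 30834) (nat_lit 14) (nat_lit 524287) (nat_lit 3) (nat_lit 10)) i = 0 := range_glue tcb14e_10_g1 tcb14e_10_2
theorem tcb14e_11_g0 : ∀ i < 11264, (ent2 Tb14 Eb14 (selR RLb14 Ib14) Db14 (nat_lit 32767) (nat_lit 29155) (nat_lit 29155) (nat_lit 30834) (nat_lit 14) (nat_lit 524287) (nat_lit 3) (nat_lit 11)) i = 0 := allZ_sound0 tcb14e_11_0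
theorem tcb14e_11_g1 : ∀ i < 22528, (ent2 Tb14 Eb14 (selR RLb14 Ib14) Db14 (nat_lit 32767) (nat_lit 29155) (nat_lit 29155) (nat_lit 30834) (nat_lit 14) (nat_lit 524287) (nat_lit 3) (nat_lit 11)) i = 0 := range_glue tcb14e_11_g0 tcb14e_11_1
theorem tcb14e_11 : ∀ i < 30834, (ent2 Tb14 Eb14 (selR RLb14 Ib14) Db14 (nat_lit 32767) (nat_lit 29155) (nat_lit 29155) (nat_lit 30834) (nat_lit 14) (nat_lit 524287) (nat_lit 3) (nat_lit 11)) i = 0 := range_glue tcb14e_11_g1 tcb14e_11_2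
theorem tcb14e_12_g0 : ∀ i < 11264, (ent2 Tb14 Eb14 (selR RLb14 Ib14) Db14 (nat_lit 32767) (nat_lit 29155) (nat_lit 29155) (nat_lit 30834) (nat_lit 14) (nat_lit 524287) (nat_lit 3) (nat_lit 12)) i = 0 := allZ_sound0 tcb14e_12_0
theorem tcb14e_12_g1 : ∀ i < 22528, (ent2 Tb14 Eb14 (selR RLb14 Ib14) Db14 (nat_lit 32767) (nat_lit 29155) (nat_lit 29155) (nat_lit 30834) (nat_lit 14) (nat_lit 524287) (nat_lit 3) (nat_lit 12)) i = 0 := range_glue tcb14e_12_g0 tcb14e_12_1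
theorem tcb14e_12 : ∀ i < 30834, (ent2 Tb14 Eb14 (selR RLb14 Ib14) Db14 (nat_lit 32767) (nat_lit 29155) (nat_lit 29155) (nat_lit 30834) (nat_lit 14) (nat_lit 524287) (nat_lit 3) (nat_lit 12)) i = 0 := range_glue tcb14e_12_g1 tcb14e_12_2
theorem tcb14e_13_g0 : ∀ i < 12032, (ent2 Tb14 Eb14 (selR RLb14 Ib14) Db14 (nat_lit 32767) (nat_lit 29155) (nat_lit 29155) (nat_lit 30834) (nat_lit 14) (nat_lit 524287) (nat_lit 3) (nat_lit 13)) i = 0 := allZ_sound0 tcb14e_13_0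
theorem tcb14e_13_g1 : ∀ i < 24064, (ent2 Tb14 Eb14 (selR RLb14 Ib14) Db14 (nat_lit 32767) (nat_lit 29155) (nat_lit 29155) (nat_lit 30834) (nat_lit 14) (nat_lit 524287) (nat_lit 3) (nat_lit 13)) i = 0 := range_glue tcb14e_13_g0 tcb14e_13_1
theorem tcb14e_13 : ∀ i < 30834, (ent2 Tb14 Eb14 (selR RLb14 Ib14) Db14 (nat_lit 32767) (nat_lit 29155) (nat_lit 29155) (nat_lit 30834) (nat_lit 14) (nat_lit 524287) (nat_lit 3) (nat_lit 13)) i = 0 := range_glue tcb14e_13_g1 tcb14e_13_2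
theorem tcb14e : ∀ k < 14, ∀ i < 30834, (ent2 Tb14 Eb14 (selR RLb14 Ib14) Db14 (nat_lit 32767) (nat_lit 29155) (nat_lit 29155) (nat_lit 30834) (nat_lit 14) (nat_lit 524287) (nat_lit 3)) k i = 0 :=
  letters_glue (letters_glue (letters_glue (letters_glue (letters_glue (letters_glue (letters_glue (letters_glue (letters_glue (letters_glue (letters_glue (letters_glue (letters_glue (letters_glue (letters_nil) tcb14e_0) tcb14e_1) tcb14e_2) tcb14e_3) tcb14e_4) tcb14e_5) tcb14e_6) tcb14e_7) tcb14e_8) tcb14e_9) tcb14e_10) tcb14e_11) tcb14e_12) tcb14e_13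
theorem tcb14p : ∀ i < 1679, (eps2 Tb14 Eb14 Jb14 Wb14 RLb14 (nat_lit 32767) (nat_lit 29155) (nat_lit 30834) (nat_lit 14) (nat_lit 3)) i = 0 := allZ_sound0 tcb14p_0
theorem tcb14 : cb14.OK Rl 14 := ⟨tcb14n, ivc, tcb14r, tcb14e, fun i h => tcb14p i (lt_of_lt_of_eq h tcb14q)⟩
theorem bdb14 : Bound Rl 14 4030387200 := Bound.step2 (bdb13) tcb14 stb14

end H1.HdT.S
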