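import Cfsg.Agent.H1.Hd11
import Cfsg.Agent.H1.HdT1
import Cfsg.Agent.H1.HdTL
import Cfsg.Agent.H1.HdTM
import Cfsg.Agent.H1.HdTS

/-! The relations in the four cases. -/

set_option autoImplicit false
set_option maxRecDepth 100000
set_option maxHeartbeats 4000000
set_option linter.unusedVariables false

namespace H1.Hd
open H0.PM H16 Subgroup

variable {G : Type*} [Group G]

theorem rnil {g : ℕ → G} : Rels g [] := fun _ h => by cases h
theorem rcons {g : ℕ → G} {w : List ℕ} {L : List (List ℕ)} (h : evA g w = 1) (h' : Rels g L) :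
    Rels g (w :: L) := List.forall_mem_cons.2 ⟨h, h'⟩
theorem ev3 {g : ℕ → G} (k r : ℕ) (h : (g r * g k) ^ 3 = 1) : evA g [k, r, k, r, k, r] = 1 := by
  simpa [pow_succ, mul_assoc] using h

theorem dih {a b : G} (aa : a * a = 1) (bb : b * b = 1) (n : ℕ) :
    (a * b) ^ n * (a * (a * b) ^ n * a⁻¹) = 1 ∧ (a * b) ^ n * (b * (a * b) ^ n * b⁻¹) = 1 := by
  have ai := inv_eq_of_mul_eq_one_right aa
  have bi := inv_eq_of_mul_eq_one_right bb
  have e1 : a * (a * b) * a⁻¹ = (a * b)⁻¹ := by rw [← mul_assoc, aa, one_mul, mul_inv_rev, bi]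
  have e2 : b * (a * b) * b⁻¹ = (a * b)⁻¹ := by
    rw [mul_inv_rev, bi, ai, ← mul_assoc, mul_assoc _ b, bb, mul_one]
  rw [← conj_pow, ← conj_pow, e1, e2, inv_pow, mul_inv_cancel]
  exact ⟨rfl, rfl⟩

noncomputable def filK (cl : List ℕ) (A B : List (List ℕ)) (w : List ℕ)
    (L : List (ℕ × List (List ℕ))) (l l' : List ℕ) : Bool :=
  Nat.beq (neL (L.map Prod.fst) l) 0 && L.all fun p => force (cchk cl A B w p.2 p.1) fun d =>
    Nat.blt 0 d && (!(Nat.beq (mm p.1 d) o.one) || elem p.1 l')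

theorem BC.e {R : ℕ → G → Prop} (μ : IsMod o R) {r b x y : G} {A B : List ℕ} (h : BC R r b A B)
    (k : ℕ) (hx : R (nth o.one A k) x) (hy : R (nth o.one B k) y) : b * x * b = y :=
  μ.fn ((cj_nth μ h.sq h.cj k).app μ hx) hy

namespace Mach
variable {R : ℕ → G → Prop} {g : ℕ → G} {cl : List ℕ} {A B : List (List ℕ)} (M : Mach R g cl A B)
include M

theorem filW {w : List ℕ} {L : List (ℕ × List (List ℕ))} {l l' : List ℕ}
    (h : filK cl A B w L l l' = true) {x : G} (hx : InS R l x)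
    (e : x * (evA g w * x * (evA g w)⁻¹) = 1) : InS R l' x := by
  simp only [filK, Bool.and_eq_true, Nat.beq_eq, List.all_eq_true, force_eq, Nat.blt_eq] at h
  obtain ⟨c, hc, hx⟩ := hx
  obtain ⟨p, hp, rfl⟩ := List.mem_map.1 (neL_zero h.1 ▸ hc)
  obtain ⟨h1, h2⟩ := h.2 p hp
  have : mm p.1 (cchk cl A B w p.2 p.1) = o.one :=
    (M.μ.inj (M.μ.mul hx (M.chain w p.2 hx h1.ne')) M.μ.one).2 e
  simp only [this, Nat.beq_refl, Bool.not_true, Bool.false_or, elem_iff] at h2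
  exact ⟨_, h2, hx⟩

theorem cls {c : ℕ} {W : List ℕ} (hx : R c (evA g W)) (F : List ℕ)
    (h : allH A F = true ∧ mm c (evW o cl F) = o.one) : evA g (F ++ W) = 1 := by
  rw [evA_append]; exact (M.μ.inj (M.μ.mul hx (M.evH h.1)) M.μ.one).1 h.2

theorem sq3 (a k : ℕ) : evA g [a, k, a] * evA g [a, k, a] = 1 := by
  have : evA g [a, k, a] = g a * g k * (g a)⁻¹ := by simp [M.inv]
  rw [this, conj_mul, M.sq]; simp
end Mach

namespace HS
variable {S : HS G}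
section
variable {g : ℕ → G} {cl : List ℕ} {A B : List (List ℕ)} (M : Mach S.R g cl A B)
include M

theorem relD' (g0 : g 0 = S.z) (D : RD) {c : ℕ} (hc : S.R c (g D.kb * g D.ko * g D.kb * g D.ko))
    {ks As l : List ℕ} (h : D.ok cl A B c = true ∧ D.F.map Prod.fst = 0 :: ks ∧
      D.L.map Prod.fst = l ∧ allH A ks = true ∧ ks.map (nth o.one cl) = As)
    (h' : trK As As l = true) : evA g D.w = 1 :=
  M.relD D hc h.1 (by rw [h.2.1, h.2.2.1]; exact cenM M g0 h.2.2.2 h')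

theorem sq2 {F : List ℕ} {Wz : List (List ℕ)} {L L1 L2 : List (ℕ × List (List ℕ))} {l l' : List ℕ}
    (h : trW cl A B ([12, 11, 12, 11] ++ F) Wz L LEg LEg = true ∧ allH A F = true ∧
      filK cl A B [11] L1 (LE.map (mm (minv (evW o cl F)))) l = true ∧
      filK cl A B [12] L2 l l' = true) : InS S.R l' (g 11 * g 12 * g 11 * g 12) := by
  have k := InS.mul S.μ (S.μ.inv (M.evH h.2.1)) (trM M h.1 LE_ok)
  have e : (evA g F)⁻¹ * evA g ([12, 11, 12, 11] ++ F) = (g 11 * g 12) ^ 2 := by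
    simp [pow_succ, mul_assoc]
  obtain ⟨d1, d2⟩ := dih (M.sq 11) (M.sq 12) 2
  have := M.filW h.2.2.2 (M.filW h.2.2.1 (e ▸ k) (by simpa using d1)) (by simpa using d2)
  rwa [pow_two, ← mul_assoc] at this
end

theorem alt {b b' : G} {B B' : List ℕ} (h : BC S.R S.a12 b A1 B) (h' : BC S.R S.a45 b' A4 B')
    {c c' : ℕ} (e : nth o.one B 0 = mm cz (nat_lit 17045569) ∧ nth o.one B 2 = nat_lit 17045569 ∧
      nth o.one B 4 = nat_lit 17059905 ∧ nth o.one B' 1 = mm (nat_lit 17045569) (nat_lit 17059905) ∧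
      nth o.one B' 4 = nat_lit 17059905 ∧ mm c' (nat_lit 17059905) = c)
    (hc : InS S.R [c, c'] (b * b' * b * b')) :
    ∃ b, BC S.R S.a12 b A1 B ∧ S.R c (b * b' * b * b') := by
  obtain ⟨d, hd, hc⟩ := hc
  simp only [List.mem_cons, List.not_mem_nil, or_false] at hd
  rcases hd with rfl | rfl
  · exact ⟨b, h, hc⟩
  obtain ⟨e1, e2, e3, e4, e5, e6⟩ := e
  have a1 := h.e S.μ 0 S.R_z (by rw [e1]; exact S.μ.mul S.R_z S.R_a25)
  have a2 := h.e S.μ 2 S.R_a25 (by rw [e2]; exact S.R_a25)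
  have a3 := h.e S.μ 4 S.R_a24 (by rw [e3]; exact S.R_a24)
  have a4 := h'.e S.μ 1 S.R_a25 (by rw [e4]; exact S.μ.mul S.R_a25 S.R_a24)
  have a5 := h'.e S.μ 4 S.R_a24 (by rw [e5]; exact S.R_a24)
  have cm : ∀ {b x y : G}, b * b = 1 → b * x * b = y → x * b = b * y := fun bb e => by
    rw [← e, ← mul_assoc, ← mul_assoc, bb, one_mul]
  have t : S.z * b * S.z = b * S.a25 := by
    rw [cm h.sq a1, mul_assoc, mul_assoc, mem_centralizer_singleton_iff.1 S.m_a25, ← mul_assoc S.z,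
      S.sq_z, one_mul]
  have ts : S.a24 * S.a25 = S.a25 * S.a24 :=
    (S.μ.inj (S.μ.mul S.R_a24 S.R_a25) (S.μ.mul S.R_a25 S.R_a24)).1 (by decide +kernel)
  refine ⟨_, BC_z h S.m_a12, ?_⟩
  have : S.z * b * S.z * b' * (S.z * b * S.z) * b' = b * b' * b * b' * S.a24 := by
    calc _ = b * (S.a25 * b') * b * S.a25 * b' := by rw [t]; group
      _ = b * b' * (S.a25 * (S.a24 * b)) * S.a25 * b' := by rw [cm h'.sq a4]; group
      _ = b * b' * b * (S.a25 * (S.a24 * S.a25)) * b' := by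
        rw [cm h.sq a3, ← mul_assoc S.a25, cm h.sq a2]; group
      _ = _ := by rw [ts, ← mul_assoc S.a25, S.sq_a25, one_mul, mul_assoc _ S.a24, cm h'.sq a5]; group
  rw [this, ← e6]
  exact S.μ.mul hc S.R_a24

theorem sq_inv {b b' : G} (bb : b * b = 1) (bb' : b' * b' = 1) {c : ℕ}
    (hc : S.R c (b * b' * b * b')) : S.R (minv c) (b' * b * b' * b) := by
  have := S.μ.inv hc
  rwa [mul_inv_rev, mul_inv_rev, mul_inv_rev, inv_eq_of_mul_eq_one_right bb,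
    inv_eq_of_mul_eq_one_right bb', ← mul_assoc, ← mul_assoc] at this

noncomputable def wO : List ℕ := [(nat_lit 7), (nat_lit 11), (nat_lit 7), (nat_lit 6), (nat_lit 12), (nat_lit 6), (nat_lit 7), (nat_lit 11), (nat_lit 7), (nat_lit 6), (nat_lit 12), (nat_lit 6), (nat_lit 7), (nat_lit 11), (nat_lit 7), (nat_lit 6), (nat_lit 12), (nat_lit 6)]
theorem o_a : trW cl1 (AA1 A1) (AA1 B00) wO [[(nat_lit 0)], [(nat_lit 5)], [(nat_lit 2), (nat_lit 0)]] [((nat_lit 2), [[(nat_lit 5)], [(nat_lit 2), (nat_lit 0)], [(nat_lit 0)]]), ((nat_lit 5), [[(nat_lit 2), (nat_lit 0)], [(nat_lit 0)], [(nat_lit 5)]]), ((nat_lit 9), [[(nat_lit 8)], [(nat_lit 8)], [(nat_lit 8)]]), ((nat_lit 1), [[(nat_lit 1)], [(nat_lit 7)], [(nat_lit 4), (nat_lit 1)]])] LUg LUg = true := by decide +kernel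
theorem o_b : filK cl1 (AA1 A1) (AA1 B00) [7, 11, 7] [((nat_lit 17043521), []), ((nat_lit 17043523), []), ((nat_lit 17045569), []), ((nat_lit 17045571), []), ((nat_lit 17109057), []), ((nat_lit 17109059), []), ((nat_lit 17111105), []), ((nat_lit 17111107), [])] LU [(nat_lit 17043521), (nat_lit 17043523), (nat_lit 17111105), (nat_lit 17111107)] = true := by decide +kernel
theorem o_c : filK cl1 (AA1 A1) (AA1 B00) [6, 12, 6] [((nat_lit 17043521), [[]]), ((nat_lit 17043523), [[(nat_lit 0)]]), ((nat_lit 17111105), [[(nat_lit 5), (nat_lit 2), (nat_lit 0)]]), ((nat_lit 17111107), [[(nat_lit 5), (nat_lit 2)]])] [(nat_lit 17043521), (nat_lit 17043523), (nat_lit 17111105), (nat_lit 17111107)] [(nat_lit 17043521), (nat_lit 17111107)] = true := by decide +kernel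
noncomputable def RWO : List (List ℕ × List ℕ) := [([(nat_lit 0), (nat_lit 0)], []),
  ([(nat_lit 1), (nat_lit 1)], []),
  ([(nat_lit 2), (nat_lit 2)], []),
  ([(nat_lit 3), (nat_lit 3)], []),
  ([(nat_lit 4), (nat_lit 4)], []),
  ([(nat_lit 5), (nat_lit 5)], []),
  ([(nat_lit 6), (nat_lit 6)], []),
  ([(nat_lit 7), (nat_lit 7)], []),
  ([(nat_lit 8), (nat_lit 8)], []),
  ([(nat_lit 9), (nat_lit 9)], []),
  ([(nat_lit 10), (nat_lit 10)], []),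
  ([(nat_lit 11), (nat_lit 11)], []),
  ([(nat_lit 12), (nat_lit 12)], []),
  ([(nat_lit 13), (nat_lit 13)], []),
  ([(nat_lit 1), (nat_lit 0), (nat_lit 1), (nat_lit 0)], []),
  ([(nat_lit 2), (nat_lit 0), (nat_lit 2), (nat_lit 0)], []),
  ([(nat_lit 3), (nat_lit 0), (nat_lit 3), (nat_lit 0)], []),
  ([(nat_lit 4), (nat_lit 0), (nat_lit 4), (nat_lit 0)], []),
  ([(nat_lit 5), (nat_lit 0), (nat_lit 5), (nat_lit 0)], []),
  ([(nat_lit 6), (nat_lit 0), (nat_lit 6), (nat_lit 0)], []),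
  ([(nat_lit 7), (nat_lit 0), (nat_lit 7), (nat_lit 0)], []),
  ([(nat_lit 8), (nat_lit 0), (nat_lit 8), (nat_lit 0)], []),
  ([(nat_lit 9), (nat_lit 0), (nat_lit 9), (nat_lit 0)], []),
  ([(nat_lit 2), (nat_lit 1), (nat_lit 2), (nat_lit 1)], []),
  ([(nat_lit 3), (nat_lit 1), (nat_lit 3), (nat_lit 1)], []),
  ([(nat_lit 4), (nat_lit 1), (nat_lit 4), (nat_lit 1)], []),
  ([(nat_lit 5), (nat_lit 1), (nat_lit 5), (nat_lit 1)], []),
  ([(nat_lit 6), (nat_lit 1), (nat_lit 6), (nat_lit 1)], []),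
  ([(nat_lit 7), (nat_lit 1), (nat_lit 7), (nat_lit 1)], []),
  ([(nat_lit 8), (nat_lit 1), (nat_lit 8), (nat_lit 1)], []),
  ([(nat_lit 0), (nat_lit 9), (nat_lit 1), (nat_lit 9), (nat_lit 1)], []),
  ([(nat_lit 3), (nat_lit 2), (nat_lit 3), (nat_lit 2)], []),
  ([(nat_lit 4), (nat_lit 2), (nat_lit 4), (nat_lit 2)], []),
  ([(nat_lit 5), (nat_lit 2), (nat_lit 5), (nat_lit 2)], []),
  ([(nat_lit 0), (nat_lit 6), (nat_lit 2), (nat_lit 6), (nat_lit 2)], []),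
  ([(nat_lit 7), (nat_lit 2), (nat_lit 7), (nat_lit 2)], []),
  ([(nat_lit 8), (nat_lit 2), (nat_lit 8), (nat_lit 2)], []),
  ([(nat_lit 9), (nat_lit 2), (nat_lit 9), (nat_lit 2)], []),
  ([(nat_lit 4), (nat_lit 3), (nat_lit 4), (nat_lit 3)], []),
  ([(nat_lit 0), (nat_lit 5), (nat_lit 3), (nat_lit 5), (nat_lit 3)], []),
  ([(nat_lit 6), (nat_lit 3), (nat_lit 6), (nat_lit 3)], []),
  ([(nat_lit 7), (nat_lit 3), (nat_lit 7), (nat_lit 3)], []),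
  ([(nat_lit 1), (nat_lit 8), (nat_lit 3), (nat_lit 8), (nat_lit 3)], []),
  ([(nat_lit 9), (nat_lit 3), (nat_lit 9), (nat_lit 3)], []),
  ([(nat_lit 5), (nat_lit 4), (nat_lit 5), (nat_lit 4)], []),
  ([(nat_lit 1), (nat_lit 6), (nat_lit 4), (nat_lit 6), (nat_lit 4)], []),
  ([(nat_lit 7), (nat_lit 4), (nat_lit 7), (nat_lit 4)], []),
  ([(nat_lit 8), (nat_lit 4), (nat_lit 8), (nat_lit 4)], []),
  ([(nat_lit 2), (nat_lit 9), (nat_lit 4), (nat_lit 9), (nat_lit 4)], []),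
  ([(nat_lit 6), (nat_lit 5), (nat_lit 6), (nat_lit 5)], []),
  ([(nat_lit 2), (nat_lit 7), (nat_lit 5), (nat_lit 7), (nat_lit 5)], []),
  ([(nat_lit 8), (nat_lit 5), (nat_lit 8), (nat_lit 5)], []),
  ([(nat_lit 9), (nat_lit 5), (nat_lit 9), (nat_lit 5)], []),
  ([(nat_lit 3), (nat_lit 7), (nat_lit 6), (nat_lit 7), (nat_lit 6)], []),
  ([(nat_lit 8), (nat_lit 6), (nat_lit 8), (nat_lit 6)], []),
  ([(nat_lit 9), (nat_lit 6), (nat_lit 9), (nat_lit 6)], []),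
  ([(nat_lit 4), (nat_lit 8), (nat_lit 7), (nat_lit 8), (nat_lit 7)], []),
  ([(nat_lit 9), (nat_lit 7), (nat_lit 9), (nat_lit 7)], []),
  ([(nat_lit 5), (nat_lit 9), (nat_lit 8), (nat_lit 9), (nat_lit 8)], []),
  ([(nat_lit 0), (nat_lit 10), (nat_lit 0), (nat_lit 10)], []),
  ([(nat_lit 1), (nat_lit 3), (nat_lit 10), (nat_lit 1), (nat_lit 10)], []),
  ([(nat_lit 2), (nat_lit 10), (nat_lit 2), (nat_lit 10)], []),
  ([(nat_lit 3), (nat_lit 10), (nat_lit 3), (nat_lit 10)], []),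
  ([(nat_lit 4), (nat_lit 7), (nat_lit 10), (nat_lit 4), (nat_lit 10)], []),
  ([(nat_lit 5), (nat_lit 9), (nat_lit 10), (nat_lit 5), (nat_lit 10)], []),
  ([(nat_lit 6), (nat_lit 10), (nat_lit 6), (nat_lit 10)], []),
  ([(nat_lit 7), (nat_lit 10), (nat_lit 7), (nat_lit 10)], []),
  ([(nat_lit 9), (nat_lit 10), (nat_lit 9), (nat_lit 10)], []),
  ([(nat_lit 10), (nat_lit 8), (nat_lit 10), (nat_lit 8), (nat_lit 10), (nat_lit 8)], []),
  ([(nat_lit 0), (nat_lit 11), (nat_lit 0), (nat_lit 11)], []),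
  ([(nat_lit 1), (nat_lit 11), (nat_lit 1), (nat_lit 11)], []),
  ([(nat_lit 2), (nat_lit 5), (nat_lit 11), (nat_lit 2), (nat_lit 11)], []),
  ([(nat_lit 3), (nat_lit 6), (nat_lit 11), (nat_lit 3), (nat_lit 11)], []),
  ([(nat_lit 4), (nat_lit 8), (nat_lit 11), (nat_lit 4), (nat_lit 11)], []),
  ([(nat_lit 5), (nat_lit 11), (nat_lit 5), (nat_lit 11)], []),
  ([(nat_lit 6), (nat_lit 11), (nat_lit 6), (nat_lit 11)], []),
  ([(nat_lit 8), (nat_lit 11), (nat_lit 8), (nat_lit 11)], []),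
  ([(nat_lit 9), (nat_lit 11), (nat_lit 9), (nat_lit 11)], []),
  ([(nat_lit 11), (nat_lit 7), (nat_lit 11), (nat_lit 7), (nat_lit 11), (nat_lit 7)], []),
  ([(nat_lit 8), (nat_lit 10), (nat_lit 8), (nat_lit 7), (nat_lit 11), (nat_lit 7), (nat_lit 8), (nat_lit 10), (nat_lit 8), (nat_lit 7), (nat_lit 11), (nat_lit 7), (nat_lit 8), (nat_lit 10), (nat_lit 8), (nat_lit 7), (nat_lit 11), (nat_lit 7)], []),
  ([(nat_lit 12), (nat_lit 0), (nat_lit 12), (nat_lit 0), (nat_lit 2)], [(nat_lit 0)]),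
  ([(nat_lit 12), (nat_lit 1), (nat_lit 12), (nat_lit 1), (nat_lit 4)], [(nat_lit 1)]),
  ([(nat_lit 12), (nat_lit 2), (nat_lit 12), (nat_lit 2)], [(nat_lit 2)]),
  ([(nat_lit 12), (nat_lit 3), (nat_lit 12), (nat_lit 3), (nat_lit 7)], [(nat_lit 3)]),
  ([(nat_lit 12), (nat_lit 4), (nat_lit 12), (nat_lit 4)], [(nat_lit 4)]),
  ([(nat_lit 12), (nat_lit 5), (nat_lit 12), (nat_lit 5)], [(nat_lit 5)]),
  ([(nat_lit 12), (nat_lit 7), (nat_lit 12), (nat_lit 7)], [(nat_lit 6)]),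
  ([(nat_lit 12), (nat_lit 8), (nat_lit 12), (nat_lit 8)], [(nat_lit 7)]),
  ([(nat_lit 12), (nat_lit 9), (nat_lit 12), (nat_lit 9)], [(nat_lit 8)]),
  ([(nat_lit 12), (nat_lit 10), (nat_lit 12), (nat_lit 10)], [(nat_lit 9)]),
  ([(nat_lit 12), (nat_lit 6), (nat_lit 12), (nat_lit 6), (nat_lit 12), (nat_lit 6)], []),
  ([(nat_lit 7), (nat_lit 11), (nat_lit 7), (nat_lit 6), (nat_lit 12), (nat_lit 6), (nat_lit 7), (nat_lit 11), (nat_lit 7), (nat_lit 6), (nat_lit 12), (nat_lit 6), (nat_lit 7), (nat_lit 11), (nat_lit 7), (nat_lit 6), (nat_lit 12), (nat_lit 6)], [])]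
noncomputable def RWf : List (List ℕ × List ℕ) := [([(nat_lit 0), (nat_lit 0)], []),
  ([(nat_lit 1), (nat_lit 1)], []),
  ([(nat_lit 2), (nat_lit 2)], []),
  ([(nat_lit 3), (nat_lit 3)], []),
  ([(nat_lit 4), (nat_lit 4)], []),
  ([(nat_lit 5), (nat_lit 5)], []),
  ([(nat_lit 6), (nat_lit 6)], []),
  ([(nat_lit 7), (nat_lit 7)], []),
  ([(nat_lit 8), (nat_lit 8)], []),
  ([(nat_lit 9), (nat_lit 9)], []),
  ([(nat_lit 10), (nat_lit 10)], []),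
  ([(nat_lit 11), (nat_lit 11)], []),
  ([(nat_lit 12), (nat_lit 12)], []),
  ([(nat_lit 13), (nat_lit 13)], []),
  ([(nat_lit 1), (nat_lit 0), (nat_lit 1), (nat_lit 0)], []),
  ([(nat_lit 2), (nat_lit 0), (nat_lit 2), (nat_lit 0)], []),
  ([(nat_lit 3), (nat_lit 0), (nat_lit 3), (nat_lit 0)], []),
  ([(nat_lit 4), (nat_lit 0), (nat_lit 4), (nat_lit 0)], []),
  ([(nat_lit 5), (nat_lit 0), (nat_lit 5), (nat_lit 0)], []),
  ([(nat_lit 6), (nat_lit 0), (nat_lit 6), (nat_lit 0)], []),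
  ([(nat_lit 7), (nat_lit 0), (nat_lit 7), (nat_lit 0)], []),
  ([(nat_lit 8), (nat_lit 0), (nat_lit 8), (nat_lit 0)], []),
  ([(nat_lit 9), (nat_lit 0), (nat_lit 9), (nat_lit 0)], []),
  ([(nat_lit 2), (nat_lit 1), (nat_lit 2), (nat_lit 1)], []),
  ([(nat_lit 3), (nat_lit 1), (nat_lit 3), (nat_lit 1)], []),
  ([(nat_lit 4), (nat_lit 1), (nat_lit 4), (nat_lit 1)], []),
  ([(nat_lit 5), (nat_lit 1), (nat_lit 5), (nat_lit 1)], []),
  ([(nat_lit 6), (nat_lit 1), (nat_lit 6), (nat_lit 1)], []),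
  ([(nat_lit 7), (nat_lit 1), (nat_lit 7), (nat_lit 1)], []),
  ([(nat_lit 8), (nat_lit 1), (nat_lit 8), (nat_lit 1)], []),
  ([(nat_lit 0), (nat_lit 9), (nat_lit 1), (nat_lit 9), (nat_lit 1)], []),
  ([(nat_lit 3), (nat_lit 2), (nat_lit 3), (nat_lit 2)], []),
  ([(nat_lit 4), (nat_lit 2), (nat_lit 4), (nat_lit 2)], []),
  ([(nat_lit 5), (nat_lit 2), (nat_lit 5), (nat_lit 2)], []),
  ([(nat_lit 0), (nat_lit 6), (nat_lit 2), (nat_lit 6), (nat_lit 2)], []),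
  ([(nat_lit 7), (nat_lit 2), (nat_lit 7), (nat_lit 2)], []),
  ([(nat_lit 8), (nat_lit 2), (nat_lit 8), (nat_lit 2)], []),
  ([(nat_lit 9), (nat_lit 2), (nat_lit 9), (nat_lit 2)], []),
  ([(nat_lit 4), (nat_lit 3), (nat_lit 4), (nat_lit 3)], []),
  ([(nat_lit 0), (nat_lit 5), (nat_lit 3), (nat_lit 5), (nat_lit 3)], []),
  ([(nat_lit 6), (nat_lit 3), (nat_lit 6), (nat_lit 3)], []),
  ([(nat_lit 7), (nat_lit 3), (nat_lit 7), (nat_lit 3)], []),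
  ([(nat_lit 1), (nat_lit 8), (nat_lit 3), (nat_lit 8), (nat_lit 3)], []),
  ([(nat_lit 9), (nat_lit 3), (nat_lit 9), (nat_lit 3)], []),
  ([(nat_lit 5), (nat_lit 4), (nat_lit 5), (nat_lit 4)], []),
  ([(nat_lit 1), (nat_lit 6), (nat_lit 4), (nat_lit 6), (nat_lit 4)], []),
  ([(nat_lit 7), (nat_lit 4), (nat_lit 7), (nat_lit 4)], []),
  ([(nat_lit 8), (nat_lit 4), (nat_lit 8), (nat_lit 4)], []),
  ([(nat_lit 2), (nat_lit 9), (nat_lit 4), (nat_lit 9), (nat_lit 4)], []),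
  ([(nat_lit 6), (nat_lit 5), (nat_lit 6), (nat_lit 5)], []),
  ([(nat_lit 2), (nat_lit 7), (nat_lit 5), (nat_lit 7), (nat_lit 5)], []),
  ([(nat_lit 8), (nat_lit 5), (nat_lit 8), (nat_lit 5)], []),
  ([(nat_lit 9), (nat_lit 5), (nat_lit 9), (nat_lit 5)], []),
  ([(nat_lit 3), (nat_lit 7), (nat_lit 6), (nat_lit 7), (nat_lit 6)], []),
  ([(nat_lit 8), (nat_lit 6), (nat_lit 8), (nat_lit 6)], []),
  ([(nat_lit 9), (nat_lit 6), (nat_lit 9), (nat_lit 6)], []),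
  ([(nat_lit 4), (nat_lit 8), (nat_lit 7), (nat_lit 8), (nat_lit 7)], []),
  ([(nat_lit 9), (nat_lit 7), (nat_lit 9), (nat_lit 7)], []),
  ([(nat_lit 5), (nat_lit 9), (nat_lit 8), (nat_lit 9), (nat_lit 8)], []),
  ([(nat_lit 0), (nat_lit 10), (nat_lit 0), (nat_lit 10)], []),
  ([(nat_lit 1), (nat_lit 3), (nat_lit 10), (nat_lit 1), (nat_lit 10)], []),
  ([(nat_lit 2), (nat_lit 10), (nat_lit 2), (nat_lit 10)], []),
  ([(nat_lit 3), (nat_lit 10), (nat_lit 3), (nat_lit 10)], []),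
  ([(nat_lit 4), (nat_lit 7), (nat_lit 10), (nat_lit 4), (nat_lit 10)], []),
  ([(nat_lit 5), (nat_lit 9), (nat_lit 10), (nat_lit 5), (nat_lit 10)], []),
  ([(nat_lit 6), (nat_lit 10), (nat_lit 6), (nat_lit 10)], []),
  ([(nat_lit 7), (nat_lit 10), (nat_lit 7), (nat_lit 10)], []),
  ([(nat_lit 9), (nat_lit 10), (nat_lit 9), (nat_lit 10)], []),
  ([(nat_lit 10), (nat_lit 8), (nat_lit 10), (nat_lit 8), (nat_lit 10), (nat_lit 8)], []),
  ([(nat_lit 0), (nat_lit 11), (nat_lit 0), (nat_lit 11)], []),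
  ([(nat_lit 1), (nat_lit 11), (nat_lit 1), (nat_lit 11)], []),
  ([(nat_lit 2), (nat_lit 5), (nat_lit 11), (nat_lit 2), (nat_lit 11)], []),
  ([(nat_lit 3), (nat_lit 6), (nat_lit 11), (nat_lit 3), (nat_lit 11)], []),
  ([(nat_lit 4), (nat_lit 8), (nat_lit 11), (nat_lit 4), (nat_lit 11)], []),
  ([(nat_lit 5), (nat_lit 11), (nat_lit 5), (nat_lit 11)], []),
  ([(nat_lit 6), (nat_lit 11), (nat_lit 6), (nat_lit 11)], []),
  ([(nat_lit 8), (nat_lit 11), (nat_lit 8), (nat_lit 11)], []),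
  ([(nat_lit 9), (nat_lit 11), (nat_lit 9), (nat_lit 11)], []),
  ([(nat_lit 11), (nat_lit 7), (nat_lit 11), (nat_lit 7), (nat_lit 11), (nat_lit 7)], []),
  ([(nat_lit 8), (nat_lit 10), (nat_lit 8), (nat_lit 7), (nat_lit 11), (nat_lit 7), (nat_lit 8), (nat_lit 10), (nat_lit 8), (nat_lit 7), (nat_lit 11), (nat_lit 7), (nat_lit 8), (nat_lit 10), (nat_lit 8), (nat_lit 7), (nat_lit 11), (nat_lit 7)], []),
  ([(nat_lit 12), (nat_lit 0), (nat_lit 12), (nat_lit 0), (nat_lit 2)], [(nat_lit 0)]),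
  ([(nat_lit 12), (nat_lit 1), (nat_lit 12), (nat_lit 1), (nat_lit 4)], [(nat_lit 1)]),
  ([(nat_lit 12), (nat_lit 2), (nat_lit 12), (nat_lit 2)], [(nat_lit 2)]),
  ([(nat_lit 12), (nat_lit 3), (nat_lit 12), (nat_lit 3), (nat_lit 7)], [(nat_lit 3)]),
  ([(nat_lit 12), (nat_lit 4), (nat_lit 12), (nat_lit 4)], [(nat_lit 4)]),
  ([(nat_lit 12), (nat_lit 5), (nat_lit 12), (nat_lit 5)], [(nat_lit 5)]),
  ([(nat_lit 12), (nat_lit 7), (nat_lit 12), (nat_lit 7)], [(nat_lit 6)]),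
  ([(nat_lit 12), (nat_lit 8), (nat_lit 12), (nat_lit 8)], [(nat_lit 7)]),
  ([(nat_lit 12), (nat_lit 9), (nat_lit 12), (nat_lit 9)], [(nat_lit 8)]),
  ([(nat_lit 12), (nat_lit 10), (nat_lit 12), (nat_lit 10)], [(nat_lit 9)]),
  ([(nat_lit 12), (nat_lit 6), (nat_lit 12), (nat_lit 6), (nat_lit 12), (nat_lit 6)], []),
  ([(nat_lit 5), (nat_lit 2), (nat_lit 0), (nat_lit 7), (nat_lit 11), (nat_lit 7), (nat_lit 6), (nat_lit 12), (nat_lit 6), (nat_lit 7), (nat_lit 11), (nat_lit 7), (nat_lit 6), (nat_lit 12), (nat_lit 6), (nat_lit 7), (nat_lit 11), (nat_lit 7), (nat_lit 6), (nat_lit 12), (nat_lit 6)], [])]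
theorem o_d : RWO.map Prod.fst = HdT.O.Rl := by decide +kernel
theorem o_e : RWO.all (fun p => relOK cl1 (AA1 A1) (AA1 B00) [[12, 6, 12, 6, 12, 6], wO] p.1 p.2) = true := by decide +kernel
theorem o_f : RWf.map Prod.fst = HdT.O.Rf := by decide +kernel
theorem o_g : RWf.all (fun p => relOK cl1 (AA1 A1) (AA1 B00) [[12, 6, 12, 6, 12, 6], [(nat_lit 5), (nat_lit 2), (nat_lit 0)] ++ wO] p.1 p.2) = true := by decide +kernel
theorem o_h : allH (AA1 A1) [(nat_lit 5), (nat_lit 2), (nat_lit 0)] = true ∧ mm (nat_lit 17111107) (evW o cl1 [(nat_lit 5), (nat_lit 2), (nat_lit 0)]) = o.one := by decide +kernel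
theorem relsO {b : G} (h : BC S.R S.a12 b A1 B00) : Rels (S.g1 b) HdT.O.Rl := by
  have M := mach1 h
  have e : evA (S.g1 b) wO = (evA (S.g1 b) [6, 12, 6] * evA (S.g1 b) [7, 11, 7]) ^ 3 := by
    simp [wO, pow_succ, mul_assoc]
  obtain ⟨d1, d2⟩ := dih (M.sq3 6 12) (M.sq3 7 11) 3
  obtain ⟨d, hd, k⟩ := M.filW o_c (M.filW o_b (trM M o_a LU_ok) (e ▸ d2)) (e ▸ d1)
  simp only [List.mem_cons, List.not_mem_nil, or_false] at hd
  rcases hd with rfl | rfl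
  · exact M.rels (rcons (ev3 12 6 h.br) (rcons (S.μ.fn k S.μ.one) rnil)) RWO o_d o_e
  · exact absurd (HdT.O.coll (M.rels (rcons (ev3 12 6 h.br) (rcons (M.cls k _ o_h) rnil)) RWf o_f
      o_g)) S.ne_z
theorem sqL : trW cl2 (AA2 A1 A4) (AA2 B00 C00) ([12, 11, 12, 11] ++ []) [[(nat_lit 0)], [(nat_lit 1), (nat_lit 0)], [(nat_lit 4), (nat_lit 2), (nat_lit 1), (nat_lit 0)], [(nat_lit 2), (nat_lit 0)]] [((nat_lit 3), [[(nat_lit 5)], [(nat_lit 3)], [(nat_lit 7), (nat_lit 5)], [(nat_lit 6), (nat_lit 3)]]), ((nat_lit 7), [[(nat_lit 7)], [(nat_lit 6)], [(nat_lit 7)], [(nat_lit 6)]]), ((nat_lit 8), [[(nat_lit 6)], [(nat_lit 7)], [(nat_lit 6)], [(nat_lit 7)]]), ((nat_lit 5), [[(nat_lit 3)], [(nat_lit 7), (nat_lit 5)], [(nat_lit 6), (nat_lit 3)], [(nat_lit 5)]])] LEg LEg = true ∧ allH (AA2 A1 A4) [] = true ∧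
  filK cl2 (AA2 A1 A4) (AA2 B00 C00) [11] [((nat_lit 17043521), [[]]), ((nat_lit 17043523), [[(nat_lit 0)]]), ((nat_lit 17043537), [[(nat_lit 1)]]), ((nat_lit 17043539), [[(nat_lit 1), (nat_lit 0)]]), ((nat_lit 17045569), [[(nat_lit 2)]]), ((nat_lit 17045571), [[(nat_lit 2), (nat_lit 0)]]), ((nat_lit 17045585), [[(nat_lit 2), (nat_lit 1)]]), ((nat_lit 17045587), [[(nat_lit 2), (nat_lit 1), (nat_lit 0)]]), ((nat_lit 17059905), [[(nat_lit 4)]]), ((nat_lit 17059907), [[(nat_lit 4), (nat_lit 0)]]), ((nat_lit 17059921), [[(nat_lit 4), (nat_lit 1)]]), ((nat_lit 17059923), [[(nat_lit 4), (nat_lit 1), (nat_lit 0)]]), ((nat_lit 17061953), [[(nat_lit 4), (nat_lit 2)]]), ((nat_lit 17061955), [[(nat_lit 4), (nat_lit 2), (nat_lit 0)]]), ((nat_lit 17061969), [[(nat_lit 4), (nat_lit 2), (nat_lit 1)]]), ((nat_lit 17061971), [[(nat_lit 4), (nat_lit 2), (nat_lit 1), (nat_lit 0)]])] (LE.map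 (mm (minv (evW o cl2 [])))) [(nat_lit 17043521), (nat_lit 17045569), (nat_lit 17059905), (nat_lit 17061953)] = true ∧
  filK cl2 (AA2 A1 A4) (AA2 B00 C00) [12] [((nat_lit 17043521), [[]]), ((nat_lit 17045569), [[(nat_lit 1)]]), ((nat_lit 17059905), [[(nat_lit 4)]]), ((nat_lit 17061953), [[(nat_lit 4), (nat_lit 1)]])] [(nat_lit 17043521), (nat_lit 17045569), (nat_lit 17059905), (nat_lit 17061953)] [(nat_lit 17043521), (nat_lit 17059905)] = true := by decide +kernel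
theorem alL : nth o.one B00 0 = mm cz (nat_lit 17045569) ∧ nth o.one B00 2 = nat_lit 17045569 ∧ nth o.one B00 4 = nat_lit 17059905 ∧ nth o.one C00 1 = mm (nat_lit 17045569) (nat_lit 17059905) ∧ nth o.one C00 4 = nat_lit 17059905 ∧ mm (nat_lit 17059905) (nat_lit 17059905) = (nat_lit 17043521) := by decide +kernel
noncomputable def DL0 : RD := ⟨11, 12, 6, [(nat_lit 10), (nat_lit 8)], [(nat_lit 9), (nat_lit 7)], [], [], [(nat_lit 8)], [(nat_lit 1), (nat_lit 0), (nat_lit 1), (nat_lit 0), (nat_lit 1), (nat_lit 0)],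
  [((nat_lit 0), [[(nat_lit 0)], [(nat_lit 5), (nat_lit 0)], [(nat_lit 2), (nat_lit 0)]]), ((nat_lit 3), [[(nat_lit 5)], [(nat_lit 5), (nat_lit 2)], [(nat_lit 2)]]), ((nat_lit 7), [[(nat_lit 7)], [(nat_lit 7), (nat_lit 4)], [(nat_lit 4)]]), ((nat_lit 1), [[(nat_lit 2)], [(nat_lit 5)], [(nat_lit 5), (nat_lit 2)]]), ((nat_lit 4), [[(nat_lit 4)], [(nat_lit 7)], [(nat_lit 7), (nat_lit 4)]]), ((nat_lit 2), [[(nat_lit 1)], [(nat_lit 7), (nat_lit 1)], [(nat_lit 4), (nat_lit 1)]])],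
  [((nat_lit 17043521), []), ((nat_lit 17043523), [(nat_lit 0)]), ((nat_lit 17043529), [(nat_lit 3)]), ((nat_lit 17043531), [(nat_lit 3), (nat_lit 0)]), ((nat_lit 17043537), [(nat_lit 1)]), ((nat_lit 17043539), [(nat_lit 1), (nat_lit 0)]), ((nat_lit 17043545), [(nat_lit 3), (nat_lit 1)]), ((nat_lit 17043547), [(nat_lit 3), (nat_lit 1), (nat_lit 0)]), ((nat_lit 17045569), [(nat_lit 2)]), ((nat_lit 17045571), [(nat_lit 2), (nat_lit 0)]), ((nat_lit 17045577), [(nat_lit 3), (nat_lit 2)]), ((nat_lit 17045579), [(nat_lit 3), (nat_lit 2), (nat_lit 0)]), ((nat_lit 17045585), [(nat_lit 2), (nat_lit 1)]), ((nat_lit 17045587), [(nat_lit 2), (nat_lit 1), (nat_lit 0)]), ((nat_lit 17045593), [(nat_lit 3), (nat_lit 2), (nat_lit 1)]), ((nat_lit 17045595), [(nat_lit 3), (nat_lit 2), (nat_lit 1), (nat_lit 0)]), ((nat_lit 17051713), [(nat_lit 6)]), ((nat_lit 17051715), [(nat_lit 6), (nat_lit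 0)]), ((nat_lit 17051721), [(nat_lit 6), (nat_lit 3)]), ((nat_lit 17051723), [(nat_lit 6), (nat_lit 3), (nat_lit 0)]), ((nat_lit 17051729), [(nat_lit 6), (nat_lit 1)]), ((nat_lit 17051731), [(nat_lit 6), (nat_lit 1), (nat_lit 0)]), ((nat_lit 17051737), [(nat_lit 6), (nat_lit 3), (nat_lit 1)]), ((nat_lit 17051739), [(nat_lit 6), (nat_lit 3), (nat_lit 1), (nat_lit 0)]), ((nat_lit 17053761), [(nat_lit 6), (nat_lit 2)]), ((nat_lit 17053763), [(nat_lit 6), (nat_lit 2), (nat_lit 0)]), ((nat_lit 17053769), [(nat_lit 6), (nat_lit 3), (nat_lit 2)]), ((nat_lit 17053771), [(nat_lit 6), (nat_lit 3), (nat_lit 2), (nat_lit 0)]), ((nat_lit 17053777), [(nat_lit 6), (nat_lit 2), (nat_lit 1)]), ((nat_lit 17053779), [(nat_lit 6), (nat_lit 2), (nat_lit 1), (nat_lit 0)]), ((nat_lit 17053785), [(nat_lit 6), (nat_lit 3), (nat_lit 2), (nat_lit 1)]), ((nat_lit 17053787), [(nat_lit 6), (nat_lit 3),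 (nat_lit 2), (nat_lit 1), (nat_lit 0)]), ((nat_lit 17059905), [(nat_lit 4)]), ((nat_lit 17059907), [(nat_lit 4), (nat_lit 0)]), ((nat_lit 17059913), [(nat_lit 4), (nat_lit 3)]), ((nat_lit 17059915), [(nat_lit 4), (nat_lit 3), (nat_lit 0)]), ((nat_lit 17059921), [(nat_lit 4), (nat_lit 1)]), ((nat_lit 17059923), [(nat_lit 4), (nat_lit 1), (nat_lit 0)]), ((nat_lit 17059929), [(nat_lit 4), (nat_lit 3), (nat_lit 1)]), ((nat_lit 17059931), [(nat_lit 4), (nat_lit 3), (nat_lit 1), (nat_lit 0)]), ((nat_lit 17061953), [(nat_lit 4), (nat_lit 2)]), ((nat_lit 17061955), [(nat_lit 4), (nat_lit 2), (nat_lit 0)]), ((nat_lit 17061961), [(nat_lit 4), (nat_lit 3), (nat_lit 2)]), ((nat_lit 17061963), [(nat_lit 4), (nat_lit 3), (nat_lit 2), (nat_lit 0)]), ((nat_lit 17061969), [(nat_lit 4), (nat_lit 2), (nat_lit 1)]), ((nat_lit 17061971), [(nat_lit 4), (nat_lit 2), (nat_lit 1), (nat_lit 0)]), ((nat_lit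 17061977), [(nat_lit 4), (nat_lit 3), (nat_lit 2), (nat_lit 1)]), ((nat_lit 17061979), [(nat_lit 4), (nat_lit 3), (nat_lit 2), (nat_lit 1), (nat_lit 0)]), ((nat_lit 17068097), [(nat_lit 6), (nat_lit 4)]), ((nat_lit 17068099), [(nat_lit 6), (nat_lit 4), (nat_lit 0)]), ((nat_lit 17068105), [(nat_lit 6), (nat_lit 4), (nat_lit 3)]), ((nat_lit 17068107), [(nat_lit 6), (nat_lit 4), (nat_lit 3), (nat_lit 0)]), ((nat_lit 17068113), [(nat_lit 6), (nat_lit 4), (nat_lit 1)]), ((nat_lit 17068115), [(nat_lit 6), (nat_lit 4), (nat_lit 1), (nat_lit 0)]), ((nat_lit 17068121), [(nat_lit 6), (nat_lit 4), (nat_lit 3), (nat_lit 1)]), ((nat_lit 17068123), [(nat_lit 6), (nat_lit 4), (nat_lit 3), (nat_lit 1), (nat_lit 0)]), ((nat_lit 17070145), [(nat_lit 6), (nat_lit 4), (nat_lit 2)]), ((nat_lit 17070147), [(nat_lit 6), (nat_lit 4), (nat_lit 2), (nat_lit 0)]), ((nat_lit 17070153), [(nat_lit 6),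 (nat_lit 4), (nat_lit 3), (nat_lit 2)]), ((nat_lit 17070155), [(nat_lit 6), (nat_lit 4), (nat_lit 3), (nat_lit 2), (nat_lit 0)]), ((nat_lit 17070161), [(nat_lit 6), (nat_lit 4), (nat_lit 2), (nat_lit 1)]), ((nat_lit 17070163), [(nat_lit 6), (nat_lit 4), (nat_lit 2), (nat_lit 1), (nat_lit 0)]), ((nat_lit 17070169), [(nat_lit 6), (nat_lit 4), (nat_lit 3), (nat_lit 2), (nat_lit 1)]), ((nat_lit 17070171), [(nat_lit 6), (nat_lit 4), (nat_lit 3), (nat_lit 2), (nat_lit 1), (nat_lit 0)])]⟩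
theorem DL0_ok : DL0.ok cl2 (AA2 A1 A4) (AA2 B00 C00) (nat_lit 17043521) = true ∧ DL0.F.map Prod.fst = 0 :: [(nat_lit 3), (nat_lit 7), (nat_lit 1), (nat_lit 4), (nat_lit 2)] ∧ DL0.L.map Prod.fst = LA1 ∧ allH (AA2 A1 A4) [(nat_lit 3), (nat_lit 7), (nat_lit 1), (nat_lit 4), (nat_lit 2)] = true ∧ [(nat_lit 3), (nat_lit 7), (nat_lit 1), (nat_lit 4), (nat_lit 2)].map (nth o.one cl2) = LA1g := by decide +kernel
noncomputable def DL1 : RD := ⟨12, 11, 9, [(nat_lit 13), (nat_lit 7)], [(nat_lit 9), (nat_lit 7)], [], [], [(nat_lit 8)], [(nat_lit 1), (nat_lit 0), (nat_lit 1), (nat_lit 0), (nat_lit 1), (nat_lit 0)],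
  [((nat_lit 0), [[(nat_lit 0)], [(nat_lit 5), (nat_lit 0)], [(nat_lit 2), (nat_lit 0)]]), ((nat_lit 8), [[(nat_lit 7)], [(nat_lit 7), (nat_lit 4)], [(nat_lit 4)]]), ((nat_lit 5), [[(nat_lit 5)], [(nat_lit 5), (nat_lit 2)], [(nat_lit 2)]]), ((nat_lit 1), [[(nat_lit 1)], [(nat_lit 7), (nat_lit 1)], [(nat_lit 4), (nat_lit 1)]]), ((nat_lit 4), [[(nat_lit 4)], [(nat_lit 7)], [(nat_lit 7), (nat_lit 4)]]), ((nat_lit 2), [[(nat_lit 2)], [(nat_lit 5)], [(nat_lit 5), (nat_lit 2)]])],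
  [((nat_lit 17043521), []), ((nat_lit 17043523), [(nat_lit 0)]), ((nat_lit 17043537), [(nat_lit 2)]), ((nat_lit 17043539), [(nat_lit 2), (nat_lit 0)]), ((nat_lit 17045569), [(nat_lit 1)]), ((nat_lit 17045571), [(nat_lit 1), (nat_lit 0)]), ((nat_lit 17045585), [(nat_lit 2), (nat_lit 1)]), ((nat_lit 17045587), [(nat_lit 2), (nat_lit 1), (nat_lit 0)]), ((nat_lit 17059905), [(nat_lit 4)]), ((nat_lit 17059907), [(nat_lit 4), (nat_lit 0)]), ((nat_lit 17059921), [(nat_lit 4), (nat_lit 2)]), ((nat_lit 17059923), [(nat_lit 4), (nat_lit 2), (nat_lit 0)]), ((nat_lit 17061953), [(nat_lit 4), (nat_lit 1)]), ((nat_lit 17061955), [(nat_lit 4), (nat_lit 1), (nat_lit 0)]), ((nat_lit 17061969), [(nat_lit 4), (nat_lit 2), (nat_lit 1)]), ((nat_lit 17061971), [(nat_lit 4), (nat_lit 2), (nat_lit 1), (nat_lit 0)]), ((nat_lit 17109057), [(nat_lit 3)]), ((nat_lit 17109059), [(nat_lit 3), (nat_lit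 0)]), ((nat_lit 17109073), [(nat_lit 3), (nat_lit 2)]), ((nat_lit 17109075), [(nat_lit 3), (nat_lit 2), (nat_lit 0)]), ((nat_lit 17111105), [(nat_lit 3), (nat_lit 1)]), ((nat_lit 17111107), [(nat_lit 3), (nat_lit 1), (nat_lit 0)]), ((nat_lit 17111121), [(nat_lit 3), (nat_lit 2), (nat_lit 1)]), ((nat_lit 17111123), [(nat_lit 3), (nat_lit 2), (nat_lit 1), (nat_lit 0)]), ((nat_lit 17125441), [(nat_lit 4), (nat_lit 3)]), ((nat_lit 17125443), [(nat_lit 4), (nat_lit 3), (nat_lit 0)]), ((nat_lit 17125457), [(nat_lit 4), (nat_lit 3), (nat_lit 2)]), ((nat_lit 17125459), [(nat_lit 4), (nat_lit 3), (nat_lit 2), (nat_lit 0)]), ((nat_lit 17127489), [(nat_lit 4), (nat_lit 3), (nat_lit 1)]), ((nat_lit 17127491), [(nat_lit 4), (nat_lit 3), (nat_lit 1), (nat_lit 0)]), ((nat_lit 17127505), [(nat_lit 4), (nat_lit 3), (nat_lit 2), (nat_lit 1)]), ((nat_lit 17127507), [(nat_lit 4), (nat_lit 3),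 (nat_lit 2), (nat_lit 1), (nat_lit 0)]), ((nat_lit 17567809), [(nat_lit 6)]), ((nat_lit 17567811), [(nat_lit 6), (nat_lit 0)]), ((nat_lit 17567825), [(nat_lit 6), (nat_lit 2)]), ((nat_lit 17567827), [(nat_lit 6), (nat_lit 2), (nat_lit 0)]), ((nat_lit 17569857), [(nat_lit 6), (nat_lit 1)]), ((nat_lit 17569859), [(nat_lit 6), (nat_lit 1), (nat_lit 0)]), ((nat_lit 17569873), [(nat_lit 6), (nat_lit 2), (nat_lit 1)]), ((nat_lit 17569875), [(nat_lit 6), (nat_lit 2), (nat_lit 1), (nat_lit 0)]), ((nat_lit 17584193), [(nat_lit 6), (nat_lit 4)]), ((nat_lit 17584195), [(nat_lit 6), (nat_lit 4), (nat_lit 0)]), ((nat_lit 17584209), [(nat_lit 6), (nat_lit 4), (nat_lit 2)]), ((nat_lit 17584211), [(nat_lit 6), (nat_lit 4), (nat_lit 2), (nat_lit 0)]), ((nat_lit 17586241), [(nat_lit 6), (nat_lit 4), (nat_lit 1)]), ((nat_lit 17586243), [(nat_lit 6), (nat_lit 4), (nat_lit 1), (nat_lit 0)]), ((nat_lit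 17586257), [(nat_lit 6), (nat_lit 4), (nat_lit 2), (nat_lit 1)]), ((nat_lit 17586259), [(nat_lit 6), (nat_lit 4), (nat_lit 2), (nat_lit 1), (nat_lit 0)]), ((nat_lit 17633345), [(nat_lit 6), (nat_lit 3)]), ((nat_lit 17633347), [(nat_lit 6), (nat_lit 3), (nat_lit 0)]), ((nat_lit 17633361), [(nat_lit 6), (nat_lit 3), (nat_lit 2)]), ((nat_lit 17633363), [(nat_lit 6), (nat_lit 3), (nat_lit 2), (nat_lit 0)]), ((nat_lit 17635393), [(nat_lit 6), (nat_lit 3), (nat_lit 1)]), ((nat_lit 17635395), [(nat_lit 6), (nat_lit 3), (nat_lit 1), (nat_lit 0)]), ((nat_lit 17635409), [(nat_lit 6), (nat_lit 3), (nat_lit 2), (nat_lit 1)]), ((nat_lit 17635411), [(nat_lit 6), (nat_lit 3), (nat_lit 2), (nat_lit 1), (nat_lit 0)]), ((nat_lit 17649729), [(nat_lit 6), (nat_lit 4), (nat_lit 3)]), ((nat_lit 17649731), [(nat_lit 6), (nat_lit 4), (nat_lit 3), (nat_lit 0)]), ((nat_lit 17649745), [(nat_lit 6),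 (nat_lit 4), (nat_lit 3), (nat_lit 2)]), ((nat_lit 17649747), [(nat_lit 6), (nat_lit 4), (nat_lit 3), (nat_lit 2), (nat_lit 0)]), ((nat_lit 17651777), [(nat_lit 6), (nat_lit 4), (nat_lit 3), (nat_lit 1)]), ((nat_lit 17651779), [(nat_lit 6), (nat_lit 4), (nat_lit 3), (nat_lit 1), (nat_lit 0)]), ((nat_lit 17651793), [(nat_lit 6), (nat_lit 4), (nat_lit 3), (nat_lit 2), (nat_lit 1)]), ((nat_lit 17651795), [(nat_lit 6), (nat_lit 4), (nat_lit 3), (nat_lit 2), (nat_lit 1), (nat_lit 0)])]⟩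
theorem DL1_ok : DL1.ok cl2 (AA2 A1 A4) (AA2 B00 C00) (minv (nat_lit 17043521)) = true ∧ DL1.F.map Prod.fst = 0 :: [(nat_lit 8), (nat_lit 5), (nat_lit 1), (nat_lit 4), (nat_lit 2)] ∧ DL1.L.map Prod.fst = LA2 ∧ allH (AA2 A1 A4) [(nat_lit 8), (nat_lit 5), (nat_lit 1), (nat_lit 4), (nat_lit 2)] = true ∧ [(nat_lit 8), (nat_lit 5), (nat_lit 1), (nat_lit 4), (nat_lit 2)].map (nth o.one cl2) = LA2g := by decide +kernel
noncomputable def RWL : List (List ℕ × List ℕ) := [([(nat_lit 0), (nat_lit 0)], []),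
  ([(nat_lit 1), (nat_lit 1)], []),
  ([(nat_lit 2), (nat_lit 2)], []),
  ([(nat_lit 3), (nat_lit 3)], []),
  ([(nat_lit 4), (nat_lit 4)], []),
  ([(nat_lit 5), (nat_lit 5)], []),
  ([(nat_lit 6), (nat_lit 6)], []),
  ([(nat_lit 7), (nat_lit 7)], []),
  ([(nat_lit 8), (nat_lit 8)], []),
  ([(nat_lit 9), (nat_lit 9)], []),
  ([(nat_lit 10), (nat_lit 10)], []),
  ([(nat_lit 11), (nat_lit 11)], []),
  ([(nat_lit 12), (nat_lit 12)], []),
  ([(nat_lit 13), (nat_lit 13)], []),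
  ([(nat_lit 1), (nat_lit 0), (nat_lit 1), (nat_lit 0)], []),
  ([(nat_lit 2), (nat_lit 0), (nat_lit 2), (nat_lit 0)], []),
  ([(nat_lit 3), (nat_lit 0), (nat_lit 3), (nat_lit 0)], []),
  ([(nat_lit 4), (nat_lit 0), (nat_lit 4), (nat_lit 0)], []),
  ([(nat_lit 5), (nat_lit 0), (nat_lit 5), (nat_lit 0)], []),
  ([(nat_lit 6), (nat_lit 0), (nat_lit 6), (nat_lit 0)], []),
  ([(nat_lit 7), (nat_lit 0), (nat_lit 7), (nat_lit 0)], []),
  ([(nat_lit 8), (nat_lit 0), (nat_lit 8), (nat_lit 0)], []),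
  ([(nat_lit 9), (nat_lit 0), (nat_lit 9), (nat_lit 0)], []),
  ([(nat_lit 2), (nat_lit 1), (nat_lit 2), (nat_lit 1)], []),
  ([(nat_lit 3), (nat_lit 1), (nat_lit 3), (nat_lit 1)], []),
  ([(nat_lit 4), (nat_lit 1), (nat_lit 4), (nat_lit 1)], []),
  ([(nat_lit 5), (nat_lit 1), (nat_lit 5), (nat_lit 1)], []),
  ([(nat_lit 6), (nat_lit 1), (nat_lit 6), (nat_lit 1)], []),
  ([(nat_lit 7), (nat_lit 1), (nat_lit 7), (nat_lit 1)], []),
  ([(nat_lit 8), (nat_lit 1), (nat_lit 8), (nat_lit 1)], []),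
  ([(nat_lit 0), (nat_lit 9), (nat_lit 1), (nat_lit 9), (nat_lit 1)], []),
  ([(nat_lit 3), (nat_lit 2), (nat_lit 3), (nat_lit 2)], []),
  ([(nat_lit 4), (nat_lit 2), (nat_lit 4), (nat_lit 2)], []),
  ([(nat_lit 5), (nat_lit 2), (nat_lit 5), (nat_lit 2)], []),
  ([(nat_lit 0), (nat_lit 6), (nat_lit 2), (nat_lit 6), (nat_lit 2)], []),
  ([(nat_lit 7), (nat_lit 2), (nat_lit 7), (nat_lit 2)], []),
  ([(nat_lit 8), (nat_lit 2), (nat_lit 8), (nat_lit 2)], []),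
  ([(nat_lit 9), (nat_lit 2), (nat_lit 9), (nat_lit 2)], []),
  ([(nat_lit 4), (nat_lit 3), (nat_lit 4), (nat_lit 3)], []),
  ([(nat_lit 0), (nat_lit 5), (nat_lit 3), (nat_lit 5), (nat_lit 3)], []),
  ([(nat_lit 6), (nat_lit 3), (nat_lit 6), (nat_lit 3)], []),
  ([(nat_lit 7), (nat_lit 3), (nat_lit 7), (nat_lit 3)], []),
  ([(nat_lit 1), (nat_lit 8), (nat_lit 3), (nat_lit 8), (nat_lit 3)], []),
  ([(nat_lit 9), (nat_lit 3), (nat_lit 9), (nat_lit 3)], []),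
  ([(nat_lit 5), (nat_lit 4), (nat_lit 5), (nat_lit 4)], []),
  ([(nat_lit 1), (nat_lit 6), (nat_lit 4), (nat_lit 6), (nat_lit 4)], []),
  ([(nat_lit 7), (nat_lit 4), (nat_lit 7), (nat_lit 4)], []),
  ([(nat_lit 8), (nat_lit 4), (nat_lit 8), (nat_lit 4)], []),
  ([(nat_lit 2), (nat_lit 9), (nat_lit 4), (nat_lit 9), (nat_lit 4)], []),
  ([(nat_lit 6), (nat_lit 5), (nat_lit 6), (nat_lit 5)], []),
  ([(nat_lit 2), (nat_lit 7), (nat_lit 5), (nat_lit 7), (nat_lit 5)], []),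
  ([(nat_lit 8), (nat_lit 5), (nat_lit 8), (nat_lit 5)], []),
  ([(nat_lit 9), (nat_lit 5), (nat_lit 9), (nat_lit 5)], []),
  ([(nat_lit 3), (nat_lit 7), (nat_lit 6), (nat_lit 7), (nat_lit 6)], []),
  ([(nat_lit 8), (nat_lit 6), (nat_lit 8), (nat_lit 6)], []),
  ([(nat_lit 9), (nat_lit 6), (nat_lit 9), (nat_lit 6)], []),
  ([(nat_lit 4), (nat_lit 8), (nat_lit 7), (nat_lit 8), (nat_lit 7)], []),
  ([(nat_lit 9), (nat_lit 7), (nat_lit 9), (nat_lit 7)], []),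
  ([(nat_lit 5), (nat_lit 9), (nat_lit 8), (nat_lit 9), (nat_lit 8)], []),
  ([(nat_lit 0), (nat_lit 10), (nat_lit 0), (nat_lit 10)], []),
  ([(nat_lit 1), (nat_lit 3), (nat_lit 10), (nat_lit 1), (nat_lit 10)], []),
  ([(nat_lit 2), (nat_lit 10), (nat_lit 2), (nat_lit 10)], []),
  ([(nat_lit 3), (nat_lit 10), (nat_lit 3), (nat_lit 10)], []),
  ([(nat_lit 4), (nat_lit 7), (nat_lit 10), (nat_lit 4), (nat_lit 10)], []),
  ([(nat_lit 5), (nat_lit 9), (nat_lit 10), (nat_lit 5), (nat_lit 10)], []),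
  ([(nat_lit 6), (nat_lit 10), (nat_lit 6), (nat_lit 10)], []),
  ([(nat_lit 7), (nat_lit 10), (nat_lit 7), (nat_lit 10)], []),
  ([(nat_lit 9), (nat_lit 10), (nat_lit 9), (nat_lit 10)], []),
  ([(nat_lit 10), (nat_lit 8), (nat_lit 10), (nat_lit 8), (nat_lit 10), (nat_lit 8)], []),
  ([(nat_lit 11), (nat_lit 0), (nat_lit 11), (nat_lit 0), (nat_lit 2)], [(nat_lit 0)]),
  ([(nat_lit 11), (nat_lit 1), (nat_lit 11), (nat_lit 1), (nat_lit 4)], [(nat_lit 1)]),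
  ([(nat_lit 11), (nat_lit 2), (nat_lit 11), (nat_lit 2)], [(nat_lit 2)]),
  ([(nat_lit 11), (nat_lit 3), (nat_lit 11), (nat_lit 3), (nat_lit 7)], [(nat_lit 3)]),
  ([(nat_lit 11), (nat_lit 4), (nat_lit 11), (nat_lit 4)], [(nat_lit 4)]),
  ([(nat_lit 11), (nat_lit 5), (nat_lit 11), (nat_lit 5)], [(nat_lit 5)]),
  ([(nat_lit 11), (nat_lit 7), (nat_lit 11), (nat_lit 7)], [(nat_lit 6)]),
  ([(nat_lit 11), (nat_lit 8), (nat_lit 11), (nat_lit 8)], [(nat_lit 7)]),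
  ([(nat_lit 11), (nat_lit 9), (nat_lit 11), (nat_lit 9)], [(nat_lit 8)]),
  ([(nat_lit 11), (nat_lit 10), (nat_lit 11), (nat_lit 10)], [(nat_lit 9)]),
  ([(nat_lit 12), (nat_lit 0), (nat_lit 12), (nat_lit 0), (nat_lit 1)], [(nat_lit 0)]),
  ([(nat_lit 12), (nat_lit 1), (nat_lit 12), (nat_lit 1)], [(nat_lit 2)]),
  ([(nat_lit 12), (nat_lit 2), (nat_lit 12), (nat_lit 2), (nat_lit 4)], [(nat_lit 1)]),
  ([(nat_lit 12), (nat_lit 3), (nat_lit 12), (nat_lit 3)], [(nat_lit 5)]),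
  ([(nat_lit 12), (nat_lit 4), (nat_lit 12), (nat_lit 4)], [(nat_lit 4)]),
  ([(nat_lit 12), (nat_lit 5), (nat_lit 12), (nat_lit 5), (nat_lit 8)], [(nat_lit 3)]),
  ([(nat_lit 12), (nat_lit 6), (nat_lit 12), (nat_lit 6)], [(nat_lit 8)]),
  ([(nat_lit 12), (nat_lit 7), (nat_lit 12), (nat_lit 7)], [(nat_lit 7)]),
  ([(nat_lit 12), (nat_lit 8), (nat_lit 12), (nat_lit 8)], [(nat_lit 6)]),
  ([(nat_lit 12), (nat_lit 13), (nat_lit 12), (nat_lit 13)], [(nat_lit 9)]),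
  ([(nat_lit 0), (nat_lit 13), (nat_lit 0), (nat_lit 13)], []),
  ([(nat_lit 1), (nat_lit 13), (nat_lit 1), (nat_lit 13)], []),
  ([(nat_lit 2), (nat_lit 5), (nat_lit 13), (nat_lit 2), (nat_lit 13)], []),
  ([(nat_lit 3), (nat_lit 6), (nat_lit 13), (nat_lit 3), (nat_lit 13)], []),
  ([(nat_lit 4), (nat_lit 8), (nat_lit 13), (nat_lit 4), (nat_lit 13)], []),
  ([(nat_lit 5), (nat_lit 13), (nat_lit 5), (nat_lit 13)], []),
  ([(nat_lit 6), (nat_lit 13), (nat_lit 6), (nat_lit 13)], []),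
  ([(nat_lit 8), (nat_lit 13), (nat_lit 8), (nat_lit 13)], []),
  ([(nat_lit 9), (nat_lit 13), (nat_lit 9), (nat_lit 13)], []),
  ([(nat_lit 13), (nat_lit 7), (nat_lit 13), (nat_lit 7), (nat_lit 13), (nat_lit 7)], []),
  ([(nat_lit 8), (nat_lit 10), (nat_lit 8), (nat_lit 7), (nat_lit 13), (nat_lit 7), (nat_lit 8), (nat_lit 10), (nat_lit 8), (nat_lit 7), (nat_lit 13), (nat_lit 7), (nat_lit 8), (nat_lit 10), (nat_lit 8), (nat_lit 7), (nat_lit 13), (nat_lit 7)], []),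
  ([(nat_lit 11), (nat_lit 6), (nat_lit 11), (nat_lit 6), (nat_lit 11), (nat_lit 6)], []),
  ([(nat_lit 12), (nat_lit 9), (nat_lit 12), (nat_lit 9), (nat_lit 12), (nat_lit 9)], []),
  ([(nat_lit 12), (nat_lit 11), (nat_lit 12), (nat_lit 11)], []),
  ([(nat_lit 12), (nat_lit 10), (nat_lit 8), (nat_lit 12), (nat_lit 10), (nat_lit 8), (nat_lit 12), (nat_lit 10), (nat_lit 8)], []),
  ([(nat_lit 11), (nat_lit 13), (nat_lit 7), (nat_lit 11), (nat_lit 13), (nat_lit 7), (nat_lit 11), (nat_lit 13), (nat_lit 7)], [])]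
theorem raL : RWL.map Prod.fst = HdT.L.Rl := by decide +kernel
theorem rbL : RWL.all (fun p => relOK cl2 (AA2 A1 A4) (AA2 B00 C00) [[11, 6, 11, 6, 11, 6], [12, 9, 12, 9, 12, 9], [] ++ [12, 11, 12, 11], DL0.w, DL1.w] p.1 p.2) = true := by decide +kernel
theorem rcL : allH (AA2 A1 A4) [] = true ∧ mm (nat_lit 17043521) (evW o cl2 []) = o.one := by decide +kernel
theorem relsL {b b' : G} (h : BC S.R S.a12 b A1 B00) (h' : BC S.R S.a45 b' A4 C00) :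
    ∃ b, BC S.R S.a12 b A1 B00 ∧ Rels (S.g2 b b') HdT.L.Rl := by
  obtain ⟨b, h, hc⟩ := alt h h' alL (sq2 (mach2 h h') sqL)
  have M := mach2 h h'
  have e : evA (S.g2 b b') [12, 11, 12, 11] = b * b' * b * b' := congrArg (· * b' * b * b') (one_mul b)
  exact ⟨b, h, M.rels (rcons (ev3 11 6 h.br) (rcons (ev3 12 9 h'.br) (rcons (M.cls (e ▸ hc) _ rcL)
    (rcons (relD' M rfl DL0 hc DL0_ok LA1_ok) (rcons (relD' M rfl DL1 (sq_inv h.sq h'.sq hc)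
      DL1_ok LA2_ok) rnil))))) RWL raL rbL⟩
theorem sqM : trW cl2 (AA2 A1 A4) (AA2 B00 C11) ([12, 11, 12, 11] ++ [(nat_lit 8)]) [[(nat_lit 0)], [(nat_lit 1), (nat_lit 0)], [(nat_lit 4), (nat_lit 2), (nat_lit 1), (nat_lit 0)], [(nat_lit 2), (nat_lit 0)]] [((nat_lit 3), [[(nat_lit 5)], [(nat_lit 4), (nat_lit 3), (nat_lit 1)], [(nat_lit 7), (nat_lit 5), (nat_lit 2)], [(nat_lit 6), (nat_lit 4), (nat_lit 3), (nat_lit 1)]]), ((nat_lit 7), [[(nat_lit 7)], [(nat_lit 6), (nat_lit 1)], [(nat_lit 7), (nat_lit 4), (nat_lit 2)], [(nat_lit 6), (nat_lit 4)]]), ((nat_lit 8), [[(nat_lit 6)], [(nat_lit 7)], [(nat_lit 6)], [(nat_lit 7)]]), ((nat_lit 5), [[(nat_lit 3)], [(nat_lit 7), (nat_lit 5)], [(nat_lit 6), (nat_lit 3)], [(nat_lit 5)]])] LEg LEg = true ∧ allH (AA2 A1 A4) [(nat_lit 8)] = true ∧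
  filK cl2 (AA2 A1 A4) (AA2 B00 C11) [11] [((nat_lit 17567809), [[(nat_lit 7)]]), ((nat_lit 17567811), [[(nat_lit 7), (nat_lit 0)]]), ((nat_lit 17567825), [[(nat_lit 7), (nat_lit 1)]]), ((nat_lit 17567827), [[(nat_lit 7), (nat_lit 1), (nat_lit 0)]]), ((nat_lit 17569857), [[(nat_lit 7), (nat_lit 2)]]), ((nat_lit 17569859), [[(nat_lit 7), (nat_lit 2), (nat_lit 0)]]), ((nat_lit 17569873), [[(nat_lit 7), (nat_lit 2), (nat_lit 1)]]), ((nat_lit 17569875), [[(nat_lit 7), (nat_lit 2), (nat_lit 1), (nat_lit 0)]]), ((nat_lit 17584193), [[(nat_lit 7), (nat_lit 4)]]), ((nat_lit 17584195), [[(nat_lit 7), (nat_lit 4), (nat_lit 0)]]), ((nat_lit 17584209), [[(nat_lit 7), (nat_lit 4), (nat_lit 1)]]), ((nat_lit 17584211), [[(nat_lit 7), (nat_lit 4), (nat_lit 1), (nat_lit 0)]]), ((nat_lit 17586241), [[(nat_lit 7), (nat_lit 4), (nat_lit 2)]]), ((nat_lit 17586243), [[(nat_lit 7), (nat_lit 4),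 (nat_lit 2), (nat_lit 0)]]), ((nat_lit 17586257), [[(nat_lit 7), (nat_lit 4), (nat_lit 2), (nat_lit 1)]]), ((nat_lit 17586259), [[(nat_lit 7), (nat_lit 4), (nat_lit 2), (nat_lit 1), (nat_lit 0)]])] (LE.map (mm (minv (evW o cl2 [(nat_lit 8)])))) [(nat_lit 17567809), (nat_lit 17569857), (nat_lit 17584193), (nat_lit 17586241)] = true ∧
  filK cl2 (AA2 A1 A4) (AA2 B00 C11) [12] [((nat_lit 17567809), [[(nat_lit 6)]]), ((nat_lit 17569857), [[(nat_lit 6), (nat_lit 1)]]), ((nat_lit 17584193), [[(nat_lit 6), (nat_lit 4)]]), ((nat_lit 17586241), [[(nat_lit 6), (nat_lit 4), (nat_lit 1)]])] [(nat_lit 17567809), (nat_lit 17569857), (nat_lit 17584193), (nat_lit 17586241)] [(nat_lit 17567809), (nat_lit 17584193)] = true := by decide +kernel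
theorem alM : nth o.one B00 0 = mm cz (nat_lit 17045569) ∧ nth o.one B00 2 = nat_lit 17045569 ∧ nth o.one B00 4 = nat_lit 17059905 ∧ nth o.one C11 1 = mm (nat_lit 17045569) (nat_lit 17059905) ∧ nth o.one C11 4 = nat_lit 17059905 ∧ mm (nat_lit 17584193) (nat_lit 17059905) = (nat_lit 17567809) := by decide +kernel
noncomputable def DM0 : RD := ⟨11, 12, 6, [(nat_lit 10), (nat_lit 5)], [(nat_lit 9), (nat_lit 5)], [(nat_lit 4)], [(nat_lit 4)], [(nat_lit 8)], [(nat_lit 2), (nat_lit 1), (nat_lit 0), (nat_lit 1), (nat_lit 0), (nat_lit 1), (nat_lit 0), (nat_lit 1), (nat_lit 0)],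
  [((nat_lit 0), [[(nat_lit 0)], [(nat_lit 1)], [(nat_lit 7), (nat_lit 4)], [(nat_lit 5), (nat_lit 4), (nat_lit 2), (nat_lit 0)], [(nat_lit 2), (nat_lit 0)]]), ((nat_lit 3), [[(nat_lit 3)], [(nat_lit 7)], [(nat_lit 7), (nat_lit 5), (nat_lit 2), (nat_lit 1), (nat_lit 0)], [(nat_lit 7), (nat_lit 5)], [(nat_lit 5), (nat_lit 4), (nat_lit 0)]]), ((nat_lit 7), [[(nat_lit 6)], [(nat_lit 7), (nat_lit 5)], [(nat_lit 5), (nat_lit 4), (nat_lit 0)], [(nat_lit 5)], [(nat_lit 7), (nat_lit 4), (nat_lit 2), (nat_lit 1)]]), ((nat_lit 1), [[(nat_lit 1)], [(nat_lit 4)], [(nat_lit 7), (nat_lit 4), (nat_lit 1)], [(nat_lit 7), (nat_lit 5), (nat_lit 2), (nat_lit 0)], [(nat_lit 5), (nat_lit 4)]]), ((nat_lit 4), [[(nat_lit 4)], [(nat_lit 4), (nat_lit 2)], [(nat_lit 8), (nat_lit 7), (nat_lit 4), (nat_lit 1), (nat_lit 8)], [(nat_lit 5), (nat_lit 4), (nat_lit 1)], [(nat_lit 7), (nat_lit 4), (nat_lit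 2)]]), ((nat_lit 2), [[(nat_lit 2)], [(nat_lit 1), (nat_lit 0)], [(nat_lit 7), (nat_lit 5), (nat_lit 4), (nat_lit 2)], [(nat_lit 7), (nat_lit 2), (nat_lit 1)], [(nat_lit 4), (nat_lit 1)]])],
  [((nat_lit 17043521), []), ((nat_lit 17043523), [(nat_lit 0)]), ((nat_lit 17043529), [(nat_lit 3)]), ((nat_lit 17043531), [(nat_lit 3), (nat_lit 0)]), ((nat_lit 17043537), [(nat_lit 1)]), ((nat_lit 17043539), [(nat_lit 1), (nat_lit 0)]), ((nat_lit 17043545), [(nat_lit 3), (nat_lit 1)]), ((nat_lit 17043547), [(nat_lit 3), (nat_lit 1), (nat_lit 0)]), ((nat_lit 17045569), [(nat_lit 2)]), ((nat_lit 17045571), [(nat_lit 2), (nat_lit 0)]), ((nat_lit 17045577), [(nat_lit 3), (nat_lit 2)]), ((nat_lit 17045579), [(nat_lit 3), (nat_lit 2), (nat_lit 0)]), ((nat_lit 17045585), [(nat_lit 2), (nat_lit 1)]), ((nat_lit 17045587), [(nat_lit 2), (nat_lit 1), (nat_lit 0)]), ((nat_lit 17045593), [(nat_lit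 3), (nat_lit 2), (nat_lit 1)]), ((nat_lit 17045595), [(nat_lit 3), (nat_lit 2), (nat_lit 1), (nat_lit 0)]), ((nat_lit 17051713), [(nat_lit 6)]), ((nat_lit 17051715), [(nat_lit 6), (nat_lit 0)]), ((nat_lit 17051721), [(nat_lit 6), (nat_lit 3)]), ((nat_lit 17051723), [(nat_lit 6), (nat_lit 3), (nat_lit 0)]), ((nat_lit 17051729), [(nat_lit 6), (nat_lit 1)]), ((nat_lit 17051731), [(nat_lit 6), (nat_lit 1), (nat_lit 0)]), ((nat_lit 17051737), [(nat_lit 6), (nat_lit 3), (nat_lit 1)]), ((nat_lit 17051739), [(nat_lit 6), (nat_lit 3), (nat_lit 1), (nat_lit 0)]), ((nat_lit 17053761), [(nat_lit 6), (nat_lit 2)]), ((nat_lit 17053763), [(nat_lit 6), (nat_lit 2), (nat_lit 0)]), ((nat_lit 17053769), [(nat_lit 6), (nat_lit 3), (nat_lit 2)]), ((nat_lit 17053771), [(nat_lit 6), (nat_lit 3), (nat_lit 2), (nat_lit 0)]), ((nat_lit 17053777), [(nat_lit 6), (nat_lit 2), (nat_lit 1)]), ((nat_lit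 17053779), [(nat_lit 6), (nat_lit 2), (nat_lit 1), (nat_lit 0)]), ((nat_lit 17053785), [(nat_lit 6), (nat_lit 3), (nat_lit 2), (nat_lit 1)]), ((nat_lit 17053787), [(nat_lit 6), (nat_lit 3), (nat_lit 2), (nat_lit 1), (nat_lit 0)]), ((nat_lit 17059905), [(nat_lit 4)]), ((nat_lit 17059907), [(nat_lit 4), (nat_lit 0)]), ((nat_lit 17059913), [(nat_lit 4), (nat_lit 3)]), ((nat_lit 17059915), [(nat_lit 4), (nat_lit 3), (nat_lit 0)]), ((nat_lit 17059921), [(nat_lit 4), (nat_lit 1)]), ((nat_lit 17059923), [(nat_lit 4), (nat_lit 1), (nat_lit 0)]), ((nat_lit 17059929), [(nat_lit 4), (nat_lit 3), (nat_lit 1)]), ((nat_lit 17059931), [(nat_lit 4), (nat_lit 3), (nat_lit 1), (nat_lit 0)]), ((nat_lit 17061953), [(nat_lit 4), (nat_lit 2)]), ((nat_lit 17061955), [(nat_lit 4), (nat_lit 2), (nat_lit 0)]), ((nat_lit 17061961), [(nat_lit 4), (nat_lit 3), (nat_lit 2)]), ((nat_lit 17061963), [(nat_lit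 4), (nat_lit 3), (nat_lit 2), (nat_lit 0)]), ((nat_lit 17061969), [(nat_lit 4), (nat_lit 2), (nat_lit 1)]), ((nat_lit 17061971), [(nat_lit 4), (nat_lit 2), (nat_lit 1), (nat_lit 0)]), ((nat_lit 17061977), [(nat_lit 4), (nat_lit 3), (nat_lit 2), (nat_lit 1)]), ((nat_lit 17061979), [(nat_lit 4), (nat_lit 3), (nat_lit 2), (nat_lit 1), (nat_lit 0)]), ((nat_lit 17068097), [(nat_lit 6), (nat_lit 4)]), ((nat_lit 17068099), [(nat_lit 6), (nat_lit 4), (nat_lit 0)]), ((nat_lit 17068105), [(nat_lit 6), (nat_lit 4), (nat_lit 3)]), ((nat_lit 17068107), [(nat_lit 6), (nat_lit 4), (nat_lit 3), (nat_lit 0)]), ((nat_lit 17068113), [(nat_lit 6), (nat_lit 4), (nat_lit 1)]), ((nat_lit 17068115), [(nat_lit 6), (nat_lit 4), (nat_lit 1), (nat_lit 0)]), ((nat_lit 17068121), [(nat_lit 6), (nat_lit 4), (nat_lit 3), (nat_lit 1)]), ((nat_lit 17068123), [(nat_lit 6), (nat_lit 4), (nat_lit 3), (nat_lit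 1), (nat_lit 0)]), ((nat_lit 17070145), [(nat_lit 6), (nat_lit 4), (nat_lit 2)]), ((nat_lit 17070147), [(nat_lit 6), (nat_lit 4), (nat_lit 2), (nat_lit 0)]), ((nat_lit 17070153), [(nat_lit 6), (nat_lit 4), (nat_lit 3), (nat_lit 2)]), ((nat_lit 17070155), [(nat_lit 6), (nat_lit 4), (nat_lit 3), (nat_lit 2), (nat_lit 0)]), ((nat_lit 17070161), [(nat_lit 6), (nat_lit 4), (nat_lit 2), (nat_lit 1)]), ((nat_lit 17070163), [(nat_lit 6), (nat_lit 4), (nat_lit 2), (nat_lit 1), (nat_lit 0)]), ((nat_lit 17070169), [(nat_lit 6), (nat_lit 4), (nat_lit 3), (nat_lit 2), (nat_lit 1)]), ((nat_lit 17070171), [(nat_lit 6), (nat_lit 4), (nat_lit 3), (nat_lit 2), (nat_lit 1), (nat_lit 0)])]⟩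
theorem DM0_ok : DM0.ok cl2 (AA2 A1 A4) (AA2 B00 C11) (nat_lit 17567809) = true ∧ DM0.F.map Prod.fst = 0 :: [(nat_lit 3), (nat_lit 7), (nat_lit 1), (nat_lit 4), (nat_lit 2)] ∧ DM0.L.map Prod.fst = LA1 ∧ allH (AA2 A1 A4) [(nat_lit 3), (nat_lit 7), (nat_lit 1), (nat_lit 4), (nat_lit 2)] = true ∧ [(nat_lit 3), (nat_lit 7), (nat_lit 1), (nat_lit 4), (nat_lit 2)].map (nth o.one cl2) = LA1g := by decide +kernel
noncomputable def DM1 : RD := ⟨12, 11, 9, [(nat_lit 13), (nat_lit 7)], [(nat_lit 9), (nat_lit 7)], [(nat_lit 5)], [(nat_lit 3)], [(nat_lit 8)], [(nat_lit 1), (nat_lit 0), (nat_lit 1), (nat_lit 0), (nat_lit 1), (nat_lit 0)],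
  [((nat_lit 0), [[(nat_lit 0)], [(nat_lit 5), (nat_lit 0)], [(nat_lit 2), (nat_lit 0)]]), ((nat_lit 8), [[(nat_lit 7)], [(nat_lit 7), (nat_lit 4)], [(nat_lit 4)]]), ((nat_lit 5), [[(nat_lit 5)], [(nat_lit 5), (nat_lit 2)], [(nat_lit 2)]]), ((nat_lit 1), [[(nat_lit 1)], [(nat_lit 7), (nat_lit 1)], [(nat_lit 4), (nat_lit 1)]]), ((nat_lit 4), [[(nat_lit 4)], [(nat_lit 7)], [(nat_lit 7), (nat_lit 4)]]), ((nat_lit 2), [[(nat_lit 2)], [(nat_lit 5)], [(nat_lit 5), (nat_lit 2)]])],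
  [((nat_lit 17043521), []), ((nat_lit 17043523), [(nat_lit 0)]), ((nat_lit 17043537), [(nat_lit 2)]), ((nat_lit 17043539), [(nat_lit 2), (nat_lit 0)]), ((nat_lit 17045569), [(nat_lit 1)]), ((nat_lit 17045571), [(nat_lit 1), (nat_lit 0)]), ((nat_lit 17045585), [(nat_lit 2), (nat_lit 1)]), ((nat_lit 17045587), [(nat_lit 2), (nat_lit 1), (nat_lit 0)]), ((nat_lit 17059905), [(nat_lit 4)]), ((nat_lit 17059907), [(nat_lit 4), (nat_lit 0)]), ((nat_lit 17059921), [(nat_lit 4), (nat_lit 2)]), ((nat_lit 17059923), [(nat_lit 4), (nat_lit 2), (nat_lit 0)]), ((nat_lit 17061953), [(nat_lit 4), (nat_lit 1)]), ((nat_lit 17061955), [(nat_lit 4), (nat_lit 1), (nat_lit 0)]), ((nat_lit 17061969), [(nat_lit 4), (nat_lit 2), (nat_lit 1)]), ((nat_lit 17061971), [(nat_lit 4), (nat_lit 2), (nat_lit 1), (nat_lit 0)]), ((nat_lit 17109057), [(nat_lit 3)]), ((nat_lit 17109059), [(nat_lit 3), (nat_lit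 0)]), ((nat_lit 17109073), [(nat_lit 3), (nat_lit 2)]), ((nat_lit 17109075), [(nat_lit 3), (nat_lit 2), (nat_lit 0)]), ((nat_lit 17111105), [(nat_lit 3), (nat_lit 1)]), ((nat_lit 17111107), [(nat_lit 3), (nat_lit 1), (nat_lit 0)]), ((nat_lit 17111121), [(nat_lit 3), (nat_lit 2), (nat_lit 1)]), ((nat_lit 17111123), [(nat_lit 3), (nat_lit 2), (nat_lit 1), (nat_lit 0)]), ((nat_lit 17125441), [(nat_lit 4), (nat_lit 3)]), ((nat_lit 17125443), [(nat_lit 4), (nat_lit 3), (nat_lit 0)]), ((nat_lit 17125457), [(nat_lit 4), (nat_lit 3), (nat_lit 2)]), ((nat_lit 17125459), [(nat_lit 4), (nat_lit 3), (nat_lit 2), (nat_lit 0)]), ((nat_lit 17127489), [(nat_lit 4), (nat_lit 3), (nat_lit 1)]), ((nat_lit 17127491), [(nat_lit 4), (nat_lit 3), (nat_lit 1), (nat_lit 0)]), ((nat_lit 17127505), [(nat_lit 4), (nat_lit 3), (nat_lit 2), (nat_lit 1)]), ((nat_lit 17127507), [(nat_lit 4), (nat_lit 3),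 (nat_lit 2), (nat_lit 1), (nat_lit 0)]), ((nat_lit 17567809), [(nat_lit 6)]), ((nat_lit 17567811), [(nat_lit 6), (nat_lit 0)]), ((nat_lit 17567825), [(nat_lit 6), (nat_lit 2)]), ((nat_lit 17567827), [(nat_lit 6), (nat_lit 2), (nat_lit 0)]), ((nat_lit 17569857), [(nat_lit 6), (nat_lit 1)]), ((nat_lit 17569859), [(nat_lit 6), (nat_lit 1), (nat_lit 0)]), ((nat_lit 17569873), [(nat_lit 6), (nat_lit 2), (nat_lit 1)]), ((nat_lit 17569875), [(nat_lit 6), (nat_lit 2), (nat_lit 1), (nat_lit 0)]), ((nat_lit 17584193), [(nat_lit 6), (nat_lit 4)]), ((nat_lit 17584195), [(nat_lit 6), (nat_lit 4), (nat_lit 0)]), ((nat_lit 17584209), [(nat_lit 6), (nat_lit 4), (nat_lit 2)]), ((nat_lit 17584211), [(nat_lit 6), (nat_lit 4), (nat_lit 2), (nat_lit 0)]), ((nat_lit 17586241), [(nat_lit 6), (nat_lit 4), (nat_lit 1)]), ((nat_lit 17586243), [(nat_lit 6), (nat_lit 4), (nat_lit 1), (nat_lit 0)]), ((nat_lit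 17586257), [(nat_lit 6), (nat_lit 4), (nat_lit 2), (nat_lit 1)]), ((nat_lit 17586259), [(nat_lit 6), (nat_lit 4), (nat_lit 2), (nat_lit 1), (nat_lit 0)]), ((nat_lit 17633345), [(nat_lit 6), (nat_lit 3)]), ((nat_lit 17633347), [(nat_lit 6), (nat_lit 3), (nat_lit 0)]), ((nat_lit 17633361), [(nat_lit 6), (nat_lit 3), (nat_lit 2)]), ((nat_lit 17633363), [(nat_lit 6), (nat_lit 3), (nat_lit 2), (nat_lit 0)]), ((nat_lit 17635393), [(nat_lit 6), (nat_lit 3), (nat_lit 1)]), ((nat_lit 17635395), [(nat_lit 6), (nat_lit 3), (nat_lit 1), (nat_lit 0)]), ((nat_lit 17635409), [(nat_lit 6), (nat_lit 3), (nat_lit 2), (nat_lit 1)]), ((nat_lit 17635411), [(nat_lit 6), (nat_lit 3), (nat_lit 2), (nat_lit 1), (nat_lit 0)]), ((nat_lit 17649729), [(nat_lit 6), (nat_lit 4), (nat_lit 3)]), ((nat_lit 17649731), [(nat_lit 6), (nat_lit 4), (nat_lit 3), (nat_lit 0)]), ((nat_lit 17649745), [(nat_lit 6),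 (nat_lit 4), (nat_lit 3), (nat_lit 2)]), ((nat_lit 17649747), [(nat_lit 6), (nat_lit 4), (nat_lit 3), (nat_lit 2), (nat_lit 0)]), ((nat_lit 17651777), [(nat_lit 6), (nat_lit 4), (nat_lit 3), (nat_lit 1)]), ((nat_lit 17651779), [(nat_lit 6), (nat_lit 4), (nat_lit 3), (nat_lit 1), (nat_lit 0)]), ((nat_lit 17651793), [(nat_lit 6), (nat_lit 4), (nat_lit 3), (nat_lit 2), (nat_lit 1)]), ((nat_lit 17651795), [(nat_lit 6), (nat_lit 4), (nat_lit 3), (nat_lit 2), (nat_lit 1), (nat_lit 0)])]⟩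
theorem DM1_ok : DM1.ok cl2 (AA2 A1 A4) (AA2 B00 C11) (minv (nat_lit 17567809)) = true ∧ DM1.F.map Prod.fst = 0 :: [(nat_lit 8), (nat_lit 5), (nat_lit 1), (nat_lit 4), (nat_lit 2)] ∧ DM1.L.map Prod.fst = LA2 ∧ allH (AA2 A1 A4) [(nat_lit 8), (nat_lit 5), (nat_lit 1), (nat_lit 4), (nat_lit 2)] = true ∧ [(nat_lit 8), (nat_lit 5), (nat_lit 1), (nat_lit 4), (nat_lit 2)].map (nth o.one cl2) = LA2g := by decide +kernel
noncomputable def RWM : List (List ℕ × List ℕ) := [([(nat_lit 0), (nat_lit 0)], []),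
  ([(nat_lit 1), (nat_lit 1)], []),
  ([(nat_lit 2), (nat_lit 2)], []),
  ([(nat_lit 3), (nat_lit 3)], []),
  ([(nat_lit 4), (nat_lit 4)], []),
  ([(nat_lit 5), (nat_lit 5)], []),
  ([(nat_lit 6), (nat_lit 6)], []),
  ([(nat_lit 7), (nat_lit 7)], []),
  ([(nat_lit 8), (nat_lit 8)], []),
  ([(nat_lit 9), (nat_lit 9)], []),
  ([(nat_lit 10), (nat_lit 10)], []),
  ([(nat_lit 11), (nat_lit 11)], []),
  ([(nat_lit 12), (nat_lit 12)], []),
  ([(nat_lit 13), (nat_lit 13)], []),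
  ([(nat_lit 1), (nat_lit 0), (nat_lit 1), (nat_lit 0)], []),
  ([(nat_lit 2), (nat_lit 0), (nat_lit 2), (nat_lit 0)], []),
  ([(nat_lit 3), (nat_lit 0), (nat_lit 3), (nat_lit 0)], []),
  ([(nat_lit 4), (nat_lit 0), (nat_lit 4), (nat_lit 0)], []),
  ([(nat_lit 5), (nat_lit 0), (nat_lit 5), (nat_lit 0)], []),
  ([(nat_lit 6), (nat_lit 0), (nat_lit 6), (nat_lit 0)], []),
  ([(nat_lit 7), (nat_lit 0), (nat_lit 7), (nat_lit 0)], []),
  ([(nat_lit 8), (nat_lit 0), (nat_lit 8), (nat_lit 0)], []),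
  ([(nat_lit 9), (nat_lit 0), (nat_lit 9), (nat_lit 0)], []),
  ([(nat_lit 2), (nat_lit 1), (nat_lit 2), (nat_lit 1)], []),
  ([(nat_lit 3), (nat_lit 1), (nat_lit 3), (nat_lit 1)], []),
  ([(nat_lit 4), (nat_lit 1), (nat_lit 4), (nat_lit 1)], []),
  ([(nat_lit 5), (nat_lit 1), (nat_lit 5), (nat_lit 1)], []),
  ([(nat_lit 6), (nat_lit 1), (nat_lit 6), (nat_lit 1)], []),
  ([(nat_lit 7), (nat_lit 1), (nat_lit 7), (nat_lit 1)], []),
  ([(nat_lit 8), (nat_lit 1), (nat_lit 8), (nat_lit 1)], []),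
  ([(nat_lit 0), (nat_lit 9), (nat_lit 1), (nat_lit 9), (nat_lit 1)], []),
  ([(nat_lit 3), (nat_lit 2), (nat_lit 3), (nat_lit 2)], []),
  ([(nat_lit 4), (nat_lit 2), (nat_lit 4), (nat_lit 2)], []),
  ([(nat_lit 5), (nat_lit 2), (nat_lit 5), (nat_lit 2)], []),
  ([(nat_lit 0), (nat_lit 6), (nat_lit 2), (nat_lit 6), (nat_lit 2)], []),
  ([(nat_lit 7), (nat_lit 2), (nat_lit 7), (nat_lit 2)], []),
  ([(nat_lit 8), (nat_lit 2), (nat_lit 8), (nat_lit 2)], []),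
  ([(nat_lit 9), (nat_lit 2), (nat_lit 9), (nat_lit 2)], []),
  ([(nat_lit 4), (nat_lit 3), (nat_lit 4), (nat_lit 3)], []),
  ([(nat_lit 0), (nat_lit 5), (nat_lit 3), (nat_lit 5), (nat_lit 3)], []),
  ([(nat_lit 6), (nat_lit 3), (nat_lit 6), (nat_lit 3)], []),
  ([(nat_lit 7), (nat_lit 3), (nat_lit 7), (nat_lit 3)], []),
  ([(nat_lit 1), (nat_lit 8), (nat_lit 3), (nat_lit 8), (nat_lit 3)], []),
  ([(nat_lit 9), (nat_lit 3), (nat_lit 9), (nat_lit 3)], []),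
  ([(nat_lit 5), (nat_lit 4), (nat_lit 5), (nat_lit 4)], []),
  ([(nat_lit 1), (nat_lit 6), (nat_lit 4), (nat_lit 6), (nat_lit 4)], []),
  ([(nat_lit 7), (nat_lit 4), (nat_lit 7), (nat_lit 4)], []),
  ([(nat_lit 8), (nat_lit 4), (nat_lit 8), (nat_lit 4)], []),
  ([(nat_lit 2), (nat_lit 9), (nat_lit 4), (nat_lit 9), (nat_lit 4)], []),
  ([(nat_lit 6), (nat_lit 5), (nat_lit 6), (nat_lit 5)], []),
  ([(nat_lit 2), (nat_lit 7), (nat_lit 5), (nat_lit 7), (nat_lit 5)], []),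
  ([(nat_lit 8), (nat_lit 5), (nat_lit 8), (nat_lit 5)], []),
  ([(nat_lit 9), (nat_lit 5), (nat_lit 9), (nat_lit 5)], []),
  ([(nat_lit 3), (nat_lit 7), (nat_lit 6), (nat_lit 7), (nat_lit 6)], []),
  ([(nat_lit 8), (nat_lit 6), (nat_lit 8), (nat_lit 6)], []),
  ([(nat_lit 9), (nat_lit 6), (nat_lit 9), (nat_lit 6)], []),
  ([(nat_lit 4), (nat_lit 8), (nat_lit 7), (nat_lit 8), (nat_lit 7)], []),
  ([(nat_lit 9), (nat_lit 7), (nat_lit 9), (nat_lit 7)], []),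
  ([(nat_lit 5), (nat_lit 9), (nat_lit 8), (nat_lit 9), (nat_lit 8)], []),
  ([(nat_lit 0), (nat_lit 10), (nat_lit 0), (nat_lit 10)], []),
  ([(nat_lit 1), (nat_lit 3), (nat_lit 10), (nat_lit 1), (nat_lit 10)], []),
  ([(nat_lit 2), (nat_lit 10), (nat_lit 2), (nat_lit 10)], []),
  ([(nat_lit 3), (nat_lit 10), (nat_lit 3), (nat_lit 10)], []),
  ([(nat_lit 4), (nat_lit 7), (nat_lit 10), (nat_lit 4), (nat_lit 10)], []),
  ([(nat_lit 5), (nat_lit 9), (nat_lit 10), (nat_lit 5), (nat_lit 10)], []),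
  ([(nat_lit 6), (nat_lit 10), (nat_lit 6), (nat_lit 10)], []),
  ([(nat_lit 7), (nat_lit 10), (nat_lit 7), (nat_lit 10)], []),
  ([(nat_lit 9), (nat_lit 10), (nat_lit 9), (nat_lit 10)], []),
  ([(nat_lit 10), (nat_lit 8), (nat_lit 10), (nat_lit 8), (nat_lit 10), (nat_lit 8)], []),
  ([(nat_lit 11), (nat_lit 0), (nat_lit 11), (nat_lit 0), (nat_lit 2)], [(nat_lit 0)]),
  ([(nat_lit 11), (nat_lit 1), (nat_lit 11), (nat_lit 1), (nat_lit 4)], [(nat_lit 1)]),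
  ([(nat_lit 11), (nat_lit 2), (nat_lit 11), (nat_lit 2)], [(nat_lit 2)]),
  ([(nat_lit 11), (nat_lit 3), (nat_lit 11), (nat_lit 3), (nat_lit 7)], [(nat_lit 3)]),
  ([(nat_lit 11), (nat_lit 4), (nat_lit 11), (nat_lit 4)], [(nat_lit 4)]),
  ([(nat_lit 11), (nat_lit 5), (nat_lit 11), (nat_lit 5)], [(nat_lit 5)]),
  ([(nat_lit 11), (nat_lit 7), (nat_lit 11), (nat_lit 7)], [(nat_lit 6)]),
  ([(nat_lit 11), (nat_lit 8), (nat_lit 11), (nat_lit 8)], [(nat_lit 7)]),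
  ([(nat_lit 11), (nat_lit 9), (nat_lit 11), (nat_lit 9)], [(nat_lit 8)]),
  ([(nat_lit 11), (nat_lit 10), (nat_lit 11), (nat_lit 10)], [(nat_lit 9)]),
  ([(nat_lit 12), (nat_lit 0), (nat_lit 12), (nat_lit 0), (nat_lit 1)], [(nat_lit 0)]),
  ([(nat_lit 12), (nat_lit 1), (nat_lit 12), (nat_lit 1)], [(nat_lit 2)]),
  ([(nat_lit 12), (nat_lit 2), (nat_lit 12), (nat_lit 2), (nat_lit 4)], [(nat_lit 1)]),
  ([(nat_lit 12), (nat_lit 3), (nat_lit 12), (nat_lit 1), (nat_lit 3), (nat_lit 4)], [(nat_lit 5)]),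
  ([(nat_lit 12), (nat_lit 4), (nat_lit 12), (nat_lit 4)], [(nat_lit 4)]),
  ([(nat_lit 12), (nat_lit 5), (nat_lit 12), (nat_lit 5), (nat_lit 8)], [(nat_lit 3)]),
  ([(nat_lit 12), (nat_lit 6), (nat_lit 12), (nat_lit 1), (nat_lit 6), (nat_lit 8)], [(nat_lit 8)]),
  ([(nat_lit 12), (nat_lit 7), (nat_lit 12), (nat_lit 1), (nat_lit 7)], [(nat_lit 7)]),
  ([(nat_lit 12), (nat_lit 8), (nat_lit 12), (nat_lit 8)], [(nat_lit 6)]),
  ([(nat_lit 12), (nat_lit 13), (nat_lit 12), (nat_lit 1), (nat_lit 13)], [(nat_lit 9)]),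
  ([(nat_lit 0), (nat_lit 13), (nat_lit 0), (nat_lit 13)], []),
  ([(nat_lit 1), (nat_lit 13), (nat_lit 1), (nat_lit 13)], []),
  ([(nat_lit 2), (nat_lit 5), (nat_lit 13), (nat_lit 2), (nat_lit 13)], []),
  ([(nat_lit 3), (nat_lit 6), (nat_lit 13), (nat_lit 3), (nat_lit 13)], []),
  ([(nat_lit 4), (nat_lit 8), (nat_lit 13), (nat_lit 4), (nat_lit 13)], []),
  ([(nat_lit 5), (nat_lit 13), (nat_lit 5), (nat_lit 13)], []),
  ([(nat_lit 6), (nat_lit 13), (nat_lit 6), (nat_lit 13)], []),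
  ([(nat_lit 8), (nat_lit 13), (nat_lit 8), (nat_lit 13)], []),
  ([(nat_lit 9), (nat_lit 13), (nat_lit 9), (nat_lit 13)], []),
  ([(nat_lit 13), (nat_lit 7), (nat_lit 13), (nat_lit 7), (nat_lit 13), (nat_lit 7)], []),
  ([(nat_lit 8), (nat_lit 10), (nat_lit 8), (nat_lit 7), (nat_lit 13), (nat_lit 7), (nat_lit 8), (nat_lit 10), (nat_lit 8), (nat_lit 7), (nat_lit 13), (nat_lit 7), (nat_lit 8), (nat_lit 10), (nat_lit 8), (nat_lit 7), (nat_lit 13), (nat_lit 7)], []),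
  ([(nat_lit 11), (nat_lit 6), (nat_lit 11), (nat_lit 6), (nat_lit 11), (nat_lit 6)], []),
  ([(nat_lit 12), (nat_lit 9), (nat_lit 12), (nat_lit 9), (nat_lit 12), (nat_lit 9)], []),
  ([(nat_lit 8), (nat_lit 12), (nat_lit 11), (nat_lit 12), (nat_lit 11)], []),
  ([(nat_lit 11), (nat_lit 6), (nat_lit 12), (nat_lit 4), (nat_lit 10), (nat_lit 5), (nat_lit 12), (nat_lit 4), (nat_lit 10), (nat_lit 5), (nat_lit 12), (nat_lit 4), (nat_lit 10), (nat_lit 5), (nat_lit 12), (nat_lit 4), (nat_lit 10), (nat_lit 5)], []),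
  ([(nat_lit 11), (nat_lit 5), (nat_lit 13), (nat_lit 7), (nat_lit 11), (nat_lit 5), (nat_lit 13), (nat_lit 7), (nat_lit 11), (nat_lit 5), (nat_lit 13), (nat_lit 7)], [])]
theorem raM : RWM.map Prod.fst = HdT.M.Rl := by decide +kernel
theorem rbM : RWM.all (fun p => relOK cl2 (AA2 A1 A4) (AA2 B00 C11) [[11, 6, 11, 6, 11, 6], [12, 9, 12, 9, 12, 9], [(nat_lit 8)] ++ [12, 11, 12, 11], DM0.w, DM1.w] p.1 p.2) = true := by decide +kernel
theorem rcM : allH (AA2 A1 A4) [(nat_lit 8)] = true ∧ mm (nat_lit 17567809) (evW o cl2 [(nat_lit 8)]) = o.one := by decide +kernel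
theorem relsM {b b' : G} (h : BC S.R S.a12 b A1 B00) (h' : BC S.R S.a45 b' A4 C11) :
    ∃ b, BC S.R S.a12 b A1 B00 ∧ Rels (S.g2 b b') HdT.M.Rl := by
  obtain ⟨b, h, hc⟩ := alt h h' alM (sq2 (mach2 h h') sqM)
  have M := mach2 h h'
  have e : evA (S.g2 b b') [12, 11, 12, 11] = b * b' * b * b' := congrArg (· * b' * b * b') (one_mul b)
  exact ⟨b, h, M.rels (rcons (ev3 11 6 h.br) (rcons (ev3 12 9 h'.br) (rcons (M.cls (e ▸ hc) _ rcM)
    (rcons (relD' M rfl DM0 hc DM0_ok LA1_ok) (rcons (relD' M rfl DM1 (sq_inv h.sq h'.sq hc)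
      DM1_ok LA2_ok) rnil))))) RWM raM rbM⟩
theorem sqS : trW cl2 (AA2 A1 A4) (AA2 B11 C11) ([12, 11, 12, 11] ++ [(nat_lit 0), (nat_lit 1), (nat_lit 2), (nat_lit 7), (nat_lit 8)]) [[(nat_lit 0)], [(nat_lit 1), (nat_lit 0)], [(nat_lit 4), (nat_lit 2), (nat_lit 1), (nat_lit 0)], [(nat_lit 2), (nat_lit 0)]] [((nat_lit 3), [[(nat_lit 5)], [(nat_lit 4), (nat_lit 3), (nat_lit 1)], [(nat_lit 7), (nat_lit 5), (nat_lit 2)], [(nat_lit 6), (nat_lit 4), (nat_lit 3), (nat_lit 1)]]), ((nat_lit 7), [[(nat_lit 7)], [(nat_lit 6), (nat_lit 1)], [(nat_lit 7), (nat_lit 4), (nat_lit 2)], [(nat_lit 6), (nat_lit 4)]]), ((nat_lit 8), [[(nat_lit 6)], [(nat_lit 7)], [(nat_lit 6), (nat_lit 1)], [(nat_lit 7), (nat_lit 4), (nat_lit 2)]]), ((nat_lit 5), [[(nat_lit 3)], [(nat_lit 7), (nat_lit 5)], [(nat_lit 6), (nat_lit 4), (nat_lit 3)], [(nat_lit 5), (nat_lit 4)]])] LEg LEg = true ∧ allH (AA2 A1 A4) [(nat_lit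 0), (nat_lit 1), (nat_lit 2), (nat_lit 7), (nat_lit 8)] = true ∧
  filK cl2 (AA2 A1 A4) (AA2 B11 C11) [11] [((nat_lit 17594451), [[(nat_lit 7), (nat_lit 6), (nat_lit 2), (nat_lit 1), (nat_lit 0)]]), ((nat_lit 17594449), [[(nat_lit 7), (nat_lit 6), (nat_lit 2), (nat_lit 1)]]), ((nat_lit 17594435), [[(nat_lit 7), (nat_lit 6), (nat_lit 2), (nat_lit 0)]]), ((nat_lit 17594433), [[(nat_lit 7), (nat_lit 6), (nat_lit 2)]]), ((nat_lit 17592403), [[(nat_lit 7), (nat_lit 6), (nat_lit 1), (nat_lit 0)]]), ((nat_lit 17592401), [[(nat_lit 7), (nat_lit 6), (nat_lit 1)]]), ((nat_lit 17592387), [[(nat_lit 7), (nat_lit 6), (nat_lit 0)]]), ((nat_lit 17592385), [[(nat_lit 7), (nat_lit 6)]]), ((nat_lit 17578067), [[(nat_lit 6), (nat_lit 7), (nat_lit 2), (nat_lit 1), (nat_lit 0)]]), ((nat_lit 17578065), [[(nat_lit 6), (nat_lit 7), (nat_lit 2), (nat_lit 1)]]), ((nat_lit 17578051), [[(nat_lit 6),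 (nat_lit 7), (nat_lit 2), (nat_lit 0)]]), ((nat_lit 17578049), [[(nat_lit 6), (nat_lit 7), (nat_lit 2)]]), ((nat_lit 17576019), [[(nat_lit 6), (nat_lit 7), (nat_lit 1), (nat_lit 0)]]), ((nat_lit 17576017), [[(nat_lit 6), (nat_lit 7), (nat_lit 1)]]), ((nat_lit 17576003), [[(nat_lit 6), (nat_lit 7), (nat_lit 0)]]), ((nat_lit 17576001), [[(nat_lit 6), (nat_lit 7)]])] (LE.map (mm (minv (evW o cl2 [(nat_lit 0), (nat_lit 1), (nat_lit 2), (nat_lit 7), (nat_lit 8)])))) [(nat_lit 17594451), (nat_lit 17592403), (nat_lit 17578067), (nat_lit 17576019)] = true ∧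
  filK cl2 (AA2 A1 A4) (AA2 B11 C11) [12] [((nat_lit 17594451), [[(nat_lit 6), (nat_lit 7), (nat_lit 2), (nat_lit 1), (nat_lit 0)]]), ((nat_lit 17592403), [[(nat_lit 6), (nat_lit 7), (nat_lit 2), (nat_lit 0)]]), ((nat_lit 17578067), [[(nat_lit 7), (nat_lit 6), (nat_lit 2), (nat_lit 1), (nat_lit 0)]]), ((nat_lit 17576019), [[(nat_lit 7), (nat_lit 6), (nat_lit 2), (nat_lit 0)]])] [(nat_lit 17594451), (nat_lit 17592403), (nat_lit 17578067), (nat_lit 17576019)] [(nat_lit 17594451), (nat_lit 17578067)] = true := by decide +kernel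
theorem alS : nth o.one B11 0 = mm cz (nat_lit 17045569) ∧ nth o.one B11 2 = nat_lit 17045569 ∧ nth o.one B11 4 = nat_lit 17059905 ∧ nth o.one C11 1 = mm (nat_lit 17045569) (nat_lit 17059905) ∧ nth o.one C11 4 = nat_lit 17059905 ∧ mm (nat_lit 17578067) (nat_lit 17059905) = (nat_lit 17594451) := by decide +kernel
noncomputable def DS0 : RD := ⟨11, 12, 6, [(nat_lit 5), (nat_lit 1), (nat_lit 10)], [(nat_lit 5), (nat_lit 1), (nat_lit 9)], [(nat_lit 3), (nat_lit 2), (nat_lit 0)], [(nat_lit 3), (nat_lit 2), (nat_lit 0)], [(nat_lit 8)], [(nat_lit 3), (nat_lit 1), (nat_lit 0), (nat_lit 1), (nat_lit 0), (nat_lit 1), (nat_lit 0), (nat_lit 1), (nat_lit 0)],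
  [((nat_lit 0), [[(nat_lit 0)], [(nat_lit 1), (nat_lit 0)], [(nat_lit 8), (nat_lit 7), (nat_lit 4), (nat_lit 1), (nat_lit 8)], [(nat_lit 5), (nat_lit 4)], [(nat_lit 2), (nat_lit 0)]]), ((nat_lit 3), [[(nat_lit 3)], [(nat_lit 7), (nat_lit 5)], [(nat_lit 5), (nat_lit 4), (nat_lit 1), (nat_lit 0)], [(nat_lit 7), (nat_lit 5), (nat_lit 4), (nat_lit 1)], [(nat_lit 5), (nat_lit 4), (nat_lit 0)]]), ((nat_lit 7), [[(nat_lit 6), (nat_lit 3)], [(nat_lit 5)], [(nat_lit 7), (nat_lit 4), (nat_lit 2), (nat_lit 0)], [(nat_lit 5), (nat_lit 4), (nat_lit 2), (nat_lit 1), (nat_lit 0)], [(nat_lit 7), (nat_lit 4), (nat_lit 2), (nat_lit 1)]]), ((nat_lit 1), [[(nat_lit 1)], [(nat_lit 4), (nat_lit 2)], [(nat_lit 7), (nat_lit 5), (nat_lit 4), (nat_lit 2)], [(nat_lit 7), (nat_lit 2), (nat_lit 1), (nat_lit 0)], [(nat_lit 5), (nat_lit 4), (nat_lit 2), (nat_lit 0)]]), ((nat_lit 4), [[(nat_lit 4), (nat_lit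 1)], [(nat_lit 2)], [(nat_lit 5), (nat_lit 2)], [(nat_lit 7), (nat_lit 5), (nat_lit 4), (nat_lit 0)], [(nat_lit 7), (nat_lit 2), (nat_lit 1)]]), ((nat_lit 2), [[(nat_lit 2), (nat_lit 0)], [(nat_lit 0)], [(nat_lit 5), (nat_lit 2), (nat_lit 0)], [(nat_lit 7), (nat_lit 4), (nat_lit 2)], [(nat_lit 4), (nat_lit 1)]])],
  [((nat_lit 17043521), []), ((nat_lit 17043523), [(nat_lit 0)]), ((nat_lit 17043529), [(nat_lit 3)]), ((nat_lit 17043531), [(nat_lit 3), (nat_lit 0)]), ((nat_lit 17043537), [(nat_lit 1)]), ((nat_lit 17043539), [(nat_lit 1), (nat_lit 0)]), ((nat_lit 17043545), [(nat_lit 3), (nat_lit 1)]), ((nat_lit 17043547), [(nat_lit 3), (nat_lit 1), (nat_lit 0)]), ((nat_lit 17045569), [(nat_lit 2)]), ((nat_lit 17045571), [(nat_lit 2), (nat_lit 0)]), ((nat_lit 17045577), [(nat_lit 3), (nat_lit 2)]), ((nat_lit 17045579), [(nat_lit 3), (nat_lit 2), (nat_lit 0)]), ((nat_lit 17045585),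 [(nat_lit 2), (nat_lit 1)]), ((nat_lit 17045587), [(nat_lit 2), (nat_lit 1), (nat_lit 0)]), ((nat_lit 17045593), [(nat_lit 3), (nat_lit 2), (nat_lit 1)]), ((nat_lit 17045595), [(nat_lit 3), (nat_lit 2), (nat_lit 1), (nat_lit 0)]), ((nat_lit 17051713), [(nat_lit 6)]), ((nat_lit 17051715), [(nat_lit 6), (nat_lit 0)]), ((nat_lit 17051721), [(nat_lit 6), (nat_lit 3)]), ((nat_lit 17051723), [(nat_lit 6), (nat_lit 3), (nat_lit 0)]), ((nat_lit 17051729), [(nat_lit 6), (nat_lit 1)]), ((nat_lit 17051731), [(nat_lit 6), (nat_lit 1), (nat_lit 0)]), ((nat_lit 17051737), [(nat_lit 6), (nat_lit 3), (nat_lit 1)]), ((nat_lit 17051739), [(nat_lit 6), (nat_lit 3), (nat_lit 1), (nat_lit 0)]), ((nat_lit 17053761), [(nat_lit 6), (nat_lit 2)]), ((nat_lit 17053763), [(nat_lit 6), (nat_lit 2), (nat_lit 0)]), ((nat_lit 17053769), [(nat_lit 6), (nat_lit 3), (nat_lit 2)]), ((nat_lit 17053771), [(nat_lit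 6), (nat_lit 3), (nat_lit 2), (nat_lit 0)]), ((nat_lit 17053777), [(nat_lit 6), (nat_lit 2), (nat_lit 1)]), ((nat_lit 17053779), [(nat_lit 6), (nat_lit 2), (nat_lit 1), (nat_lit 0)]), ((nat_lit 17053785), [(nat_lit 6), (nat_lit 3), (nat_lit 2), (nat_lit 1)]), ((nat_lit 17053787), [(nat_lit 6), (nat_lit 3), (nat_lit 2), (nat_lit 1), (nat_lit 0)]), ((nat_lit 17059905), [(nat_lit 4)]), ((nat_lit 17059907), [(nat_lit 4), (nat_lit 0)]), ((nat_lit 17059913), [(nat_lit 4), (nat_lit 3)]), ((nat_lit 17059915), [(nat_lit 4), (nat_lit 3), (nat_lit 0)]), ((nat_lit 17059921), [(nat_lit 4), (nat_lit 1)]), ((nat_lit 17059923), [(nat_lit 4), (nat_lit 1), (nat_lit 0)]), ((nat_lit 17059929), [(nat_lit 4), (nat_lit 3), (nat_lit 1)]), ((nat_lit 17059931), [(nat_lit 4), (nat_lit 3), (nat_lit 1), (nat_lit 0)]), ((nat_lit 17061953), [(nat_lit 4), (nat_lit 2)]), ((nat_lit 17061955), [(nat_lit 4),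 (nat_lit 2), (nat_lit 0)]), ((nat_lit 17061961), [(nat_lit 4), (nat_lit 3), (nat_lit 2)]), ((nat_lit 17061963), [(nat_lit 4), (nat_lit 3), (nat_lit 2), (nat_lit 0)]), ((nat_lit 17061969), [(nat_lit 4), (nat_lit 2), (nat_lit 1)]), ((nat_lit 17061971), [(nat_lit 4), (nat_lit 2), (nat_lit 1), (nat_lit 0)]), ((nat_lit 17061977), [(nat_lit 4), (nat_lit 3), (nat_lit 2), (nat_lit 1)]), ((nat_lit 17061979), [(nat_lit 4), (nat_lit 3), (nat_lit 2), (nat_lit 1), (nat_lit 0)]), ((nat_lit 17068097), [(nat_lit 6), (nat_lit 4)]), ((nat_lit 17068099), [(nat_lit 6), (nat_lit 4), (nat_lit 0)]), ((nat_lit 17068105), [(nat_lit 6), (nat_lit 4), (nat_lit 3)]), ((nat_lit 17068107), [(nat_lit 6), (nat_lit 4), (nat_lit 3), (nat_lit 0)]), ((nat_lit 17068113), [(nat_lit 6), (nat_lit 4), (nat_lit 1)]), ((nat_lit 17068115), [(nat_lit 6), (nat_lit 4), (nat_lit 1), (nat_lit 0)]), ((nat_lit 17068121), [(nat_lit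 6), (nat_lit 4), (nat_lit 3), (nat_lit 1)]), ((nat_lit 17068123), [(nat_lit 6), (nat_lit 4), (nat_lit 3), (nat_lit 1), (nat_lit 0)]), ((nat_lit 17070145), [(nat_lit 6), (nat_lit 4), (nat_lit 2)]), ((nat_lit 17070147), [(nat_lit 6), (nat_lit 4), (nat_lit 2), (nat_lit 0)]), ((nat_lit 17070153), [(nat_lit 6), (nat_lit 4), (nat_lit 3), (nat_lit 2)]), ((nat_lit 17070155), [(nat_lit 6), (nat_lit 4), (nat_lit 3), (nat_lit 2), (nat_lit 0)]), ((nat_lit 17070161), [(nat_lit 6), (nat_lit 4), (nat_lit 2), (nat_lit 1)]), ((nat_lit 17070163), [(nat_lit 6), (nat_lit 4), (nat_lit 2), (nat_lit 1), (nat_lit 0)]), ((nat_lit 17070169), [(nat_lit 6), (nat_lit 4), (nat_lit 3), (nat_lit 2), (nat_lit 1)]), ((nat_lit 17070171), [(nat_lit 6), (nat_lit 4), (nat_lit 3), (nat_lit 2), (nat_lit 1), (nat_lit 0)])]⟩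
theorem DS0_ok : DS0.ok cl2 (AA2 A1 A4) (AA2 B11 C11) (nat_lit 17594451) = true ∧ DS0.F.map Prod.fst = 0 :: [(nat_lit 3), (nat_lit 7), (nat_lit 1), (nat_lit 4), (nat_lit 2)] ∧ DS0.L.map Prod.fst = LA1 ∧ allH (AA2 A1 A4) [(nat_lit 3), (nat_lit 7), (nat_lit 1), (nat_lit 4), (nat_lit 2)] = true ∧ [(nat_lit 3), (nat_lit 7), (nat_lit 1), (nat_lit 4), (nat_lit 2)].map (nth o.one cl2) = LA1g := by decide +kernel
noncomputable def DS1 : RD := ⟨12, 11, 9, [(nat_lit 3), (nat_lit 2), (nat_lit 13)], [(nat_lit 5), (nat_lit 1), (nat_lit 9)], [(nat_lit 5), (nat_lit 1), (nat_lit 0)], [(nat_lit 3), (nat_lit 2), (nat_lit 0)], [(nat_lit 8)], [(nat_lit 3), (nat_lit 1), (nat_lit 0), (nat_lit 1), (nat_lit 0), (nat_lit 1), (nat_lit 0), (nat_lit 1), (nat_lit 0)],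
  [((nat_lit 0), [[(nat_lit 0)], [(nat_lit 1), (nat_lit 0)], [(nat_lit 8), (nat_lit 7), (nat_lit 4), (nat_lit 1), (nat_lit 8)], [(nat_lit 5), (nat_lit 4)], [(nat_lit 2), (nat_lit 0)]]), ((nat_lit 8), [[(nat_lit 6), (nat_lit 3)], [(nat_lit 5)], [(nat_lit 7), (nat_lit 4), (nat_lit 2), (nat_lit 0)], [(nat_lit 5), (nat_lit 4), (nat_lit 2), (nat_lit 1), (nat_lit 0)], [(nat_lit 7), (nat_lit 4), (nat_lit 2), (nat_lit 1)]]), ((nat_lit 5), [[(nat_lit 3)], [(nat_lit 7), (nat_lit 5)], [(nat_lit 5), (nat_lit 4), (nat_lit 1), (nat_lit 0)], [(nat_lit 7), (nat_lit 5), (nat_lit 4), (nat_lit 1)], [(nat_lit 5), (nat_lit 4), (nat_lit 0)]]), ((nat_lit 1), [[(nat_lit 2), (nat_lit 0)], [(nat_lit 0)], [(nat_lit 5), (nat_lit 2), (nat_lit 0)], [(nat_lit 7), (nat_lit 4), (nat_lit 2)], [(nat_lit 4), (nat_lit 1)]]), ((nat_lit 4), [[(nat_lit 4), (nat_lit 1)], [(nat_lit 2)], [(nat_lit 5), (nat_lit 2)],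 [(nat_lit 7), (nat_lit 5), (nat_lit 4), (nat_lit 0)], [(nat_lit 7), (nat_lit 2), (nat_lit 1)]]), ((nat_lit 2), [[(nat_lit 1)], [(nat_lit 4), (nat_lit 2)], [(nat_lit 7), (nat_lit 5), (nat_lit 4), (nat_lit 2)], [(nat_lit 7), (nat_lit 2), (nat_lit 1), (nat_lit 0)], [(nat_lit 5), (nat_lit 4), (nat_lit 2), (nat_lit 0)]])],
  [((nat_lit 17043521), []), ((nat_lit 17043523), [(nat_lit 0)]), ((nat_lit 17043537), [(nat_lit 2)]), ((nat_lit 17043539), [(nat_lit 2), (nat_lit 0)]), ((nat_lit 17045569), [(nat_lit 1)]), ((nat_lit 17045571), [(nat_lit 1), (nat_lit 0)]), ((nat_lit 17045585), [(nat_lit 2), (nat_lit 1)]), ((nat_lit 17045587), [(nat_lit 2), (nat_lit 1), (nat_lit 0)]), ((nat_lit 17059905), [(nat_lit 4)]), ((nat_lit 17059907), [(nat_lit 4), (nat_lit 0)]), ((nat_lit 17059921), [(nat_lit 4), (nat_lit 2)]), ((nat_lit 17059923), [(nat_lit 4), (nat_lit 2), (nat_lit 0)]), ((nat_lit 17061953),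 [(nat_lit 4), (nat_lit 1)]), ((nat_lit 17061955), [(nat_lit 4), (nat_lit 1), (nat_lit 0)]), ((nat_lit 17061969), [(nat_lit 4), (nat_lit 2), (nat_lit 1)]), ((nat_lit 17061971), [(nat_lit 4), (nat_lit 2), (nat_lit 1), (nat_lit 0)]), ((nat_lit 17109057), [(nat_lit 3)]), ((nat_lit 17109059), [(nat_lit 3), (nat_lit 0)]), ((nat_lit 17109073), [(nat_lit 3), (nat_lit 2)]), ((nat_lit 17109075), [(nat_lit 3), (nat_lit 2), (nat_lit 0)]), ((nat_lit 17111105), [(nat_lit 3), (nat_lit 1)]), ((nat_lit 17111107), [(nat_lit 3), (nat_lit 1), (nat_lit 0)]), ((nat_lit 17111121), [(nat_lit 3), (nat_lit 2), (nat_lit 1)]), ((nat_lit 17111123), [(nat_lit 3), (nat_lit 2), (nat_lit 1), (nat_lit 0)]), ((nat_lit 17125441), [(nat_lit 4), (nat_lit 3)]), ((nat_lit 17125443), [(nat_lit 4), (nat_lit 3), (nat_lit 0)]), ((nat_lit 17125457), [(nat_lit 4), (nat_lit 3), (nat_lit 2)]), ((nat_lit 17125459), [(nat_lit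 4), (nat_lit 3), (nat_lit 2), (nat_lit 0)]), ((nat_lit 17127489), [(nat_lit 4), (nat_lit 3), (nat_lit 1)]), ((nat_lit 17127491), [(nat_lit 4), (nat_lit 3), (nat_lit 1), (nat_lit 0)]), ((nat_lit 17127505), [(nat_lit 4), (nat_lit 3), (nat_lit 2), (nat_lit 1)]), ((nat_lit 17127507), [(nat_lit 4), (nat_lit 3), (nat_lit 2), (nat_lit 1), (nat_lit 0)]), ((nat_lit 17567809), [(nat_lit 6)]), ((nat_lit 17567811), [(nat_lit 6), (nat_lit 0)]), ((nat_lit 17567825), [(nat_lit 6), (nat_lit 2)]), ((nat_lit 17567827), [(nat_lit 6), (nat_lit 2), (nat_lit 0)]), ((nat_lit 17569857), [(nat_lit 6), (nat_lit 1)]), ((nat_lit 17569859), [(nat_lit 6), (nat_lit 1), (nat_lit 0)]), ((nat_lit 17569873), [(nat_lit 6), (nat_lit 2), (nat_lit 1)]), ((nat_lit 17569875), [(nat_lit 6), (nat_lit 2), (nat_lit 1), (nat_lit 0)]), ((nat_lit 17584193), [(nat_lit 6), (nat_lit 4)]), ((nat_lit 17584195), [(nat_lit 6),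 (nat_lit 4), (nat_lit 0)]), ((nat_lit 17584209), [(nat_lit 6), (nat_lit 4), (nat_lit 2)]), ((nat_lit 17584211), [(nat_lit 6), (nat_lit 4), (nat_lit 2), (nat_lit 0)]), ((nat_lit 17586241), [(nat_lit 6), (nat_lit 4), (nat_lit 1)]), ((nat_lit 17586243), [(nat_lit 6), (nat_lit 4), (nat_lit 1), (nat_lit 0)]), ((nat_lit 17586257), [(nat_lit 6), (nat_lit 4), (nat_lit 2), (nat_lit 1)]), ((nat_lit 17586259), [(nat_lit 6), (nat_lit 4), (nat_lit 2), (nat_lit 1), (nat_lit 0)]), ((nat_lit 17633345), [(nat_lit 6), (nat_lit 3)]), ((nat_lit 17633347), [(nat_lit 6), (nat_lit 3), (nat_lit 0)]), ((nat_lit 17633361), [(nat_lit 6), (nat_lit 3), (nat_lit 2)]), ((nat_lit 17633363), [(nat_lit 6), (nat_lit 3), (nat_lit 2), (nat_lit 0)]), ((nat_lit 17635393), [(nat_lit 6), (nat_lit 3), (nat_lit 1)]), ((nat_lit 17635395), [(nat_lit 6), (nat_lit 3), (nat_lit 1), (nat_lit 0)]), ((nat_lit 17635409), [(nat_lit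 6), (nat_lit 3), (nat_lit 2), (nat_lit 1)]), ((nat_lit 17635411), [(nat_lit 6), (nat_lit 3), (nat_lit 2), (nat_lit 1), (nat_lit 0)]), ((nat_lit 17649729), [(nat_lit 6), (nat_lit 4), (nat_lit 3)]), ((nat_lit 17649731), [(nat_lit 6), (nat_lit 4), (nat_lit 3), (nat_lit 0)]), ((nat_lit 17649745), [(nat_lit 6), (nat_lit 4), (nat_lit 3), (nat_lit 2)]), ((nat_lit 17649747), [(nat_lit 6), (nat_lit 4), (nat_lit 3), (nat_lit 2), (nat_lit 0)]), ((nat_lit 17651777), [(nat_lit 6), (nat_lit 4), (nat_lit 3), (nat_lit 1)]), ((nat_lit 17651779), [(nat_lit 6), (nat_lit 4), (nat_lit 3), (nat_lit 1), (nat_lit 0)]), ((nat_lit 17651793), [(nat_lit 6), (nat_lit 4), (nat_lit 3), (nat_lit 2), (nat_lit 1)]), ((nat_lit 17651795), [(nat_lit 6), (nat_lit 4), (nat_lit 3), (nat_lit 2), (nat_lit 1), (nat_lit 0)])]⟩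
theorem DS1_ok : DS1.ok cl2 (AA2 A1 A4) (AA2 B11 C11) (minv (nat_lit 17594451)) = true ∧ DS1.F.map Prod.fst = 0 :: [(nat_lit 8), (nat_lit 5), (nat_lit 1), (nat_lit 4), (nat_lit 2)] ∧ DS1.L.map Prod.fst = LA2 ∧ allH (AA2 A1 A4) [(nat_lit 8), (nat_lit 5), (nat_lit 1), (nat_lit 4), (nat_lit 2)] = true ∧ [(nat_lit 8), (nat_lit 5), (nat_lit 1), (nat_lit 4), (nat_lit 2)].map (nth o.one cl2) = LA2g := by decide +kernel
noncomputable def RWS : List (List ℕ × List ℕ) := [([(nat_lit 0), (nat_lit 0)], []),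
  ([(nat_lit 1), (nat_lit 1)], []),
  ([(nat_lit 2), (nat_lit 2)], []),
  ([(nat_lit 3), (nat_lit 3)], []),
  ([(nat_lit 4), (nat_lit 4)], []),
  ([(nat_lit 5), (nat_lit 5)], []),
  ([(nat_lit 6), (nat_lit 6)], []),
  ([(nat_lit 7), (nat_lit 7)], []),
  ([(nat_lit 8), (nat_lit 8)], []),
  ([(nat_lit 9), (nat_lit 9)], []),
  ([(nat_lit 10), (nat_lit 10)], []),
  ([(nat_lit 11), (nat_lit 11)], []),
  ([(nat_lit 12), (nat_lit 12)], []),
  ([(nat_lit 13), (nat_lit 13)], []),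
  ([(nat_lit 1), (nat_lit 0), (nat_lit 1), (nat_lit 0)], []),
  ([(nat_lit 2), (nat_lit 0), (nat_lit 2), (nat_lit 0)], []),
  ([(nat_lit 3), (nat_lit 0), (nat_lit 3), (nat_lit 0)], []),
  ([(nat_lit 4), (nat_lit 0), (nat_lit 4), (nat_lit 0)], []),
  ([(nat_lit 5), (nat_lit 0), (nat_lit 5), (nat_lit 0)], []),
  ([(nat_lit 6), (nat_lit 0), (nat_lit 6), (nat_lit 0)], []),
  ([(nat_lit 7), (nat_lit 0), (nat_lit 7), (nat_lit 0)], []),
  ([(nat_lit 8), (nat_lit 0), (nat_lit 8), (nat_lit 0)], []),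
  ([(nat_lit 9), (nat_lit 0), (nat_lit 9), (nat_lit 0)], []),
  ([(nat_lit 2), (nat_lit 1), (nat_lit 2), (nat_lit 1)], []),
  ([(nat_lit 3), (nat_lit 1), (nat_lit 3), (nat_lit 1)], []),
  ([(nat_lit 4), (nat_lit 1), (nat_lit 4), (nat_lit 1)], []),
  ([(nat_lit 5), (nat_lit 1), (nat_lit 5), (nat_lit 1)], []),
  ([(nat_lit 6), (nat_lit 1), (nat_lit 6), (nat_lit 1)], []),
  ([(nat_lit 7), (nat_lit 1), (nat_lit 7), (nat_lit 1)], []),
  ([(nat_lit 8), (nat_lit 1), (nat_lit 8), (nat_lit 1)], []),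
  ([(nat_lit 0), (nat_lit 9), (nat_lit 1), (nat_lit 9), (nat_lit 1)], []),
  ([(nat_lit 3), (nat_lit 2), (nat_lit 3), (nat_lit 2)], []),
  ([(nat_lit 4), (nat_lit 2), (nat_lit 4), (nat_lit 2)], []),
  ([(nat_lit 5), (nat_lit 2), (nat_lit 5), (nat_lit 2)], []),
  ([(nat_lit 0), (nat_lit 6), (nat_lit 2), (nat_lit 6), (nat_lit 2)], []),
  ([(nat_lit 7), (nat_lit 2), (nat_lit 7), (nat_lit 2)], []),
  ([(nat_lit 8), (nat_lit 2), (nat_lit 8), (nat_lit 2)], []),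
  ([(nat_lit 9), (nat_lit 2), (nat_lit 9), (nat_lit 2)], []),
  ([(nat_lit 4), (nat_lit 3), (nat_lit 4), (nat_lit 3)], []),
  ([(nat_lit 0), (nat_lit 5), (nat_lit 3), (nat_lit 5), (nat_lit 3)], []),
  ([(nat_lit 6), (nat_lit 3), (nat_lit 6), (nat_lit 3)], []),
  ([(nat_lit 7), (nat_lit 3), (nat_lit 7), (nat_lit 3)], []),
  ([(nat_lit 1), (nat_lit 8), (nat_lit 3), (nat_lit 8), (nat_lit 3)], []),
  ([(nat_lit 9), (nat_lit 3), (nat_lit 9), (nat_lit 3)], []),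
  ([(nat_lit 5), (nat_lit 4), (nat_lit 5), (nat_lit 4)], []),
  ([(nat_lit 1), (nat_lit 6), (nat_lit 4), (nat_lit 6), (nat_lit 4)], []),
  ([(nat_lit 7), (nat_lit 4), (nat_lit 7), (nat_lit 4)], []),
  ([(nat_lit 8), (nat_lit 4), (nat_lit 8), (nat_lit 4)], []),
  ([(nat_lit 2), (nat_lit 9), (nat_lit 4), (nat_lit 9), (nat_lit 4)], []),
  ([(nat_lit 6), (nat_lit 5), (nat_lit 6), (nat_lit 5)], []),
  ([(nat_lit 2), (nat_lit 7), (nat_lit 5), (nat_lit 7), (nat_lit 5)], []),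
  ([(nat_lit 8), (nat_lit 5), (nat_lit 8), (nat_lit 5)], []),
  ([(nat_lit 9), (nat_lit 5), (nat_lit 9), (nat_lit 5)], []),
  ([(nat_lit 3), (nat_lit 7), (nat_lit 6), (nat_lit 7), (nat_lit 6)], []),
  ([(nat_lit 8), (nat_lit 6), (nat_lit 8), (nat_lit 6)], []),
  ([(nat_lit 9), (nat_lit 6), (nat_lit 9), (nat_lit 6)], []),
  ([(nat_lit 4), (nat_lit 8), (nat_lit 7), (nat_lit 8), (nat_lit 7)], []),
  ([(nat_lit 9), (nat_lit 7), (nat_lit 9), (nat_lit 7)], []),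
  ([(nat_lit 5), (nat_lit 9), (nat_lit 8), (nat_lit 9), (nat_lit 8)], []),
  ([(nat_lit 0), (nat_lit 10), (nat_lit 0), (nat_lit 10)], []),
  ([(nat_lit 1), (nat_lit 3), (nat_lit 10), (nat_lit 1), (nat_lit 10)], []),
  ([(nat_lit 2), (nat_lit 10), (nat_lit 2), (nat_lit 10)], []),
  ([(nat_lit 3), (nat_lit 10), (nat_lit 3), (nat_lit 10)], []),
  ([(nat_lit 4), (nat_lit 7), (nat_lit 10), (nat_lit 4), (nat_lit 10)], []),
  ([(nat_lit 5), (nat_lit 9), (nat_lit 10), (nat_lit 5), (nat_lit 10)], []),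
  ([(nat_lit 6), (nat_lit 10), (nat_lit 6), (nat_lit 10)], []),
  ([(nat_lit 7), (nat_lit 10), (nat_lit 7), (nat_lit 10)], []),
  ([(nat_lit 9), (nat_lit 10), (nat_lit 9), (nat_lit 10)], []),
  ([(nat_lit 10), (nat_lit 8), (nat_lit 10), (nat_lit 8), (nat_lit 10), (nat_lit 8)], []),
  ([(nat_lit 11), (nat_lit 0), (nat_lit 11), (nat_lit 0), (nat_lit 2)], [(nat_lit 0)]),
  ([(nat_lit 11), (nat_lit 1), (nat_lit 11), (nat_lit 1), (nat_lit 4)], [(nat_lit 1)]),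
  ([(nat_lit 11), (nat_lit 2), (nat_lit 11), (nat_lit 2)], [(nat_lit 2)]),
  ([(nat_lit 11), (nat_lit 3), (nat_lit 11), (nat_lit 3), (nat_lit 7)], [(nat_lit 3)]),
  ([(nat_lit 11), (nat_lit 4), (nat_lit 11), (nat_lit 4)], [(nat_lit 4)]),
  ([(nat_lit 11), (nat_lit 5), (nat_lit 11), (nat_lit 2), (nat_lit 4), (nat_lit 5)], [(nat_lit 5)]),
  ([(nat_lit 11), (nat_lit 7), (nat_lit 11), (nat_lit 7)], [(nat_lit 6)]),
  ([(nat_lit 11), (nat_lit 8), (nat_lit 11), (nat_lit 2), (nat_lit 8)], [(nat_lit 7)]),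
  ([(nat_lit 11), (nat_lit 9), (nat_lit 11), (nat_lit 2), (nat_lit 7), (nat_lit 9)], [(nat_lit 8)]),
  ([(nat_lit 11), (nat_lit 10), (nat_lit 11), (nat_lit 2), (nat_lit 10)], [(nat_lit 9)]),
  ([(nat_lit 12), (nat_lit 0), (nat_lit 12), (nat_lit 0), (nat_lit 1)], [(nat_lit 0)]),
  ([(nat_lit 12), (nat_lit 1), (nat_lit 12), (nat_lit 1)], [(nat_lit 2)]),
  ([(nat_lit 12), (nat_lit 2), (nat_lit 12), (nat_lit 2), (nat_lit 4)], [(nat_lit 1)]),
  ([(nat_lit 12), (nat_lit 3), (nat_lit 12), (nat_lit 1), (nat_lit 3), (nat_lit 4)], [(nat_lit 5)]),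
  ([(nat_lit 12), (nat_lit 4), (nat_lit 12), (nat_lit 4)], [(nat_lit 4)]),
  ([(nat_lit 12), (nat_lit 5), (nat_lit 12), (nat_lit 5), (nat_lit 8)], [(nat_lit 3)]),
  ([(nat_lit 12), (nat_lit 6), (nat_lit 12), (nat_lit 1), (nat_lit 6), (nat_lit 8)], [(nat_lit 8)]),
  ([(nat_lit 12), (nat_lit 7), (nat_lit 12), (nat_lit 1), (nat_lit 7)], [(nat_lit 7)]),
  ([(nat_lit 12), (nat_lit 8), (nat_lit 12), (nat_lit 8)], [(nat_lit 6)]),
  ([(nat_lit 12), (nat_lit 13), (nat_lit 12), (nat_lit 1), (nat_lit 13)], [(nat_lit 9)]),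
  ([(nat_lit 0), (nat_lit 13), (nat_lit 0), (nat_lit 13)], []),
  ([(nat_lit 1), (nat_lit 13), (nat_lit 1), (nat_lit 13)], []),
  ([(nat_lit 2), (nat_lit 5), (nat_lit 13), (nat_lit 2), (nat_lit 13)], []),
  ([(nat_lit 3), (nat_lit 6), (nat_lit 13), (nat_lit 3), (nat_lit 13)], []),
  ([(nat_lit 4), (nat_lit 8), (nat_lit 13), (nat_lit 4), (nat_lit 13)], []),
  ([(nat_lit 5), (nat_lit 13), (nat_lit 5), (nat_lit 13)], []),
  ([(nat_lit 6), (nat_lit 13), (nat_lit 6), (nat_lit 13)], []),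
  ([(nat_lit 8), (nat_lit 13), (nat_lit 8), (nat_lit 13)], []),
  ([(nat_lit 9), (nat_lit 13), (nat_lit 9), (nat_lit 13)], []),
  ([(nat_lit 13), (nat_lit 7), (nat_lit 13), (nat_lit 7), (nat_lit 13), (nat_lit 7)], []),
  ([(nat_lit 8), (nat_lit 10), (nat_lit 8), (nat_lit 7), (nat_lit 13), (nat_lit 7), (nat_lit 8), (nat_lit 10), (nat_lit 8), (nat_lit 7), (nat_lit 13), (nat_lit 7), (nat_lit 8), (nat_lit 10), (nat_lit 8), (nat_lit 7), (nat_lit 13), (nat_lit 7)], []),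
  ([(nat_lit 11), (nat_lit 6), (nat_lit 11), (nat_lit 6), (nat_lit 11), (nat_lit 6)], []),
  ([(nat_lit 12), (nat_lit 9), (nat_lit 12), (nat_lit 9), (nat_lit 12), (nat_lit 9)], []),
  ([(nat_lit 0), (nat_lit 1), (nat_lit 2), (nat_lit 7), (nat_lit 8), (nat_lit 12), (nat_lit 11), (nat_lit 12), (nat_lit 11)], []),
  ([(nat_lit 6), (nat_lit 11), (nat_lit 12), (nat_lit 3), (nat_lit 2), (nat_lit 0), (nat_lit 5), (nat_lit 1), (nat_lit 10), (nat_lit 12), (nat_lit 3), (nat_lit 2), (nat_lit 0), (nat_lit 5), (nat_lit 1), (nat_lit 10), (nat_lit 12), (nat_lit 3), (nat_lit 2), (nat_lit 0), (nat_lit 5), (nat_lit 1), (nat_lit 10), (nat_lit 12), (nat_lit 3), (nat_lit 2), (nat_lit 0), (nat_lit 5), (nat_lit 1), (nat_lit 10)], []),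
  ([(nat_lit 9), (nat_lit 12), (nat_lit 11), (nat_lit 5), (nat_lit 1), (nat_lit 0), (nat_lit 3), (nat_lit 2), (nat_lit 13), (nat_lit 11), (nat_lit 5), (nat_lit 1), (nat_lit 0), (nat_lit 3), (nat_lit 2), (nat_lit 13), (nat_lit 11), (nat_lit 5), (nat_lit 1), (nat_lit 0), (nat_lit 3), (nat_lit 2), (nat_lit 13), (nat_lit 11), (nat_lit 5), (nat_lit 1), (nat_lit 0), (nat_lit 3), (nat_lit 2), (nat_lit 13)], [])]
theorem raS : RWS.map Prod.fst = HdT.S.Rl := by decide +kernel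
theorem rbS : RWS.all (fun p => relOK cl2 (AA2 A1 A4) (AA2 B11 C11) [[11, 6, 11, 6, 11, 6], [12, 9, 12, 9, 12, 9], [(nat_lit 0), (nat_lit 1), (nat_lit 2), (nat_lit 7), (nat_lit 8)] ++ [12, 11, 12, 11], DS0.w, DS1.w] p.1 p.2) = true := by decide +kernel
theorem rcS : allH (AA2 A1 A4) [(nat_lit 0), (nat_lit 1), (nat_lit 2), (nat_lit 7), (nat_lit 8)] = true ∧ mm (nat_lit 17594451) (evW o cl2 [(nat_lit 0), (nat_lit 1), (nat_lit 2), (nat_lit 7), (nat_lit 8)]) = o.one := by decide +kernel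
theorem relsS {b b' : G} (h : BC S.R S.a12 b A1 B11) (h' : BC S.R S.a45 b' A4 C11) :
    ∃ b, BC S.R S.a12 b A1 B11 ∧ Rels (S.g2 b b') HdT.S.Rl := by
  obtain ⟨b, h, hc⟩ := alt h h' alS (sq2 (mach2 h h') sqS)
  have M := mach2 h h'
  have e : evA (S.g2 b b') [12, 11, 12, 11] = b * b' * b * b' := congrArg (· * b' * b * b') (one_mul b)
  exact ⟨b, h, M.rels (rcons (ev3 11 6 h.br) (rcons (ev3 12 9 h'.br) (rcons (M.cls (e ▸ hc) _ rcS)
    (rcons (relD' M rfl DS0 hc DS0_ok LA1_ok) (rcons (relD' M rfl DS1 (sq_inv h.sq h'.sq hc)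
      DS1_ok LA2_ok) rnil))))) RWS raS rbS⟩

end HS
end H1.Hd
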