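import Cfsg.Agent.H1.Hd13

/-! Facts on the centraliser of `u` (generated). -/

set_option autoImplicit false
set_option maxRecDepth 100000
set_option maxHeartbeats 4000000
set_option linter.unusedVariables false

namespace H1.Hd
open H0.PM H16 Subgroup

namespace HS
/-- the facts on the class of `u` -/
structure FF {G : Type*} [Group G] (S : HS G) (LS Z U N : List ℕ) : Prop where
  f1 : ∀ x, InS S.R LS x → x * x = 1 → x = 1 ∨ InS S.R N x ∨ ∃ g ∈ S.H, InS S.R Z (g * x * g⁻¹)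
  f2 : ∀ x, InS S.R N x → ∃ g ∈ S.H, InS S.R U (g * x * g⁻¹)
  f3 : ∀ y, InS S.R LS y → y * S.v = S.v * y → ¬ (InS S.R N y ∧ InS S.R N (y * S.u) ∧
    InS S.R N (y * S.v) ∧ InS S.R N (y * (S.u * S.v))) ∧
    ¬ (y * y ≠ 1 ∧ InS S.R N (y * y * S.u) ∧ InS S.R N (y * y * S.v))
  f4 : ∀ x, InS S.R N x → InS S.R N (x * S.u) → x = S.v ∨ x = S.v * S.u ∨ ∃ y, InS S.R LS y ∧
    y * x = x * y ∧ ((InS S.R N y ∧ InS S.R N (y * S.u) ∧ InS S.R N (y * x) ∧
      InS S.R N (y * (S.u * x))) ∨ (y * y ≠ 1 ∧ InS S.R N (y * y * S.u) ∧ InS S.R N (y * y * x)))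
  f5 : InS S.R N S.v ∧ InS S.R N (S.v * S.u) ∧ InS S.R Z S.a25 ∧
    (InS S.R Z S.a14 ∨ InS S.R U S.a14) ∧ (InS S.R Z S.u ∨ InS S.R U S.u) ∧
    (InS S.R Z S.a24 ∨ InS S.R U S.a24) ∧ (InS S.R Z S.c6 ∨ InS S.R U S.c6) ∧
    (InS S.R Z S.c3 ∨ InS S.R U S.c3) ∧ (InS S.R Z S.c5 ∨ InS S.R U S.c5)

noncomputable def LS : List ℕ := [(nat_lit 17043521), (nat_lit 17043523), (nat_lit 17043529), (nat_lit 17043531), (nat_lit 17043537), (nat_lit 17043539), (nat_lit 17043545), (nat_lit 17043547), (nat_lit 17045569), (nat_lit 17045571), (nat_lit 17045577), (nat_lit 17045579), (nat_lit 17045585), (nat_lit 17045587), (nat_lit 17045593), (nat_lit 17045595), (nat_lit 17051713), (nat_lit 17051715), (nat_lit 17051721), (nat_lit 17051723), (nat_lit 17051729), (nat_lit 17051731), (nat_lit 17051737), (nat_lit 17051739), (nat_lit 17053761), (nat_lit 17053763), (nat_lit 17053769), (nat_lit 17053771), (nat_lit 17053777), (nat_lit 17053779), (nat_lit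 17053785), (nat_lit 17053787), (nat_lit 17059905), (nat_lit 17059907), (nat_lit 17059913), (nat_lit 17059915), (nat_lit 17059921), (nat_lit 17059923), (nat_lit 17059929), (nat_lit 17059931), (nat_lit 17061953), (nat_lit 17061955), (nat_lit 17061961), (nat_lit 17061963), (nat_lit 17061969), (nat_lit 17061971), (nat_lit 17061977), (nat_lit 17061979), (nat_lit 17068097), (nat_lit 17068099), (nat_lit 17068105), (nat_lit 17068107), (nat_lit 17068113), (nat_lit 17068115), (nat_lit 17068121), (nat_lit 17068123), (nat_lit 17070145), (nat_lit 17070147), (nat_lit 17070153), (nat_lit 17070155), (nat_lit 17070161), (nat_lit 17070163), (nat_lit 17070169), (nat_lit 17070171), (nat_lit 17109057), (nat_lit 17109059), (nat_lit 17109065), (nat_lit 17109067), (nat_lit 17109073), (nat_lit 17109075), (nat_lit 17109081), (nat_lit 17109083), (nat_lit 17111105), (nat_lit 17111107), (nat_lit 17111113), (nat_lit 17111115), (nat_lit 17111121),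 (nat_lit 17111123), (nat_lit 17111129), (nat_lit 17111131), (nat_lit 17117249), (nat_lit 17117251), (nat_lit 17117257), (nat_lit 17117259), (nat_lit 17117265), (nat_lit 17117267), (nat_lit 17117273), (nat_lit 17117275), (nat_lit 17119297), (nat_lit 17119299), (nat_lit 17119305), (nat_lit 17119307), (nat_lit 17119313), (nat_lit 17119315), (nat_lit 17119321), (nat_lit 17119323), (nat_lit 17125441), (nat_lit 17125443), (nat_lit 17125449), (nat_lit 17125451), (nat_lit 17125457), (nat_lit 17125459), (nat_lit 17125465), (nat_lit 17125467), (nat_lit 17127489), (nat_lit 17127491), (nat_lit 17127497), (nat_lit 17127499), (nat_lit 17127505), (nat_lit 17127507), (nat_lit 17127513), (nat_lit 17127515), (nat_lit 17133633), (nat_lit 17133635), (nat_lit 17133641), (nat_lit 17133643), (nat_lit 17133649), (nat_lit 17133651), (nat_lit 17133657), (nat_lit 17133659), (nat_lit 17135681), (nat_lit 17135683), (nat_lit 17135689), (nat_lit 17135691),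 (nat_lit 17135697), (nat_lit 17135699), (nat_lit 17135705), (nat_lit 17135707), (nat_lit 17567809), (nat_lit 17567811), (nat_lit 17567817), (nat_lit 17567819), (nat_lit 17567825), (nat_lit 17567827), (nat_lit 17567833), (nat_lit 17567835), (nat_lit 17569857), (nat_lit 17569859), (nat_lit 17569865), (nat_lit 17569867), (nat_lit 17569873), (nat_lit 17569875), (nat_lit 17569881), (nat_lit 17569883), (nat_lit 17576001), (nat_lit 17576003), (nat_lit 17576009), (nat_lit 17576011), (nat_lit 17576017), (nat_lit 17576019), (nat_lit 17576025), (nat_lit 17576027), (nat_lit 17578049), (nat_lit 17578051), (nat_lit 17578057), (nat_lit 17578059), (nat_lit 17578065), (nat_lit 17578067), (nat_lit 17578073), (nat_lit 17578075), (nat_lit 17584193), (nat_lit 17584195), (nat_lit 17584201), (nat_lit 17584203), (nat_lit 17584209), (nat_lit 17584211), (nat_lit 17584217), (nat_lit 17584219), (nat_lit 17586241), (nat_lit 17586243), (nat_lit 17586249),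 (nat_lit 17586251), (nat_lit 17586257), (nat_lit 17586259), (nat_lit 17586265), (nat_lit 17586267), (nat_lit 17592385), (nat_lit 17592387), (nat_lit 17592393), (nat_lit 17592395), (nat_lit 17592401), (nat_lit 17592403), (nat_lit 17592409), (nat_lit 17592411), (nat_lit 17594433), (nat_lit 17594435), (nat_lit 17594441), (nat_lit 17594443), (nat_lit 17594449), (nat_lit 17594451), (nat_lit 17594457), (nat_lit 17594459), (nat_lit 17633345), (nat_lit 17633347), (nat_lit 17633353), (nat_lit 17633355), (nat_lit 17633361), (nat_lit 17633363), (nat_lit 17633369), (nat_lit 17633371), (nat_lit 17635393), (nat_lit 17635395), (nat_lit 17635401), (nat_lit 17635403), (nat_lit 17635409), (nat_lit 17635411), (nat_lit 17635417), (nat_lit 17635419), (nat_lit 17641537), (nat_lit 17641539), (nat_lit 17641545), (nat_lit 17641547), (nat_lit 17641553), (nat_lit 17641555), (nat_lit 17641561), (nat_lit 17641563), (nat_lit 17643585), (nat_lit 17643587),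 (nat_lit 17643593), (nat_lit 17643595), (nat_lit 17643601), (nat_lit 17643603), (nat_lit 17643609), (nat_lit 17643611), (nat_lit 17649729), (nat_lit 17649731), (nat_lit 17649737), (nat_lit 17649739), (nat_lit 17649745), (nat_lit 17649747), (nat_lit 17649753), (nat_lit 17649755), (nat_lit 17651777), (nat_lit 17651779), (nat_lit 17651785), (nat_lit 17651787), (nat_lit 17651793), (nat_lit 17651795), (nat_lit 17651801), (nat_lit 17651803), (nat_lit 17657921), (nat_lit 17657923), (nat_lit 17657929), (nat_lit 17657931), (nat_lit 17657937), (nat_lit 17657939), (nat_lit 17657945), (nat_lit 17657947), (nat_lit 17659969), (nat_lit 17659971), (nat_lit 17659977), (nat_lit 17659979), (nat_lit 17659985), (nat_lit 17659987), (nat_lit 17659993), (nat_lit 17659995), (nat_lit 19140677), (nat_lit 19140679), (nat_lit 19140685), (nat_lit 19140687), (nat_lit 19140693), (nat_lit 19140695), (nat_lit 19140701), (nat_lit 19140703), (nat_lit 19142725),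 (nat_lit 19142727), (nat_lit 19142733), (nat_lit 19142735), (nat_lit 19142741), (nat_lit 19142743), (nat_lit 19142749), (nat_lit 19142751), (nat_lit 19148869), (nat_lit 19148871), (nat_lit 19148877), (nat_lit 19148879), (nat_lit 19148885), (nat_lit 19148887), (nat_lit 19148893), (nat_lit 19148895), (nat_lit 19150917), (nat_lit 19150919), (nat_lit 19150925), (nat_lit 19150927), (nat_lit 19150933), (nat_lit 19150935), (nat_lit 19150941), (nat_lit 19150943), (nat_lit 19157061), (nat_lit 19157063), (nat_lit 19157069), (nat_lit 19157071), (nat_lit 19157077), (nat_lit 19157079), (nat_lit 19157085), (nat_lit 19157087), (nat_lit 19159109), (nat_lit 19159111), (nat_lit 19159117), (nat_lit 19159119), (nat_lit 19159125), (nat_lit 19159127), (nat_lit 19159133), (nat_lit 19159135), (nat_lit 19165253), (nat_lit 19165255), (nat_lit 19165261), (nat_lit 19165263), (nat_lit 19165269), (nat_lit 19165271), (nat_lit 19165277), (nat_lit 19165279),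 (nat_lit 19167301), (nat_lit 19167303), (nat_lit 19167309), (nat_lit 19167311), (nat_lit 19167317), (nat_lit 19167319), (nat_lit 19167325), (nat_lit 19167327), (nat_lit 19206213), (nat_lit 19206215), (nat_lit 19206221), (nat_lit 19206223), (nat_lit 19206229), (nat_lit 19206231), (nat_lit 19206237), (nat_lit 19206239), (nat_lit 19208261), (nat_lit 19208263), (nat_lit 19208269), (nat_lit 19208271), (nat_lit 19208277), (nat_lit 19208279), (nat_lit 19208285), (nat_lit 19208287), (nat_lit 19214405), (nat_lit 19214407), (nat_lit 19214413), (nat_lit 19214415), (nat_lit 19214421), (nat_lit 19214423), (nat_lit 19214429), (nat_lit 19214431), (nat_lit 19216453), (nat_lit 19216455), (nat_lit 19216461), (nat_lit 19216463), (nat_lit 19216469), (nat_lit 19216471), (nat_lit 19216477), (nat_lit 19216479), (nat_lit 19222597), (nat_lit 19222599), (nat_lit 19222605), (nat_lit 19222607), (nat_lit 19222613), (nat_lit 19222615), (nat_lit 19222621),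 (nat_lit 19222623), (nat_lit 19224645), (nat_lit 19224647), (nat_lit 19224653), (nat_lit 19224655), (nat_lit 19224661), (nat_lit 19224663), (nat_lit 19224669), (nat_lit 19224671), (nat_lit 19230789), (nat_lit 19230791), (nat_lit 19230797), (nat_lit 19230799), (nat_lit 19230805), (nat_lit 19230807), (nat_lit 19230813), (nat_lit 19230815), (nat_lit 19232837), (nat_lit 19232839), (nat_lit 19232845), (nat_lit 19232847), (nat_lit 19232853), (nat_lit 19232855), (nat_lit 19232861), (nat_lit 19232863), (nat_lit 19664965), (nat_lit 19664967), (nat_lit 19664973), (nat_lit 19664975), (nat_lit 19664981), (nat_lit 19664983), (nat_lit 19664989), (nat_lit 19664991), (nat_lit 19667013), (nat_lit 19667015), (nat_lit 19667021), (nat_lit 19667023), (nat_lit 19667029), (nat_lit 19667031), (nat_lit 19667037), (nat_lit 19667039), (nat_lit 19673157), (nat_lit 19673159), (nat_lit 19673165), (nat_lit 19673167), (nat_lit 19673173), (nat_lit 19673175),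 (nat_lit 19673181), (nat_lit 19673183), (nat_lit 19675205), (nat_lit 19675207), (nat_lit 19675213), (nat_lit 19675215), (nat_lit 19675221), (nat_lit 19675223), (nat_lit 19675229), (nat_lit 19675231), (nat_lit 19681349), (nat_lit 19681351), (nat_lit 19681357), (nat_lit 19681359), (nat_lit 19681365), (nat_lit 19681367), (nat_lit 19681373), (nat_lit 19681375), (nat_lit 19683397), (nat_lit 19683399), (nat_lit 19683405), (nat_lit 19683407), (nat_lit 19683413), (nat_lit 19683415), (nat_lit 19683421), (nat_lit 19683423), (nat_lit 19689541), (nat_lit 19689543), (nat_lit 19689549), (nat_lit 19689551), (nat_lit 19689557), (nat_lit 19689559), (nat_lit 19689565), (nat_lit 19689567), (nat_lit 19691589), (nat_lit 19691591), (nat_lit 19691597), (nat_lit 19691599), (nat_lit 19691605), (nat_lit 19691607), (nat_lit 19691613), (nat_lit 19691615), (nat_lit 19730501), (nat_lit 19730503), (nat_lit 19730509), (nat_lit 19730511), (nat_lit 19730517),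 (nat_lit 19730519), (nat_lit 19730525), (nat_lit 19730527), (nat_lit 19732549), (nat_lit 19732551), (nat_lit 19732557), (nat_lit 19732559), (nat_lit 19732565), (nat_lit 19732567), (nat_lit 19732573), (nat_lit 19732575), (nat_lit 19738693), (nat_lit 19738695), (nat_lit 19738701), (nat_lit 19738703), (nat_lit 19738709), (nat_lit 19738711), (nat_lit 19738717), (nat_lit 19738719), (nat_lit 19740741), (nat_lit 19740743), (nat_lit 19740749), (nat_lit 19740751), (nat_lit 19740757), (nat_lit 19740759), (nat_lit 19740765), (nat_lit 19740767), (nat_lit 19746885), (nat_lit 19746887), (nat_lit 19746893), (nat_lit 19746895), (nat_lit 19746901), (nat_lit 19746903), (nat_lit 19746909), (nat_lit 19746911), (nat_lit 19748933), (nat_lit 19748935), (nat_lit 19748941), (nat_lit 19748943), (nat_lit 19748949), (nat_lit 19748951), (nat_lit 19748957), (nat_lit 19748959), (nat_lit 19755077), (nat_lit 19755079), (nat_lit 19755085), (nat_lit 19755087),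 (nat_lit 19755093), (nat_lit 19755095), (nat_lit 19755101), (nat_lit 19755103), (nat_lit 19757125), (nat_lit 19757127), (nat_lit 19757133), (nat_lit 19757135), (nat_lit 19757141), (nat_lit 19757143), (nat_lit 19757149), (nat_lit 19757151)]
theorem LS_v : allB vH LS = true := by decide +kernel
theorem LS_ok : trK [(nat_lit 17045585)] [(nat_lit 17045585)] LS = true := by decide +kernel
noncomputable def s_1_F : Fm := (.allS LS (.and (.qf (.eq (.mul (.v (nat_lit 0)) (.v (nat_lit 13))) (.mul (.v (nat_lit 13)) (.v (nat_lit 0))))) (.and (.qf (.or (.eq (.mul (.v (nat_lit 0)) (.v (nat_lit 14))) (.mul (.v (nat_lit 14)) (.v (nat_lit 0)))) (.eq (.mul (.v (nat_lit 0)) (.v (nat_lit 14))) (.mul (.mul (.v (nat_lit 14)) (.v (nat_lit 13))) (.v (nat_lit 0)))))) (.imp (.eq (.mul (.v (nat_lit 0)) (.v (nat_lit 14))) (.mul (.v (nat_lit 14)) (.v (nat_lit 0)))) (.imp (.or (.eq (.mul (.v (nat_lit 0)) (.v (nat_lit 0))) (.v (nat_lit 13))) (.or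 (.eq (.mul (.v (nat_lit 0)) (.v (nat_lit 0))) (.v (nat_lit 14))) (.eq (.mul (.v (nat_lit 0)) (.v (nat_lit 0))) (.mul (.v (nat_lit 13)) (.v (nat_lit 14)))))) (.qf (.eq (.mul (.v (nat_lit 0)) (.v (nat_lit 0))) .one)))))))
theorem s_1_chk : Fm.chk o s_1_F cs2 = true := by decide +kernel
theorem s_1 {G : Type*} [Group G] (S : HS G) :
    ∀ x, InS S.R LS x → x * S.u = S.u * x ∧ (x * S.v = S.v * x ∨ x * S.v = S.v * S.u * x) ∧ (x * S.v = S.v * x → x * x = S.u ∨ x * x = S.v ∨ x * x = S.u * S.v → x * x = 1) :=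
  have h : ∀ x, InS S.R LS x → x * S.u = S.u * x ∧ (x * S.v = S.v * x ∨ x * S.v = S.v * S.u * x) ∧ (x * S.v = S.v * x → x * x = S.u ∨ x * x = S.v ∨ x * x = S.u * S.v → x * x = 1) :=
    Fm.sound S.μ s_1_F s_1_chk S.reps2
  (fun x h0 => (h x h0))
noncomputable def s_2_F : Fm := (.qf (.and (.eq (.mul (.v (nat_lit 12)) (.v (nat_lit 13))) (.mul (.v (nat_lit 13)) (.v (nat_lit 12)))) (.and (.eq (.mul (.v (nat_lit 19)) (.v (nat_lit 12))) (.mul (.v (nat_lit 12)) (.v (nat_lit 19)))) (.and (.eq (.mul (.v (nat_lit 19)) (.mul (.v (nat_lit 13)) (.v (nat_lit 12)))) (.mul (.v (nat_lit 13)) (.v (nat_lit 19)))) (.and (.eq (.mul (.v (nat_lit 0)) (.v (nat_lit 12))) (.mul (.v (nat_lit 12)) (.v (nat_lit 0)))) (.and (.eq (.mul (.v (nat_lit 2)) (.v (nat_lit 12))) (.mul (.v (nat_lit 12)) (.v (nat_lit 2)))) (.and (.eq (.mul (.v (nat_lit 0)) (.v (nat_lit 2))) (.mul (.v (nat_lit 2)) (.v (nat_lit 0)))) (.and (.and (.not (.eq (.v (nat_lit 0)) .one))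 (.and (.not (.eq (.v (nat_lit 0)) (.v (nat_lit 12)))) (.and (.not (.eq (.v (nat_lit 2)) .one)) (.and (.not (.eq (.v (nat_lit 2)) (.v (nat_lit 12)))) (.and (.not (.eq (.mul (.v (nat_lit 0)) (.v (nat_lit 2))) .one)) (.not (.eq (.mul (.v (nat_lit 0)) (.v (nat_lit 2))) (.v (nat_lit 12))))))))) (.and (.and (.eq (.mul (.v (nat_lit 3)) (.v (nat_lit 12))) (.mul (.v (nat_lit 12)) (.v (nat_lit 3)))) (.and (.eq (.mul (.v (nat_lit 3)) (.v (nat_lit 13))) (.mul (.v (nat_lit 13)) (.v (nat_lit 3)))) (.and (.eq (.mul (.v (nat_lit 5)) (.v (nat_lit 12))) (.mul (.v (nat_lit 12)) (.v (nat_lit 5)))) (.eq (.mul (.v (nat_lit 5)) (.v (nat_lit 13))) (.mul (.v (nat_lit 13)) (.v (nat_lit 5))))))) (.and (.eq (.pw (.mul (.v (nat_lit 3)) (.v (nat_lit 5))) (nat_lit 2)) (.v (nat_lit 0))) (.and (.not (.eq (.v (nat_lit 0)) (.v (nat_lit 13)))) (.and (.not (.eq (.v (nat_lit 0)) (.mul (.v (nat_lit 12)) (.v (nat_lit 13))))) (.eq (.mul (.v (nat_lit 6)) (.v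 (nat_lit 2))) (.mul (.mul (.v (nat_lit 0)) (.v (nat_lit 2))) (.v (nat_lit 6))))))))))))))))
theorem s_2_chk : Fm.chk o s_2_F cs2 = true := by decide +kernel
theorem s_2 {G : Type*} [Group G] (S : HS G) :
    S.u * S.v = S.v * S.u ∧ S.s0 * S.u = S.u * S.s0 ∧ S.s0 * (S.v * S.u) = S.v * S.s0 ∧ S.z * S.u = S.u * S.z ∧ S.a25 * S.u = S.u * S.a25 ∧ S.z * S.a25 = S.a25 * S.z ∧ (S.z ≠ 1 ∧ S.z ≠ S.u ∧ S.a25 ≠ 1 ∧ S.a25 ≠ S.u ∧ S.z * S.a25 ≠ 1 ∧ S.z * S.a25 ≠ S.u) ∧ (S.a13 * S.u = S.u * S.a13 ∧ S.a13 * S.v = S.v * S.a13 ∧ S.a35 * S.u = S.u * S.a35 ∧ S.a35 * S.v = S.v * S.a35) ∧ (S.a13 * S.a35) ^ 2 = S.z ∧ S.z ≠ S.v ∧ S.z ≠ S.u * S.v ∧ S.a12 * S.a25 = S.z * S.a25 * S.a12 :=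
  Fm.sound S.μ s_2_F s_2_chk S.reps2
noncomputable def LzL : List ℕ := [(nat_lit 17043523), (nat_lit 17043537), (nat_lit 17045569), (nat_lit 17059905)]
theorem LzL_v : allB vH LzL = true := by decide +kernel
noncomputable def LuL : List ℕ := [(nat_lit 17045585), (nat_lit 17059907), (nat_lit 17059913), (nat_lit 17125441)]
theorem LuL_v : allB vH LuL = true := by decide +kernel
noncomputable def LNL : List ℕ := [(nat_lit 17045577), (nat_lit 17045579), (nat_lit 17045585), (nat_lit 17045587), (nat_lit 17045593), (nat_lit 17045595), (nat_lit 17051715), (nat_lit 17051723), (nat_lit 17051729), (nat_lit 17051731), (nat_lit 17051737), (nat_lit 17051739), (nat_lit 17053763), (nat_lit 17053769), (nat_lit 17053777), (nat_lit 17053779), (nat_lit 17053785), (nat_lit 17053787), (nat_lit 17059907), (nat_lit 17059913), (nat_lit 17059915), (nat_lit 17059923), (nat_lit 17059929), (nat_lit 17059931), (nat_lit 17061955), (nat_lit 17061961),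 (nat_lit 17061963), (nat_lit 17061969), (nat_lit 17061977), (nat_lit 17061979), (nat_lit 17068099), (nat_lit 17068105), (nat_lit 17068107), (nat_lit 17068113), (nat_lit 17068115), (nat_lit 17068123), (nat_lit 17070147), (nat_lit 17070153), (nat_lit 17070155), (nat_lit 17070161), (nat_lit 17070163), (nat_lit 17070169), (nat_lit 17109073), (nat_lit 17109075), (nat_lit 17111121), (nat_lit 17111123), (nat_lit 17125441), (nat_lit 17125443), (nat_lit 17125457), (nat_lit 17125459), (nat_lit 17127489), (nat_lit 17127491), (nat_lit 17127505), (nat_lit 17127507), (nat_lit 17567811), (nat_lit 17567827), (nat_lit 17569857), (nat_lit 17569859), (nat_lit 17569873), (nat_lit 17569875), (nat_lit 17584195), (nat_lit 17584211), (nat_lit 17586241), (nat_lit 17586243), (nat_lit 17586257), (nat_lit 17586259), (nat_lit 17633347), (nat_lit 17633361), (nat_lit 17635393), (nat_lit 17635395), (nat_lit 17635409), (nat_lit 17635411), (nat_lit 17649729),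 (nat_lit 17649731), (nat_lit 17649745), (nat_lit 17649747), (nat_lit 17651779), (nat_lit 17651793), (nat_lit 19140677), (nat_lit 19140679), (nat_lit 19140685), (nat_lit 19140687), (nat_lit 19142741), (nat_lit 19142743), (nat_lit 19142749), (nat_lit 19142751), (nat_lit 19206213), (nat_lit 19206215), (nat_lit 19206237), (nat_lit 19206239), (nat_lit 19208269), (nat_lit 19208271), (nat_lit 19208277), (nat_lit 19208279)]
theorem LNL_v : allB vH LNL = true := by decide +kernel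
noncomputable def f1L_t0 : ST := (.node (nat_lit 113) (.node (nat_lit 56) (.node (nat_lit 46) (.node (nat_lit 13) (.node (nat_lit 6) (.leaf (nat_lit 3976)) (.leaf (nat_lit 4680))) (.node (nat_lit 31) (.leaf (nat_lit 1224)) (.leaf (nat_lit 3912)))) (.node (nat_lit 50) (.node (nat_lit 47) (.leaf (nat_lit 520)) (.leaf (nat_lit 1984))) (.node (nat_lit 52) (.leaf (nat_lit 896)) (.leaf (nat_lit 3584))))) (.node (nat_lit 81) (.node (nat_lit 79) (.node (nat_lit 71) (.leaf (nat_lit 3208)) (.leaf (nat_lit 4672))) (.node (nat_lit 80) (.leaf (nat_lit 512)) (.leaf (nat_lit 1216)))) (.node (nat_lit 96) (.node (nat_lit 83) (.leaf (nat_lit 3200)) (.leaf (nat_lit 1280))) (.node (nat_lit 99) (.leaf (nat_lit 3904)) (.leaf (nat_lit 3968)))))) (.node (nat_lit 154) (.node (nat_lit 121) (.node (nat_lit 119) (.node (nat_lit 117) (.leaf (nat_lit 512)) (.leaf (nat_lit 128))) (.node (nat_lit 120) (.leaf (nat_lit 5504)) (.leaf (nat_lit 1160))))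 (.node (nat_lit 148) (.node (nat_lit 138) (.leaf (nat_lit 3200)) (.leaf (nat_lit 6536))) (.node (nat_lit 149) (.leaf (nat_lit 0)) (.leaf (nat_lit 1152))))) (.node (nat_lit 165) (.node (nat_lit 162) (.node (nat_lit 156) (.leaf (nat_lit 384)) (.leaf (nat_lit 392))) (.node (nat_lit 164) (.leaf (nat_lit 1152)) (.leaf (nat_lit 1160)))) (.node (nat_lit 172) (.node (nat_lit 170) (.leaf (nat_lit 6528)) (.leaf (nat_lit 1920))) (.node (nat_lit 215) (.leaf (nat_lit 1928)) (.node (nat_lit 222) (.leaf (nat_lit 1992)) (.leaf (nat_lit 1288))))))))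
noncomputable def f1L_F : Fm := (.allS LS (.imp (.eq (.mul (.v (nat_lit 0)) (.v (nat_lit 0))) .one) (.or (.qf (.eq (.v (nat_lit 0)) .one)) (.or (.qf (.mem (.v (nat_lit 0)) LNL)) (.exF LH (fun cs => f1L_t0.find (Nat.mod (nth (nat_lit 0) cs (nat_lit 0)) (nat_lit 235))) (.qf (.mem (.mul (.mul (.v (nat_lit 0)) (.v (nat_lit 1))) (.inv (.v (nat_lit 0)))) LzL)))))))
theorem f1L_chk : Fm.chk o f1L_F cs2 = true := by decide +kernel
theorem f1L {G : Type*} [Group G] (S : HS G) :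
    ∀ x, InS S.R LS x → x * x = 1 → x = 1 ∨ InS S.R LNL (x) ∨ (∃ g ∈ S.H, InS S.R LzL (g * x * g⁻¹)) :=
  have h : ∀ x, InS S.R LS x → x * x = 1 → x = 1 ∨ InS S.R LNL (x) ∨ (H0.PM.Good o S.R LH → prods o LH o.one ≠ [] → ∃ g, InL o S.R LH g ∧ InS S.R LzL (g * x * g⁻¹)) :=
    Fm.sound S.μ f1L_F f1L_chk S.reps2
  (fun x h0 => (fun h1 => (Or.imp (fun h2 => h2) (fun h2 => (Or.imp (fun h3 => (Iff.rfl.1 h3)) (fun h3 => (Exists.imp (fun g h4 => ⟨S.EH.iff.1 h4.1, (Iff.rfl.1 h4.2)⟩) (h3 S.EH.good S.EH.ne))) h2)) ((h x h0) h1))))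
noncomputable def f2L_t0 : ST := (.node (nat_lit 430) (.node (nat_lit 257) (.node (nat_lit 140) (.node (nat_lit 127) (.node (nat_lit 60) (.node (nat_lit 6) (.leaf (nat_lit 6528)) (.leaf (nat_lit 9216))) (.node (nat_lit 76) (.leaf (nat_lit 1152)) (.node (nat_lit 126) (.leaf (nat_lit 6528)) (.leaf (nat_lit 1992))))) (.node (nat_lit 134) (.node (nat_lit 129) (.leaf (nat_lit 960)) (.node (nat_lit 132) (.leaf (nat_lit 3648)) (.leaf (nat_lit 1992)))) (.node (nat_lit 135) (.leaf (nat_lit 4808)) (.node (nat_lit 137) (.leaf (nat_lit 1664)) (.leaf (nat_lit 4352)))))) (.node (nat_lit 204) (.node (nat_lit 189) (.node (nat_lit 142) (.leaf (nat_lit 2120)) (.leaf (nat_lit 4680))) (.node (nat_lit 191) (.leaf (nat_lit 256)) (.node (nat_lit 196) (.leaf (nat_lit 5632)) (.leaf (nat_lit 1984))))) (.node (nat_lit 213) (.node (nat_lit 210) (.leaf (nat_lit 1988)) (.node (nat_lit 212) (.leaf (nat_lit 4672)) (.leaf (nat_lit 4676)))) (.node (nat_lit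 215) (.leaf (nat_lit 2304)) (.node (nat_lit 220) (.leaf (nat_lit 7680)) (.leaf (nat_lit 4672))))))) (.node (nat_lit 321) (.node (nat_lit 284) (.node (nat_lit 265) (.node (nat_lit 259) (.leaf (nat_lit 1600)) (.leaf (nat_lit 4288))) (.node (nat_lit 267) (.leaf (nat_lit 2368)) (.node (nat_lit 282) (.leaf (nat_lit 5056)) (.leaf (nat_lit 1232))))) (.node (nat_lit 311) (.node (nat_lit 298) (.leaf (nat_lit 6608)) (.node (nat_lit 300) (.leaf (nat_lit 9296)) (.leaf (nat_lit 3920)))) (.node (nat_lit 313) (.leaf (nat_lit 0)) (.node (nat_lit 319) (.leaf (nat_lit 10752)) (.leaf (nat_lit 768)))))) (.node (nat_lit 370) (.node (nat_lit 354) (.node (nat_lit 352) (.leaf (nat_lit 11520)) (.leaf (nat_lit 1216))) (.node (nat_lit 367) (.leaf (nat_lit 6592)) (.node (nat_lit 368) (.leaf (nat_lit 1288)) (.leaf (nat_lit 3904))))) (.node (nat_lit 414) (.node (nat_lit 381) (.leaf (nat_lit 9280)) (.node (nat_lit 406) (.leaf (nat_lit 3976)) (.leaf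 (nat_lit 1224)))) (.node (nat_lit 420) (.leaf (nat_lit 4104)) (.node (nat_lit 428) (.leaf (nat_lit 3912)) (.leaf (nat_lit 1416)))))))) (.node (nat_lit 764) (.node (nat_lit 503) (.node (nat_lit 476) (.node (nat_lit 437) (.node (nat_lit 435) (.leaf (nat_lit 3912)) (.leaf (nat_lit 1280))) (.node (nat_lit 451) (.leaf (nat_lit 9344)) (.node (nat_lit 453) (.leaf (nat_lit 3968)) (.leaf (nat_lit 6656))))) (.node (nat_lit 489) (.node (nat_lit 484) (.leaf (nat_lit 1216)) (.node (nat_lit 487) (.leaf (nat_lit 1220)) (.leaf (nat_lit 1296)))) (.node (nat_lit 492) (.leaf (nat_lit 9360)) (.node (nat_lit 500) (.leaf (nat_lit 3904)) (.leaf (nat_lit 3908)))))) (.node (nat_lit 692) (.node (nat_lit 559) (.node (nat_lit 505) (.leaf (nat_lit 6672)) (.leaf (nat_lit 3984))) (.node (nat_lit 575) (.leaf (nat_lit 1280)) (.node (nat_lit 686) (.leaf (nat_lit 3968)) (.leaf (nat_lit 520))))) (.node (nat_lit 708) (.node (nat_lit 700) (.leaf (nat_lit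 3208)) (.node (nat_lit 702) (.leaf (nat_lit 520)) (.leaf (nat_lit 3336)))) (.node (nat_lit 710) (.leaf (nat_lit 648)) (.node (nat_lit 756) (.leaf (nat_lit 3208)) (.leaf (nat_lit 512))))))) (.node (nat_lit 941) (.node (nat_lit 858) (.node (nat_lit 772) (.node (nat_lit 770) (.leaf (nat_lit 3200)) (.leaf (nat_lit 512))) (.node (nat_lit 778) (.leaf (nat_lit 516)) (.node (nat_lit 780) (.leaf (nat_lit 3200)) (.leaf (nat_lit 3204))))) (.node (nat_lit 927) (.node (nat_lit 860) (.leaf (nat_lit 1280)) (.node (nat_lit 925) (.leaf (nat_lit 3968)) (.leaf (nat_lit 1168)))) (.node (nat_lit 928) (.leaf (nat_lit 3856)) (.node (nat_lit 930) (.leaf (nat_lit 1152)) (.leaf (nat_lit 6528)))))) (.node (nat_lit 988) (.node (nat_lit 974) (.node (nat_lit 943) (.leaf (nat_lit 9232)) (.node (nat_lit 972) (.leaf (nat_lit 6544)) (.leaf (nat_lit 512)))) (.node (nat_lit 980) (.leaf (nat_lit 3200)) (.node (nat_lit 982) (.leaf (nat_lit 1216)) (.leaf (nat_lit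 3904))))) (.node (nat_lit 1011) (.node (nat_lit 990) (.leaf (nat_lit 1984)) (.node (nat_lit 997) (.leaf (nat_lit 4672)) (.leaf (nat_lit 1160)))) (.node (nat_lit 1047) (.leaf (nat_lit 6536)) (.node (nat_lit 1049) (.leaf (nat_lit 1152)) (.leaf (nat_lit 3840)))))))))
noncomputable def f2L_F : Fm := (.allS LNL (.exF LH (fun cs => f2L_t0.find (Nat.mod (nth (nat_lit 0) cs (nat_lit 0)) (nat_lit 1059))) (.qf (.mem (.mul (.mul (.v (nat_lit 0)) (.v (nat_lit 1))) (.inv (.v (nat_lit 0)))) LuL))))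
theorem f2L_chk : Fm.chk o f2L_F cs2 = true := by decide +kernel
theorem f2L {G : Type*} [Group G] (S : HS G) :
    ∀ x, InS S.R LNL x → ∃ g ∈ S.H, InS S.R LuL (g * x * g⁻¹) :=
  have h : ∀ x, InS S.R LNL x → (H0.PM.Good o S.R LH → prods o LH o.one ≠ [] → ∃ g, InL o S.R LH g ∧ InS S.R LuL (g * x * g⁻¹)) :=
    Fm.sound S.μ f2L_F f2L_chk S.reps2
  (fun x h0 => (Exists.imp (fun g h1 => ⟨S.EH.iff.1 h1.1, (Iff.rfl.1 h1.2)⟩) ((h x h0) S.EH.good S.EH.ne)))
noncomputable def f3L_F : Fm := (.allS LS (.imp (.eq (.mul (.v (nat_lit 0)) (.v (nat_lit 14))) (.mul (.v (nat_lit 14)) (.v (nat_lit 0)))) (.qf (.and (.not (.and (.mem (.v (nat_lit 0)) LNL) (.and (.mem (.mul (.v (nat_lit 0)) (.v (nat_lit 13))) LNL) (.and (.mem (.mul (.v (nat_lit 0)) (.v (nat_lit 14))) LNL) (.mem (.mul (.v (nat_lit 0)) (.mul (.v (nat_lit 13)) (.v (nat_lit 14)))) LNL))))) (.not (.and (.not (.eq (.mul (.v (nat_lit 0)) (.v (nat_lit 0))) .one)) (.and (.mem (.mul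 (.mul (.v (nat_lit 0)) (.v (nat_lit 0))) (.v (nat_lit 13))) LNL) (.mem (.mul (.mul (.v (nat_lit 0)) (.v (nat_lit 0))) (.v (nat_lit 14))) LNL))))))))
theorem f3L_chk : Fm.chk o f3L_F cs2 = true := by decide +kernel
theorem f3L {G : Type*} [Group G] (S : HS G) :
    ∀ y, InS S.R LS y → y * S.v = S.v * y → ¬ (InS S.R LNL (y) ∧ InS S.R LNL (y * S.u) ∧ InS S.R LNL (y * S.v) ∧ InS S.R LNL (y * (S.u * S.v))) ∧ ¬ (y * y ≠ 1 ∧ InS S.R LNL (y * y * S.u) ∧ InS S.R LNL (y * y * S.v)) :=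
  have h : ∀ y, InS S.R LS y → y * S.v = S.v * y → ¬ (InS S.R LNL (y) ∧ InS S.R LNL (y * S.u) ∧ InS S.R LNL (y * S.v) ∧ InS S.R LNL (y * (S.u * S.v))) ∧ ¬ (y * y ≠ 1 ∧ InS S.R LNL (y * y * S.u) ∧ InS S.R LNL (y * y * S.v)) :=
    Fm.sound S.μ f3L_F f3L_chk S.reps2
  (fun y h0 => (fun h1 => ((and_congr (not_congr (and_congr Iff.rfl (and_congr Iff.rfl (and_congr Iff.rfl Iff.rfl)))) (not_congr (and_congr Iff.rfl (and_congr Iff.rfl Iff.rfl)))).1 ((h y h0) h1))))
noncomputable def f4L_t0 : ST := (.node (nat_lit 397) (.node (nat_lit 295) (.node (nat_lit 134) (.node (nat_lit 103) (.node (nat_lit 58) (.leaf (nat_lit 97)) (.node (nat_lit 95) (.leaf (nat_lit 96)) (.leaf (nat_lit 66)))) (.node (nat_lit 113) (.leaf (nat_lit 70)) (.node (nat_lit 129) (.leaf (nat_lit 97)) (.leaf (nat_lit 96))))) (.node (nat_lit 150) (.node (nat_lit 136) (.leaf (nat_lit 133)) (.node (nat_lit 138) (.leaf (nat_lit 129)) (.leaf (nat_lit 96)))) (.node (nat_lit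 279) (.node (nat_lit 152) (.leaf (nat_lit 129)) (.leaf (nat_lit 133))) (.node (nat_lit 290) (.leaf (nat_lit 96)) (.leaf (nat_lit 35)))))) (.node (nat_lit 375) (.node (nat_lit 306) (.node (nat_lit 298) (.leaf (nat_lit 97)) (.node (nat_lit 302) (.leaf (nat_lit 34)) (.leaf (nat_lit 97)))) (.node (nat_lit 312) (.leaf (nat_lit 34)) (.node (nat_lit 359) (.leaf (nat_lit 35)) (.leaf (nat_lit 96))))) (.node (nat_lit 381) (.node (nat_lit 379) (.leaf (nat_lit 97)) (.node (nat_lit 380) (.leaf (nat_lit 19)) (.leaf (nat_lit 129)))) (.node (nat_lit 395) (.node (nat_lit 382) (.leaf (nat_lit 17)) (.leaf (nat_lit 133))) (.node (nat_lit 396) (.leaf (nat_lit 17)) (.leaf (nat_lit 133))))))) (.node (nat_lit 625) (.node (nat_lit 497) (.node (nat_lit 462) (.node (nat_lit 398) (.leaf (nat_lit 21)) (.node (nat_lit 456) (.leaf (nat_lit 129)) (.leaf (nat_lit 19)))) (.node (nat_lit 472) (.leaf (nat_lit 17)) (.node (nat_lit 480) (.leaf (nat_lit 19))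 (.leaf (nat_lit 17))))) (.node (nat_lit 536) (.node (nat_lit 521) (.leaf (nat_lit 70)) (.node (nat_lit 525) (.leaf (nat_lit 66)) (.leaf (nat_lit 97)))) (.node (nat_lit 542) (.node (nat_lit 541) (.leaf (nat_lit 34)) (.leaf (nat_lit 96))) (.node (nat_lit 560) (.leaf (nat_lit 35)) (.leaf (nat_lit 34)))))) (.node (nat_lit 724) (.node (nat_lit 643) (.node (nat_lit 627) (.leaf (nat_lit 17)) (.node (nat_lit 641) (.leaf (nat_lit 21)) (.leaf (nat_lit 19)))) (.node (nat_lit 710) (.node (nat_lit 702) (.leaf (nat_lit 17)) (.leaf (nat_lit 19))) (.node (nat_lit 718) (.leaf (nat_lit 17)) (.leaf (nat_lit 19))))) (.node (nat_lit 751) (.node (nat_lit 734) (.leaf (nat_lit 17)) (.node (nat_lit 742) (.leaf (nat_lit 66)) (.leaf (nat_lit 70)))) (.node (nat_lit 777) (.node (nat_lit 759) (.leaf (nat_lit 66)) (.leaf (nat_lit 70))) (.node (nat_lit 791) (.leaf (nat_lit 96)) (.leaf (nat_lit 97))))))))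
noncomputable def f4L_F : Fm := (.allS LNL (.imp (.mem (.mul (.v (nat_lit 0)) (.v (nat_lit 13))) LNL) (.or (.qf (.eq (.v (nat_lit 0)) (.v (nat_lit 14)))) (.or (.qf (.eq (.v (nat_lit 0)) (.mul (.v (nat_lit 14)) (.v (nat_lit 13))))) (.exG LS (fun cs => f4L_t0.find (Nat.mod (nth (nat_lit 0) cs (nat_lit 0)) (nat_lit 901))) (.qf (.and (.eq (.mul (.v (nat_lit 0)) (.v (nat_lit 1))) (.mul (.v (nat_lit 1)) (.v (nat_lit 0)))) (.or (.and (.mem (.v (nat_lit 0)) LNL) (.and (.mem (.mul (.v (nat_lit 0)) (.v (nat_lit 14))) LNL) (.and (.mem (.mul (.v (nat_lit 0)) (.v (nat_lit 1))) LNL) (.mem (.mul (.v (nat_lit 0)) (.mul (.v (nat_lit 14)) (.v (nat_lit 1)))) LNL)))) (.and (.not (.eq (.mul (.v (nat_lit 0)) (.v (nat_lit 0))) .one)) (.and (.mem (.mul (.mul (.v (nat_lit 0)) (.v (nat_lit 0))) (.v (nat_lit 14))) LNL) (.mem (.mul (.mul (.v (nat_lit 0)) (.v (nat_lit 0))) (.v (nat_lit 1))) LNL)))))))))))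
theorem f4L_chk : Fm.chk o f4L_F cs2 = true := by decide +kernel
theorem f4L {G : Type*} [Group G] (S : HS G) :
    ∀ x, InS S.R LNL x → InS S.R LNL (x * S.u) → x = S.v ∨ x = S.v * S.u ∨ (∃ y, InS S.R LS y ∧ y * x = x * y ∧ (InS S.R LNL (y) ∧ InS S.R LNL (y * S.u) ∧ InS S.R LNL (y * x) ∧ InS S.R LNL (y * (S.u * x)) ∨ y * y ≠ 1 ∧ InS S.R LNL (y * y * S.u) ∧ InS S.R LNL (y * y * x))) :=
  have h : ∀ x, InS S.R LNL x → InS S.R LNL (x * S.u) → x = S.v ∨ x = S.v * S.u ∨ (GoodS S.R LS → LS ≠ [] → ∃ y, InS S.R LS y ∧ y * x = x * y ∧ (InS S.R LNL (y) ∧ InS S.R LNL (y * S.u) ∧ InS S.R LNL (y * x) ∧ InS S.R LNL (y * (S.u * x)) ∨ y * y ≠ 1 ∧ InS S.R LNL (y * y * S.u) ∧ InS S.R LNL (y * y * x))) :=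
    Fm.sound S.μ f4L_F f4L_chk S.reps2
  (fun x h0 => (fun h1 => (Or.imp (fun h2 => h2) (fun h2 => (Or.imp (fun h3 => h3) (fun h3 => (Exists.imp (fun y h4 => ⟨h4.1, ((and_congr Iff.rfl (or_congr (and_congr Iff.rfl (and_congr Iff.rfl (and_congr Iff.rfl Iff.rfl))) (and_congr Iff.rfl (and_congr Iff.rfl Iff.rfl)))).1 h4.2)⟩) (h3 (S.good LS_v) (List.cons_ne_nil _ _)))) h2)) ((h x h0) (Iff.rfl.2 h1)))))
noncomputable def f5L_F : Fm := (.qf (.and (.mem (.v (nat_lit 13)) LNL) (.and (.mem (.mul (.v (nat_lit 13)) (.v (nat_lit 12))) LNL) (.and (.mem (.v (nat_lit 2)) LzL) (.and (.or (.mem (.v (nat_lit 1)) LzL) (.mem (.v (nat_lit 1)) LuL)) (.and (.or (.mem (.v (nat_lit 12)) LzL) (.mem (.v (nat_lit 12)) LuL)) (.and (.or (.mem (.v (nat_lit 4)) LzL) (.mem (.v (nat_lit 4)) LuL)) (.and (.or (.mem (.v (nat_lit 16)) LzL) (.mem (.v (nat_lit 16)) LuL)) (.and (.or (.mem (.v (nat_lit 17)) LzL) (.mem (.v (nat_lit 17)) LuL)) (.or (.mem (.v (nat_lit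 18)) LzL) (.mem (.v (nat_lit 18)) LuL)))))))))))
theorem f5L_chk : Fm.chk o f5L_F cs2 = true := by decide +kernel
theorem f5L {G : Type*} [Group G] (S : HS G) :
    InS S.R LNL (S.v) ∧ InS S.R LNL (S.v * S.u) ∧ InS S.R LzL (S.a25) ∧ (InS S.R LzL (S.a14) ∨ InS S.R LuL (S.a14)) ∧ (InS S.R LzL (S.u) ∨ InS S.R LuL (S.u)) ∧ (InS S.R LzL (S.a24) ∨ InS S.R LuL (S.a24)) ∧ (InS S.R LzL (S.c6) ∨ InS S.R LuL (S.c6)) ∧ (InS S.R LzL (S.c3) ∨ InS S.R LuL (S.c3)) ∧ (InS S.R LzL (S.c5) ∨ InS S.R LuL (S.c5)) :=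
  have h : InS S.R LNL (S.v) ∧ InS S.R LNL (S.v * S.u) ∧ InS S.R LzL (S.a25) ∧ (InS S.R LzL (S.a14) ∨ InS S.R LuL (S.a14)) ∧ (InS S.R LzL (S.u) ∨ InS S.R LuL (S.u)) ∧ (InS S.R LzL (S.a24) ∨ InS S.R LuL (S.a24)) ∧ (InS S.R LzL (S.c6) ∨ InS S.R LuL (S.c6)) ∧ (InS S.R LzL (S.c3) ∨ InS S.R LuL (S.c3)) ∧ (InS S.R LzL (S.c5) ∨ InS S.R LuL (S.c5)) :=
    Fm.sound S.μ f5L_F f5L_chk S.reps2
  ((and_congr Iff.rfl (and_congr Iff.rfl (and_congr Iff.rfl (and_congr (or_congr Iff.rfl Iff.rfl) (and_congr (or_congr Iff.rfl Iff.rfl) (and_congr (or_congr Iff.rfl Iff.rfl) (and_congr (or_congr Iff.rfl Iff.rfl) (and_congr (or_congr Iff.rfl Iff.rfl) (or_congr Iff.rfl Iff.rfl))))))))).1 h)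
theorem ffL {G : Type*} [Group G] (S : HS G) : S.FF LS LzL LuL LNL := ⟨S.f1L, S.f2L, S.f3L, S.f4L, S.f5L⟩
noncomputable def gzLL : List (ℕ × List ℕ × List (List ℕ)) := [((nat_lit 17043523), [], []),
  ((nat_lit 17043537), [(nat_lit 12), (nat_lit 9)], [[(nat_lit 0)]]),
  ((nat_lit 17045569), [(nat_lit 11), (nat_lit 6)], [[(nat_lit 0)]]),
  ((nat_lit 17059905), [(nat_lit 11), (nat_lit 6), (nat_lit 12), (nat_lit 9)], [[(nat_lit 0)], [(nat_lit 1)]])]
theorem gzL : gzLL.map Prod.fst = LzL ∧ fusK cl2 (AA2 A1 A4) (AA2 B00 C00) 14 (nat_lit 17043523) gzLL = true := by decide +kernel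
noncomputable def guLL : List (ℕ × List ℕ × List (List ℕ)) := [((nat_lit 17045585), [], []),
  ((nat_lit 17059907), [(nat_lit 6), (nat_lit 11), (nat_lit 6)], [[(nat_lit 2), (nat_lit 1), (nat_lit 0)]]),
  ((nat_lit 17059913), [(nat_lit 10), (nat_lit 8), (nat_lit 12), (nat_lit 9)], [[(nat_lit 5), (nat_lit 1)]]),
  ((nat_lit 17125441), [(nat_lit 13), (nat_lit 7), (nat_lit 11), (nat_lit 6)], [[(nat_lit 5), (nat_lit 1)]])]
theorem guL : guLL.map Prod.fst = LuL ∧ fusK cl2 (AA2 A1 A4) (AA2 B00 C00) 14 (nat_lit 17045585) guLL = true := by decide +kernel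
noncomputable def LzM : List ℕ := [(nat_lit 17043523), (nat_lit 17043537), (nat_lit 17045569), (nat_lit 17059905), (nat_lit 17059913)]
theorem LzM_v : allB vH LzM = true := by decide +kernel
noncomputable def LuM : List ℕ := [(nat_lit 17045585), (nat_lit 17059907), (nat_lit 17125441)]
theorem LuM_v : allB vH LuM = true := by decide +kernel
noncomputable def LNM : List ℕ := [(nat_lit 17045577), (nat_lit 17045579), (nat_lit 17045585), (nat_lit 17045587), (nat_lit 17045593), (nat_lit 17045595), (nat_lit 17051715), (nat_lit 17051723), (nat_lit 17053763), (nat_lit 17053769), (nat_lit 17059907), (nat_lit 17059923), (nat_lit 17061955), (nat_lit 17061969), (nat_lit 17068099), (nat_lit 17068123), (nat_lit 17070147), (nat_lit 17070169), (nat_lit 17109073), (nat_lit 17109075), (nat_lit 17111121), (nat_lit 17111123), (nat_lit 17125441), (nat_lit 17125443), (nat_lit 17125457), (nat_lit 17125459), (nat_lit 17127489), (nat_lit 17127491),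 (nat_lit 17127505), (nat_lit 17127507), (nat_lit 17567811), (nat_lit 17567827), (nat_lit 17569857), (nat_lit 17569859), (nat_lit 17569873), (nat_lit 17569875), (nat_lit 17584195), (nat_lit 17584211), (nat_lit 17586241), (nat_lit 17586243), (nat_lit 17586257), (nat_lit 17586259), (nat_lit 17633347), (nat_lit 17633361), (nat_lit 17635393), (nat_lit 17635395), (nat_lit 17635409), (nat_lit 17635411), (nat_lit 17649729), (nat_lit 17649731), (nat_lit 17649745), (nat_lit 17649747), (nat_lit 17651779), (nat_lit 17651793), (nat_lit 19140677), (nat_lit 19140679), (nat_lit 19140685), (nat_lit 19140687), (nat_lit 19142741), (nat_lit 19142743), (nat_lit 19142749), (nat_lit 19142751), (nat_lit 19206213), (nat_lit 19206215), (nat_lit 19206237), (nat_lit 19206239), (nat_lit 19208269), (nat_lit 19208271), (nat_lit 19208277), (nat_lit 19208279)]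
theorem LNM_v : allB vH LNM = true := by decide +kernel
noncomputable def f1M_t0 : ST := (.node (nat_lit 112) (.node (nat_lit 77) (.node (nat_lit 50) (.node (nat_lit 8) (.node (nat_lit 2) (.leaf (nat_lit 1216)) (.node (nat_lit 4) (.leaf (nat_lit 1416)) (.leaf (nat_lit 3912)))) (.node (nat_lit 16) (.node (nat_lit 10) (.leaf (nat_lit 1216)) (.leaf (nat_lit 1220))) (.node (nat_lit 26) (.leaf (nat_lit 3904)) (.leaf (nat_lit 3908))))) (.node (nat_lit 68) (.node (nat_lit 59) (.leaf (nat_lit 1160)) (.node (nat_lit 66) (.leaf (nat_lit 1288)) (.leaf (nat_lit 520)))) (.node (nat_lit 73) (.node (nat_lit 71) (.leaf (nat_lit 6536)) (.leaf (nat_lit 896))) (.node (nat_lit 76) (.leaf (nat_lit 3584)) (.leaf (nat_lit 3208)))))) (.node (nat_lit 95) (.node (nat_lit 88) (.node (nat_lit 82) (.leaf (nat_lit 3976)) (.node (nat_lit 84) (.leaf (nat_lit 520)) (.leaf (nat_lit 3336)))) (.node (nat_lit 92) (.node (nat_lit 90) (.leaf (nat_lit 512))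 (.leaf (nat_lit 648))) (.node (nat_lit 93) (.leaf (nat_lit 3208)) (.leaf (nat_lit 128))))) (.node (nat_lit 104) (.node (nat_lit 96) (.leaf (nat_lit 5504)) (.node (nat_lit 97) (.leaf (nat_lit 3200)) (.leaf (nat_lit 1992)))) (.node (nat_lit 106) (.node (nat_lit 105) (.leaf (nat_lit 512)) (.leaf (nat_lit 1992))) (.node (nat_lit 107) (.leaf (nat_lit 516)) (.leaf (nat_lit 4808))))))) (.node (nat_lit 156) (.node (nat_lit 129) (.node (nat_lit 115) (.node (nat_lit 113) (.leaf (nat_lit 3200)) (.node (nat_lit 114) (.leaf (nat_lit 2120)) (.leaf (nat_lit 3204)))) (.node (nat_lit 123) (.node (nat_lit 119) (.leaf (nat_lit 4680)) (.leaf (nat_lit 1984))) (.node (nat_lit 127) (.leaf (nat_lit 4680)) (.leaf (nat_lit 1984))))) (.node (nat_lit 137) (.node (nat_lit 133) (.leaf (nat_lit 1988)) (.node (nat_lit 135) (.leaf (nat_lit 1152)) (.leaf (nat_lit 4672)))) (.node (nat_lit 149) (.node (nat_lit 143) (.leaf (nat_lit 4676)) (.leaf (nat_lit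 4672))) (.node (nat_lit 154) (.leaf (nat_lit 6528)) (.leaf (nat_lit 512)))))) (.node (nat_lit 192) (.node (nat_lit 180) (.node (nat_lit 164) (.leaf (nat_lit 3200)) (.node (nat_lit 178) (.leaf (nat_lit 1280)) (.leaf (nat_lit 0)))) (.node (nat_lit 185) (.node (nat_lit 184) (.leaf (nat_lit 3968)) (.leaf (nat_lit 384))) (.node (nat_lit 186) (.leaf (nat_lit 1224)) (.leaf (nat_lit 392))))) (.node (nat_lit 195) (.node (nat_lit 193) (.leaf (nat_lit 1152)) (.node (nat_lit 194) (.leaf (nat_lit 1224)) (.leaf (nat_lit 1160)))) (.node (nat_lit 202) (.node (nat_lit 200) (.leaf (nat_lit 4104)) (.leaf (nat_lit 1920))) (.node (nat_lit 203) (.leaf (nat_lit 1928)) (.leaf (nat_lit 3912))))))))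
noncomputable def f1M_F : Fm := (.allS LS (.imp (.eq (.mul (.v (nat_lit 0)) (.v (nat_lit 0))) .one) (.or (.qf (.eq (.v (nat_lit 0)) .one)) (.or (.qf (.mem (.v (nat_lit 0)) LNM)) (.exF LH (fun cs => f1M_t0.find (Nat.mod (nth (nat_lit 0) cs (nat_lit 0)) (nat_lit 207))) (.qf (.mem (.mul (.mul (.v (nat_lit 0)) (.v (nat_lit 1))) (.inv (.v (nat_lit 0)))) LzM)))))))
theorem f1M_chk : Fm.chk o f1M_F cs2 = true := by decide +kernel
theorem f1M {G : Type*} [Group G] (S : HS G) :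
    ∀ x, InS S.R LS x → x * x = 1 → x = 1 ∨ InS S.R LNM (x) ∨ (∃ g ∈ S.H, InS S.R LzM (g * x * g⁻¹)) :=
  have h : ∀ x, InS S.R LS x → x * x = 1 → x = 1 ∨ InS S.R LNM (x) ∨ (H0.PM.Good o S.R LH → prods o LH o.one ≠ [] → ∃ g, InL o S.R LH g ∧ InS S.R LzM (g * x * g⁻¹)) :=
    Fm.sound S.μ f1M_F f1M_chk S.reps2
  (fun x h0 => (fun h1 => (Or.imp (fun h2 => h2) (fun h2 => (Or.imp (fun h3 => (Iff.rfl.1 h3)) (fun h3 => (Exists.imp (fun g h4 => ⟨S.EH.iff.1 h4.1, (Iff.rfl.1 h4.2)⟩) (h3 S.EH.good S.EH.ne))) h2)) ((h x h0) h1))))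
noncomputable def f2M_t0 : ST := (.node (nat_lit 174) (.node (nat_lit 70) (.node (nat_lit 52) (.node (nat_lit 48) (.node (nat_lit 23) (.node (nat_lit 15) (.leaf (nat_lit 1984)) (.leaf (nat_lit 512))) (.node (nat_lit 38) (.leaf (nat_lit 3200)) (.leaf (nat_lit 4672)))) (.node (nat_lit 50) (.node (nat_lit 49) (.leaf (nat_lit 1168)) (.leaf (nat_lit 1288))) (.node (nat_lit 51) (.leaf (nat_lit 3856)) (.leaf (nat_lit 1296))))) (.node (nat_lit 64) (.node (nat_lit 54) (.node (nat_lit 53) (.leaf (nat_lit 1152)) (.leaf (nat_lit 9360))) (.node (nat_lit 63) (.leaf (nat_lit 3840)) (.leaf (nat_lit 3976)))) (.node (nat_lit 67) (.node (nat_lit 66) (.leaf (nat_lit 9232)) (.leaf (nat_lit 6544))) (.node (nat_lit 68) (.leaf (nat_lit 6672)) (.node (nat_lit 69) (.leaf (nat_lit 6528)) (.leaf (nat_lit 3984))))))) (.node (nat_lit 98) (.node (nat_lit 92) (.node (nat_lit 81) (.node (nat_lit 79) (.leaf (nat_lit 9216)) (.leaf (nat_lit 1232))) (.node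 (nat_lit 85) (.leaf (nat_lit 6608)) (.leaf (nat_lit 1224)))) (.node (nat_lit 95) (.node (nat_lit 94) (.leaf (nat_lit 512)) (.leaf (nat_lit 3200))) (.node (nat_lit 96) (.leaf (nat_lit 9296)) (.node (nat_lit 97) (.leaf (nat_lit 1280)) (.leaf (nat_lit 3920)))))) (.node (nat_lit 108) (.node (nat_lit 100) (.node (nat_lit 99) (.leaf (nat_lit 3968)) (.leaf (nat_lit 3912))) (.node (nat_lit 102) (.leaf (nat_lit 1216)) (.leaf (nat_lit 3904)))) (.node (nat_lit 168) (.node (nat_lit 110) (.leaf (nat_lit 1984)) (.leaf (nat_lit 4672))) (.node (nat_lit 170) (.leaf (nat_lit 256)) (.node (nat_lit 172) (.leaf (nat_lit 5632)) (.leaf (nat_lit 0)))))))) (.node (nat_lit 297) (.node (nat_lit 265) (.node (nat_lit 194) (.node (nat_lit 182) (.node (nat_lit 180) (.leaf (nat_lit 10752)) (.leaf (nat_lit 768))) (.node (nat_lit 192) (.leaf (nat_lit 11520)) (.leaf (nat_lit 2304)))) (.node (nat_lit 261) (.node (nat_lit 259) (.leaf (nat_lit 7680)) (.leaf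 (nat_lit 1280))) (.node (nat_lit 262) (.leaf (nat_lit 9344)) (.leaf (nat_lit 1160))))) (.node (nat_lit 277) (.node (nat_lit 275) (.node (nat_lit 266) (.leaf (nat_lit 1280)) (.leaf (nat_lit 1152))) (.node (nat_lit 276) (.leaf (nat_lit 3968)) (.leaf (nat_lit 6536)))) (.node (nat_lit 282) (.node (nat_lit 281) (.leaf (nat_lit 6656)) (.leaf (nat_lit 3968))) (.node (nat_lit 291) (.leaf (nat_lit 6528)) (.node (nat_lit 293) (.leaf (nat_lit 1216)) (.leaf (nat_lit 6592))))))) (.node (nat_lit 389) (.node (nat_lit 310) (.node (nat_lit 308) (.node (nat_lit 307) (.leaf (nat_lit 1216)) (.leaf (nat_lit 3904))) (.node (nat_lit 309) (.leaf (nat_lit 1152)) (.leaf (nat_lit 9280)))) (.node (nat_lit 367) (.node (nat_lit 313) (.leaf (nat_lit 6528)) (.leaf (nat_lit 3904))) (.node (nat_lit 368) (.leaf (nat_lit 1992)) (.node (nat_lit 374) (.leaf (nat_lit 520)) (.leaf (nat_lit 3208)))))) (.node (nat_lit 539) (.node (nat_lit 531) (.node (nat_lit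 529) (.leaf (nat_lit 4680)) (.leaf (nat_lit 960))) (.node (nat_lit 537) (.leaf (nat_lit 3648)) (.leaf (nat_lit 1664)))) (.node (nat_lit 543) (.node (nat_lit 541) (.leaf (nat_lit 4352)) (.leaf (nat_lit 1600))) (.node (nat_lit 549) (.leaf (nat_lit 4288)) (.node (nat_lit 551) (.leaf (nat_lit 2368)) (.leaf (nat_lit 5056)))))))))
noncomputable def f2M_F : Fm := (.allS LNM (.exF LH (fun cs => f2M_t0.find (Nat.mod (nth (nat_lit 0) cs (nat_lit 0)) (nat_lit 565))) (.qf (.mem (.mul (.mul (.v (nat_lit 0)) (.v (nat_lit 1))) (.inv (.v (nat_lit 0)))) LuM))))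
theorem f2M_chk : Fm.chk o f2M_F cs2 = true := by decide +kernel
theorem f2M {G : Type*} [Group G] (S : HS G) :
    ∀ x, InS S.R LNM x → ∃ g ∈ S.H, InS S.R LuM (g * x * g⁻¹) :=
  have h : ∀ x, InS S.R LNM x → (H0.PM.Good o S.R LH → prods o LH o.one ≠ [] → ∃ g, InL o S.R LH g ∧ InS S.R LuM (g * x * g⁻¹)) :=
    Fm.sound S.μ f2M_F f2M_chk S.reps2
  (fun x h0 => (Exists.imp (fun g h1 => ⟨S.EH.iff.1 h1.1, (Iff.rfl.1 h1.2)⟩) ((h x h0) S.EH.good S.EH.ne)))
noncomputable def f3M_F : Fm := (.allS LS (.imp (.eq (.mul (.v (nat_lit 0)) (.v (nat_lit 14))) (.mul (.v (nat_lit 14)) (.v (nat_lit 0)))) (.qf (.and (.not (.and (.mem (.v (nat_lit 0)) LNM) (.and (.mem (.mul (.v (nat_lit 0)) (.v (nat_lit 13))) LNM) (.and (.mem (.mul (.v (nat_lit 0)) (.v (nat_lit 14))) LNM) (.mem (.mul (.v (nat_lit 0)) (.mul (.v (nat_lit 13)) (.v (nat_lit 14)))) LNM))))) (.not (.and (.not (.eq (.mul (.v (nat_lit 0)) (.v (nat_lit 0))) .one)) (.and (.mem (.mul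 (.mul (.v (nat_lit 0)) (.v (nat_lit 0))) (.v (nat_lit 13))) LNM) (.mem (.mul (.mul (.v (nat_lit 0)) (.v (nat_lit 0))) (.v (nat_lit 14))) LNM))))))))
theorem f3M_chk : Fm.chk o f3M_F cs2 = true := by decide +kernel
theorem f3M {G : Type*} [Group G] (S : HS G) :
    ∀ y, InS S.R LS y → y * S.v = S.v * y → ¬ (InS S.R LNM (y) ∧ InS S.R LNM (y * S.u) ∧ InS S.R LNM (y * S.v) ∧ InS S.R LNM (y * (S.u * S.v))) ∧ ¬ (y * y ≠ 1 ∧ InS S.R LNM (y * y * S.u) ∧ InS S.R LNM (y * y * S.v)) :=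
  have h : ∀ y, InS S.R LS y → y * S.v = S.v * y → ¬ (InS S.R LNM (y) ∧ InS S.R LNM (y * S.u) ∧ InS S.R LNM (y * S.v) ∧ InS S.R LNM (y * (S.u * S.v))) ∧ ¬ (y * y ≠ 1 ∧ InS S.R LNM (y * y * S.u) ∧ InS S.R LNM (y * y * S.v)) :=
    Fm.sound S.μ f3M_F f3M_chk S.reps2
  (fun y h0 => (fun h1 => ((and_congr (not_congr (and_congr Iff.rfl (and_congr Iff.rfl (and_congr Iff.rfl Iff.rfl)))) (not_congr (and_congr Iff.rfl (and_congr Iff.rfl Iff.rfl)))).1 ((h y h0) h1))))
noncomputable def f4M_t0 : ST := (.node (nat_lit 160) (.node (nat_lit 107) (.node (nat_lit 47) (.node (nat_lit 28) (.leaf (nat_lit 70)) (.node (nat_lit 44) (.leaf (nat_lit 96)) (.leaf (nat_lit 97)))) (.node (nat_lit 93) (.node (nat_lit 77) (.leaf (nat_lit 66)) (.leaf (nat_lit 97))) (.node (nat_lit 102) (.leaf (nat_lit 96)) (.leaf (nat_lit 97))))) (.node (nat_lit 141) (.node (nat_lit 127) (.node (nat_lit 125) (.leaf (nat_lit 96)) (.leaf (nat_lit 129))) (.node (nat_lit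 140) (.leaf (nat_lit 133)) (.leaf (nat_lit 96)))) (.node (nat_lit 151) (.node (nat_lit 143) (.leaf (nat_lit 133)) (.leaf (nat_lit 129))) (.node (nat_lit 154) (.leaf (nat_lit 96)) (.leaf (nat_lit 97)))))) (.node (nat_lit 190) (.node (nat_lit 168) (.node (nat_lit 165) (.leaf (nat_lit 66)) (.node (nat_lit 167) (.leaf (nat_lit 96)) (.leaf (nat_lit 97)))) (.node (nat_lit 176) (.node (nat_lit 174) (.leaf (nat_lit 70)) (.leaf (nat_lit 133))) (.node (nat_lit 179) (.leaf (nat_lit 129)) (.leaf (nat_lit 97))))) (.node (nat_lit 212) (.node (nat_lit 193) (.node (nat_lit 192) (.leaf (nat_lit 129)) (.leaf (nat_lit 133))) (.node (nat_lit 201) (.leaf (nat_lit 66)) (.leaf (nat_lit 70)))) (.node (nat_lit 223) (.node (nat_lit 215) (.leaf (nat_lit 97)) (.leaf (nat_lit 66))) (.node (nat_lit 230) (.leaf (nat_lit 70)) (.leaf (nat_lit 96)))))))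
noncomputable def f4M_F : Fm := (.allS LNM (.imp (.mem (.mul (.v (nat_lit 0)) (.v (nat_lit 13))) LNM) (.or (.qf (.eq (.v (nat_lit 0)) (.v (nat_lit 14)))) (.or (.qf (.eq (.v (nat_lit 0)) (.mul (.v (nat_lit 14)) (.v (nat_lit 13))))) (.exG LS (fun cs => f4M_t0.find (Nat.mod (nth (nat_lit 0) cs (nat_lit 0)) (nat_lit 233))) (.qf (.and (.eq (.mul (.v (nat_lit 0)) (.v (nat_lit 1))) (.mul (.v (nat_lit 1)) (.v (nat_lit 0)))) (.or (.and (.mem (.v (nat_lit 0)) LNM) (.and (.mem (.mul (.v (nat_lit 0)) (.v (nat_lit 14))) LNM) (.and (.mem (.mul (.v (nat_lit 0)) (.v (nat_lit 1))) LNM) (.mem (.mul (.v (nat_lit 0)) (.mul (.v (nat_lit 14)) (.v (nat_lit 1)))) LNM)))) (.and (.not (.eq (.mul (.v (nat_lit 0)) (.v (nat_lit 0))) .one)) (.and (.mem (.mul (.mul (.v (nat_lit 0)) (.v (nat_lit 0))) (.v (nat_lit 14))) LNM) (.mem (.mul (.mul (.v (nat_lit 0)) (.v (nat_lit 0))) (.v (nat_lit 1))) LNM)))))))))))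
theorem f4M_chk : Fm.chk o f4M_F cs2 = true := by decide +kernel
theorem f4M {G : Type*} [Group G] (S : HS G) :
    ∀ x, InS S.R LNM x → InS S.R LNM (x * S.u) → x = S.v ∨ x = S.v * S.u ∨ (∃ y, InS S.R LS y ∧ y * x = x * y ∧ (InS S.R LNM (y) ∧ InS S.R LNM (y * S.u) ∧ InS S.R LNM (y * x) ∧ InS S.R LNM (y * (S.u * x)) ∨ y * y ≠ 1 ∧ InS S.R LNM (y * y * S.u) ∧ InS S.R LNM (y * y * x))) :=
  have h : ∀ x, InS S.R LNM x → InS S.R LNM (x * S.u) → x = S.v ∨ x = S.v * S.u ∨ (GoodS S.R LS → LS ≠ [] → ∃ y, InS S.R LS y ∧ y * x = x * y ∧ (InS S.R LNM (y) ∧ InS S.R LNM (y * S.u) ∧ InS S.R LNM (y * x) ∧ InS S.R LNM (y * (S.u * x)) ∨ y * y ≠ 1 ∧ InS S.R LNM (y * y * S.u) ∧ InS S.R LNM (y * y * x))) :=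
    Fm.sound S.μ f4M_F f4M_chk S.reps2
  (fun x h0 => (fun h1 => (Or.imp (fun h2 => h2) (fun h2 => (Or.imp (fun h3 => h3) (fun h3 => (Exists.imp (fun y h4 => ⟨h4.1, ((and_congr Iff.rfl (or_congr (and_congr Iff.rfl (and_congr Iff.rfl (and_congr Iff.rfl Iff.rfl))) (and_congr Iff.rfl (and_congr Iff.rfl Iff.rfl)))).1 h4.2)⟩) (h3 (S.good LS_v) (List.cons_ne_nil _ _)))) h2)) ((h x h0) (Iff.rfl.2 h1)))))
noncomputable def f5M_F : Fm := (.qf (.and (.mem (.v (nat_lit 13)) LNM) (.and (.mem (.mul (.v (nat_lit 13)) (.v (nat_lit 12))) LNM) (.and (.mem (.v (nat_lit 2)) LzM) (.and (.or (.mem (.v (nat_lit 1)) LzM) (.mem (.v (nat_lit 1)) LuM)) (.and (.or (.mem (.v (nat_lit 12)) LzM) (.mem (.v (nat_lit 12)) LuM)) (.and (.or (.mem (.v (nat_lit 4)) LzM) (.mem (.v (nat_lit 4)) LuM)) (.and (.or (.mem (.v (nat_lit 16)) LzM) (.mem (.v (nat_lit 16)) LuM)) (.and (.or (.mem (.v (nat_lit 17)) LzM) (.mem (.v (nat_lit 17)) LuM)) (.or (.mem (.v (nat_lit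 18)) LzM) (.mem (.v (nat_lit 18)) LuM)))))))))))
theorem f5M_chk : Fm.chk o f5M_F cs2 = true := by decide +kernel
theorem f5M {G : Type*} [Group G] (S : HS G) :
    InS S.R LNM (S.v) ∧ InS S.R LNM (S.v * S.u) ∧ InS S.R LzM (S.a25) ∧ (InS S.R LzM (S.a14) ∨ InS S.R LuM (S.a14)) ∧ (InS S.R LzM (S.u) ∨ InS S.R LuM (S.u)) ∧ (InS S.R LzM (S.a24) ∨ InS S.R LuM (S.a24)) ∧ (InS S.R LzM (S.c6) ∨ InS S.R LuM (S.c6)) ∧ (InS S.R LzM (S.c3) ∨ InS S.R LuM (S.c3)) ∧ (InS S.R LzM (S.c5) ∨ InS S.R LuM (S.c5)) :=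
  have h : InS S.R LNM (S.v) ∧ InS S.R LNM (S.v * S.u) ∧ InS S.R LzM (S.a25) ∧ (InS S.R LzM (S.a14) ∨ InS S.R LuM (S.a14)) ∧ (InS S.R LzM (S.u) ∨ InS S.R LuM (S.u)) ∧ (InS S.R LzM (S.a24) ∨ InS S.R LuM (S.a24)) ∧ (InS S.R LzM (S.c6) ∨ InS S.R LuM (S.c6)) ∧ (InS S.R LzM (S.c3) ∨ InS S.R LuM (S.c3)) ∧ (InS S.R LzM (S.c5) ∨ InS S.R LuM (S.c5)) :=
    Fm.sound S.μ f5M_F f5M_chk S.reps2
  ((and_congr Iff.rfl (and_congr Iff.rfl (and_congr Iff.rfl (and_congr (or_congr Iff.rfl Iff.rfl) (and_congr (or_congr Iff.rfl Iff.rfl) (and_congr (or_congr Iff.rfl Iff.rfl) (and_congr (or_congr Iff.rfl Iff.rfl) (and_congr (or_congr Iff.rfl Iff.rfl) (or_congr Iff.rfl Iff.rfl))))))))).1 h)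
theorem ffM {G : Type*} [Group G] (S : HS G) : S.FF LS LzM LuM LNM := ⟨S.f1M, S.f2M, S.f3M, S.f4M, S.f5M⟩
noncomputable def gzML : List (ℕ × List ℕ × List (List ℕ)) := [((nat_lit 17043523), [], []),
  ((nat_lit 17043537), [(nat_lit 12), (nat_lit 9)], [[(nat_lit 0)]]),
  ((nat_lit 17045569), [(nat_lit 11), (nat_lit 6)], [[(nat_lit 0)]]),
  ((nat_lit 17059905), [(nat_lit 11), (nat_lit 6), (nat_lit 12), (nat_lit 9)], [[(nat_lit 0)], [(nat_lit 1)]]),
  ((nat_lit 17059913), [(nat_lit 12), (nat_lit 9), (nat_lit 10), (nat_lit 12)], [[(nat_lit 0)], [(nat_lit 5), (nat_lit 2)]])]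
theorem gzM : gzML.map Prod.fst = LzM ∧ fusK cl2 (AA2 A1 A4) (AA2 B00 C11) 14 (nat_lit 17043523) gzML = true := by decide +kernel
noncomputable def guML : List (ℕ × List ℕ × List (List ℕ)) := [((nat_lit 17045585), [], []),
  ((nat_lit 17059907), [(nat_lit 6), (nat_lit 11), (nat_lit 6)], [[(nat_lit 2), (nat_lit 1), (nat_lit 0)]]),
  ((nat_lit 17125441), [(nat_lit 13), (nat_lit 7), (nat_lit 11), (nat_lit 6)], [[(nat_lit 5), (nat_lit 1)]])]
theorem guM : guML.map Prod.fst = LuM ∧ fusK cl2 (AA2 A1 A4) (AA2 B00 C11) 14 (nat_lit 17045585) guML = true := by decide +kernel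
noncomputable def LzS : List ℕ := [(nat_lit 17043523), (nat_lit 17043537), (nat_lit 17045569), (nat_lit 17059905), (nat_lit 17059913), (nat_lit 17125441)]
theorem LzS_v : allB vH LzS = true := by decide +kernel
noncomputable def LuS : List ℕ := [(nat_lit 17045585), (nat_lit 17059907)]
theorem LuS_v : allB vH LuS = true := by decide +kernel
noncomputable def LNS : List ℕ := [(nat_lit 17045577), (nat_lit 17045579), (nat_lit 17045585), (nat_lit 17045587), (nat_lit 17045593), (nat_lit 17045595), (nat_lit 17051715), (nat_lit 17051723), (nat_lit 17053763), (nat_lit 17053769), (nat_lit 17059907), (nat_lit 17059923), (nat_lit 17061955), (nat_lit 17061969), (nat_lit 17068099), (nat_lit 17068123), (nat_lit 17070147), (nat_lit 17070169), (nat_lit 17109073), (nat_lit 17109075), (nat_lit 17111121), (nat_lit 17111123), (nat_lit 17567811), (nat_lit 17567827), (nat_lit 17584195), (nat_lit 17584211), (nat_lit 17633347), (nat_lit 17633361),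 (nat_lit 17651779), (nat_lit 17651793), (nat_lit 19140677), (nat_lit 19140679), (nat_lit 19140685), (nat_lit 19140687), (nat_lit 19142741), (nat_lit 19142743), (nat_lit 19142749), (nat_lit 19142751), (nat_lit 19206213), (nat_lit 19206215), (nat_lit 19206237), (nat_lit 19206239), (nat_lit 19208269), (nat_lit 19208271), (nat_lit 19208277), (nat_lit 19208279)]
theorem LNS_v : allB vH LNS = true := by decide +kernel
noncomputable def f1S_t0 : ST := (.node (nat_lit 275) (.node (nat_lit 103) (.node (nat_lit 47) (.node (nat_lit 21) (.node (nat_lit 9) (.node (nat_lit 5) (.leaf (nat_lit 3912)) (.leaf (nat_lit 3968))) (.node (nat_lit 11) (.leaf (nat_lit 1416)) (.leaf (nat_lit 3912)))) (.node (nat_lit 37) (.node (nat_lit 31) (.leaf (nat_lit 520)) (.leaf (nat_lit 3208))) (.node (nat_lit 39) (.leaf (nat_lit 520)) (.node (nat_lit 45) (.leaf (nat_lit 3336)) (.leaf (nat_lit 648)))))) (.node (nat_lit 71) (.node (nat_lit 59) (.node (nat_lit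 57) (.leaf (nat_lit 3208)) (.leaf (nat_lit 512))) (.node (nat_lit 61) (.leaf (nat_lit 3200)) (.node (nat_lit 69) (.leaf (nat_lit 1152)) (.leaf (nat_lit 1216))))) (.node (nat_lit 85) (.node (nat_lit 77) (.leaf (nat_lit 6592)) (.leaf (nat_lit 6528))) (.node (nat_lit 87) (.leaf (nat_lit 3904)) (.node (nat_lit 101) (.leaf (nat_lit 9280)) (.leaf (nat_lit 1296))))))) (.node (nat_lit 187) (.node (nat_lit 173) (.node (nat_lit 119) (.node (nat_lit 117) (.leaf (nat_lit 9360)) (.leaf (nat_lit 6672))) (.node (nat_lit 141) (.leaf (nat_lit 3984)) (.node (nat_lit 143) (.leaf (nat_lit 128)) (.leaf (nat_lit 5504))))) (.node (nat_lit 181) (.node (nat_lit 175) (.leaf (nat_lit 1152)) (.leaf (nat_lit 3840))) (.node (nat_lit 183) (.leaf (nat_lit 1232)) (.node (nat_lit 185) (.leaf (nat_lit 6608)) (.leaf (nat_lit 1280)))))) (.node (nat_lit 201) (.node (nat_lit 191) (.node (nat_lit 189) (.leaf (nat_lit 9344)) (.leaf (nat_lit 6528))) (.node (nat_lit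 197) (.leaf (nat_lit 9216)) (.node (nat_lit 199) (.leaf (nat_lit 9296)) (.leaf (nat_lit 3920))))) (.node (nat_lit 253) (.node (nat_lit 203) (.leaf (nat_lit 3968)) (.leaf (nat_lit 6656))) (.node (nat_lit 255) (.leaf (nat_lit 896)) (.node (nat_lit 257) (.leaf (nat_lit 3584)) (.leaf (nat_lit 1160)))))))) (.node (nat_lit 411) (.node (nat_lit 367) (.node (nat_lit 331) (.node (nat_lit 315) (.node (nat_lit 297) (.leaf (nat_lit 6536)) (.leaf (nat_lit 1288))) (.node (nat_lit 321) (.leaf (nat_lit 3976)) (.leaf (nat_lit 1984)))) (.node (nat_lit 339) (.node (nat_lit 337) (.leaf (nat_lit 1988)) (.leaf (nat_lit 4672))) (.node (nat_lit 345) (.leaf (nat_lit 4676)) (.node (nat_lit 357) (.leaf (nat_lit 4672)) (.leaf (nat_lit 1216)))))) (.node (nat_lit 385) (.node (nat_lit 371) (.node (nat_lit 369) (.leaf (nat_lit 1220)) (.leaf (nat_lit 1168))) (.node (nat_lit 373) (.leaf (nat_lit 3856)) (.node (nat_lit 383) (.leaf (nat_lit 3904)) (.leaf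 (nat_lit 3908))))) (.node (nat_lit 393) (.node (nat_lit 387) (.leaf (nat_lit 9232)) (.leaf (nat_lit 6544))) (.node (nat_lit 401) (.leaf (nat_lit 512)) (.node (nat_lit 409) (.leaf (nat_lit 3200)) (.leaf (nat_lit 512))))))) (.node (nat_lit 447) (.node (nat_lit 437) (.node (nat_lit 419) (.node (nat_lit 417) (.leaf (nat_lit 516)) (.leaf (nat_lit 3200))) (.node (nat_lit 431) (.leaf (nat_lit 3204)) (.node (nat_lit 433) (.leaf (nat_lit 0)) (.leaf (nat_lit 1992))))) (.node (nat_lit 441) (.node (nat_lit 439) (.leaf (nat_lit 384)) (.leaf (nat_lit 392))) (.node (nat_lit 443) (.leaf (nat_lit 1992)) (.node (nat_lit 445) (.leaf (nat_lit 4808)) (.leaf (nat_lit 1152)))))) (.node (nat_lit 459) (.node (nat_lit 451) (.node (nat_lit 449) (.leaf (nat_lit 1160)) (.leaf (nat_lit 2120))) (.node (nat_lit 453) (.leaf (nat_lit 4680)) (.node (nat_lit 455) (.leaf (nat_lit 1920)) (.leaf (nat_lit 1928))))) (.node (nat_lit 473) (.node (nat_lit 469)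 (.leaf (nat_lit 4680)) (.leaf (nat_lit 1224))) (.node (nat_lit 477) (.leaf (nat_lit 1280)) (.node (nat_lit 479) (.leaf (nat_lit 1224)) (.leaf (nat_lit 4104)))))))))
noncomputable def f1S_F : Fm := (.allS LS (.imp (.eq (.mul (.v (nat_lit 0)) (.v (nat_lit 0))) .one) (.or (.qf (.eq (.v (nat_lit 0)) .one)) (.or (.qf (.mem (.v (nat_lit 0)) LNS)) (.exF LH (fun cs => f1S_t0.find (Nat.mod (nth (nat_lit 0) cs (nat_lit 0)) (nat_lit 484))) (.qf (.mem (.mul (.mul (.v (nat_lit 0)) (.v (nat_lit 1))) (.inv (.v (nat_lit 0)))) LzS)))))))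
theorem f1S_chk : Fm.chk o f1S_F cs2 = true := by decide +kernel
theorem f1S {G : Type*} [Group G] (S : HS G) :
    ∀ x, InS S.R LS x → x * x = 1 → x = 1 ∨ InS S.R LNS (x) ∨ (∃ g ∈ S.H, InS S.R LzS (g * x * g⁻¹)) :=
  have h : ∀ x, InS S.R LS x → x * x = 1 → x = 1 ∨ InS S.R LNS (x) ∨ (H0.PM.Good o S.R LH → prods o LH o.one ≠ [] → ∃ g, InL o S.R LH g ∧ InS S.R LzS (g * x * g⁻¹)) :=
    Fm.sound S.μ f1S_F f1S_chk S.reps2
  (fun x h0 => (fun h1 => (Or.imp (fun h2 => h2) (fun h2 => (Or.imp (fun h3 => (Iff.rfl.1 h3)) (fun h3 => (Exists.imp (fun g h4 => ⟨S.EH.iff.1 h4.1, (Iff.rfl.1 h4.2)⟩) (h3 S.EH.good S.EH.ne))) h2)) ((h x h0) h1))))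
noncomputable def f2S_t0 : ST := (.node (nat_lit 151) (.node (nat_lit 92) (.node (nat_lit 57) (.node (nat_lit 33) (.node (nat_lit 31) (.leaf (nat_lit 3976)) (.leaf (nat_lit 1280))) (.node (nat_lit 49) (.leaf (nat_lit 3968)) (.node (nat_lit 55) (.leaf (nat_lit 1984)) (.leaf (nat_lit 960))))) (.node (nat_lit 73) (.node (nat_lit 63) (.leaf (nat_lit 3648)) (.node (nat_lit 65) (.leaf (nat_lit 1664)) (.leaf (nat_lit 4352)))) (.node (nat_lit 74) (.leaf (nat_lit 4672)) (.node (nat_lit 82) (.leaf (nat_lit 512)) (.leaf (nat_lit 3200)))))) (.node (nat_lit 133) (.node (nat_lit 125) (.node (nat_lit 106) (.leaf (nat_lit 1224)) (.node (nat_lit 123) (.leaf (nat_lit 3912)) (.leaf (nat_lit 512)))) (.node (nat_lit 128) (.leaf (nat_lit 3200)) (.node (nat_lit 131) (.leaf (nat_lit 1160)) (.leaf (nat_lit 1216))))) (.node (nat_lit 139) (.node (nat_lit 135) (.leaf (nat_lit 3904)) (.node (nat_lit 137) (.leaf (nat_lit 1152)) (.leaf (nat_lit 6528))))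 (.node (nat_lit 141) (.leaf (nat_lit 1984)) (.node (nat_lit 142) (.leaf (nat_lit 4672)) (.leaf (nat_lit 6536))))))) (.node (nat_lit 214) (.node (nat_lit 173) (.node (nat_lit 163) (.node (nat_lit 153) (.leaf (nat_lit 256)) (.leaf (nat_lit 5632))) (.node (nat_lit 165) (.leaf (nat_lit 1600)) (.node (nat_lit 171) (.leaf (nat_lit 4288)) (.leaf (nat_lit 2368))))) (.node (nat_lit 196) (.node (nat_lit 175) (.leaf (nat_lit 5056)) (.node (nat_lit 177) (.leaf (nat_lit 2304)) (.leaf (nat_lit 7680)))) (.node (nat_lit 203) (.leaf (nat_lit 1216)) (.node (nat_lit 212) (.leaf (nat_lit 1280)) (.leaf (nat_lit 3904)))))) (.node (nat_lit 245) (.node (nat_lit 236) (.node (nat_lit 219) (.leaf (nat_lit 1992)) (.node (nat_lit 228) (.leaf (nat_lit 3968)) (.leaf (nat_lit 1152)))) (.node (nat_lit 239) (.leaf (nat_lit 4680)) (.node (nat_lit 244) (.leaf (nat_lit 520)) (.leaf (nat_lit 6528))))) (.node (nat_lit 259) (.node (nat_lit 251) (.leaf (nat_lit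 3208)) (.node (nat_lit 253) (.leaf (nat_lit 0)) (.leaf (nat_lit 10752)))) (.node (nat_lit 261) (.leaf (nat_lit 768)) (.node (nat_lit 268) (.leaf (nat_lit 11520)) (.leaf (nat_lit 1288))))))))
noncomputable def f2S_F : Fm := (.allS LNS (.exF LH (fun cs => f2S_t0.find (Nat.mod (nth (nat_lit 0) cs (nat_lit 0)) (nat_lit 269))) (.qf (.mem (.mul (.mul (.v (nat_lit 0)) (.v (nat_lit 1))) (.inv (.v (nat_lit 0)))) LuS))))
theorem f2S_chk : Fm.chk o f2S_F cs2 = true := by decide +kernel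
theorem f2S {G : Type*} [Group G] (S : HS G) :
    ∀ x, InS S.R LNS x → ∃ g ∈ S.H, InS S.R LuS (g * x * g⁻¹) :=
  have h : ∀ x, InS S.R LNS x → (H0.PM.Good o S.R LH → prods o LH o.one ≠ [] → ∃ g, InL o S.R LH g ∧ InS S.R LuS (g * x * g⁻¹)) :=
    Fm.sound S.μ f2S_F f2S_chk S.reps2
  (fun x h0 => (Exists.imp (fun g h1 => ⟨S.EH.iff.1 h1.1, (Iff.rfl.1 h1.2)⟩) ((h x h0) S.EH.good S.EH.ne)))
noncomputable def f3S_F : Fm := (.allS LS (.imp (.eq (.mul (.v (nat_lit 0)) (.v (nat_lit 14))) (.mul (.v (nat_lit 14)) (.v (nat_lit 0)))) (.qf (.and (.not (.and (.mem (.v (nat_lit 0)) LNS) (.and (.mem (.mul (.v (nat_lit 0)) (.v (nat_lit 13))) LNS) (.and (.mem (.mul (.v (nat_lit 0)) (.v (nat_lit 14))) LNS) (.mem (.mul (.v (nat_lit 0)) (.mul (.v (nat_lit 13)) (.v (nat_lit 14)))) LNS))))) (.not (.and (.not (.eq (.mul (.v (nat_lit 0)) (.v (nat_lit 0))) .one)) (.and (.mem (.mul (.mul (.v (nat_lit 0)) (.v (nat_lit 0))) (.v (nat_lit 13))) LNS)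 (.mem (.mul (.mul (.v (nat_lit 0)) (.v (nat_lit 0))) (.v (nat_lit 14))) LNS))))))))
theorem f3S_chk : Fm.chk o f3S_F cs2 = true := by decide +kernel
theorem f3S {G : Type*} [Group G] (S : HS G) :
    ∀ y, InS S.R LS y → y * S.v = S.v * y → ¬ (InS S.R LNS (y) ∧ InS S.R LNS (y * S.u) ∧ InS S.R LNS (y * S.v) ∧ InS S.R LNS (y * (S.u * S.v))) ∧ ¬ (y * y ≠ 1 ∧ InS S.R LNS (y * y * S.u) ∧ InS S.R LNS (y * y * S.v)) :=
  have h : ∀ y, InS S.R LS y → y * S.v = S.v * y → ¬ (InS S.R LNS (y) ∧ InS S.R LNS (y * S.u) ∧ InS S.R LNS (y * S.v) ∧ InS S.R LNS (y * (S.u * S.v))) ∧ ¬ (y * y ≠ 1 ∧ InS S.R LNS (y * y * S.u) ∧ InS S.R LNS (y * y * S.v)) :=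
    Fm.sound S.μ f3S_F f3S_chk S.reps2
  (fun y h0 => (fun h1 => ((and_congr (not_congr (and_congr Iff.rfl (and_congr Iff.rfl (and_congr Iff.rfl Iff.rfl)))) (not_congr (and_congr Iff.rfl (and_congr Iff.rfl Iff.rfl)))).1 ((h y h0) h1))))
noncomputable def f4S_t0 : ST := (.node (nat_lit 12) (.node (nat_lit 10) (.node (nat_lit 6) (.leaf (nat_lit 66)) (.leaf (nat_lit 70))) (.node (nat_lit 11) (.leaf (nat_lit 66)) (.leaf (nat_lit 70)))) (.node (nat_lit 15) (.node (nat_lit 13) (.leaf (nat_lit 66)) (.leaf (nat_lit 70))) (.node (nat_lit 18) (.leaf (nat_lit 66)) (.leaf (nat_lit 70)))))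
noncomputable def f4S_F : Fm := (.allS LNS (.imp (.mem (.mul (.v (nat_lit 0)) (.v (nat_lit 13))) LNS) (.or (.qf (.eq (.v (nat_lit 0)) (.v (nat_lit 14)))) (.or (.qf (.eq (.v (nat_lit 0)) (.mul (.v (nat_lit 14)) (.v (nat_lit 13))))) (.exG LS (fun cs => f4S_t0.find (Nat.mod (nth (nat_lit 0) cs (nat_lit 0)) (nat_lit 29))) (.qf (.and (.eq (.mul (.v (nat_lit 0)) (.v (nat_lit 1))) (.mul (.v (nat_lit 1)) (.v (nat_lit 0)))) (.or (.and (.mem (.v (nat_lit 0)) LNS) (.and (.mem (.mul (.v (nat_lit 0)) (.v (nat_lit 14))) LNS) (.and (.mem (.mul (.v (nat_lit 0)) (.v (nat_lit 1))) LNS) (.mem (.mul (.v (nat_lit 0)) (.mul (.v (nat_lit 14)) (.v (nat_lit 1)))) LNS)))) (.and (.not (.eq (.mul (.v (nat_lit 0)) (.v (nat_lit 0))) .one)) (.and (.mem (.mul (.mul (.v (nat_lit 0)) (.v (nat_lit 0))) (.v (nat_lit 14))) LNS) (.mem (.mul (.mul (.v (nat_lit 0)) (.v (nat_lit 0))) (.v (nat_lit 1))) LNS)))))))))))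
theorem f4S_chk : Fm.chk o f4S_F cs2 = true := by decide +kernel
theorem f4S {G : Type*} [Group G] (S : HS G) :
    ∀ x, InS S.R LNS x → InS S.R LNS (x * S.u) → x = S.v ∨ x = S.v * S.u ∨ (∃ y, InS S.R LS y ∧ y * x = x * y ∧ (InS S.R LNS (y) ∧ InS S.R LNS (y * S.u) ∧ InS S.R LNS (y * x) ∧ InS S.R LNS (y * (S.u * x)) ∨ y * y ≠ 1 ∧ InS S.R LNS (y * y * S.u) ∧ InS S.R LNS (y * y * x))) :=
  have h : ∀ x, InS S.R LNS x → InS S.R LNS (x * S.u) → x = S.v ∨ x = S.v * S.u ∨ (GoodS S.R LS → LS ≠ [] → ∃ y, InS S.R LS y ∧ y * x = x * y ∧ (InS S.R LNS (y) ∧ InS S.R LNS (y * S.u) ∧ InS S.R LNS (y * x) ∧ InS S.R LNS (y * (S.u * x)) ∨ y * y ≠ 1 ∧ InS S.R LNS (y * y * S.u) ∧ InS S.R LNS (y * y * x))) :=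
    Fm.sound S.μ f4S_F f4S_chk S.reps2
  (fun x h0 => (fun h1 => (Or.imp (fun h2 => h2) (fun h2 => (Or.imp (fun h3 => h3) (fun h3 => (Exists.imp (fun y h4 => ⟨h4.1, ((and_congr Iff.rfl (or_congr (and_congr Iff.rfl (and_congr Iff.rfl (and_congr Iff.rfl Iff.rfl))) (and_congr Iff.rfl (and_congr Iff.rfl Iff.rfl)))).1 h4.2)⟩) (h3 (S.good LS_v) (List.cons_ne_nil _ _)))) h2)) ((h x h0) (Iff.rfl.2 h1)))))
noncomputable def f5S_F : Fm := (.qf (.and (.mem (.v (nat_lit 13)) LNS) (.and (.mem (.mul (.v (nat_lit 13)) (.v (nat_lit 12))) LNS) (.and (.mem (.v (nat_lit 2)) LzS) (.and (.or (.mem (.v (nat_lit 1)) LzS) (.mem (.v (nat_lit 1)) LuS)) (.and (.or (.mem (.v (nat_lit 12)) LzS) (.mem (.v (nat_lit 12)) LuS)) (.and (.or (.mem (.v (nat_lit 4)) LzS) (.mem (.v (nat_lit 4)) LuS)) (.and (.or (.mem (.v (nat_lit 16)) LzS) (.mem (.v (nat_lit 16)) LuS)) (.and (.or (.mem (.v (nat_lit 17)) LzS) (.mem (.v (nat_lit 17)) LuS)) (.or (.mem (.v (nat_lit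 18)) LzS) (.mem (.v (nat_lit 18)) LuS)))))))))))
theorem f5S_chk : Fm.chk o f5S_F cs2 = true := by decide +kernel
theorem f5S {G : Type*} [Group G] (S : HS G) :
    InS S.R LNS (S.v) ∧ InS S.R LNS (S.v * S.u) ∧ InS S.R LzS (S.a25) ∧ (InS S.R LzS (S.a14) ∨ InS S.R LuS (S.a14)) ∧ (InS S.R LzS (S.u) ∨ InS S.R LuS (S.u)) ∧ (InS S.R LzS (S.a24) ∨ InS S.R LuS (S.a24)) ∧ (InS S.R LzS (S.c6) ∨ InS S.R LuS (S.c6)) ∧ (InS S.R LzS (S.c3) ∨ InS S.R LuS (S.c3)) ∧ (InS S.R LzS (S.c5) ∨ InS S.R LuS (S.c5)) :=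
  have h : InS S.R LNS (S.v) ∧ InS S.R LNS (S.v * S.u) ∧ InS S.R LzS (S.a25) ∧ (InS S.R LzS (S.a14) ∨ InS S.R LuS (S.a14)) ∧ (InS S.R LzS (S.u) ∨ InS S.R LuS (S.u)) ∧ (InS S.R LzS (S.a24) ∨ InS S.R LuS (S.a24)) ∧ (InS S.R LzS (S.c6) ∨ InS S.R LuS (S.c6)) ∧ (InS S.R LzS (S.c3) ∨ InS S.R LuS (S.c3)) ∧ (InS S.R LzS (S.c5) ∨ InS S.R LuS (S.c5)) :=
    Fm.sound S.μ f5S_F f5S_chk S.reps2
  ((and_congr Iff.rfl (and_congr Iff.rfl (and_congr Iff.rfl (and_congr (or_congr Iff.rfl Iff.rfl) (and_congr (or_congr Iff.rfl Iff.rfl) (and_congr (or_congr Iff.rfl Iff.rfl) (and_congr (or_congr Iff.rfl Iff.rfl) (and_congr (or_congr Iff.rfl Iff.rfl) (or_congr Iff.rfl Iff.rfl))))))))).1 h)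
theorem ffS {G : Type*} [Group G] (S : HS G) : S.FF LS LzS LuS LNS := ⟨S.f1S, S.f2S, S.f3S, S.f4S, S.f5S⟩
noncomputable def gzSL : List (ℕ × List ℕ × List (List ℕ)) := [((nat_lit 17043523), [], []),
  ((nat_lit 17043537), [(nat_lit 12), (nat_lit 9)], [[(nat_lit 0)]]),
  ((nat_lit 17045569), [(nat_lit 11), (nat_lit 6)], [[(nat_lit 0)]]),
  ((nat_lit 17059905), [(nat_lit 11), (nat_lit 6), (nat_lit 12), (nat_lit 9)], [[(nat_lit 0)], [(nat_lit 1)]]),
  ((nat_lit 17059913), [(nat_lit 12), (nat_lit 9), (nat_lit 10), (nat_lit 12)], [[(nat_lit 0)], [(nat_lit 5), (nat_lit 2)]]),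
  ((nat_lit 17125441), [(nat_lit 11), (nat_lit 6), (nat_lit 13), (nat_lit 11)], [[(nat_lit 0)], [(nat_lit 5), (nat_lit 2)]])]
theorem gzS : gzSL.map Prod.fst = LzS ∧ fusK cl2 (AA2 A1 A4) (AA2 B11 C11) 14 (nat_lit 17043523) gzSL = true := by decide +kernel
noncomputable def guSL : List (ℕ × List ℕ × List (List ℕ)) := [((nat_lit 17045585), [], []),
  ((nat_lit 17059907), [(nat_lit 6), (nat_lit 11), (nat_lit 6)], [[(nat_lit 2), (nat_lit 1), (nat_lit 0)]])]
theorem guS : guSL.map Prod.fst = LuS ∧ fusK cl2 (AA2 A1 A4) (AA2 B11 C11) 14 (nat_lit 17045585) guSL = true := by decide +kernel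

end HS
end H1.Hd
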