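import Cfsg.Agent.H1.Hd3

/-! Named elements and first facts (generated). -/

set_option autoImplicit false
set_option maxRecDepth 100000
set_option maxHeartbeats 4000000
set_option linter.unusedVariables false

namespace H1.Hd
open H0.PM H16 Subgroup

namespace HS
section
variable {G : Type*} [Group G] (S : HS G)
noncomputable def u : G := S.el (nat_lit 17045585)
noncomputable def v : G := S.el (nat_lit 17061955)
noncomputable def p : G := S.el (nat_lit 25694273)
noncomputable def q : G := S.el (nat_lit 9179201)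
noncomputable def c6 : G := S.el (nat_lit 17059907)
noncomputable def c3 : G := S.el (nat_lit 17059913)
noncomputable def c5 : G := S.el (nat_lit 17125441)
noncomputable def s0 : G := S.el (nat_lit 19140677)
noncomputable def x0 : G := S.el (nat_lit 19689565)
end
noncomputable def cs2 : List ℕ := [(nat_lit 17043523), (nat_lit 17043537), (nat_lit 17045569), (nat_lit 17043529), (nat_lit 17059905), (nat_lit 17109057), (nat_lit 17043525), (nat_lit 17051713), (nat_lit 17567809), (nat_lit 19140673), (nat_lit 25432129), (nat_lit 17174593), (nat_lit 17045585), (nat_lit 17061955), (nat_lit 25694273), (nat_lit 9179201), (nat_lit 17059907), (nat_lit 17059913), (nat_lit 17125441), (nat_lit 19140677), (nat_lit 19689565)]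
theorem reps2 {G : Type*} [Group G] (S : HS G) : Reps S.R cs2 [S.z, S.a14, S.a25, S.a13, S.a24, S.a35, S.a12, S.a23, S.a34, S.a45, S.b3, S.b2, S.u, S.v, S.p, S.q, S.c6, S.c3, S.c5, S.s0, S.x0] :=
  S.reps_of (by decide +kernel)
theorem R_z {G : Type*} [Group G] (S : HS G) : S.R (nat_lit 17043523) S.z := S.R_el (by decide +kernel)
theorem m_z {G : Type*} [Group G] (S : HS G) : S.z ∈ S.H := S.R_z.mem
theorem R_a14 {G : Type*} [Group G] (S : HS G) : S.R (nat_lit 17043537) S.a14 := S.R_el (by decide +kernel)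
theorem m_a14 {G : Type*} [Group G] (S : HS G) : S.a14 ∈ S.H := S.R_a14.mem
theorem R_a25 {G : Type*} [Group G] (S : HS G) : S.R (nat_lit 17045569) S.a25 := S.R_el (by decide +kernel)
theorem m_a25 {G : Type*} [Group G] (S : HS G) : S.a25 ∈ S.H := S.R_a25.mem
theorem R_a13 {G : Type*} [Group G] (S : HS G) : S.R (nat_lit 17043529) S.a13 := S.R_el (by decide +kernel)
theorem m_a13 {G : Type*} [Group G] (S : HS G) : S.a13 ∈ S.H := S.R_a13.mem
theorem R_a24 {G : Type*} [Group G] (S : HS G) : S.R (nat_lit 17059905) S.a24 := S.R_el (by decide +kernel)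
theorem m_a24 {G : Type*} [Group G] (S : HS G) : S.a24 ∈ S.H := S.R_a24.mem
theorem R_a35 {G : Type*} [Group G] (S : HS G) : S.R (nat_lit 17109057) S.a35 := S.R_el (by decide +kernel)
theorem m_a35 {G : Type*} [Group G] (S : HS G) : S.a35 ∈ S.H := S.R_a35.mem
theorem R_a12 {G : Type*} [Group G] (S : HS G) : S.R (nat_lit 17043525) S.a12 := S.R_el (by decide +kernel)
theorem m_a12 {G : Type*} [Group G] (S : HS G) : S.a12 ∈ S.H := S.R_a12.mem
theorem R_a23 {G : Type*} [Group G] (S : HS G) : S.R (nat_lit 17051713) S.a23 := S.R_el (by decide +kernel)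
theorem m_a23 {G : Type*} [Group G] (S : HS G) : S.a23 ∈ S.H := S.R_a23.mem
theorem R_a34 {G : Type*} [Group G] (S : HS G) : S.R (nat_lit 17567809) S.a34 := S.R_el (by decide +kernel)
theorem m_a34 {G : Type*} [Group G] (S : HS G) : S.a34 ∈ S.H := S.R_a34.mem
theorem R_a45 {G : Type*} [Group G] (S : HS G) : S.R (nat_lit 19140673) S.a45 := S.R_el (by decide +kernel)
theorem m_a45 {G : Type*} [Group G] (S : HS G) : S.a45 ∈ S.H := S.R_a45.mem
theorem R_b3 {G : Type*} [Group G] (S : HS G) : S.R (nat_lit 25432129) S.b3 := S.R_el (by decide +kernel)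
theorem m_b3 {G : Type*} [Group G] (S : HS G) : S.b3 ∈ S.H := S.R_b3.mem
theorem R_b2 {G : Type*} [Group G] (S : HS G) : S.R (nat_lit 17174593) S.b2 := S.R_el (by decide +kernel)
theorem m_b2 {G : Type*} [Group G] (S : HS G) : S.b2 ∈ S.H := S.R_b2.mem
theorem R_u {G : Type*} [Group G] (S : HS G) : S.R (nat_lit 17045585) S.u := S.R_el (by decide +kernel)
theorem m_u {G : Type*} [Group G] (S : HS G) : S.u ∈ S.H := S.R_u.mem
theorem R_v {G : Type*} [Group G] (S : HS G) : S.R (nat_lit 17061955) S.v := S.R_el (by decide +kernel)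
theorem m_v {G : Type*} [Group G] (S : HS G) : S.v ∈ S.H := S.R_v.mem
theorem R_p {G : Type*} [Group G] (S : HS G) : S.R (nat_lit 25694273) S.p := S.R_el (by decide +kernel)
theorem m_p {G : Type*} [Group G] (S : HS G) : S.p ∈ S.H := S.R_p.mem
theorem R_q {G : Type*} [Group G] (S : HS G) : S.R (nat_lit 9179201) S.q := S.R_el (by decide +kernel)
theorem m_q {G : Type*} [Group G] (S : HS G) : S.q ∈ S.H := S.R_q.mem
theorem R_c6 {G : Type*} [Group G] (S : HS G) : S.R (nat_lit 17059907) S.c6 := S.R_el (by decide +kernel)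
theorem m_c6 {G : Type*} [Group G] (S : HS G) : S.c6 ∈ S.H := S.R_c6.mem
theorem R_c3 {G : Type*} [Group G] (S : HS G) : S.R (nat_lit 17059913) S.c3 := S.R_el (by decide +kernel)
theorem m_c3 {G : Type*} [Group G] (S : HS G) : S.c3 ∈ S.H := S.R_c3.mem
theorem R_c5 {G : Type*} [Group G] (S : HS G) : S.R (nat_lit 17125441) S.c5 := S.R_el (by decide +kernel)
theorem m_c5 {G : Type*} [Group G] (S : HS G) : S.c5 ∈ S.H := S.R_c5.mem
theorem R_s0 {G : Type*} [Group G] (S : HS G) : S.R (nat_lit 19140677) S.s0 := S.R_el (by decide +kernel)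
theorem m_s0 {G : Type*} [Group G] (S : HS G) : S.s0 ∈ S.H := S.R_s0.mem
theorem R_x0 {G : Type*} [Group G] (S : HS G) : S.R (nat_lit 19689565) S.x0 := S.R_el (by decide +kernel)
theorem m_x0 {G : Type*} [Group G] (S : HS G) : S.x0 ∈ S.H := S.R_x0.mem
noncomputable def e_u_F : Fm := (.qf (.eq (.v (nat_lit 12)) (.mul (.v (nat_lit 1)) (.v (nat_lit 2)))))
theorem e_u_chk : Fm.chk o e_u_F cs2 = true := by decide +kernel
theorem e_u {G : Type*} [Group G] (S : HS G) :
    S.u = S.a14 * S.a25 :=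
  Fm.sound S.μ e_u_F e_u_chk S.reps2
noncomputable def e_v_F : Fm := (.qf (.eq (.v (nat_lit 13)) (.mul (.mul (.v (nat_lit 4)) (.v (nat_lit 2))) (.v (nat_lit 0)))))
theorem e_v_chk : Fm.chk o e_v_F cs2 = true := by decide +kernel
theorem e_v {G : Type*} [Group G] (S : HS G) :
    S.v = S.a24 * S.a25 * S.z :=
  Fm.sound S.μ e_v_F e_v_chk S.reps2
noncomputable def e_p_F : Fm := (.qf (.eq (.v (nat_lit 14)) (.mul (.v (nat_lit 8)) (.v (nat_lit 10)))))
theorem e_p_chk : Fm.chk o e_p_F cs2 = true := by decide +kernel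
theorem e_p {G : Type*} [Group G] (S : HS G) :
    S.p = S.a34 * S.b3 :=
  Fm.sound S.μ e_p_F e_p_chk S.reps2
noncomputable def e_q_F : Fm := (.qf (.eq (.v (nat_lit 15)) (.mul (.v (nat_lit 10)) (.v (nat_lit 8)))))
theorem e_q_chk : Fm.chk o e_q_F cs2 = true := by decide +kernel
theorem e_q {G : Type*} [Group G] (S : HS G) :
    S.q = S.b3 * S.a34 :=
  Fm.sound S.μ e_q_F e_q_chk S.reps2
noncomputable def e_c6_F : Fm := (.qf (.eq (.v (nat_lit 16)) (.mul (.v (nat_lit 4)) (.v (nat_lit 0)))))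
theorem e_c6_chk : Fm.chk o e_c6_F cs2 = true := by decide +kernel
theorem e_c6 {G : Type*} [Group G] (S : HS G) :
    S.c6 = S.a24 * S.z :=
  Fm.sound S.μ e_c6_F e_c6_chk S.reps2
noncomputable def e_c3_F : Fm := (.qf (.eq (.v (nat_lit 17)) (.mul (.v (nat_lit 3)) (.v (nat_lit 4)))))
theorem e_c3_chk : Fm.chk o e_c3_F cs2 = true := by decide +kernel
theorem e_c3 {G : Type*} [Group G] (S : HS G) :
    S.c3 = S.a13 * S.a24 :=
  Fm.sound S.μ e_c3_F e_c3_chk S.reps2
noncomputable def e_c5_F : Fm := (.qf (.eq (.v (nat_lit 18)) (.mul (.v (nat_lit 4)) (.v (nat_lit 5)))))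
theorem e_c5_chk : Fm.chk o e_c5_F cs2 = true := by decide +kernel
theorem e_c5 {G : Type*} [Group G] (S : HS G) :
    S.c5 = S.a24 * S.a35 :=
  Fm.sound S.μ e_c5_F e_c5_chk S.reps2
noncomputable def e_s0_F : Fm := (.qf (.eq (.v (nat_lit 19)) (.mul (.v (nat_lit 6)) (.v (nat_lit 9)))))
theorem e_s0_chk : Fm.chk o e_s0_F cs2 = true := by decide +kernel
theorem e_s0 {G : Type*} [Group G] (S : HS G) :
    S.s0 = S.a12 * S.a45 :=
  Fm.sound S.μ e_s0_F e_s0_chk S.reps2
noncomputable def e_x0_F : Fm := (.qf (.eq (.v (nat_lit 20)) (.mul (.mul (.mul (.v (nat_lit 6)) (.v (nat_lit 9))) (.v (nat_lit 7))) (.v (nat_lit 8)))))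
theorem e_x0_chk : Fm.chk o e_x0_F cs2 = true := by decide +kernel
theorem e_x0 {G : Type*} [Group G] (S : HS G) :
    S.x0 = S.a12 * S.a45 * S.a23 * S.a34 :=
  Fm.sound S.μ e_x0_F e_x0_chk S.reps2
noncomputable def sq_z_F : Fm := (.qf (.eq (.mul (.v (nat_lit 0)) (.v (nat_lit 0))) .one))
theorem sq_z_chk : Fm.chk o sq_z_F cs2 = true := by decide +kernel
theorem sq_z {G : Type*} [Group G] (S : HS G) :
    S.z * S.z = 1 :=
  Fm.sound S.μ sq_z_F sq_z_chk S.reps2
noncomputable def sq_a14_F : Fm := (.qf (.eq (.mul (.v (nat_lit 1)) (.v (nat_lit 1))) .one))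
theorem sq_a14_chk : Fm.chk o sq_a14_F cs2 = true := by decide +kernel
theorem sq_a14 {G : Type*} [Group G] (S : HS G) :
    S.a14 * S.a14 = 1 :=
  Fm.sound S.μ sq_a14_F sq_a14_chk S.reps2
noncomputable def sq_a25_F : Fm := (.qf (.eq (.mul (.v (nat_lit 2)) (.v (nat_lit 2))) .one))
theorem sq_a25_chk : Fm.chk o sq_a25_F cs2 = true := by decide +kernel
theorem sq_a25 {G : Type*} [Group G] (S : HS G) :
    S.a25 * S.a25 = 1 :=
  Fm.sound S.μ sq_a25_F sq_a25_chk S.reps2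
noncomputable def sq_a13_F : Fm := (.qf (.eq (.mul (.v (nat_lit 3)) (.v (nat_lit 3))) .one))
theorem sq_a13_chk : Fm.chk o sq_a13_F cs2 = true := by decide +kernel
theorem sq_a13 {G : Type*} [Group G] (S : HS G) :
    S.a13 * S.a13 = 1 :=
  Fm.sound S.μ sq_a13_F sq_a13_chk S.reps2
noncomputable def sq_a24_F : Fm := (.qf (.eq (.mul (.v (nat_lit 4)) (.v (nat_lit 4))) .one))
theorem sq_a24_chk : Fm.chk o sq_a24_F cs2 = true := by decide +kernel
theorem sq_a24 {G : Type*} [Group G] (S : HS G) :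
    S.a24 * S.a24 = 1 :=
  Fm.sound S.μ sq_a24_F sq_a24_chk S.reps2
noncomputable def sq_a35_F : Fm := (.qf (.eq (.mul (.v (nat_lit 5)) (.v (nat_lit 5))) .one))
theorem sq_a35_chk : Fm.chk o sq_a35_F cs2 = true := by decide +kernel
theorem sq_a35 {G : Type*} [Group G] (S : HS G) :
    S.a35 * S.a35 = 1 :=
  Fm.sound S.μ sq_a35_F sq_a35_chk S.reps2
noncomputable def sq_a12_F : Fm := (.qf (.eq (.mul (.v (nat_lit 6)) (.v (nat_lit 6))) .one))
theorem sq_a12_chk : Fm.chk o sq_a12_F cs2 = true := by decide +kernel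
theorem sq_a12 {G : Type*} [Group G] (S : HS G) :
    S.a12 * S.a12 = 1 :=
  Fm.sound S.μ sq_a12_F sq_a12_chk S.reps2
noncomputable def sq_a23_F : Fm := (.qf (.eq (.mul (.v (nat_lit 7)) (.v (nat_lit 7))) .one))
theorem sq_a23_chk : Fm.chk o sq_a23_F cs2 = true := by decide +kernel
theorem sq_a23 {G : Type*} [Group G] (S : HS G) :
    S.a23 * S.a23 = 1 :=
  Fm.sound S.μ sq_a23_F sq_a23_chk S.reps2
noncomputable def sq_a34_F : Fm := (.qf (.eq (.mul (.v (nat_lit 8)) (.v (nat_lit 8))) .one))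
theorem sq_a34_chk : Fm.chk o sq_a34_F cs2 = true := by decide +kernel
theorem sq_a34 {G : Type*} [Group G] (S : HS G) :
    S.a34 * S.a34 = 1 :=
  Fm.sound S.μ sq_a34_F sq_a34_chk S.reps2
noncomputable def sq_a45_F : Fm := (.qf (.eq (.mul (.v (nat_lit 9)) (.v (nat_lit 9))) .one))
theorem sq_a45_chk : Fm.chk o sq_a45_F cs2 = true := by decide +kernel
theorem sq_a45 {G : Type*} [Group G] (S : HS G) :
    S.a45 * S.a45 = 1 :=
  Fm.sound S.μ sq_a45_F sq_a45_chk S.reps2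
noncomputable def sq_b3_F : Fm := (.qf (.eq (.mul (.v (nat_lit 10)) (.v (nat_lit 10))) .one))
theorem sq_b3_chk : Fm.chk o sq_b3_F cs2 = true := by decide +kernel
theorem sq_b3 {G : Type*} [Group G] (S : HS G) :
    S.b3 * S.b3 = 1 :=
  Fm.sound S.μ sq_b3_F sq_b3_chk S.reps2
noncomputable def sq_b2_F : Fm := (.qf (.eq (.mul (.v (nat_lit 11)) (.v (nat_lit 11))) .one))
theorem sq_b2_chk : Fm.chk o sq_b2_F cs2 = true := by decide +kernel
theorem sq_b2 {G : Type*} [Group G] (S : HS G) :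
    S.b2 * S.b2 = 1 :=
  Fm.sound S.μ sq_b2_F sq_b2_chk S.reps2
noncomputable def sq_u_F : Fm := (.qf (.eq (.mul (.v (nat_lit 12)) (.v (nat_lit 12))) .one))
theorem sq_u_chk : Fm.chk o sq_u_F cs2 = true := by decide +kernel
theorem sq_u {G : Type*} [Group G] (S : HS G) :
    S.u * S.u = 1 :=
  Fm.sound S.μ sq_u_F sq_u_chk S.reps2
noncomputable def sq_v_F : Fm := (.qf (.eq (.mul (.v (nat_lit 13)) (.v (nat_lit 13))) .one))
theorem sq_v_chk : Fm.chk o sq_v_F cs2 = true := by decide +kernel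
theorem sq_v {G : Type*} [Group G] (S : HS G) :
    S.v * S.v = 1 :=
  Fm.sound S.μ sq_v_F sq_v_chk S.reps2
noncomputable def sq_c6_F : Fm := (.qf (.eq (.mul (.v (nat_lit 16)) (.v (nat_lit 16))) .one))
theorem sq_c6_chk : Fm.chk o sq_c6_F cs2 = true := by decide +kernel
theorem sq_c6 {G : Type*} [Group G] (S : HS G) :
    S.c6 * S.c6 = 1 :=
  Fm.sound S.μ sq_c6_F sq_c6_chk S.reps2
noncomputable def sq_c3_F : Fm := (.qf (.eq (.mul (.v (nat_lit 17)) (.v (nat_lit 17))) .one))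
theorem sq_c3_chk : Fm.chk o sq_c3_F cs2 = true := by decide +kernel
theorem sq_c3 {G : Type*} [Group G] (S : HS G) :
    S.c3 * S.c3 = 1 :=
  Fm.sound S.μ sq_c3_F sq_c3_chk S.reps2
noncomputable def sq_c5_F : Fm := (.qf (.eq (.mul (.v (nat_lit 18)) (.v (nat_lit 18))) .one))
theorem sq_c5_chk : Fm.chk o sq_c5_F cs2 = true := by decide +kernel
theorem sq_c5 {G : Type*} [Group G] (S : HS G) :
    S.c5 * S.c5 = 1 :=
  Fm.sound S.μ sq_c5_F sq_c5_chk S.reps2
noncomputable def sq_s0_F : Fm := (.qf (.eq (.mul (.v (nat_lit 19)) (.v (nat_lit 19))) .one))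
theorem sq_s0_chk : Fm.chk o sq_s0_F cs2 = true := by decide +kernel
theorem sq_s0 {G : Type*} [Group G] (S : HS G) :
    S.s0 * S.s0 = 1 :=
  Fm.sound S.μ sq_s0_F sq_s0_chk S.reps2
noncomputable def ne_z_F : Fm := (.qf (.not (.eq (.v (nat_lit 0)) .one)))
theorem ne_z_chk : Fm.chk o ne_z_F cs2 = true := by decide +kernel
theorem ne_z {G : Type*} [Group G] (S : HS G) :
    S.z ≠ 1 :=
  Fm.sound S.μ ne_z_F ne_z_chk S.reps2
noncomputable def ne_a14_F : Fm := (.qf (.not (.eq (.v (nat_lit 1)) .one)))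
theorem ne_a14_chk : Fm.chk o ne_a14_F cs2 = true := by decide +kernel
theorem ne_a14 {G : Type*} [Group G] (S : HS G) :
    S.a14 ≠ 1 :=
  Fm.sound S.μ ne_a14_F ne_a14_chk S.reps2
noncomputable def ne_a25_F : Fm := (.qf (.not (.eq (.v (nat_lit 2)) .one)))
theorem ne_a25_chk : Fm.chk o ne_a25_F cs2 = true := by decide +kernel
theorem ne_a25 {G : Type*} [Group G] (S : HS G) :
    S.a25 ≠ 1 :=
  Fm.sound S.μ ne_a25_F ne_a25_chk S.reps2
noncomputable def ne_a13_F : Fm := (.qf (.not (.eq (.v (nat_lit 3)) .one)))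
theorem ne_a13_chk : Fm.chk o ne_a13_F cs2 = true := by decide +kernel
theorem ne_a13 {G : Type*} [Group G] (S : HS G) :
    S.a13 ≠ 1 :=
  Fm.sound S.μ ne_a13_F ne_a13_chk S.reps2
noncomputable def ne_a24_F : Fm := (.qf (.not (.eq (.v (nat_lit 4)) .one)))
theorem ne_a24_chk : Fm.chk o ne_a24_F cs2 = true := by decide +kernel
theorem ne_a24 {G : Type*} [Group G] (S : HS G) :
    S.a24 ≠ 1 :=
  Fm.sound S.μ ne_a24_F ne_a24_chk S.reps2
noncomputable def ne_a35_F : Fm := (.qf (.not (.eq (.v (nat_lit 5)) .one)))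
theorem ne_a35_chk : Fm.chk o ne_a35_F cs2 = true := by decide +kernel
theorem ne_a35 {G : Type*} [Group G] (S : HS G) :
    S.a35 ≠ 1 :=
  Fm.sound S.μ ne_a35_F ne_a35_chk S.reps2
noncomputable def ne_a12_F : Fm := (.qf (.not (.eq (.v (nat_lit 6)) .one)))
theorem ne_a12_chk : Fm.chk o ne_a12_F cs2 = true := by decide +kernel
theorem ne_a12 {G : Type*} [Group G] (S : HS G) :
    S.a12 ≠ 1 :=
  Fm.sound S.μ ne_a12_F ne_a12_chk S.reps2
noncomputable def ne_a23_F : Fm := (.qf (.not (.eq (.v (nat_lit 7)) .one)))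
theorem ne_a23_chk : Fm.chk o ne_a23_F cs2 = true := by decide +kernel
theorem ne_a23 {G : Type*} [Group G] (S : HS G) :
    S.a23 ≠ 1 :=
  Fm.sound S.μ ne_a23_F ne_a23_chk S.reps2
noncomputable def ne_a34_F : Fm := (.qf (.not (.eq (.v (nat_lit 8)) .one)))
theorem ne_a34_chk : Fm.chk o ne_a34_F cs2 = true := by decide +kernel
theorem ne_a34 {G : Type*} [Group G] (S : HS G) :
    S.a34 ≠ 1 :=
  Fm.sound S.μ ne_a34_F ne_a34_chk S.reps2
noncomputable def ne_a45_F : Fm := (.qf (.not (.eq (.v (nat_lit 9)) .one)))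
theorem ne_a45_chk : Fm.chk o ne_a45_F cs2 = true := by decide +kernel
theorem ne_a45 {G : Type*} [Group G] (S : HS G) :
    S.a45 ≠ 1 :=
  Fm.sound S.μ ne_a45_F ne_a45_chk S.reps2
noncomputable def ne_b3_F : Fm := (.qf (.not (.eq (.v (nat_lit 10)) .one)))
theorem ne_b3_chk : Fm.chk o ne_b3_F cs2 = true := by decide +kernel
theorem ne_b3 {G : Type*} [Group G] (S : HS G) :
    S.b3 ≠ 1 :=
  Fm.sound S.μ ne_b3_F ne_b3_chk S.reps2
noncomputable def ne_b2_F : Fm := (.qf (.not (.eq (.v (nat_lit 11)) .one)))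
theorem ne_b2_chk : Fm.chk o ne_b2_F cs2 = true := by decide +kernel
theorem ne_b2 {G : Type*} [Group G] (S : HS G) :
    S.b2 ≠ 1 :=
  Fm.sound S.μ ne_b2_F ne_b2_chk S.reps2
noncomputable def ne_u_F : Fm := (.qf (.not (.eq (.v (nat_lit 12)) .one)))
theorem ne_u_chk : Fm.chk o ne_u_F cs2 = true := by decide +kernel
theorem ne_u {G : Type*} [Group G] (S : HS G) :
    S.u ≠ 1 :=
  Fm.sound S.μ ne_u_F ne_u_chk S.reps2
noncomputable def ne_v_F : Fm := (.qf (.not (.eq (.v (nat_lit 13)) .one)))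
theorem ne_v_chk : Fm.chk o ne_v_F cs2 = true := by decide +kernel
theorem ne_v {G : Type*} [Group G] (S : HS G) :
    S.v ≠ 1 :=
  Fm.sound S.μ ne_v_F ne_v_chk S.reps2
noncomputable def ne_p_F : Fm := (.qf (.not (.eq (.v (nat_lit 14)) .one)))
theorem ne_p_chk : Fm.chk o ne_p_F cs2 = true := by decide +kernel
theorem ne_p {G : Type*} [Group G] (S : HS G) :
    S.p ≠ 1 :=
  Fm.sound S.μ ne_p_F ne_p_chk S.reps2
noncomputable def ne_q_F : Fm := (.qf (.not (.eq (.v (nat_lit 15)) .one)))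
theorem ne_q_chk : Fm.chk o ne_q_F cs2 = true := by decide +kernel
theorem ne_q {G : Type*} [Group G] (S : HS G) :
    S.q ≠ 1 :=
  Fm.sound S.μ ne_q_F ne_q_chk S.reps2
noncomputable def ne_c6_F : Fm := (.qf (.not (.eq (.v (nat_lit 16)) .one)))
theorem ne_c6_chk : Fm.chk o ne_c6_F cs2 = true := by decide +kernel
theorem ne_c6 {G : Type*} [Group G] (S : HS G) :
    S.c6 ≠ 1 :=
  Fm.sound S.μ ne_c6_F ne_c6_chk S.reps2
noncomputable def ne_c3_F : Fm := (.qf (.not (.eq (.v (nat_lit 17)) .one)))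
theorem ne_c3_chk : Fm.chk o ne_c3_F cs2 = true := by decide +kernel
theorem ne_c3 {G : Type*} [Group G] (S : HS G) :
    S.c3 ≠ 1 :=
  Fm.sound S.μ ne_c3_F ne_c3_chk S.reps2
noncomputable def ne_c5_F : Fm := (.qf (.not (.eq (.v (nat_lit 18)) .one)))
theorem ne_c5_chk : Fm.chk o ne_c5_F cs2 = true := by decide +kernel
theorem ne_c5 {G : Type*} [Group G] (S : HS G) :
    S.c5 ≠ 1 :=
  Fm.sound S.μ ne_c5_F ne_c5_chk S.reps2
noncomputable def ne_s0_F : Fm := (.qf (.not (.eq (.v (nat_lit 19)) .one)))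
theorem ne_s0_chk : Fm.chk o ne_s0_F cs2 = true := by decide +kernel
theorem ne_s0 {G : Type*} [Group G] (S : HS G) :
    S.s0 ≠ 1 :=
  Fm.sound S.μ ne_s0_F ne_s0_chk S.reps2
noncomputable def ne_x0_F : Fm := (.qf (.not (.eq (.v (nat_lit 20)) .one)))
theorem ne_x0_chk : Fm.chk o ne_x0_F cs2 = true := by decide +kernel
theorem ne_x0 {G : Type*} [Group G] (S : HS G) :
    S.x0 ≠ 1 :=
  Fm.sound S.μ ne_x0_F ne_x0_chk S.reps2
noncomputable def cenQ_F : Fm := (.all LH (.imp (.eq (.mul (.v (nat_lit 0)) (.v (nat_lit 7))) (.mul (.v (nat_lit 7)) (.v (nat_lit 0)))) (.imp (.eq (.mul (.v (nat_lit 0)) (.v (nat_lit 4))) (.mul (.v (nat_lit 4)) (.v (nat_lit 0)))) (.imp (.eq (.mul (.v (nat_lit 0)) (.v (nat_lit 2))) (.mul (.v (nat_lit 2)) (.v (nat_lit 0)))) (.imp (.eq (.mul (.v (nat_lit 0)) (.v (nat_lit 3))) (.mul (.v (nat_lit 3)) (.v (nat_lit 0)))) (.imp (.eq (.mul (.v (nat_lit 0)) (.v (nat_lit 6))) (.mul (.v (nat_lit 6)) (.v (nat_lit 0))))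 (.imp (.eq (.mul (.v (nat_lit 0)) (.v (nat_lit 10))) (.mul (.v (nat_lit 10)) (.v (nat_lit 0)))) (.qf (.or (.eq (.v (nat_lit 0)) .one) (.eq (.v (nat_lit 0)) (.v (nat_lit 1))))))))))))
theorem cenQ_chk : Fm.chk o cenQ_F cs2 = true := by decide +kernel
theorem cenQ {G : Type*} [Group G] (S : HS G) :
    ∀ x ∈ S.H, x * S.a12 = S.a12 * x → x * S.a13 = S.a13 * x → x * S.a14 = S.a14 * x → x * S.a25 = S.a25 * x → x * S.a35 = S.a35 * x → x * S.a45 = S.a45 * x → x = 1 ∨ x = S.z :=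
  have h : ∀ x, InL o S.R LH x → x * S.a12 = S.a12 * x → x * S.a13 = S.a13 * x → x * S.a14 = S.a14 * x → x * S.a25 = S.a25 * x → x * S.a35 = S.a35 * x → x * S.a45 = S.a45 * x → x = 1 ∨ x = S.z :=
    Fm.sound S.μ cenQ_F cenQ_chk S.reps2
  (fun x h0 => (h x (S.EH.iff.2 h0)))
noncomputable def cov_t0 : ST := (.node (nat_lit 7724) (.node (nat_lit 4048) (.node (nat_lit 2014) (.node (nat_lit 1100) (.node (nat_lit 675) (.node (nat_lit 558) (.node (nat_lit 112) (.node (nat_lit 100) (.leaf (nat_lit 1544)) (.node (nat_lit 110) (.leaf (nat_lit 7112)) (.leaf (nat_lit 1736)))) (.node (nat_lit 554) (.node (nat_lit 552) (.leaf (nat_lit 6920)) (.leaf (nat_lit 128))) (.node (nat_lit 556) (.leaf (nat_lit 10880)) (.leaf (nat_lit 5504))))) (.node (nat_lit 621) (.node (nat_lit 593) (.leaf (nat_lit 16256)) (.node (nat_lit 595) (.leaf (nat_lit 2448)) (.leaf (nat_lit 10512)))) (.node (nat_lit 655) (.node (nat_lit 623) (.leaf (nat_lit 7824)) (.leaf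 (nat_lit 5136))) (.node (nat_lit 665) (.leaf (nat_lit 2376)) (.leaf (nat_lit 5256)))))) (.node (nat_lit 871) (.node (nat_lit 846) (.node (nat_lit 677) (.leaf (nat_lit 2568)) (.node (nat_lit 836) (.leaf (nat_lit 5064)) (.leaf (nat_lit 1224)))) (.node (nat_lit 860) (.node (nat_lit 852) (.leaf (nat_lit 4104)) (.leaf (nat_lit 3912))) (.node (nat_lit 862) (.leaf (nat_lit 1416)) (.leaf (nat_lit 3912))))) (.node (nat_lit 893) (.node (nat_lit 885) (.leaf (nat_lit 2048)) (.node (nat_lit 891) (.leaf (nat_lit 2052)) (.leaf (nat_lit 4736)))) (.node (nat_lit 1080) (.node (nat_lit 895) (.leaf (nat_lit 4740)) (.leaf (nat_lit 4736))) (.node (nat_lit 1082) (.leaf (nat_lit 1600)) (.leaf (nat_lit 6976))))))) (.node (nat_lit 1550) (.node (nat_lit 1213) (.node (nat_lit 1197) (.node (nat_lit 1102) (.leaf (nat_lit 4288)) (.node (nat_lit 1195) (.leaf (nat_lit 9664)) (.leaf (nat_lit 512)))) (.node (nat_lit 1205) (.node (nat_lit 1203) (.leaf (nat_lit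 3200)) (.leaf (nat_lit 512))) (.node (nat_lit 1211) (.leaf (nat_lit 3200)) (.leaf (nat_lit 1216))))) (.node (nat_lit 1530) (.node (nat_lit 1219) (.leaf (nat_lit 3904)) (.node (nat_lit 1221) (.leaf (nat_lit 1984)) (.leaf (nat_lit 4672)))) (.node (nat_lit 1546) (.node (nat_lit 1536) (.leaf (nat_lit 1536)) (.leaf (nat_lit 1540))) (.node (nat_lit 1548) (.leaf (nat_lit 6912)) (.leaf (nat_lit 6916)))))) (.node (nat_lit 1570) (.node (nat_lit 1562) (.node (nat_lit 1560) (.leaf (nat_lit 6912)) (.node (nat_lit 1561) (.leaf (nat_lit 384)) (.leaf (nat_lit 2312)))) (.node (nat_lit 1567) (.node (nat_lit 1563) (.leaf (nat_lit 3072)) (.leaf (nat_lit 2312))) (.node (nat_lit 1568) (.leaf (nat_lit 8008)) (.leaf (nat_lit 11136))))) (.node (nat_lit 1990) (.node (nat_lit 1587) (.node (nat_lit 1585) (.leaf (nat_lit 13824)) (.leaf (nat_lit 2632))) (.node (nat_lit 1988) (.leaf (nat_lit 7688)) (.leaf (nat_lit 256)))) (.node (nat_lit 1994) (.node (nat_lit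 1992) (.leaf (nat_lit 5632)) (.leaf (nat_lit 256))) (.node (nat_lit 2012) (.leaf (nat_lit 5632)) (.leaf (nat_lit 1920)))))))) (.node (nat_lit 3206) (.node (nat_lit 2625) (.node (nat_lit 2568) (.node (nat_lit 2516) (.node (nat_lit 2016) (.leaf (nat_lit 7296)) (.node (nat_lit 2018) (.leaf (nat_lit 2304)) (.leaf (nat_lit 7680)))) (.node (nat_lit 2536) (.node (nat_lit 2526) (.leaf (nat_lit 1600)) (.leaf (nat_lit 1604))) (.node (nat_lit 2546) (.leaf (nat_lit 4288)) (.leaf (nat_lit 4292))))) (.node (nat_lit 2582) (.node (nat_lit 2570) (.leaf (nat_lit 960)) (.node (nat_lit 2580) (.leaf (nat_lit 14400)) (.leaf (nat_lit 3648)))) (.node (nat_lit 2609) (.node (nat_lit 2607) (.leaf (nat_lit 11712)) (.leaf (nat_lit 1280))) (.node (nat_lit 2623) (.leaf (nat_lit 9344)) (.leaf (nat_lit 3968)))))) (.node (nat_lit 2982) (.node (nat_lit 2943) (.node (nat_lit 2919) (.leaf (nat_lit 6656)) (.node (nat_lit 2921) (.leaf (nat_lit 2064)) (.leaf (nat_lit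 10128)))) (.node (nat_lit 2966) (.node (nat_lit 2945) (.leaf (nat_lit 7440)) (.leaf (nat_lit 4752))) (.node (nat_lit 2972) (.leaf (nat_lit 1160)) (.leaf (nat_lit 6728))))) (.node (nat_lit 3192) (.node (nat_lit 2988) (.node (nat_lit 2986) (.leaf (nat_lit 6536)) (.leaf (nat_lit 1352))) (.node (nat_lit 3180) (.leaf (nat_lit 6536)) (.leaf (nat_lit 968)))) (.node (nat_lit 3202) (.node (nat_lit 3200) (.leaf (nat_lit 3656)) (.leaf (nat_lit 968))) (.node (nat_lit 3204) (.leaf (nat_lit 3720)) (.leaf (nat_lit 1032))))))) (.node (nat_lit 3465) (.node (nat_lit 3428) (.node (nat_lit 3397) (.node (nat_lit 3393) (.leaf (nat_lit 3656)) (.node (nat_lit 3395) (.leaf (nat_lit 288)) (.leaf (nat_lit 16416)))) (.node (nat_lit 3424) (.node (nat_lit 3399) (.leaf (nat_lit 11040)) (.leaf (nat_lit 5664))) (.node (nat_lit 3426) (.leaf (nat_lit 0)) (.leaf (nat_lit 10752))))) (.node (nat_lit 3434) (.node (nat_lit 3430) (.leaf (nat_lit 0)) (.node (nat_lit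 3432) (.leaf (nat_lit 10752)) (.leaf (nat_lit 384)))) (.node (nat_lit 3438) (.node (nat_lit 3436) (.leaf (nat_lit 11136)) (.leaf (nat_lit 768))) (.node (nat_lit 3463) (.leaf (nat_lit 11520)) (.leaf (nat_lit 1664)))))) (.node (nat_lit 3789) (.node (nat_lit 3712) (.node (nat_lit 3483) (.leaf (nat_lit 9728)) (.node (nat_lit 3485) (.leaf (nat_lit 4352)) (.leaf (nat_lit 7040)))) (.node (nat_lit 3736) (.node (nat_lit 3714) (.leaf (nat_lit 2048)) (.leaf (nat_lit 10112))) (.node (nat_lit 3738) (.leaf (nat_lit 4736)) (.leaf (nat_lit 7424))))) (.node (nat_lit 3803) (.node (nat_lit 3797) (.node (nat_lit 3795) (.leaf (nat_lit 392)) (.leaf (nat_lit 11208))) (.node (nat_lit 3801) (.leaf (nat_lit 11144)) (.leaf (nat_lit 456)))) (.node (nat_lit 4038) (.node (nat_lit 4036) (.leaf (nat_lit 11144)) (.leaf (nat_lit 960))) (.node (nat_lit 4043) (.leaf (nat_lit 3648)) (.leaf (nat_lit 1280))))))))) (.node (nat_lit 6107) (.node (nat_lit 4913) (.node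 (nat_lit 4418) (.node (nat_lit 4060) (.node (nat_lit 4056) (.node (nat_lit 4050) (.leaf (nat_lit 960)) (.node (nat_lit 4055) (.leaf (nat_lit 3648)) (.leaf (nat_lit 1280)))) (.node (nat_lit 4058) (.node (nat_lit 4057) (.leaf (nat_lit 1664)) (.leaf (nat_lit 1284))) (.node (nat_lit 4059) (.leaf (nat_lit 4352)) (.leaf (nat_lit 3968))))) (.node (nat_lit 4071) (.node (nat_lit 4061) (.leaf (nat_lit 2048)) (.node (nat_lit 4062) (.leaf (nat_lit 3968)) (.leaf (nat_lit 4736)))) (.node (nat_lit 4402) (.node (nat_lit 4073) (.leaf (nat_lit 3968)) (.leaf (nat_lit 3972))) (.node (nat_lit 4408) (.leaf (nat_lit 1152)) (.leaf (nat_lit 1156)))))) (.node (nat_lit 4829) (.node (nat_lit 4669) (.node (nat_lit 4424) (.leaf (nat_lit 6528)) (.node (nat_lit 4655) (.leaf (nat_lit 6532)) (.leaf (nat_lit 1288)))) (.node (nat_lit 4683) (.node (nat_lit 4671) (.leaf (nat_lit 4168)) (.leaf (nat_lit 3976))) (.node (nat_lit 4685) (.leaf (nat_lit 1480)) (.leaf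 (nat_lit 3976))))) (.node (nat_lit 4855) (.node (nat_lit 4833) (.leaf (nat_lit 256)) (.node (nat_lit 4853) (.leaf (nat_lit 5632)) (.leaf (nat_lit 256)))) (.node (nat_lit 4859) (.node (nat_lit 4857) (.leaf (nat_lit 260)) (.leaf (nat_lit 5632))) (.node (nat_lit 4899) (.leaf (nat_lit 5636)) (.leaf (nat_lit 1664))))))) (.node (nat_lit 5482) (.node (nat_lit 5045) (.node (nat_lit 5014) (.node (nat_lit 4919) (.leaf (nat_lit 1668)) (.node (nat_lit 4925) (.leaf (nat_lit 4352)) (.leaf (nat_lit 4356)))) (.node (nat_lit 5030) (.node (nat_lit 5016) (.leaf (nat_lit 1168)) (.leaf (nat_lit 3856))) (.node (nat_lit 5032) (.leaf (nat_lit 9232)) (.leaf (nat_lit 6544))))) (.node (nat_lit 5075) (.node (nat_lit 5047) (.leaf (nat_lit 2304)) (.node (nat_lit 5073) (.leaf (nat_lit 4992)) (.leaf (nat_lit 7680)))) (.node (nat_lit 5474) (.node (nat_lit 5472) (.leaf (nat_lit 10368)) (.leaf (nat_lit 576))) (.node (nat_lit 5480) (.leaf (nat_lit 3264)) (.leaf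 (nat_lit 576)))))) (.node (nat_lit 5780) (.node (nat_lit 5500) (.node (nat_lit 5492) (.leaf (nat_lit 3264)) (.node (nat_lit 5494) (.leaf (nat_lit 1600)) (.leaf (nat_lit 4288)))) (.node (nat_lit 5760) (.node (nat_lit 5502) (.leaf (nat_lit 2368)) (.leaf (nat_lit 5056))) (.node (nat_lit 5774) (.leaf (nat_lit 2056)) (.leaf (nat_lit 4872))))) (.node (nat_lit 5845) (.node (nat_lit 5837) (.node (nat_lit 5782) (.leaf (nat_lit 2184)) (.leaf (nat_lit 4744))) (.node (nat_lit 5839) (.leaf (nat_lit 400)) (.leaf (nat_lit 3088)))) (.node (nat_lit 6091) (.node (nat_lit 5847) (.leaf (nat_lit 13840)) (.leaf (nat_lit 11152))) (.node (nat_lit 6093) (.leaf (nat_lit 1296)) (.leaf (nat_lit 9360)))))))) (.node (nat_lit 6998) (.node (nat_lit 6439) (.node (nat_lit 6145) (.node (nat_lit 6127) (.node (nat_lit 6109) (.leaf (nat_lit 6672)) (.node (nat_lit 6115) (.leaf (nat_lit 3984)) (.leaf (nat_lit 896)))) (.node (nat_lit 6133) (.node (nat_lit 6131) (.leaf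 (nat_lit 3584)) (.leaf (nat_lit 896))) (.node (nat_lit 6143) (.leaf (nat_lit 900)) (.leaf (nat_lit 3584))))) (.node (nat_lit 6269) (.node (nat_lit 6265) (.leaf (nat_lit 3588)) (.node (nat_lit 6267) (.leaf (nat_lit 0)) (.leaf (nat_lit 5376)))) (.node (nat_lit 6419) (.node (nat_lit 6271) (.leaf (nat_lit 10752)) (.leaf (nat_lit 16128))) (.node (nat_lit 6421) (.leaf (nat_lit 1552)) (.leaf (nat_lit 4240)))))) (.node (nat_lit 6739) (.node (nat_lit 6452) (.node (nat_lit 6441) (.leaf (nat_lit 9616)) (.node (nat_lit 6450) (.leaf (nat_lit 6928)) (.leaf (nat_lit 1152)))) (.node (nat_lit 6468) (.node (nat_lit 6466) (.leaf (nat_lit 3840)) (.leaf (nat_lit 6528))) (.node (nat_lit 6727) (.leaf (nat_lit 9216)) (.leaf (nat_lit 904))))) (.node (nat_lit 6757) (.node (nat_lit 6745) (.node (nat_lit 6743) (.leaf (nat_lit 3592)) (.leaf (nat_lit 904))) (.node (nat_lit 6755) (.leaf (nat_lit 3784)) (.leaf (nat_lit 1096)))) (.node (nat_lit 6990) (.node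 (nat_lit 6980) (.leaf (nat_lit 3592)) (.leaf (nat_lit 1984))) (.node (nat_lit 6996) (.leaf (nat_lit 1988)) (.leaf (nat_lit 4672))))))) (.node (nat_lit 7694) (.node (nat_lit 7365) (.node (nat_lit 7347) (.node (nat_lit 7004) (.leaf (nat_lit 4676)) (.node (nat_lit 7339) (.leaf (nat_lit 4672)) (.leaf (nat_lit 512)))) (.node (nat_lit 7357) (.node (nat_lit 7355) (.leaf (nat_lit 3200)) (.leaf (nat_lit 512))) (.node (nat_lit 7363) (.leaf (nat_lit 516)) (.leaf (nat_lit 3200))))) (.node (nat_lit 7425) (.node (nat_lit 7405) (.leaf (nat_lit 3204)) (.node (nat_lit 7407) (.leaf (nat_lit 1616)) (.leaf (nat_lit 6992)))) (.node (nat_lit 7670) (.node (nat_lit 7427) (.leaf (nat_lit 9680)) (.leaf (nat_lit 4304))) (.node (nat_lit 7674) (.leaf (nat_lit 264)) (.leaf (nat_lit 5640)))))) (.node (nat_lit 7706) (.node (nat_lit 7700) (.node (nat_lit 7696) (.leaf (nat_lit 264)) (.node (nat_lit 7698) (.leaf (nat_lit 5704)) (.leaf (nat_lit 328)))) (.node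 (nat_lit 7704) (.node (nat_lit 7701) (.leaf (nat_lit 5640)) (.leaf (nat_lit 0))) (.node (nat_lit 7705) (.leaf (nat_lit 576)) (.leaf (nat_lit 10752))))) (.node (nat_lit 7712) (.node (nat_lit 7709) (.node (nat_lit 7707) (.leaf (nat_lit 576)) (.leaf (nat_lit 10752))) (.node (nat_lit 7711) (.leaf (nat_lit 0)) (.leaf (nat_lit 4)))) (.node (nat_lit 7714) (.node (nat_lit 7713) (.leaf (nat_lit 3264)) (.leaf (nat_lit 10752))) (.node (nat_lit 7715) (.leaf (nat_lit 3264)) (.leaf (nat_lit 10756)))))))))) (.node (nat_lit 11986) (.node (nat_lit 10404) (.node (nat_lit 9110) (.node (nat_lit 8680) (.node (nat_lit 7877) (.node (nat_lit 7734) (.node (nat_lit 7726) (.leaf (nat_lit 576)) (.node (nat_lit 7732) (.leaf (nat_lit 580)) (.leaf (nat_lit 3264)))) (.node (nat_lit 7857) (.node (nat_lit 7855) (.leaf (nat_lit 3268)) (.leaf (nat_lit 1536))) (.node (nat_lit 7875) (.leaf (nat_lit 4224)) (.leaf (nat_lit 6912))))) (.node (nat_lit 8074) (.node (nat_lit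 8066) (.leaf (nat_lit 9600)) (.node (nat_lit 8072) (.leaf (nat_lit 768)) (.leaf (nat_lit 772)))) (.node (nat_lit 8078) (.node (nat_lit 8076) (.leaf (nat_lit 11520)) (.leaf (nat_lit 11524))) (.node (nat_lit 8678) (.leaf (nat_lit 11520)) (.leaf (nat_lit 768)))))) (.node (nat_lit 8871) (.node (nat_lit 8841) (.node (nat_lit 8690) (.leaf (nat_lit 3456)) (.node (nat_lit 8692) (.leaf (nat_lit 11520)) (.leaf (nat_lit 14208)))) (.node (nat_lit 8861) (.node (nat_lit 8851) (.leaf (nat_lit 1608)) (.leaf (nat_lit 4552))) (.node (nat_lit 8869) (.leaf (nat_lit 4296)) (.leaf (nat_lit 1864))))) (.node (nat_lit 9044) (.node (nat_lit 9028) (.leaf (nat_lit 4296)) (.node (nat_lit 9038) (.leaf (nat_lit 1992)) (.leaf (nat_lit 4808)))) (.node (nat_lit 9106) (.node (nat_lit 9046) (.leaf (nat_lit 2120)) (.leaf (nat_lit 4680))) (.node (nat_lit 9108) (.leaf (nat_lit 256)) (.leaf (nat_lit 16384))))))) (.node (nat_lit 9788) (.node (nat_lit 9413) (.node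 (nat_lit 9395) (.node (nat_lit 9112) (.leaf (nat_lit 5632)) (.node (nat_lit 9387) (.leaf (nat_lit 11008)) (.leaf (nat_lit 520)))) (.node (nat_lit 9405) (.node (nat_lit 9403) (.leaf (nat_lit 3208)) (.leaf (nat_lit 520))) (.node (nat_lit 9411) (.leaf (nat_lit 3336)) (.leaf (nat_lit 648))))) (.node (nat_lit 9760) (.node (nat_lit 9752) (.leaf (nat_lit 3208)) (.node (nat_lit 9754) (.leaf (nat_lit 608)) (.leaf (nat_lit 14048)))) (.node (nat_lit 9781) (.node (nat_lit 9762) (.leaf (nat_lit 11360)) (.leaf (nat_lit 3296))) (.node (nat_lit 9787) (.leaf (nat_lit 1920)) (.leaf (nat_lit 1924)))))) (.node (nat_lit 9812) (.node (nat_lit 9808) (.node (nat_lit 9802) (.leaf (nat_lit 1672)) (.node (nat_lit 9805) (.leaf (nat_lit 4488)) (.leaf (nat_lit 7296)))) (.node (nat_lit 9810) (.node (nat_lit 9809) (.leaf (nat_lit 4360)) (.leaf (nat_lit 7296))) (.node (nat_lit 9811) (.leaf (nat_lit 4360)) (.leaf (nat_lit 7300))))) (.node (nat_lit 9845) (.node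 (nat_lit 9821) (.node (nat_lit 9814) (.leaf (nat_lit 1800)) (.leaf (nat_lit 4360))) (.node (nat_lit 9823) (.leaf (nat_lit 1984)) (.leaf (nat_lit 7360)))) (.node (nat_lit 10392) (.node (nat_lit 9847) (.leaf (nat_lit 4672)) (.leaf (nat_lit 10048))) (.node (nat_lit 10394) (.leaf (nat_lit 896)) (.leaf (nat_lit 11648)))))))) (.node (nat_lit 11602) (.node (nat_lit 11029) (.node (nat_lit 11006) (.node (nat_lit 10544) (.node (nat_lit 10406) (.leaf (nat_lit 3584)) (.node (nat_lit 10542) (.leaf (nat_lit 14336)) (.leaf (nat_lit 32)))) (.node (nat_lit 10548) (.node (nat_lit 10546) (.leaf (nat_lit 5408)) (.leaf (nat_lit 16160))) (.node (nat_lit 11004) (.leaf (nat_lit 10784)) (.leaf (nat_lit 928))))) (.node (nat_lit 11018) (.node (nat_lit 11011) (.leaf (nat_lit 11680)) (.node (nat_lit 11016) (.leaf (nat_lit 2432)) (.leaf (nat_lit 14368)))) (.node (nat_lit 11025) (.node (nat_lit 11023) (.leaf (nat_lit 3616)) (.leaf (nat_lit 2432))) (.node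 (nat_lit 11027) (.leaf (nat_lit 2436)) (.leaf (nat_lit 5120)))))) (.node (nat_lit 11224) (.node (nat_lit 11083) (.node (nat_lit 11039) (.leaf (nat_lit 5124)) (.node (nat_lit 11073) (.leaf (nat_lit 5120)) (.leaf (nat_lit 2368)))) (.node (nat_lit 11095) (.node (nat_lit 11093) (.leaf (nat_lit 2372)) (.leaf (nat_lit 5056))) (.node (nat_lit 11101) (.leaf (nat_lit 5060)) (.leaf (nat_lit 5056))))) (.node (nat_lit 11582) (.node (nat_lit 11244) (.node (nat_lit 11226) (.leaf (nat_lit 1680)) (.leaf (nat_lit 9744))) (.node (nat_lit 11246) (.leaf (nat_lit 7056)) (.leaf (nat_lit 4368)))) (.node (nat_lit 11598) (.node (nat_lit 11586) (.leaf (nat_lit 136)) (.leaf (nat_lit 5512))) (.node (nat_lit 11600) (.leaf (nat_lit 136)) (.leaf (nat_lit 5576))))))) (.node (nat_lit 11713) (.node (nat_lit 11626) (.node (nat_lit 11618) (.node (nat_lit 11604) (.leaf (nat_lit 200)) (.node (nat_lit 11616) (.leaf (nat_lit 5512)) (.leaf (nat_lit 512)))) (.node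 (nat_lit 11624) (.node (nat_lit 11623) (.leaf (nat_lit 11264)) (.leaf (nat_lit 2440))) (.node (nat_lit 11625) (.leaf (nat_lit 3200)) (.leaf (nat_lit 2440))))) (.node (nat_lit 11639) (.node (nat_lit 11635) (.leaf (nat_lit 13952)) (.node (nat_lit 11637) (.leaf (nat_lit 2440)) (.leaf (nat_lit 5192)))) (.node (nat_lit 11685) (.node (nat_lit 11641) (.leaf (nat_lit 2504)) (.leaf (nat_lit 5128))) (.node (nat_lit 11687) (.leaf (nat_lit 2384)) (.leaf (nat_lit 7760)))))) (.node (nat_lit 11871) (.node (nat_lit 11831) (.node (nat_lit 11715) (.leaf (nat_lit 10448)) (.node (nat_lit 11829) (.leaf (nat_lit 5072)) (.leaf (nat_lit 1920)))) (.node (nat_lit 11855) (.node (nat_lit 11853) (.leaf (nat_lit 4608)) (.leaf (nat_lit 7296))) (.node (nat_lit 11869) (.leaf (nat_lit 9984)) (.leaf (nat_lit 2000))))) (.node (nat_lit 11981) (.node (nat_lit 11895) (.node (nat_lit 11893) (.leaf (nat_lit 7376)) (.leaf (nat_lit 10064))) (.node (nat_lit 11978) (.leaf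 (nat_lit 4688)) (.leaf (nat_lit 8)))) (.node (nat_lit 11983) (.node (nat_lit 11982) (.leaf (nat_lit 576)) (.leaf (nat_lit 10760))) (.node (nat_lit 11984) (.leaf (nat_lit 14016)) (.leaf (nat_lit 10760))))))))) (.node (nat_lit 14696) (.node (nat_lit 13852) (.node (nat_lit 12652) (.node (nat_lit 12349) (.node (nat_lit 11990) (.node (nat_lit 11988) (.leaf (nat_lit 8)) (.node (nat_lit 11989) (.leaf (nat_lit 10824)) (.leaf (nat_lit 3264)))) (.node (nat_lit 11992) (.node (nat_lit 11991) (.leaf (nat_lit 72)) (.leaf (nat_lit 11328))) (.node (nat_lit 12343) (.leaf (nat_lit 10760)) (.leaf (nat_lit 776))))) (.node (nat_lit 12622) (.node (nat_lit 12351) (.leaf (nat_lit 11592)) (.node (nat_lit 12353) (.leaf (nat_lit 840)) (.leaf (nat_lit 11528)))) (.node (nat_lit 12646) (.node (nat_lit 12628) (.leaf (nat_lit 1928)) (.leaf (nat_lit 7624))) (.node (nat_lit 12650) (.leaf (nat_lit 7304)) (.leaf (nat_lit 2248)))))) (.node (nat_lit 13034) (.node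 (nat_lit 12967) (.node (nat_lit 12955) (.leaf (nat_lit 7304)) (.node (nat_lit 12957) (.leaf (nat_lit 784)) (.leaf (nat_lit 3472)))) (.node (nat_lit 13018) (.node (nat_lit 12969) (.leaf (nat_lit 14224)) (.leaf (nat_lit 11536))) (.node (nat_lit 13022) (.leaf (nat_lit 128)) (.leaf (nat_lit 5504))))) (.node (nat_lit 13664) (.node (nat_lit 13038) (.node (nat_lit 13036) (.leaf (nat_lit 128)) (.leaf (nat_lit 132))) (.node (nat_lit 13040) (.leaf (nat_lit 5504)) (.leaf (nat_lit 5508)))) (.node (nat_lit 13672) (.node (nat_lit 13666) (.leaf (nat_lit 544)) (.leaf (nat_lit 11296))) (.node (nat_lit 13674) (.leaf (nat_lit 13984)) (.leaf (nat_lit 3232))))))) (.node (nat_lit 14095) (.node (nat_lit 13944) (.node (nat_lit 13882) (.node (nat_lit 13854) (.leaf (nat_lit 2432)) (.node (nat_lit 13880) (.leaf (nat_lit 10496)) (.leaf (nat_lit 5120)))) (.node (nat_lit 13916) (.node (nat_lit 13914) (.leaf (nat_lit 7808)) (.leaf (nat_lit 2368))) (.node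 (nat_lit 13942) (.leaf (nat_lit 7744)) (.leaf (nat_lit 5056))))) (.node (nat_lit 14049) (.node (nat_lit 14029) (.leaf (nat_lit 10432)) (.node (nat_lit 14037) (.leaf (nat_lit 584)) (.leaf (nat_lit 3272)))) (.node (nat_lit 14057) (.node (nat_lit 14051) (.leaf (nat_lit 584)) (.leaf (nat_lit 3400))) (.node (nat_lit 14059) (.leaf (nat_lit 712)) (.leaf (nat_lit 3272)))))) (.node (nat_lit 14460) (.node (nat_lit 14113) (.node (nat_lit 14097) (.leaf (nat_lit 1216)) (.node (nat_lit 14111) (.leaf (nat_lit 6592)) (.leaf (nat_lit 3904)))) (.node (nat_lit 14456) (.node (nat_lit 14454) (.leaf (nat_lit 9280)) (.leaf (nat_lit 128))) (.node (nat_lit 14458) (.leaf (nat_lit 5504)) (.leaf (nat_lit 128))))) (.node (nat_lit 14476) (.node (nat_lit 14472) (.node (nat_lit 14470) (.leaf (nat_lit 5504)) (.leaf (nat_lit 1152))) (.node (nat_lit 14474) (.leaf (nat_lit 6528)) (.leaf (nat_lit 1536)))) (.node (nat_lit 14672) (.node (nat_lit 14670) (.leaf (nat_lit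 6912)) (.leaf (nat_lit 1936))) (.node (nat_lit 14694) (.leaf (nat_lit 4624)) (.leaf (nat_lit 10000)))))))) (.node (nat_lit 15904) (.node (nat_lit 15547) (.node (nat_lit 15463) (.node (nat_lit 15054) (.node (nat_lit 15034) (.leaf (nat_lit 7312)) (.node (nat_lit 15046) (.leaf (nat_lit 960)) (.leaf (nat_lit 3648)))) (.node (nat_lit 15058) (.node (nat_lit 15056) (.leaf (nat_lit 960)) (.leaf (nat_lit 964))) (.node (nat_lit 15060) (.leaf (nat_lit 3648)) (.leaf (nat_lit 3652))))) (.node (nat_lit 15489) (.node (nat_lit 15469) (.leaf (nat_lit 2304)) (.node (nat_lit 15487) (.leaf (nat_lit 2308)) (.leaf (nat_lit 7680)))) (.node (nat_lit 15531) (.node (nat_lit 15491) (.leaf (nat_lit 7684)) (.leaf (nat_lit 7680))) (.node (nat_lit 15541) (.leaf (nat_lit 1216)) (.leaf (nat_lit 1220)))))) (.node (nat_lit 15861) (.node (nat_lit 15648) (.node (nat_lit 15557) (.leaf (nat_lit 3904)) (.node (nat_lit 15646) (.leaf (nat_lit 3908)) (.leaf (nat_lit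 992)))) (.node (nat_lit 15660) (.node (nat_lit 15658) (.leaf (nat_lit 14432)) (.leaf (nat_lit 11744))) (.node (nat_lit 15859) (.leaf (nat_lit 3680)) (.leaf (nat_lit 160))))) (.node (nat_lit 15896) (.node (nat_lit 15865) (.node (nat_lit 15863) (.leaf (nat_lit 10912)) (.leaf (nat_lit 16288))) (.node (nat_lit 15894) (.leaf (nat_lit 5536)) (.leaf (nat_lit 0)))) (.node (nat_lit 15900) (.node (nat_lit 15898) (.leaf (nat_lit 8)) (.leaf (nat_lit 384))) (.node (nat_lit 15902) (.leaf (nat_lit 392)) (.leaf (nat_lit 768))))))) (.node (nat_lit 16145) (.node (nat_lit 15918) (.node (nat_lit 15910) (.node (nat_lit 15906) (.leaf (nat_lit 776)) (.node (nat_lit 15908) (.leaf (nat_lit 1152)) (.leaf (nat_lit 1160)))) (.node (nat_lit 15914) (.node (nat_lit 15912) (.leaf (nat_lit 1536)) (.leaf (nat_lit 1544))) (.node (nat_lit 15916) (.leaf (nat_lit 1920)) (.leaf (nat_lit 1928))))) (.node (nat_lit 16077) (.node (nat_lit 15920) (.leaf (nat_lit 2304))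 (.node (nat_lit 16075) (.leaf (nat_lit 2312)) (.leaf (nat_lit 2320)))) (.node (nat_lit 16105) (.node (nat_lit 16103) (.leaf (nat_lit 5008)) (.leaf (nat_lit 10384))) (.node (nat_lit 16143) (.leaf (nat_lit 7696)) (.leaf (nat_lit 1232)))))) (.node (nat_lit 16502) (.node (nat_lit 16255) (.node (nat_lit 16159) (.leaf (nat_lit 6608)) (.node (nat_lit 16161) (.leaf (nat_lit 9296)) (.leaf (nat_lit 3920)))) (.node (nat_lit 16263) (.node (nat_lit 16261) (.leaf (nat_lit 384)) (.leaf (nat_lit 388))) (.node (nat_lit 16269) (.leaf (nat_lit 11136)) (.leaf (nat_lit 11140))))) (.node (nat_lit 16518) (.node (nat_lit 16514) (.node (nat_lit 16504) (.leaf (nat_lit 896)) (.leaf (nat_lit 3584))) (.node (nat_lit 16516) (.leaf (nat_lit 896)) (.leaf (nat_lit 3584)))) (.node (nat_lit 16530) (.node (nat_lit 16520) (.leaf (nat_lit 1280)) (.leaf (nat_lit 3968))) (.node (nat_lit 16532) (.leaf (nat_lit 2432)) (.leaf (nat_lit 5120)))))))))))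
noncomputable def cov_F : Fm := (.all LH (.imp (.eq (.mul (.v (nat_lit 0)) (.v (nat_lit 0))) .one) (.or (.qf (.eq (.v (nat_lit 0)) .one)) (.or (.qf (.eq (.v (nat_lit 0)) (.v (nat_lit 1)))) (.exF LH (fun cs => cov_t0.find (Nat.mod (nth (nat_lit 0) cs (nat_lit 0)) (nat_lit 16743))) (.qf (.or (.eq (.mul (.v (nat_lit 0)) (.v (nat_lit 1))) (.mul (.v (nat_lit 3)) (.v (nat_lit 0)))) (.or (.eq (.mul (.v (nat_lit 0)) (.v (nat_lit 1))) (.mul (.v (nat_lit 4)) (.v (nat_lit 0)))) (.or (.eq (.mul (.v (nat_lit 0)) (.v (nat_lit 1))) (.mul (.v (nat_lit 14)) (.v (nat_lit 0)))) (.or (.eq (.mul (.v (nat_lit 0)) (.v (nat_lit 1))) (.mul (.v (nat_lit 6)) (.v (nat_lit 0)))) (.or (.eq (.mul (.v (nat_lit 0)) (.v (nat_lit 1))) (.mul (.v (nat_lit 18)) (.v (nat_lit 0)))) (.or (.eq (.mul (.v (nat_lit 0)) (.v (nat_lit 1))) (.mul (.v (nat_lit 19)) (.v (nat_lit 0)))) (.eq (.mul (.v (nat_lit 0)) (.v (nat_lit 1))) (.mul (.v (nat_lit 20)) (.v (nat_lit 0))))))))))))))))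
theorem cov_chk : Fm.chk o cov_F cs2 = true := by decide +kernel
theorem cov {G : Type*} [Group G] (S : HS G) :
    ∀ x ∈ S.H, x * x = 1 → x = 1 ∨ x = S.z ∨ (∃ h ∈ S.H, h * x = S.a14 * h ∨ h * x = S.a25 * h ∨ h * x = S.u * h ∨ h * x = S.a24 * h ∨ h * x = S.c6 * h ∨ h * x = S.c3 * h ∨ h * x = S.c5 * h) :=
  have h : ∀ x, InL o S.R LH x → x * x = 1 → x = 1 ∨ x = S.z ∨ (Good o S.R LH → prods o LH o.one ≠ [] → ∃ h, InL o S.R LH h ∧ (h * x = S.a14 * h ∨ h * x = S.a25 * h ∨ h * x = S.u * h ∨ h * x = S.a24 * h ∨ h * x = S.c6 * h ∨ h * x = S.c3 * h ∨ h * x = S.c5 * h)) :=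
    Fm.sound S.μ cov_F cov_chk S.reps2
  (fun x h0 => (fun h1 => (Or.imp (fun h2 => h2) (fun h2 => (Or.imp (fun h3 => h3) (fun h3 => (Exists.imp (fun h h4 => ⟨S.EH.iff.1 h4.1, h4.2⟩) (h3 S.EH.good S.EH.ne))) h2)) ((h x (S.EH.iff.2 h0)) h1))))
noncomputable def expT_F : Fm := (.all LH (.imp (.or (.eq (.mul (.v (nat_lit 0)) (.v (nat_lit 2))) (.mul (.v (nat_lit 2)) (.v (nat_lit 0)))) (.eq (.mul (.v (nat_lit 0)) (.v (nat_lit 2))) (.mul (.mul (.v (nat_lit 2)) (.v (nat_lit 1))) (.v (nat_lit 0))))) (.imp (.or (.eq (.mul (.v (nat_lit 0)) (.v (nat_lit 3))) (.mul (.v (nat_lit 3)) (.v (nat_lit 0)))) (.eq (.mul (.v (nat_lit 0)) (.v (nat_lit 3))) (.mul (.mul (.v (nat_lit 3)) (.v (nat_lit 1))) (.v (nat_lit 0))))) (.qf (.eq (.pw (.v (nat_lit 0)) (nat_lit 8)) .one)))))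
theorem expT_chk : Fm.chk o expT_F cs2 = true := by decide +kernel
theorem expT {G : Type*} [Group G] (S : HS G) :
    ∀ x ∈ S.H, x * S.a14 = S.a14 * x ∨ x * S.a14 = S.a14 * S.z * x → x * S.a25 = S.a25 * x ∨ x * S.a25 = S.a25 * S.z * x → x ^ 8 = 1 :=
  have h : ∀ x, InL o S.R LH x → x * S.a14 = S.a14 * x ∨ x * S.a14 = S.a14 * S.z * x → x * S.a25 = S.a25 * x ∨ x * S.a25 = S.a25 * S.z * x → x ^ 8 = 1 :=
    Fm.sound S.μ expT_F expT_chk S.reps2
  (fun x h0 => (h x (S.EH.iff.2 h0)))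
noncomputable def expU_F : Fm := (.all LH (.imp (.eq (.mul (.v (nat_lit 0)) (.v (nat_lit 13))) (.mul (.v (nat_lit 13)) (.v (nat_lit 0)))) (.qf (.and (.eq (.pw (.v (nat_lit 0)) (nat_lit 8)) .one) (.or (.eq (.pw (.v (nat_lit 0)) (nat_lit 4)) .one) (.eq (.pw (.v (nat_lit 0)) (nat_lit 4)) (.v (nat_lit 1))))))))
theorem expU_chk : Fm.chk o expU_F cs2 = true := by decide +kernel
theorem expU {G : Type*} [Group G] (S : HS G) :
    ∀ x ∈ S.H, x * S.u = S.u * x → x ^ 8 = 1 ∧ (x ^ 4 = 1 ∨ x ^ 4 = S.z) :=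
  have h : ∀ x, InL o S.R LH x → x * S.u = S.u * x → x ^ 8 = 1 ∧ (x ^ 4 = 1 ∨ x ^ 4 = S.z) :=
    Fm.sound S.μ expU_F expU_chk S.reps2
  (fun x h0 => (h x (S.EH.iff.2 h0)))
noncomputable def x0_f_F : Fm := (.qf (.and (.eq (.mul (.v (nat_lit 20)) (.v (nat_lit 12))) (.mul (.v (nat_lit 12)) (.v (nat_lit 20)))) (.eq (.pw (.v (nat_lit 20)) (nat_lit 4)) (.v (nat_lit 0)))))
theorem x0_f_chk : Fm.chk o x0_f_F cs2 = true := by decide +kernel
theorem x0_f {G : Type*} [Group G] (S : HS G) :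
    S.x0 * S.u = S.u * S.x0 ∧ S.x0 ^ 4 = S.z :=
  Fm.sound S.μ x0_f_F x0_f_chk S.reps2

end HS
end H1.Hd
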