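import Cfsg.Agent.H1.Hd4

/-! Facts on the centraliser of a four-group (generated). -/

set_option autoImplicit false
set_option maxRecDepth 100000
set_option maxHeartbeats 4000000
set_option linter.unusedVariables false

namespace H1.Hd
open H0.PM H16 Subgroup

namespace HS
noncomputable def cenS1_F : Fm := (.all LH (.imp (.eq (.mul (.v (nat_lit 0)) (.v (nat_lit 4))) (.mul (.v (nat_lit 4)) (.v (nat_lit 0)))) (.imp (.eq (.mul (.v (nat_lit 0)) (.v (nat_lit 8))) (.mul (.v (nat_lit 8)) (.v (nat_lit 0)))) (.imp (.eq (.mul (.v (nat_lit 0)) (.v (nat_lit 9))) (.mul (.v (nat_lit 9)) (.v (nat_lit 0)))) (.imp (.eq (.mul (.v (nat_lit 0)) (.v (nat_lit 10))) (.mul (.v (nat_lit 10)) (.v (nat_lit 0)))) (.qf (.or (.eq (.v (nat_lit 0)) .one) (.or (.eq (.v (nat_lit 0)) (.v (nat_lit 1))) (.or (.eq (.v (nat_lit 0)) (.v (nat_lit 3))) (.eq (.v (nat_lit 0)) (.mul (.v (nat_lit 1)) (.v (nat_lit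 3)))))))))))))
theorem cenS1_chk : Fm.chk o cenS1_F cs2 = true := by decide +kernel
theorem cenS1 {G : Type*} [Group G] (S : HS G) :
    ∀ x ∈ S.H, x * S.a13 = S.a13 * x → x * S.a23 = S.a23 * x → x * S.a34 = S.a34 * x → x * S.a45 = S.a45 * x → x = 1 ∨ x = S.z ∨ x = S.a25 ∨ x = S.z * S.a25 :=
  have h : ∀ x, InL o S.R LH x → x * S.a13 = S.a13 * x → x * S.a23 = S.a23 * x → x * S.a34 = S.a34 * x → x * S.a45 = S.a45 * x → x = 1 ∨ x = S.z ∨ x = S.a25 ∨ x = S.z * S.a25 :=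
    Fm.sound S.μ cenS1_F cenS1_chk S.reps2
  (fun x h0 => (h x (S.EH.iff.2 h0)))
noncomputable def t_com_F : Fm := (.qf (.and (.eq (.mul (.v (nat_lit 3)) (.v (nat_lit 2))) (.mul (.v (nat_lit 2)) (.v (nat_lit 3)))) (.and (.eq (.mul (.v (nat_lit 7)) (.v (nat_lit 2))) (.mul (.v (nat_lit 2)) (.v (nat_lit 7)))) (.and (.eq (.mul (.v (nat_lit 8)) (.v (nat_lit 2))) (.mul (.v (nat_lit 2)) (.v (nat_lit 8)))) (.and (.eq (.mul (.v (nat_lit 9)) (.v (nat_lit 2))) (.mul (.v (nat_lit 2)) (.v (nat_lit 9)))) (.and (.eq (.mul (.v (nat_lit 5)) (.v (nat_lit 2))) (.mul (.v (nat_lit 2)) (.v (nat_lit 5)))) (.eq (.mul (.v (nat_lit 14)) (.v (nat_lit 2))) (.mul (.v (nat_lit 2)) (.v (nat_lit 14))))))))))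
theorem t_com_chk : Fm.chk o t_com_F cs2 = true := by decide +kernel
theorem t_com {G : Type*} [Group G] (S : HS G) :
    S.a13 * S.a25 = S.a25 * S.a13 ∧ S.a23 * S.a25 = S.a25 * S.a23 ∧ S.a34 * S.a25 = S.a25 * S.a34 ∧ S.a45 * S.a25 = S.a25 * S.a45 ∧ S.a35 * S.a25 = S.a25 * S.a35 ∧ S.p * S.a25 = S.a25 * S.p :=
  Fm.sound S.μ t_com_F t_com_chk S.reps2
noncomputable def L27 : List ℕ := [(nat_lit 17043521), (nat_lit 17043529), (nat_lit 17043537), (nat_lit 17043545), (nat_lit 17051713), (nat_lit 17051721), (nat_lit 17051729), (nat_lit 17051737), (nat_lit 17059905), (nat_lit 17059913), (nat_lit 17059921), (nat_lit 17059929), (nat_lit 17068097), (nat_lit 17068105), (nat_lit 17068113), (nat_lit 17068121), (nat_lit 17109057), (nat_lit 17109075), (nat_lit 17127489), (nat_lit 17127507), (nat_lit 19140673), (nat_lit 19140683), (nat_lit 19150913), (nat_lit 19150923), (nat_lit 19206209),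 (nat_lit 19206235), (nat_lit 19232833), (nat_lit 19232859)]
theorem L27_v : allB vH L27 = true := by decide +kernel
noncomputable def L4 : List ℕ := [(nat_lit 8917057), (nat_lit 17567809), (nat_lit 25432129), (nat_lit 8917059), (nat_lit 17567811), (nat_lit 25432131), (nat_lit 8919105), (nat_lit 17569857), (nat_lit 25434177), (nat_lit 8919107), (nat_lit 17569859), (nat_lit 25434179)]
theorem L4_v : allB vH L4 = true := by decide +kernel
noncomputable def c1_f_t0 : ST := (.node (nat_lit 1323) (.node (nat_lit 986) (.node (nat_lit 573) (.node (nat_lit 341) (.node (nat_lit 115) (.node (nat_lit 107) (.node (nat_lit 99) (.leaf (nat_lit 2132)) (.leaf (nat_lit 12884))) (.node (nat_lit 113) (.leaf (nat_lit 18260)) (.leaf (nat_lit 7508)))) (.node (nat_lit 131) (.node (nat_lit 125) (.leaf (nat_lit 1252)) (.leaf (nat_lit 12004))) (.node (nat_lit 141) (.leaf (nat_lit 17380)) (.leaf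 (nat_lit 6628))))) (.node (nat_lit 423) (.node (nat_lit 357) (.node (nat_lit 351) (.leaf (nat_lit 1428)) (.leaf (nat_lit 17556))) (.node (nat_lit 367) (.leaf (nat_lit 6804)) (.leaf (nat_lit 12180)))) (.node (nat_lit 441) (.node (nat_lit 431) (.leaf (nat_lit 660)) (.leaf (nat_lit 11412))) (.node (nat_lit 449) (.leaf (nat_lit 16788)) (.leaf (nat_lit 6036)))))) (.node (nat_lit 760) (.node (nat_lit 675) (.node (nat_lit 589) (.node (nat_lit 583) (.leaf (nat_lit 1268)) (.leaf (nat_lit 12020))) (.node (nat_lit 599) (.leaf (nat_lit 17396)) (.leaf (nat_lit 6644)))) (.node (nat_lit 693) (.node (nat_lit 685) (.leaf (nat_lit 2004)) (.leaf (nat_lit 18132))) (.node (nat_lit 699) (.leaf (nat_lit 7380)) (.leaf (nat_lit 12756))))) (.node (nat_lit 825) (.node (nat_lit 778) (.node (nat_lit 768) (.leaf (nat_lit 692)) (.leaf (nat_lit 11444))) (.node (nat_lit 786) (.leaf (nat_lit 16820)) (.leaf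 (nat_lit 6068)))) (.node (nat_lit 843) (.node (nat_lit 833) (.leaf (nat_lit 564)) (.leaf (nat_lit 16692))) (.node (nat_lit 851) (.leaf (nat_lit 5940)) (.leaf (nat_lit 11316))))))) (.node (nat_lit 1100) (.node (nat_lit 1030) (.node (nat_lit 1012) (.node (nat_lit 1002) (.node (nat_lit 994) (.leaf (nat_lit 544)) (.leaf (nat_lit 16672))) (.node (nat_lit 1010) (.leaf (nat_lit 5920)) (.leaf (nat_lit 11296)))) (.node (nat_lit 1022) (.node (nat_lit 1015) (.leaf (nat_lit 2036)) (.leaf (nat_lit 1412))) (.node (nat_lit 1025) (.leaf (nat_lit 18164)) (.leaf (nat_lit 17540))))) (.node (nat_lit 1071) (.node (nat_lit 1036) (.node (nat_lit 1031) (.leaf (nat_lit 7412)) (.leaf (nat_lit 6788))) (.node (nat_lit 1041) (.leaf (nat_lit 12788)) (.leaf (nat_lit 12164)))) (.node (nat_lit 1087) (.node (nat_lit 1079) (.leaf (nat_lit 656)) (.leaf (nat_lit 11408))) (.node (nat_lit 1095) (.leaf (nat_lit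 16784)) (.leaf (nat_lit 6032)))))) (.node (nat_lit 1162) (.node (nat_lit 1133) (.node (nat_lit 1118) (.node (nat_lit 1110) (.leaf (nat_lit 2116)) (.leaf (nat_lit 12868))) (.node (nat_lit 1124) (.leaf (nat_lit 18244)) (.leaf (nat_lit 7492)))) (.node (nat_lit 1151) (.node (nat_lit 1143) (.leaf (nat_lit 2020)) (.leaf (nat_lit 18148))) (.node (nat_lit 1157) (.leaf (nat_lit 7396)) (.leaf (nat_lit 12772))))) (.node (nat_lit 1247) (.node (nat_lit 1180) (.node (nat_lit 1170) (.leaf (nat_lit 516)) (.leaf (nat_lit 16644))) (.node (nat_lit 1188) (.leaf (nat_lit 5892)) (.leaf (nat_lit 11268)))) (.node (nat_lit 1263) (.node (nat_lit 1257) (.leaf (nat_lit 1220)) (.leaf (nat_lit 11972))) (.node (nat_lit 1273) (.leaf (nat_lit 17348)) (.leaf (nat_lit 6596)))))))) (.node (nat_lit 2144) (.node (nat_lit 1892) (.node (nat_lit 1660) (.node (nat_lit 1408) (.node (nat_lit 1339) (.node (nat_lit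 1331) (.leaf (nat_lit 528)) (.leaf (nat_lit 16656))) (.node (nat_lit 1347) (.leaf (nat_lit 5904)) (.leaf (nat_lit 11280)))) (.node (nat_lit 1424) (.node (nat_lit 1416) (.leaf (nat_lit 688)) (.leaf (nat_lit 11440))) (.node (nat_lit 1432) (.leaf (nat_lit 16816)) (.leaf (nat_lit 6064))))) (.node (nat_lit 1745) (.node (nat_lit 1676) (.node (nat_lit 1668) (.leaf (nat_lit 560)) (.leaf (nat_lit 16688))) (.node (nat_lit 1684) (.leaf (nat_lit 5936)) (.leaf (nat_lit 11312)))) (.node (nat_lit 1761) (.node (nat_lit 1753) (.leaf (nat_lit 672)) (.leaf (nat_lit 11424))) (.node (nat_lit 1769) (.leaf (nat_lit 16800)) (.leaf (nat_lit 6048)))))) (.node (nat_lit 2052) (.node (nat_lit 1997) (.node (nat_lit 1910) (.node (nat_lit 1900) (.leaf (nat_lit 676)) (.leaf (nat_lit 11428))) (.node (nat_lit 1918) (.leaf (nat_lit 16804)) (.leaf (nat_lit 6052)))) (.node (nat_lit 2013) (.node (nat_lit 2005)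 (.leaf (nat_lit 512)) (.leaf (nat_lit 16640))) (.node (nat_lit 2021) (.leaf (nat_lit 5888)) (.leaf (nat_lit 11264))))) (.node (nat_lit 2082) (.node (nat_lit 2068) (.node (nat_lit 2062) (.leaf (nat_lit 1444)) (.leaf (nat_lit 17572))) (.node (nat_lit 2078) (.leaf (nat_lit 6820)) (.leaf (nat_lit 12196)))) (.node (nat_lit 2098) (.node (nat_lit 2090) (.leaf (nat_lit 640)) (.leaf (nat_lit 11392))) (.node (nat_lit 2106) (.leaf (nat_lit 16768)) (.leaf (nat_lit 6016))))))) (.node (nat_lit 2474) (.node (nat_lit 2229) (.node (nat_lit 2199) (.node (nat_lit 2162) (.node (nat_lit 2154) (.leaf (nat_lit 1988)) (.leaf (nat_lit 18116))) (.node (nat_lit 2168) (.leaf (nat_lit 7364)) (.leaf (nat_lit 12740)))) (.node (nat_lit 2217) (.node (nat_lit 2207) (.leaf (nat_lit 548)) (.leaf (nat_lit 16676))) (.node (nat_lit 2225) (.leaf (nat_lit 5924)) (.leaf (nat_lit 11300))))) (.node (nat_lit 2284)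 (.node (nat_lit 2247) (.node (nat_lit 2237) (.leaf (nat_lit 644)) (.leaf (nat_lit 11396))) (.node (nat_lit 2255) (.leaf (nat_lit 16772)) (.leaf (nat_lit 6020)))) (.node (nat_lit 2300) (.node (nat_lit 2294) (.leaf (nat_lit 1236)) (.leaf (nat_lit 11988))) (.node (nat_lit 2310) (.leaf (nat_lit 17364)) (.leaf (nat_lit 6612)))))) (.node (nat_lit 2726) (.node (nat_lit 2536) (.node (nat_lit 2492) (.node (nat_lit 2484) (.leaf (nat_lit 2164)) (.leaf (nat_lit 12916))) (.node (nat_lit 2498) (.leaf (nat_lit 18292)) (.leaf (nat_lit 7540)))) (.node (nat_lit 2554) (.node (nat_lit 2544) (.leaf (nat_lit 532)) (.leaf (nat_lit 16660))) (.node (nat_lit 2562) (.leaf (nat_lit 5908)) (.leaf (nat_lit 11284))))) (.node (nat_lit 2811) (.node (nat_lit 2742) (.node (nat_lit 2736) (.leaf (nat_lit 1460)) (.leaf (nat_lit 17588))) (.node (nat_lit 2752) (.leaf (nat_lit 6836)) (.leaf (nat_lit 12212))))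 (.node (nat_lit 2829) (.node (nat_lit 2821) (.leaf (nat_lit 2148)) (.leaf (nat_lit 12900))) (.node (nat_lit 2835) (.leaf (nat_lit 18276)) (.leaf (nat_lit 7524)))))))))
noncomputable def c1_f_F : Fm := (.all LH (.imp (.eq (.mul (.v (nat_lit 0)) (.v (nat_lit 3))) (.mul (.v (nat_lit 3)) (.v (nat_lit 0)))) (.and (.imp (.eq (.mul (.v (nat_lit 0)) (.v (nat_lit 0))) .one) (.and (.imp (.eq (.mul (.mul (.v (nat_lit 0)) (.mul (.mul (.v (nat_lit 15)) (.v (nat_lit 0))) (.v (nat_lit 16)))) (.mul (.mul (.v (nat_lit 16)) (.v (nat_lit 0))) (.v (nat_lit 15)))) .one) (.qf (.mem (.v (nat_lit 0)) L27))) (.imp (.eq (.mul (.mul (.v (nat_lit 0)) (.v (nat_lit 15))) (.v (nat_lit 0))) (.v (nat_lit 16))) (.qf (.mem (.v (nat_lit 0)) L4))))) (.and (.imp (.eq (.pw (.v (nat_lit 0)) (nat_lit 3)) .one) (.or (.qf (.eq (.v (nat_lit 0)) .one)) (.exF LH (fun cs => c1_f_t0.find (Nat.mod (nth (nat_lit 0) cs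 (nat_lit 0)) (nat_lit 2843))) (.qf (.and (.eq (.mul (.v (nat_lit 0)) (.v (nat_lit 4))) (.mul (.v (nat_lit 4)) (.v (nat_lit 0)))) (.eq (.mul (.v (nat_lit 0)) (.v (nat_lit 1))) (.mul (.v (nat_lit 16)) (.v (nat_lit 0))))))))) (.imp (.eq (.mul (.v (nat_lit 0)) (.v (nat_lit 15))) (.mul (.v (nat_lit 15)) (.v (nat_lit 0)))) (.imp (.eq (.mul (.mul (.mul (.v (nat_lit 7)) (.v (nat_lit 0))) (.v (nat_lit 7))) (.v (nat_lit 0))) .one) (.qf (.or (.eq (.v (nat_lit 0)) .one) (.eq (.v (nat_lit 0)) (.v (nat_lit 1)))))))))))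
theorem c1_f_chk : Fm.chk o c1_f_F cs2 = true := by decide +kernel
theorem c1_f {G : Type*} [Group G] (S : HS G) :
    ∀ x ∈ S.H, x * S.a25 = S.a25 * x → (x * x = 1 → (x * (S.p * x * S.q) * (S.q * x * S.p) = 1 → InS S.R L27 (x)) ∧ (x * S.p * x = S.q → InS S.R L4 (x))) ∧ (x ^ 3 = 1 → x = 1 ∨ (∃ h ∈ S.H, h * S.a25 = S.a25 * h ∧ h * x = S.p * h)) ∧ (x * S.p = S.p * x → S.a12 * x * S.a12 * x = 1 → x = 1 ∨ x = S.z) :=
  have h : ∀ x, InL o S.R LH x → x * S.a25 = S.a25 * x → (x * x = 1 → (x * (S.p * x * S.q) * (S.q * x * S.p) = 1 → InS S.R L27 (x)) ∧ (x * S.p * x = S.q → InS S.R L4 (x))) ∧ (x ^ 3 = 1 → x = 1 ∨ (Good o S.R LH → prods o LH o.one ≠ [] → ∃ h, InL o S.R LH h ∧ h * S.a25 = S.a25 * h ∧ h * x = S.p * h)) ∧ (x * S.p = S.p * x → S.a12 * x * S.a12 * x = 1 → x = 1 ∨ x = S.z) :=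
    Fm.sound S.μ c1_f_F c1_f_chk S.reps2
  (fun x h0 => (fun h1 => (And.imp (fun h2 => (fun h3 => (And.imp (fun h4 => (fun h5 => (Iff.rfl.1 (h4 h5)))) (fun h4 => (fun h5 => (Iff.rfl.1 (h4 h5)))) (h2 h3)))) (fun h2 => (And.imp (fun h3 => (fun h4 => (Or.imp (fun h5 => h5) (fun h5 => (Exists.imp (fun h h6 => ⟨S.EH.iff.1 h6.1, h6.2⟩) (h5 S.EH.good S.EH.ne))) (h3 h4)))) (fun h3 => h3) h2)) ((h x (S.EH.iff.2 h0)) h1))))
noncomputable def c1_r_F : Fm := (.qf (.and (.eq (.mul (.mul (.v (nat_lit 3)) (.mul (.mul (.v (nat_lit 14)) (.v (nat_lit 3))) (.v (nat_lit 15)))) (.mul (.mul (.v (nat_lit 15)) (.v (nat_lit 3))) (.v (nat_lit 14)))) .one) (.and (.eq (.mul (.mul (.v (nat_lit 7)) (.mul (.mul (.v (nat_lit 14)) (.v (nat_lit 7))) (.v (nat_lit 15)))) (.mul (.mul (.v (nat_lit 15)) (.v (nat_lit 7))) (.v (nat_lit 14)))) .one) (.and (.eq (.mul (.mul (.v (nat_lit 5)) (.mul (.mul (.v (nat_lit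 14)) (.v (nat_lit 5))) (.v (nat_lit 15)))) (.mul (.mul (.v (nat_lit 15)) (.v (nat_lit 5))) (.v (nat_lit 14)))) .one) (.and (.eq (.mul (.mul (.v (nat_lit 8)) (.v (nat_lit 14))) (.v (nat_lit 8))) (.v (nat_lit 15))) (.and (.eq (.mul (.mul (.v (nat_lit 3)) (.v (nat_lit 5))) (.mul (.v (nat_lit 3)) (.v (nat_lit 5)))) (.v (nat_lit 0))) (.and (.eq (.mul (.mul (.v (nat_lit 7)) (.v (nat_lit 5))) (.mul (.v (nat_lit 7)) (.v (nat_lit 5)))) (.v (nat_lit 2))) (.and (.eq (.mul (.v (nat_lit 3)) (.v (nat_lit 7))) (.mul (.v (nat_lit 7)) (.v (nat_lit 3)))) (.and (.eq (.mul (.mul (.v (nat_lit 8)) (.v (nat_lit 3))) (.v (nat_lit 8))) (.mul (.mul (.v (nat_lit 14)) (.v (nat_lit 3))) (.v (nat_lit 15)))) (.and (.eq (.mul (.mul (.v (nat_lit 8)) (.v (nat_lit 7))) (.v (nat_lit 8))) (.mul (.mul (.v (nat_lit 14)) (.v (nat_lit 7))) (.v (nat_lit 15)))) (.and (.eq (.mul (.v (nat_lit 8)) (.v (nat_lit 5)))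 (.mul (.v (nat_lit 5)) (.v (nat_lit 8)))) (.and (.eq (.mul (.v (nat_lit 1)) (.v (nat_lit 0))) (.mul (.mul (.mul (.v (nat_lit 15)) (.v (nat_lit 3))) (.v (nat_lit 14))) (.v (nat_lit 0)))) (.eq (.mul (.v (nat_lit 3)) (.mul (.mul (.v (nat_lit 14)) (.v (nat_lit 7))) (.v (nat_lit 15)))) (.mul (.mul (.mul (.v (nat_lit 14)) (.v (nat_lit 7))) (.v (nat_lit 15))) (.v (nat_lit 3))))))))))))))))
theorem c1_r_chk : Fm.chk o c1_r_F cs2 = true := by decide +kernel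
theorem c1_r {G : Type*} [Group G] (S : HS G) :
    S.a13 * (S.p * S.a13 * S.q) * (S.q * S.a13 * S.p) = 1 ∧ S.a23 * (S.p * S.a23 * S.q) * (S.q * S.a23 * S.p) = 1 ∧ S.a35 * (S.p * S.a35 * S.q) * (S.q * S.a35 * S.p) = 1 ∧ S.a34 * S.p * S.a34 = S.q ∧ S.a13 * S.a35 * (S.a13 * S.a35) = S.z ∧ S.a23 * S.a35 * (S.a23 * S.a35) = S.a25 ∧ S.a13 * S.a23 = S.a23 * S.a13 ∧ S.a34 * S.a13 * S.a34 = S.p * S.a13 * S.q ∧ S.a34 * S.a23 * S.a34 = S.p * S.a23 * S.q ∧ S.a34 * S.a35 = S.a35 * S.a34 ∧ S.a14 * S.z = S.q * S.a13 * S.p * S.z ∧ S.a13 * (S.p * S.a23 * S.q) = S.p * S.a23 * S.q * S.a13 :=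
  Fm.sound S.μ c1_r_F c1_r_chk S.reps2
noncomputable def c1_s_F : Fm := (.qf (.and (.eq (.pw (.v (nat_lit 14)) (nat_lit 3)) .one) (.and (.eq (.v (nat_lit 15)) (.mul (.v (nat_lit 14)) (.v (nat_lit 14)))) (.and (.eq (.mul (.v (nat_lit 6)) (.v (nat_lit 14))) (.mul (.v (nat_lit 14)) (.v (nat_lit 6)))) (.and (.eq (.mul (.v (nat_lit 6)) (.v (nat_lit 5))) (.mul (.v (nat_lit 5)) (.v (nat_lit 6)))) (.and (.eq (.mul (.v (nat_lit 6)) (.v (nat_lit 8))) (.mul (.v (nat_lit 8)) (.v (nat_lit 6)))) (.and (.eq (.mul (.mul (.v (nat_lit 6)) (.v (nat_lit 2))) (.v (nat_lit 6))) (.mul (.v (nat_lit 0)) (.v (nat_lit 2)))) (.not (.eq (.mul (.v (nat_lit 0)) (.v (nat_lit 2))) (.v (nat_lit 0)))))))))))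
theorem c1_s_chk : Fm.chk o c1_s_F cs2 = true := by decide +kernel
theorem c1_s {G : Type*} [Group G] (S : HS G) :
    S.p ^ 3 = 1 ∧ S.q = S.p * S.p ∧ S.a12 * S.p = S.p * S.a12 ∧ S.a12 * S.a35 = S.a35 * S.a12 ∧ S.a12 * S.a34 = S.a34 * S.a12 ∧ S.a12 * S.a25 * S.a12 = S.z * S.a25 ∧ S.z * S.a25 ≠ S.z :=
  Fm.sound S.μ c1_s_F c1_s_chk S.reps2
noncomputable def c1_main_F : Fm := (.allS L27 (.imp (.or (.not (.eq (.mul (.v (nat_lit 0)) (.mul (.mul (.v (nat_lit 7)) (.v (nat_lit 0))) (.v (nat_lit 7)))) .one)) (.eq (.mul (.v (nat_lit 6)) (.mul (.mul (.v (nat_lit 7)) (.v (nat_lit 0))) (.v (nat_lit 7)))) .one)) (.allS L27 (.imp (.eq (.mul (.mul (.v (nat_lit 0)) (.v (nat_lit 1))) (.mul (.v (nat_lit 0)) (.v (nat_lit 1)))) (.mul (.v (nat_lit 2)) (.v (nat_lit 4)))) (.imp (.or (.not (.eq (.mul (.v (nat_lit 1)) (.mul (.mul (.v (nat_lit 8)) (.v (nat_lit 1))) (.v (nat_lit 8)))) (.mul (.v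 (nat_lit 3)) (.v (nat_lit 2))))) (.eq (.mul (.v (nat_lit 7)) (.mul (.mul (.v (nat_lit 8)) (.v (nat_lit 1))) (.v (nat_lit 8)))) (.mul (.mul (.mul (.v (nat_lit 17)) (.v (nat_lit 0))) (.v (nat_lit 16))) (.mul (.v (nat_lit 2)) (.v (nat_lit 4)))))) (.allS L27 (.imp (.eq (.mul (.mul (.v (nat_lit 0)) (.v (nat_lit 2))) (.mul (.v (nat_lit 0)) (.v (nat_lit 2)))) (.v (nat_lit 5))) (.imp (.eq (.mul (.v (nat_lit 1)) (.v (nat_lit 0))) (.mul (.v (nat_lit 0)) (.v (nat_lit 1)))) (.imp (.eq (.mul (.v (nat_lit 1)) (.mul (.mul (.v (nat_lit 17)) (.v (nat_lit 0))) (.v (nat_lit 18)))) (.mul (.mul (.mul (.v (nat_lit 17)) (.v (nat_lit 0))) (.v (nat_lit 18))) (.v (nat_lit 1)))) (.allS L4 (.imp (.eq (.mul (.mul (.v (nat_lit 0)) (.v (nat_lit 2))) (.v (nat_lit 0))) (.mul (.mul (.v (nat_lit 18)) (.v (nat_lit 2))) (.v (nat_lit 19)))) (.imp (.eq (.mul (.mul (.v (nat_lit 0)) (.v (nat_lit 1))) (.v (nat_lit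 0))) (.mul (.mul (.v (nat_lit 18)) (.v (nat_lit 1))) (.v (nat_lit 19)))) (.imp (.eq (.mul (.v (nat_lit 0)) (.v (nat_lit 3))) (.mul (.v (nat_lit 3)) (.v (nat_lit 0)))) (.imp (.or (.not (.eq (.mul (.v (nat_lit 0)) (.mul (.mul (.v (nat_lit 10)) (.v (nat_lit 0))) (.v (nat_lit 10)))) .one)) (.eq (.mul (.v (nat_lit 12)) (.mul (.mul (.v (nat_lit 10)) (.v (nat_lit 0))) (.v (nat_lit 10)))) .one)) (.imp (.or (.not (.eq (.mul (.v (nat_lit 0)) (.mul (.mul (.v (nat_lit 10)) (.v (nat_lit 0))) (.v (nat_lit 10)))) (.v (nat_lit 4)))) (.eq (.mul (.v (nat_lit 12)) (.mul (.mul (.v (nat_lit 10)) (.v (nat_lit 0))) (.v (nat_lit 10)))) (.mul (.v (nat_lit 4)) (.v (nat_lit 6))))) (.qf (.and (.eq (.v (nat_lit 2)) (.mul (.v (nat_lit 7)) (.v (nat_lit 11)))) (.and (.eq (.v (nat_lit 1)) (.v (nat_lit 11))) (.and (.or (.eq (.v (nat_lit 3)) (.v (nat_lit 9))) (.eq (.v (nat_lit 3)) (.mul (.mul (.v (nat_lit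 9)) (.v (nat_lit 8))) (.v (nat_lit 6))))) (.or (.eq (.v (nat_lit 0)) (.v (nat_lit 12))) (.eq (.v (nat_lit 0)) (.mul (.v (nat_lit 12)) (.v (nat_lit 6))))))))))))))))))))))))
theorem c1_main_chk : Fm.chk o c1_main_F cs2 = true := by decide +kernel
theorem c1_main {G : Type*} [Group G] (S : HS G) :
    ∀ y3, InS S.R L27 y3 → y3 * (S.a12 * y3 * S.a12) ≠ 1 ∨ S.a35 * (S.a12 * y3 * S.a12) = 1 → (∀ y1, InS S.R L27 y1 → y1 * y3 * (y1 * y3) = S.z * S.a25 → y3 * (S.a12 * y3 * S.a12) ≠ S.a14 * S.z ∨ S.a35 * (S.a12 * y3 * S.a12) = S.q * y1 * S.p * (S.z * S.a25) → (∀ y2, InS S.R L27 y2 → y2 * y3 * (y2 * y3) = S.a25 → y1 * y2 = y2 * y1 → y1 * (S.p * y2 * S.q) = S.p * y2 * S.q * y1 → (∀ y4, InS S.R L4 y4 → y4 * y1 * y4 = S.p * y1 * S.q → y4 * y2 * y4 = S.p * y2 * S.q → y4 * y3 = y3 * y4 → y4 * (S.a12 * y4 * S.a12) ≠ 1 ∨ S.a34 * (S.a12 * y4 * S.a12) = 1 → y4 * (S.a12 * y4 * S.a12) ≠ S.z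 ∨ S.a34 * (S.a12 * y4 * S.a12) = S.z * S.a25 → y1 = S.a13 * S.a23 ∧ y2 = S.a23 ∧ (y3 = S.a35 ∨ y3 = S.a35 * S.a24 * S.a25) ∧ (y4 = S.a34 ∨ y4 = S.a34 * S.a25)))) :=
  have h : ∀ y3, InS S.R L27 y3 → y3 * (S.a12 * y3 * S.a12) ≠ 1 ∨ S.a35 * (S.a12 * y3 * S.a12) = 1 → (∀ y1, InS S.R L27 y1 → y1 * y3 * (y1 * y3) = S.z * S.a25 → y3 * (S.a12 * y3 * S.a12) ≠ S.a14 * S.z ∨ S.a35 * (S.a12 * y3 * S.a12) = S.q * y1 * S.p * (S.z * S.a25) → (∀ y2, InS S.R L27 y2 → y2 * y3 * (y2 * y3) = S.a25 → y1 * y2 = y2 * y1 → y1 * (S.p * y2 * S.q) = S.p * y2 * S.q * y1 → (∀ y4, InS S.R L4 y4 → y4 * y1 * y4 = S.p * y1 * S.q → y4 * y2 * y4 = S.p * y2 * S.q → y4 * y3 = y3 * y4 → y4 * (S.a12 * y4 * S.a12) ≠ 1 ∨ S.a34 * (S.a12 * y4 * S.a12) = 1 → y4 * (S.a12 * y4 * S.a12) ≠ S.z ∨ S.a34 * (S.a12 * y4 * S.a12) = S.z * S.a25 → y1 = S.a13 * S.a23 ∧ y2 = S.a23 ∧ (y3 = S.a35 ∨ y3 = S.a35 * S.a24 * S.a25)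 ∧ (y4 = S.a34 ∨ y4 = S.a34 * S.a25)))) :=
    Fm.sound S.μ c1_main_F c1_main_chk S.reps2
  (fun y3 h0 => (fun h1 => (fun y1 h2 => (fun h3 => (fun h4 => (fun y2 h5 => (fun h6 => (fun h7 => (fun h8 => (fun y4 h9 => ((((((((((h y3 h0) h1) y1 h2) h3) h4) y2 h5) h6) h7) h8) y4 h9)))))))))))

end HS
end H1.Hd
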