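import Cfsg.Agent.H0.PM3

/-! Codes for `2^{1+6}_+`; the pairs of elements of orders `2, 3` with product of order `7` in `O₆⁺(2)`. -/

set_option autoImplicit false
set_option maxRecDepth 100000

namespace H1.Hu
open H0.PM H16

noncomputable def bt (n m : ℕ) : ℕ := Nat.land (Nat.shiftRight (nat_lit 150)
  (Nat.land (Nat.land (Nat.shiftRight n (nat_lit 3)) m) (nat_lit 7))) (nat_lit 1)

noncomputable def qm (n m : ℕ) : ℕ := Nat.xor (Nat.xor n m) (Nat.shiftLeft (bt n m) (nat_lit 6))

noncomputable def ap (A : List ℕ) : ℕ → ℕ :=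
  List.rec (motive := fun _ => ℕ → ℕ) (fun _ => nat_lit 0)
    (fun a _ ih v => Nat.xor (Nat.mul (Nat.land v (nat_lit 1)) a)
      (force (Nat.shiftRight v (nat_lit 1)) ih)) A

theorem ap_nil (v : ℕ) : ap [] v = 0 := rfl
theorem ap_cons (a : ℕ) (A : List ℕ) (v : ℕ) : ap (a :: A) v = (v &&& 1) * a ^^^ ap A (v >>> 1) := by
  show (v &&& 1) * a ^^^ force (v >>> 1) (ap A) = _
  rw [force_eq]

theorem bit_cases (v : ℕ) : v &&& 1 = 0 ∨ v &&& 1 = 1 := by
  have : v &&& 1 ≤ 1 := Nat.and_le_right
  omega

theorem ap_xor (A : List ℕ) (v w : ℕ) : ap A (v ^^^ w) = ap A v ^^^ ap A w := by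
  induction A generalizing v w with
  | nil => simp [ap_nil]
  | cons a A ih =>
    rw [ap_cons, ap_cons, ap_cons, Nat.shiftRight_xor_distrib, ih, Nat.and_xor_distrib_right]
    have : ((v &&& 1) ^^^ (w &&& 1)) * a = (v &&& 1) * a ^^^ (w &&& 1) * a := by
      rcases bit_cases v with h | h <;> rcases bit_cases w with h' | h' <;> simp [h, h']
    rw [this]; ac_rfl

theorem ap_zero (A : List ℕ) : ap A 0 = 0 := by
  have := ap_xor A 0 0
  rwa [Nat.xor_self, Nat.xor_self] at this

theorem ap_map (A B : List ℕ) (v : ℕ) : ap (A.map (ap B)) v = ap B (ap A v) := by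
  induction A generalizing v with
  | nil => exact (ap_zero B).symm
  | cons a A ih =>
    rw [List.map_cons, ap_cons, ap_cons, ap_xor, ih]
    rcases bit_cases v with h | h <;> simp [h, ap_zero]

noncomputable def mapK {α : Type} (f : ℕ → ℕ) (A : List ℕ) : (List ℕ → α) → α :=
  List.rec (motive := fun _ => (List ℕ → α) → α) (fun k => k [])
    (fun a _ ih k => force (f a) fun x => ih fun l => k (x :: l)) A

theorem mapK_eq {α : Type} (f : ℕ → ℕ) (A : List ℕ) (k : List ℕ → α) : mapK f A k = k (A.map f) := by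
  induction A generalizing k with
  | nil => rfl
  | cons a A ih =>
    show force (f a) (fun x => mapK f A fun l => k (x :: l)) = _
    rw [force_eq, ih]; rfl

noncomputable def LH : List (List ℕ) := [[nat_lit 1, nat_lit 2, nat_lit 4, nat_lit 8, nat_lit 16, nat_lit 32], [nat_lit 27, nat_lit 35, nat_lit 59, nat_lit 20, nat_lit 17, nat_lit 21], [nat_lit 40, nat_lit 42, nat_lit 7, nat_lit 54, nat_lit 55, nat_lit 34], [nat_lit 10, nat_lit 6, nat_lit 55, nat_lit 7, nat_lit 40, nat_lit 2], [nat_lit 55, nat_lit 10, nat_lit 34, nat_lit 42, nat_lit 20, nat_lit 59], [nat_lit 7, nat_lit 2, nat_lit 47, nat_lit 35, nat_lit 55, nat_lit 1], [nat_lit 59, nat_lit 35, nat_lit 56, nat_lit 21, nat_lit 61, nat_lit 55], [nat_lit 28, nat_lit 42, nat_lit 27, nat_lit 32, nat_lit 3, nat_lit 34]]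
noncomputable def LI : List (List ℕ) := [[nat_lit 1, nat_lit 2, nat_lit 4, nat_lit 8, nat_lit 16, nat_lit 32], [nat_lit 40, nat_lit 47, nat_lit 48, nat_lit 62, nat_lit 56, nat_lit 5], [nat_lit 24, nat_lit 3, nat_lit 31, nat_lit 34, nat_lit 55, nat_lit 35], [nat_lit 10, nat_lit 32, nat_lit 34, nat_lit 33, nat_lit 61, nat_lit 49], [nat_lit 21, nat_lit 14, nat_lit 45, nat_lit 12, nat_lit 61, nat_lit 10], [nat_lit 32, nat_lit 2, nat_lit 35, nat_lit 47, nat_lit 59, nat_lit 42], [nat_lit 42, nat_lit 47, nat_lit 62, nat_lit 31, nat_lit 28, nat_lit 7], [nat_lit 56, nat_lit 40, nat_lit 21, nat_lit 34, nat_lit 54, nat_lit 8]]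

noncomputable def redK {α : Type} (fuel : ℕ) : ℕ → List ℕ → (List ℕ → α) → α :=
  Nat.rec (motive := fun _ => ℕ → List ℕ → (List ℕ → α) → α) (fun _ A k => k A)
    (fun _ ih w A k => force (Nat.land w (nat_lit 7)) fun d => Bool.rec (motive := fun _ => α)
      (mapK (fun r => force (ap A r) (ap (nth [] LI d))) (nth [] LH d) fun A' =>
        force (Nat.shiftRight w (nat_lit 3)) fun w' => ih w' A' k) (k A) (Nat.beq d (nat_lit 0))) fuel

noncomputable def cjm (d : ℕ) (A : List ℕ) : List ℕ :=
  ((nth [] LH d).map (ap A)).map (ap (nth [] LI d))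

noncomputable def red : ℕ → ℕ → List ℕ → List ℕ
  | 0, _, A => A
  | f + 1, w, A => if w &&& 7 = 0 then A else red f (w >>> 3) (cjm (w &&& 7) A)

theorem redK_eq {α : Type} (f w : ℕ) (A : List ℕ) (k : List ℕ → α) : redK f w A k = k (red f w A) := by
  induction f generalizing w A with
  | zero => rfl
  | succ f ih =>
    show force (w &&& 7) (fun d => Bool.rec (motive := fun _ => α)
      (mapK (fun r => force (ap A r) (ap (nth [] LI d))) (nth [] LH d) fun A' =>
        force (w >>> 3) fun w' => redK f w' A' k) (k A) (Nat.beq d 0)) = _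
    rw [force_eq, red]
    cases h : Nat.beq (w &&& 7) 0
    · rw [if_neg (Nat.ne_of_beq_eq_false h)]
      simp only [mapK_eq, force_eq, ih, cjm, List.map_map]; rfl
    · rw [if_pos (Nat.eq_of_beq_eq_true h)]

noncomputable def allM (f : ℕ → Bool) (fuel : ℕ) : ℕ → Bool :=
  Nat.rec (motive := fun _ => ℕ → Bool) (fun m => Nat.beq m (nat_lit 0))
    (fun _ ih m => Bool.rec (motive := fun _ => Bool) (force (Nat.log2 m) fun i =>
      Bool.rec (motive := fun _ => Bool) false
        (force (Nat.xor m (Nat.shiftLeft (nat_lit 1) i)) ih) (f i)) true (Nat.beq m (nat_lit 0))) fuel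

theorem allM_sound {f : ℕ → Bool} {fuel m : ℕ} (h : allM f fuel m = true) {i : ℕ}
    (hi : m.testBit i = true) : f i = true := by
  induction fuel generalizing m with
  | zero => rw [Nat.eq_of_beq_eq_true (m := 0) h] at hi; simp at hi
  | succ n ih =>
    change Bool.rec (motive := fun _ => Bool) (force (Nat.log2 m) fun i =>
      Bool.rec (motive := fun _ => Bool) false (force (m ^^^ 1 <<< i) (allM f n)) (f i)) true
        (Nat.beq m 0) = true at h
    cases e : Nat.beq m 0
    · rw [e, force_eq] at h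
      cases e' : f (Nat.log2 m)
      · rw [e'] at h; cases h
      · rw [e', force_eq] at h
        by_cases k : Nat.log2 m = i
        · exact k ▸ e'
        · exact ih h (by rw [Nat.testBit_xor, hi, Nat.one_shiftLeft, Nat.testBit_two_pow_of_ne k]; rfl)
    · rw [Nat.eq_of_beq_eq_true e] at hi; simp at hi

noncomputable def it (f : ℕ → ℕ) (k v : ℕ) : ℕ :=
  Nat.rec (motive := fun _ => ℕ) v (fun _ ih => force ih f) k

theorem it_eq (f : ℕ → ℕ) (k v : ℕ) : it f k v = f^[k] v := by
  induction k with
  | zero => rfl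
  | succ k ih => rw [Function.iterate_succ_apply', ← ih]; exact force_eq _ _

noncomputable def E6 : List ℕ := [nat_lit 1, nat_lit 2, nat_lit 4, nat_lit 8, nat_lit 16, nat_lit 32]
noncomputable def fx (f : ℕ → ℕ) (k : ℕ) : Bool := allB (fun v => Nat.beq (it f k v) v) E6

theorem fx_of {f : ℕ → ℕ} {k : ℕ} (h : ∀ v < 64, f^[k] v = v) : fx f k = true := by
  rw [fx, allB_eq, List.all_eq_true]
  intro v hv
  rw [it_eq, Nat.beq_eq]
  exact h v (by revert v; decide)

noncomputable def sg : ℕ := (nat_lit 7621116480854382079)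
noncomputable def OT : ℕ := nat_lit 0x966969966996966969699696969669696996699696699669969696966969696969969669699696699696696996966969966996699669966969696969696969693cc3c33cc33c3cc3c3c33c3c3c3cc3c3c33cc33c3cc33cc33c3c3c3cc3c3c3c3c33c3cc3c33c3cc33c3cc3c33c3cc3c33cc33cc33cc33cc3c3c3c3c3c3c3c3c35aa5a55aa55a5aa5a5a55a5a5a5aa5a5a55aa55a5aa55aa55a5a5a5aa5a5a5a5a55a5aa5a55a5aa55a5aa5a55a5aa5a55aa55aa55aa55aa5a5a5a5a5a5a5a5a5f00f0ff00ff0f00f0f0ff0f0f0f00f0f0ff00ff0f00ff00ff0f0f0f00f0f0f0f0ff0f00f0ff0f00ff0f00f0ff0f00f0ff00ff00ff00ff00f0f0f0f0f0f0f0f0f66999966996666999999666666669999996699666699669966666666999999999966669999666699666699996666999966996699669966999999999999999999cc3333cc33cccc333333cccccccc333333cc33cccc33cc33cccccccc3333333333cccc3333cccc33cccc3333cccc3333cc33cc33cc33cc333333333333333333aa5555aa55aaaa555555aaaaaaaa555555aa55aaaa55aa55aaaaaaaa5555555555aaaa5555aaaa55aaaa5555aaaa5555aa55aa55aa55aa55555555555555555500ffff00ff0000ffffff00000000ffffff00ff0000ff00ff00000000ffffffffff0000ffff0000ff0000ffff0000ffff00ff00ff00ff00ffffffffffffffffff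
noncomputable def orth (v : ℕ) : ℕ := H16.lk OT (nat_lit 64) (nat_lit 18446744073709551615) v
noncomputable def AP : List ℕ := [nat_lit 1, nat_lit 4, nat_lit 2, nat_lit 8, nat_lit 32, nat_lit 16]
noncomputable def AU : List ℕ := [nat_lit 1, nat_lit 4, nat_lit 2, nat_lit 8, nat_lit 34, nat_lit 20]
noncomputable def B0 : List ℕ := [nat_lit 5, nat_lit 2, nat_lit 1, nat_lit 32, nat_lit 16, nat_lit 40]
noncomputable def B1 : List ℕ := [nat_lit 1, nat_lit 16, nat_lit 48, nat_lit 8, nat_lit 54, nat_lit 20]
noncomputable def B2 : List ℕ := [nat_lit 4, nat_lit 2, nat_lit 5, nat_lit 40, nat_lit 16, nat_lit 8]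
noncomputable def T1 : ST := (.node (nat_lit 34385513105) (.node (nat_lit 11769856524) (.node (nat_lit 4564897932) (.node (nat_lit 2351024813) (.node (nat_lit 1897640273) (.node (nat_lit 1364588705) (.node (nat_lit 1343275441) (.node (nat_lit 1187293186) (.node (nat_lit 1162258434) (.node (nat_lit 1146194115) (.leaf (nat_lit 503)) (.leaf (nat_lit 1963))) (.node (nat_lit 1163114691) (.leaf (nat_lit 156)) (.leaf (nat_lit 1305)))) (.node (nat_lit 1203931138) (.node (nat_lit 1188792515) (.leaf (nat_lit 737)) (.leaf (nat_lit 980))) (.node (nat_lit 1205450947) (.leaf (nat_lit 819)) (.node (nat_lit 1343275169) (.leaf (nat_lit 933)) (.leaf (nat_lit 3316)))))) (.node (nat_lit 1347537057) (.node (nat_lit 1343341041) (.node (nat_lit 1343340769) (.leaf (nat_lit 3436)) (.leaf (nat_lit 483))) (.node (nat_lit 1347471585) (.leaf (nat_lit 2506)) (.node (nat_lit 1347472881) (.leaf (nat_lit 1182)) (.leaf (nat_lit 266))))) (.node (nat_lit 1360060577) (.node (nat_lit 1347538353) (.leaf (nat_lit 3663)) (.leaf (nat_lit 3157)))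 (.node (nat_lit 1360519393) (.leaf (nat_lit 31)) (.node (nat_lit 1364392161) (.leaf (nat_lit 742)) (.leaf (nat_lit 3050))))))) (.node (nat_lit 1627972016) (.node (nat_lit 1430648930) (.node (nat_lit 1413597282) (.node (nat_lit 1410384035) (.leaf (nat_lit 244)) (.leaf (nat_lit 1434))) (.node (nat_lit 1427169443) (.leaf (nat_lit 1131)) (.leaf (nat_lit 5989)))) (.node (nat_lit 1611628880) (.node (nat_lit 1611170064) (.leaf (nat_lit 2495)) (.leaf (nat_lit 2663))) (.node (nat_lit 1619690832) (.leaf (nat_lit 2038)) (.node (nat_lit 1619887376) (.leaf (nat_lit 2813)) (.leaf (nat_lit 3479)))))) (.node (nat_lit 1881010401) (.node (nat_lit 1636433392) (.node (nat_lit 1628303856) (.leaf (nat_lit 1870)) (.leaf (nat_lit 1195))) (.node (nat_lit 1636625840) (.leaf (nat_lit 1180)) (.node (nat_lit 1880678561) (.leaf (nat_lit 2716)) (.leaf (nat_lit 949))))) (.node (nat_lit 1893595297) (.node (nat_lit 1893263585) (.leaf (nat_lit 228)) (.leaf (nat_lit 2355))) (.node (nat_lit 1897439505) (.leaf (nat_lit 19)) (.node (nat_lit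 1897447585) (.leaf (nat_lit 588)) (.leaf (nat_lit 403)))))))) (.node (nat_lit 2217822401) (.node (nat_lit 2009200738) (.node (nat_lit 1910154513) (.node (nat_lit 1910093137) (.node (nat_lit 1897648353) (.leaf (nat_lit 1249)) (.leaf (nat_lit 3487))) (.node (nat_lit 1910098081) (.leaf (nat_lit 1929)) (.leaf (nat_lit 379)))) (.node (nat_lit 1981341859) (.node (nat_lit 1910167777) (.leaf (nat_lit 3377)) (.leaf (nat_lit 1138))) (.node (nat_lit 1992673378) (.leaf (nat_lit 231)) (.node (nat_lit 1998110883) (.leaf (nat_lit 164)) (.leaf (nat_lit 5103)))))) (.node (nat_lit 2216773761) (.node (nat_lit 2173262341) (.node (nat_lit 2172715524) (.leaf (nat_lit 5234)) (.leaf (nat_lit 951))) (.node (nat_lit 2206433798) (.leaf (nat_lit 3829)) (.node (nat_lit 2206857735) (.leaf (nat_lit 107)) (.leaf (nat_lit 668))))) (.node (nat_lit 2216806531) (.node (nat_lit 2216774277) (.leaf (nat_lit 2677)) (.leaf (nat_lit 2453))) (.node (nat_lit 2216807047) (.leaf (nat_lit 891)) (.node (nat_lit 2217302145) (.leaf (nat_lit 1742))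 (.leaf (nat_lit 6370))))))) (.node (nat_lit 2275539075) (.node (nat_lit 2242622086) (.node (nat_lit 2241943681) (.node (nat_lit 2218350785) (.leaf (nat_lit 314)) (.leaf (nat_lit 1177))) (.node (nat_lit 2242450052) (.leaf (nat_lit 225)) (.node (nat_lit 2242463873) (.leaf (nat_lit 375)) (.leaf (nat_lit 2227))))) (.node (nat_lit 2243254465) (.node (nat_lit 2242635907) (.leaf (nat_lit 63)) (.leaf (nat_lit 602))) (.node (nat_lit 2243774657) (.leaf (nat_lit 2267)) (.node (nat_lit 2251020419) (.leaf (nat_lit 1300)) (.leaf (nat_lit 764)))))) (.node (nat_lit 2349957347) (.node (nat_lit 2284963938) (.node (nat_lit 2282815584) (.leaf (nat_lit 1711)) (.leaf (nat_lit 693))) (.node (nat_lit 2317029472) (.leaf (nat_lit 2474)) (.node (nat_lit 2319054946) (.leaf (nat_lit 303)) (.leaf (nat_lit 1837))))) (.node (nat_lit 2350991523) (.node (nat_lit 2350624995) (.leaf (nat_lit 238)) (.leaf (nat_lit 357))) (.node (nat_lit 2350992047) (.leaf (nat_lit 3258)) (.node (nat_lit 2351024289) (.leaf (nat_lit 476)) (.leaf (nat_lit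 242))))))))) (.node (nat_lit 3346192450) (.node (nat_lit 3246720772) (.node (nat_lit 2853507168) (.node (nat_lit 2710174255) (.node (nat_lit 2385115297) (.node (nat_lit 2351659171) (.leaf (nat_lit 1694)) (.leaf (nat_lit 1530))) (.node (nat_lit 2709717518) (.leaf (nat_lit 2125)) (.leaf (nat_lit 738)))) (.node (nat_lit 2743687725) (.node (nat_lit 2743173644) (.leaf (nat_lit 1807)) (.leaf (nat_lit 1489))) (.node (nat_lit 2820604000) (.leaf (nat_lit 2879)) (.node (nat_lit 2831022178) (.leaf (nat_lit 4059)) (.leaf (nat_lit 162)))))) (.node (nat_lit 2913579662) (.node (nat_lit 2903998691) (.node (nat_lit 2864040034) (.leaf (nat_lit 249)) (.leaf (nat_lit 2348))) (.node (nat_lit 2904404195) (.leaf (nat_lit 843)) (.node (nat_lit 2913032355) (.leaf (nat_lit 167)) (.leaf (nat_lit 359))))) (.node (nat_lit 2913669772) (.node (nat_lit 2913585313) (.leaf (nat_lit 183)) (.leaf (nat_lit 1821))) (.node (nat_lit 2913691811) (.leaf (nat_lit 178)) (.node (nat_lit 2946627745) (.leaf (nat_lit 3830)) (.leaf (nat_lit 237)))))))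 (.node (nat_lit 3295760261) (.node (nat_lit 3294709953) (.node (nat_lit 3263491974) (.node (nat_lit 3247005509) (.leaf (nat_lit 2985)) (.leaf (nat_lit 1366))) (.node (nat_lit 3263858631) (.leaf (nat_lit 731)) (.leaf (nat_lit 2390)))) (.node (nat_lit 3295725634) (.node (nat_lit 3295500481) (.leaf (nat_lit 1199)) (.leaf (nat_lit 1310))) (.node (nat_lit 3295727430) (.leaf (nat_lit 3005)) (.node (nat_lit 3295758465) (.leaf (nat_lit 1438)) (.leaf (nat_lit 25)))))) (.node (nat_lit 3321436100) (.node (nat_lit 3319879873) (.node (nat_lit 3296548993) (.leaf (nat_lit 10207)) (.leaf (nat_lit 173))) (.node (nat_lit 3320662209) (.leaf (nat_lit 1695)) (.node (nat_lit 3321190529) (.leaf (nat_lit 1356)) (.leaf (nat_lit 1018))))) (.node (nat_lit 3321538311) (.node (nat_lit 3321448577) (.leaf (nat_lit 2546)) (.leaf (nat_lit 2713))) (.node (nat_lit 3321559106) (.leaf (nat_lit 599)) (.node (nat_lit 3338201154) (.leaf (nat_lit 290)) (.leaf (nat_lit 509)))))))) (.node (nat_lit 4212703395) (.node (nat_lit 3693043810) (.node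 (nat_lit 3681753184) (.node (nat_lit 3631286368) (.node (nat_lit 3624976547) (.leaf (nat_lit 1469)) (.leaf (nat_lit 412))) (.node (nat_lit 3675316387) (.leaf (nat_lit 1754)) (.leaf (nat_lit 2678)))) (.node (nat_lit 3692085693) (.node (nat_lit 3692085409) (.leaf (nat_lit 377)) (.leaf (nat_lit 6891))) (.node (nat_lit 3692118114) (.leaf (nat_lit 757)) (.node (nat_lit 3692118398) (.leaf (nat_lit 1379)) (.leaf (nat_lit 478)))))) (.node (nat_lit 3775455678) (.node (nat_lit 3698239522) (.node (nat_lit 3697313826) (.leaf (nat_lit 1740)) (.leaf (nat_lit 2021))) (.node (nat_lit 3742425249) (.leaf (nat_lit 284)) (.node (nat_lit 3775332831) (.leaf (nat_lit 365)) (.leaf (nat_lit 3741))))) (.node (nat_lit 3792208156) (.node (nat_lit 3791999357) (.leaf (nat_lit 717)) (.leaf (nat_lit 3241))) (.node (nat_lit 4162379939) (.leaf (nat_lit 331)) (.node (nat_lit 4177201248) (.leaf (nat_lit 2380)) (.leaf (nat_lit 190))))))) (.node (nat_lit 4332377799) (.node (nat_lit 4246409692) (.node (nat_lit 4246032482) (.node (nat_lit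 4227405920) (.leaf (nat_lit 2719)) (.leaf (nat_lit 11))) (.node (nat_lit 4246249759) (.leaf (nat_lit 983)) (.node (nat_lit 4246257825) (.leaf (nat_lit 745)) (.leaf (nat_lit 469))))) (.node (nat_lit 4259481634) (.node (nat_lit 4246433890) (.leaf (nat_lit 306)) (.leaf (nat_lit 279))) (.node (nat_lit 4260145186) (.leaf (nat_lit 233)) (.node (nat_lit 4263043233) (.leaf (nat_lit 885)) (.leaf (nat_lit 2970)))))) (.node (nat_lit 4420760897) (.node (nat_lit 4383564678) (.node (nat_lit 4352889606) (.leaf (nat_lit 4945)) (.leaf (nat_lit 109))) (.node (nat_lit 4384290311) (.leaf (nat_lit 418)) (.node (nat_lit 4397950209) (.leaf (nat_lit 241)) (.leaf (nat_lit 677))))) (.node (nat_lit 4498092504) (.node (nat_lit 4464562517) (.leaf (nat_lit 31)) (.leaf (nat_lit 1513))) (.node (nat_lit 4500157524) (.leaf (nat_lit 2898)) (.node (nat_lit 4532201247) (.leaf (nat_lit 1417)) (.leaf (nat_lit 35)))))))))) (.node (nat_lit 8873139604) (.node (nat_lit 7350440078) (.node (nat_lit 6124265912) (.node (nat_lit 5433834311) (.node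 (nat_lit 4755477525) (.node (nat_lit 4647772635) (.node (nat_lit 4569159644) (.leaf (nat_lit 302)) (.leaf (nat_lit 75))) (.node (nat_lit 4652757770) (.leaf (nat_lit 1212)) (.leaf (nat_lit 970)))) (.node (nat_lit 4772029320) (.node (nat_lit 4765770068) (.leaf (nat_lit 338)) (.leaf (nat_lit 3054))) (.node (nat_lit 4817088654) (.leaf (nat_lit 429)) (.node (nat_lit 5413318342) (.leaf (nat_lit 59)) (.leaf (nat_lit 1162)))))) (.node (nat_lit 5637542061) (.node (nat_lit 5441162183) (.node (nat_lit 5440048646) (.leaf (nat_lit 617)) (.leaf (nat_lit 1463))) (.node (nat_lit 5485065473) (.leaf (nat_lit 622)) (.node (nat_lit 5498168641) (.leaf (nat_lit 83)) (.leaf (nat_lit 61))))) (.node (nat_lit 5705351611) (.node (nat_lit 5641740221) (.leaf (nat_lit 282)) (.leaf (nat_lit 25))) (.node (nat_lit 5708565354) (.leaf (nat_lit 2427)) (.node (nat_lit 6073909524) (.leaf (nat_lit 793)) (.leaf (nat_lit 413))))))) (.node (nat_lit 6478245249) (.node (nat_lit 6393733397) (.node (nat_lit 6169173886) (.node (nat_lit 6134805589)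 (.leaf (nat_lit 2238)) (.leaf (nat_lit 1758))) (.node (nat_lit 6373344276) (.leaf (nat_lit 117)) (.leaf (nat_lit 755)))) (.node (nat_lit 6409818287) (.node (nat_lit 6408502248) (.leaf (nat_lit 2878)) (.leaf (nat_lit 3309))) (.node (nat_lit 6472139524) (.leaf (nat_lit 443)) (.node (nat_lit 6473473541) (.leaf (nat_lit 1260)) (.leaf (nat_lit 3699)))))) (.node (nat_lit 6579932278) (.node (nat_lit 6512791237) (.node (nat_lit 6508916161) (.leaf (nat_lit 27)) (.leaf (nat_lit 251))) (.node (nat_lit 6542660484) (.leaf (nat_lit 1330)) (.node (nat_lit 6577783160) (.leaf (nat_lit 335)) (.leaf (nat_lit 3483))))) (.node (nat_lit 6644924919) (.node (nat_lit 6612463549) (.leaf (nat_lit 15)) (.leaf (nat_lit 94))) (.node (nat_lit 7264866683) (.leaf (nat_lit 1246)) (.node (nat_lit 7278801802) (.leaf (nat_lit 653)) (.leaf (nat_lit 1487)))))))) (.node (nat_lit 8271749558) (.node (nat_lit 7573749121) (.node (nat_lit 7433810060) (.node (nat_lit 7382872566) (.node (nat_lit 7362981758) (.leaf (nat_lit 60)) (.leaf (nat_lit 47)))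 (.node (nat_lit 7397540616) (.leaf (nat_lit 1258)) (.leaf (nat_lit 2284)))) (.node (nat_lit 7545619972) (.node (nat_lit 7482244151) (.leaf (nat_lit 98)) (.leaf (nat_lit 354))) (.node (nat_lit 7547214661) (.leaf (nat_lit 895)) (.node (nat_lit 7562214849) (.leaf (nat_lit 1426)) (.leaf (nat_lit 39)))))) (.node (nat_lit 7970107565) (.node (nat_lit 7611160260) (.node (nat_lit 7589678021) (.leaf (nat_lit 122)) (.leaf (nat_lit 1447))) (.node (nat_lit 7919944119) (.leaf (nat_lit 3041)) (.node (nat_lit 7926254440) (.leaf (nat_lit 1995)) (.leaf (nat_lit 4764))))) (.node (nat_lit 8187838744) (.node (nat_lit 7992282166) (.leaf (nat_lit 789)) (.leaf (nat_lit 721))) (.node (nat_lit 8198335607) (.leaf (nat_lit 1127)) (.node (nat_lit 8233412572) (.leaf (nat_lit 169)) (.leaf (nat_lit 409))))))) (.node (nat_lit 8794126996) (.node (nat_lit 8657573904) (.node (nat_lit 8350931946) (.node (nat_lit 8339890459) (.leaf (nat_lit 1299)) (.leaf (nat_lit 1342))) (.node (nat_lit 8439345327) (.leaf (nat_lit 889)) (.node (nat_lit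 8452036383) (.leaf (nat_lit 470)) (.leaf (nat_lit 156))))) (.node (nat_lit 8691136568) (.node (nat_lit 8659737236) (.leaf (nat_lit 2335)) (.leaf (nat_lit 1450))) (.node (nat_lit 8693422774) (.leaf (nat_lit 825)) (.node (nat_lit 8791930904) (.leaf (nat_lit 490)) (.leaf (nat_lit 250)))))) (.node (nat_lit 8868942468) (.node (nat_lit 8827550390) (.node (nat_lit 8825477168) (.leaf (nat_lit 2174)) (.leaf (nat_lit 33))) (.node (nat_lit 8868876420) (.leaf (nat_lit 763)) (.node (nat_lit 8868878996) (.leaf (nat_lit 1533)) (.leaf (nat_lit 295))))) (.node (nat_lit 8873070980) (.node (nat_lit 8868944020) (.leaf (nat_lit 5297)) (.leaf (nat_lit 2739))) (.node (nat_lit 8873074580) (.leaf (nat_lit 311)) (.node (nat_lit 8873137028) (.leaf (nat_lit 174)) (.leaf (nat_lit 6309))))))))) (.node (nat_lit 10806708881) (.node (nat_lit 9405854350) (.node (nat_lit 9131004162) (.node (nat_lit 9003202716) (.node (nat_lit 8936509572) (.node (nat_lit 8934480400) (.leaf (nat_lit 1788)) (.leaf (nat_lit 1974))) (.node (nat_lit 9003102340)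 (.leaf (nat_lit 1210)) (.leaf (nat_lit 1313)))) (.node (nat_lit 9003299468) (.node (nat_lit 9003268756) (.leaf (nat_lit 153)) (.leaf (nat_lit 2262))) (.node (nat_lit 9068739096) (.leaf (nat_lit 1876)) (.node (nat_lit 9070735492) (.leaf (nat_lit 1825)) (.leaf (nat_lit 748)))))) (.node (nat_lit 9273638314) (.node (nat_lit 9131136802) (.node (nat_lit 9131070762) (.leaf (nat_lit 6310)) (.leaf (nat_lit 211))) (.node (nat_lit 9131201290) (.leaf (nat_lit 149)) (.node (nat_lit 9273635202) (.leaf (nat_lit 439)) (.leaf (nat_lit 1467))))) (.node (nat_lit 9273737122) (.node (nat_lit 9273734026) (.leaf (nat_lit 1780)) (.leaf (nat_lit 1647))) (.node (nat_lit 9405755526) (.leaf (nat_lit 1942)) (.node (nat_lit 9405758134) (.leaf (nat_lit 113)) (.leaf (nat_lit 10908))))))) (.node (nat_lit 9540032694) (.node (nat_lit 9535762694) (.node (nat_lit 9504905784) (.node (nat_lit 9405855934) (.leaf (nat_lit 4013)) (.leaf (nat_lit 213))) (.node (nat_lit 9506943110) (.leaf (nat_lit 1714)) (.leaf (nat_lit 953)))) (.node (nat_lit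 9535894838) (.node (nat_lit 9535862582) (.leaf (nat_lit 1196)) (.leaf (nat_lit 726))) (.node (nat_lit 9535992582) (.leaf (nat_lit 1490)) (.node (nat_lit 9539965062) (.leaf (nat_lit 442)) (.leaf (nat_lit 822)))))) (.node (nat_lit 10772577768) (.node (nat_lit 9540194950) (.node (nat_lit 9540131510) (.leaf (nat_lit 44)) (.leaf (nat_lit 2535))) (.node (nat_lit 9639164464) (.leaf (nat_lit 1446)) (.node (nat_lit 9641152646) (.leaf (nat_lit 3406)) (.leaf (nat_lit 2854))))) (.node (nat_lit 10805074453) (.node (nat_lit 10774779874) (.leaf (nat_lit 875)) (.leaf (nat_lit 277))) (.node (nat_lit 10806124373) (.leaf (nat_lit 2477)) (.node (nat_lit 10806708373) (.leaf (nat_lit 165)) (.leaf (nat_lit 587)))))))) (.node (nat_lit 11098798107) (.node (nat_lit 10940926135) (.node (nat_lit 10838637111) (.node (nat_lit 10806741659) (.node (nat_lit 10806741151) (.leaf (nat_lit 990)) (.leaf (nat_lit 286))) (.node (nat_lit 10807758293) (.leaf (nat_lit 1998)) (.leaf (nat_lit 1626)))) (.node (nat_lit 10874900322) (.node (nat_lit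 10872751464) (.leaf (nat_lit 177)) (.leaf (nat_lit 172))) (.node (nat_lit 10939464247) (.leaf (nat_lit 340)) (.node (nat_lit 10939893751) (.leaf (nat_lit 347)) (.leaf (nat_lit 186)))))) (.node (nat_lit 10973010453) (.node (nat_lit 10940958909) (.node (nat_lit 10940926651) (.leaf (nat_lit 1516)) (.leaf (nat_lit 1362))) (.node (nat_lit 10940959409) (.leaf (nat_lit 663)) (.node (nat_lit 10942559607) (.leaf (nat_lit 2997)) (.leaf (nat_lit 115))))) (.node (nat_lit 11033661572) (.node (nat_lit 11031087637) (.leaf (nat_lit 1181)) (.leaf (nat_lit 227))) (.node (nat_lit 11098658833) (.leaf (nat_lit 2746)) (.node (nat_lit 11098735108) (.leaf (nat_lit 420)) (.leaf (nat_lit 3419))))))) (.node (nat_lit 11416830856) (.node (nat_lit 11199023637) (.node (nat_lit 11100246148) (.node (nat_lit 11098874382) (.leaf (nat_lit 6763)) (.leaf (nat_lit 5916))) (.node (nat_lit 11104240388) (.leaf (nat_lit 932)) (.node (nat_lit 11105751428) (.leaf (nat_lit 2929)) (.leaf (nat_lit 1393))))) (.node (nat_lit 11268026500) (.node (nat_lit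 11201441924) (.leaf (nat_lit 108)) (.leaf (nat_lit 58))) (.node (nat_lit 11313352962) (.leaf (nat_lit 1486)) (.node (nat_lit 11323949832) (.leaf (nat_lit 2517)) (.leaf (nat_lit 733)))))) (.node (nat_lit 11735763511) (.node (nat_lit 11568089655) (.node (nat_lit 11422953858) (.leaf (nat_lit 1945)) (.leaf (nat_lit 507))) (.node (nat_lit 11570540678) (.leaf (nat_lit 29)) (.node (nat_lit 11670679686) (.leaf (nat_lit 45)) (.leaf (nat_lit 118))))) (.node (nat_lit 11766563718) (.node (nat_lit 11738304646) (.leaf (nat_lit 265)) (.leaf (nat_lit 2751))) (.node (nat_lit 11768967430) (.leaf (nat_lit 119)) (.node (nat_lit 11769755707) (.leaf (nat_lit 1494)) (.leaf (nat_lit 1802))))))))))) (.node (nat_lit 22619916810) (.node (nat_lit 17999915873) (.node (nat_lit 16080950648) (.node (nat_lit 13880071217) (.node (nat_lit 13122103085) (.node (nat_lit 12920045283) (.node (nat_lit 11769995782) (.node (nat_lit 11769878577) (.leaf (nat_lit 5523)) (.leaf (nat_lit 318))) (.node (nat_lit 11771334790) (.leaf (nat_lit 419)) (.leaf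 (nat_lit 741)))) (.node (nat_lit 12955753428) (.node (nat_lit 12953590864) (.leaf (nat_lit 1230)) (.leaf (nat_lit 1982))) (.node (nat_lit 12987917627) (.leaf (nat_lit 5266)) (.node (nat_lit 13056457585) (.leaf (nat_lit 11)) (.leaf (nat_lit 2666)))))) (.node (nat_lit 13477351682) (.node (nat_lit 13169495512) (.node (nat_lit 13165297800) (.leaf (nat_lit 6)) (.leaf (nat_lit 103))) (.node (nat_lit 13229710160) (.leaf (nat_lit 5)) (.node (nat_lit 13235933572) (.leaf (nat_lit 4054)) (.leaf (nat_lit 106))))) (.node (nat_lit 13652750722) (.node (nat_lit 13647328803) (.leaf (nat_lit 2395)) (.leaf (nat_lit 1693))) (.node (nat_lit 13688016749) (.leaf (nat_lit 1301)) (.node (nat_lit 13820133514) (.leaf (nat_lit 50)) (.leaf (nat_lit 15))))))) (.node (nat_lit 15326317397) (.node (nat_lit 15102725073) (.node (nat_lit 13917092855) (.node (nat_lit 13915664646) (.leaf (nat_lit 159)) (.leaf (nat_lit 931))) (.node (nat_lit 15068213167) (.leaf (nat_lit 1979)) (.leaf (nat_lit 19)))) (.node (nat_lit 15169866614) (.node (nat_lit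 15167718512) (.leaf (nat_lit 4747)) (.leaf (nat_lit 2226))) (.node (nat_lit 15202430363) (.leaf (nat_lit 501)) (.node (nat_lit 15234860771) (.leaf (nat_lit 100)) (.leaf (nat_lit 5305)))))) (.node (nat_lit 15602302499) (.node (nat_lit 15398870033) (.node (nat_lit 15333872004) (.leaf (nat_lit 604)) (.leaf (nat_lit 5367))) (.node (nat_lit 15497339018) (.leaf (nat_lit 1770)) (.node (nat_lit 15590494466) (.leaf (nat_lit 140)) (.leaf (nat_lit 1100))))) (.node (nat_lit 15801545090) (.node (nat_lit 15625320431) (.leaf (nat_lit 1391)) (.leaf (nat_lit 3))) (.node (nat_lit 15979000070) (.leaf (nat_lit 1427)) (.node (nat_lit 15981186032) (.leaf (nat_lit 11058)) (.leaf (nat_lit 223)))))))) (.node (nat_lit 17740985904) (.node (nat_lit 17322648660) (.node (nat_lit 17202034208) (.node (nat_lit 17197703712) (.node (nat_lit 16085065864) (.leaf (nat_lit 26)) (.leaf (nat_lit 174))) (.node (nat_lit 17197973024) (.leaf (nat_lit 797)) (.leaf (nat_lit 140)))) (.node (nat_lit 17322483780) (.node (nat_lit 17202293280) (.leaf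 (nat_lit 2313)) (.leaf (nat_lit 1267))) (.node (nat_lit 17322519628) (.leaf (nat_lit 730)) (.node (nat_lit 17322616924) (.leaf (nat_lit 1777)) (.leaf (nat_lit 3766)))))) (.node (nat_lit 17597215044) (.node (nat_lit 17466567537) (.node (nat_lit 17466172209) (.leaf (nat_lit 1388)) (.leaf (nat_lit 621))) (.node (nat_lit 17470567217) (.leaf (nat_lit 790)) (.node (nat_lit 17470700401) (.leaf (nat_lit 78)) (.leaf (nat_lit 1503))))) (.node (nat_lit 17597348684) (.node (nat_lit 17597315932) (.leaf (nat_lit 3)) (.leaf (nat_lit 682))) (.node (nat_lit 17597444436) (.leaf (nat_lit 1377)) (.node (nat_lit 17736720944) (.leaf (nat_lit 1261)) (.leaf (nat_lit 43))))))) (.node (nat_lit 17987330849) (.node (nat_lit 17863668821) (.node (nat_lit 17749637680) (.node (nat_lit 17745374768) (.leaf (nat_lit 1171)) (.leaf (nat_lit 2827))) (.node (nat_lit 17863569477) (.leaf (nat_lit 2222)) (.node (nat_lit 17863572589) (.leaf (nat_lit 158)) (.leaf (nat_lit 125))))) (.node (nat_lit 17987297537) (.node (nat_lit 17863669885) (.leaf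 (nat_lit 1902)) (.leaf (nat_lit 4753))) (.node (nat_lit 17987298097) (.leaf (nat_lit 7754)) (.node (nat_lit 17987330321) (.leaf (nat_lit 1629)) (.leaf (nat_lit 1242)))))) (.node (nat_lit 17995690305) (.node (nat_lit 17991595809) (.node (nat_lit 17991495937) (.leaf (nat_lit 866)) (.leaf (nat_lit 2745))) (.node (nat_lit 17991660817) (.leaf (nat_lit 734)) (.node (nat_lit 17991693105) (.leaf (nat_lit 3743)) (.leaf (nat_lit 814))))) (.node (nat_lit 17995789649) (.node (nat_lit 17995692913) (.leaf (nat_lit 1762)) (.leaf (nat_lit 37))) (.node (nat_lit 17995792225) (.leaf (nat_lit 829)) (.node (nat_lit 17999880513) (.leaf (nat_lit 417)) (.leaf (nat_lit 498))))))))) (.node (nat_lit 18806049776) (.node (nat_lit 18497151044) (.node (nat_lit 18121548053) (.node (nat_lit 18009321729) (.node (nat_lit 18000109905) (.node (nat_lit 18000079729) (.leaf (nat_lit 28)) (.leaf (nat_lit 637))) (.node (nat_lit 18005123329) (.leaf (nat_lit 2903)) (.leaf (nat_lit 3482)))) (.node (nat_lit 18017968449) (.node (nat_lit 18013778241)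 (.leaf (nat_lit 1741)) (.leaf (nat_lit 852))) (.node (nat_lit 18121515269) (.leaf (nat_lit 2019)) (.node (nat_lit 18121515837) (.leaf (nat_lit 716)) (.leaf (nat_lit 1818)))))) (.node (nat_lit 18276115376) (.node (nat_lit 18271462320) (.node (nat_lit 18121548589) (.leaf (nat_lit 3263)) (.leaf (nat_lit 10085))) (.node (nat_lit 18271730672) (.leaf (nat_lit 398)) (.node (nat_lit 18275859440) (.leaf (nat_lit 111)) (.leaf (nat_lit 1683))))) (.node (nat_lit 18326064095) (.node (nat_lit 18324950030) (.leaf (nat_lit 809)) (.leaf (nat_lit 74))) (.node (nat_lit 18337791023) (.leaf (nat_lit 47)) (.node (nat_lit 18338571198) (.leaf (nat_lit 422)) (.leaf (nat_lit 468))))))) (.node (nat_lit 18527408033) (.node (nat_lit 18523211505) (.node (nat_lit 18523144881) (.node (nat_lit 18504974677) (.leaf (nat_lit 292)) (.leaf (nat_lit 2))) (.node (nat_lit 18523145121) (.leaf (nat_lit 11343)) (.leaf (nat_lit 278)))) (.node (nat_lit 18527341537) (.node (nat_lit 18523211745) (.leaf (nat_lit 2158)) (.leaf (nat_lit 1381))) (.node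 (nat_lit 18527342321) (.leaf (nat_lit 4049)) (.node (nat_lit 18527406769) (.leaf (nat_lit 3405)) (.leaf (nat_lit 598)))))) (.node (nat_lit 18786452501) (.node (nat_lit 18593466494) (.node (nat_lit 18590253999) (.leaf (nat_lit 601)) (.leaf (nat_lit 364))) (.node (nat_lit 18606336095) (.leaf (nat_lit 1099)) (.node (nat_lit 18611321806) (.leaf (nat_lit 2532)) (.leaf (nat_lit 743))))) (.node (nat_lit 18793137072) (.node (nat_lit 18789970244) (.leaf (nat_lit 657)) (.leaf (nat_lit 3935))) (.node (nat_lit 18797790128) (.leaf (nat_lit 594)) (.node (nat_lit 18801658864) (.leaf (nat_lit 73)) (.leaf (nat_lit 1215)))))))) (.node (nat_lit 19297493253) (.node (nat_lit 19045859604) (.node (nat_lit 18811114832) (.node (nat_lit 18810978576) (.node (nat_lit 18810938016) (.leaf (nat_lit 842)) (.leaf (nat_lit 6324))) (.node (nat_lit 18811074272) (.leaf (nat_lit 917)) (.leaf (nat_lit 481)))) (.node (nat_lit 18823628048) (.node (nat_lit 18823528160) (.leaf (nat_lit 2407)) (.leaf (nat_lit 9423))) (.node (nat_lit 18823654048)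 (.leaf (nat_lit 715)) (.node (nat_lit 18823762256) (.leaf (nat_lit 4004)) (.leaf (nat_lit 692)))))) (.node (nat_lit 19075195201) (.node (nat_lit 19062612225) (.node (nat_lit 19054751813) (.leaf (nat_lit 397)) (.leaf (nat_lit 281))) (.node (nat_lit 19067072769) (.leaf (nat_lit 3774)) (.node (nat_lit 19071267137) (.leaf (nat_lit 778)) (.leaf (nat_lit 1617))))) (.node (nat_lit 19082801409) (.node (nat_lit 19078340865) (.leaf (nat_lit 862)) (.leaf (nat_lit 405))) (.node (nat_lit 19086733633) (.leaf (nat_lit 342)) (.node (nat_lit 19091185985) (.leaf (nat_lit 607)) (.leaf (nat_lit 883))))))) (.node (nat_lit 21958867160) (.node (nat_lit 21691673224) (.node (nat_lit 21558999291) (.node (nat_lit 19302564884) (.leaf (nat_lit 1686)) (.leaf (nat_lit 410))) (.node (nat_lit 21559779882) (.leaf (nat_lit 346)) (.node (nat_lit 21685346372) (.leaf (nat_lit 922)) (.leaf (nat_lit 3281))))) (.node (nat_lit 21748964764) (.node (nat_lit 21744836300) (.leaf (nat_lit 2033)) (.leaf (nat_lit 53))) (.node (nat_lit 21828248375)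 (.leaf (nat_lit 141)) (.node (nat_lit 21831727798) (.leaf (nat_lit 3278)) (.leaf (nat_lit 1011)))))) (.node (nat_lit 22277983678) (.node (nat_lit 22061644791) (.node (nat_lit 21960864068) (.leaf (nat_lit 414)) (.leaf (nat_lit 1791))) (.node (nat_lit 22065242678) (.leaf (nat_lit 585)) (.node (nat_lit 22193664069) (.leaf (nat_lit 667)) (.leaf (nat_lit 2809))))) (.node (nat_lit 22410101825) (.node (nat_lit 22383100929) (.leaf (nat_lit 13)) (.leaf (nat_lit 0))) (.node (nat_lit 22467862789) (.leaf (nat_lit 9)) (.node (nat_lit 22517319215) (.leaf (nat_lit 876)) (.leaf (nat_lit 185)))))))))) (.node (nat_lit 29171671492) (.node (nat_lit 26241575892) (.node (nat_lit 25845111764) (.node (nat_lit 23084920334) (.node (nat_lit 22817480189) (.node (nat_lit 22725271620) (.node (nat_lit 22621030619) (.leaf (nat_lit 634)) (.leaf (nat_lit 2002))) (.node (nat_lit 22792830431) (.leaf (nat_lit 285)) (.leaf (nat_lit 63)))) (.node (nat_lit 22885221047) (.node (nat_lit 22821672685) (.leaf (nat_lit 58)) (.leaf (nat_lit 34)))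 (.node (nat_lit 22888434550) (.leaf (nat_lit 2743)) (.node (nat_lit 23016255812) (.leaf (nat_lit 2860)) (.leaf (nat_lit 5806)))))) (.node (nat_lit 23461827649) (.node (nat_lit 23150561847) (.node (nat_lit 23121658806) (.leaf (nat_lit 157)) (.leaf (nat_lit 14))) (.node (nat_lit 23307231912) (.leaf (nat_lit 3158)) (.node (nat_lit 23317737541) (.leaf (nat_lit 300)) (.leaf (nat_lit 467))))) (.node (nat_lit 23574634757) (.node (nat_lit 23487517697) (.leaf (nat_lit 97)) (.leaf (nat_lit 137))) (.node (nat_lit 23580915960) (.leaf (nat_lit 426)) (.node (nat_lit 25838754832) (.leaf (nat_lit 54)) (.leaf (nat_lit 492))))))) (.node (nat_lit 26048745924) (.node (nat_lit 25916664780) (.node (nat_lit 25894785847) (.node (nat_lit 25888301608) (.leaf (nat_lit 5842)) (.leaf (nat_lit 2852))) (.node (nat_lit 25916629444) (.leaf (nat_lit 2938)) (.leaf (nat_lit 2252)))) (.node (nat_lit 25916861396) (.node (nat_lit 25916826076) (.leaf (nat_lit 1270)) (.leaf (nat_lit 383))) (.node (nat_lit 25983511560) (.leaf (nat_lit 910))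 (.node (nat_lit 25985573316) (.leaf (nat_lit 1895)) (.leaf (nat_lit 1365)))))) (.node (nat_lit 26052943572) (.node (nat_lit 26048812996) (.node (nat_lit 26048748500) (.leaf (nat_lit 2003)) (.leaf (nat_lit 366))) (.node (nat_lit 26048814548) (.leaf (nat_lit 4862)) (.node (nat_lit 26052939972) (.leaf (nat_lit 1703)) (.leaf (nat_lit 677))))) (.node (nat_lit 26053007572) (.node (nat_lit 26053007044) (.leaf (nat_lit 457)) (.leaf (nat_lit 631))) (.node (nat_lit 26117689796) (.leaf (nat_lit 51)) (.node (nat_lit 26119854608) (.leaf (nat_lit 1014)) (.leaf (nat_lit 1101)))))))) (.node (nat_lit 26577232695) (.node (nat_lit 26445174071) (.node (nat_lit 26319262147) (.node (nat_lit 26290987831) (.node (nat_lit 26247834120) (.leaf (nat_lit 2329)) (.leaf (nat_lit 3246))) (.node (nat_lit 26297373744) (.leaf (nat_lit 12)) (.leaf (nat_lit 12143)))) (.node (nat_lit 26319395811) (.node (nat_lit 26319330299) (.leaf (nat_lit 3197)) (.leaf (nat_lit 2931))) (.node (nat_lit 26319458779) (.leaf (nat_lit 411)) (.node (nat_lit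 26445107463) (.leaf (nat_lit 593)) (.leaf (nat_lit 2135)))))) (.node (nat_lit 26449422583) (.node (nat_lit 26445337399) (.node (nat_lit 26445272839) (.leaf (nat_lit 2254)) (.leaf (nat_lit 210))) (.node (nat_lit 26449289415) (.leaf (nat_lit 950)) (.node (nat_lit 26449325815) (.leaf (nat_lit 157)) (.leaf (nat_lit 5310))))) (.node (nat_lit 26561536560) (.node (nat_lit 26449454791) (.leaf (nat_lit 49)) (.leaf (nat_lit 826))) (.node (nat_lit 26563596551) (.leaf (nat_lit 1308)) (.node (nat_lit 26577232135) (.leaf (nat_lit 638)) (.leaf (nat_lit 1418))))))) (.node (nat_lit 29048839011) (.node (nat_lit 26711449859) (.node (nat_lit 26577265455) (.node (nat_lit 26577264927) (.leaf (nat_lit 458)) (.leaf (nat_lit 234))) (.node (nat_lit 26695721223) (.leaf (nat_lit 877)) (.node (nat_lit 26697880616) (.leaf (nat_lit 371)) (.leaf (nat_lit 3902))))) (.node (nat_lit 26711482651) (.node (nat_lit 26711450427) (.leaf (nat_lit 2122)) (.leaf (nat_lit 2235))) (.node (nat_lit 26711483171) (.leaf (nat_lit 1749)) (.node (nat_lit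 29042435000) (.leaf (nat_lit 247)) (.leaf (nat_lit 3273)))))) (.node (nat_lit 29065530442) (.node (nat_lit 29059996501) (.node (nat_lit 29058948629) (.leaf (nat_lit 2493)) (.leaf (nat_lit 294))) (.node (nat_lit 29064513749) (.leaf (nat_lit 3045)) (.node (nat_lit 29065530190) (.leaf (nat_lit 409)) (.leaf (nat_lit 3303))))) (.node (nat_lit 29065563541) (.node (nat_lit 29065562769) (.leaf (nat_lit 989)) (.leaf (nat_lit 850))) (.node (nat_lit 29109543862) (.leaf (nat_lit 3356)) (.node (nat_lit 29169978197) (.leaf (nat_lit 941)) (.leaf (nat_lit 361))))))))) (.node (nat_lit 30132672592) (.node (nat_lit 29469172662) (.node (nat_lit 29357732319) (.node (nat_lit 29352609284) (.node (nat_lit 29287272900) (.node (nat_lit 29240091076) (.leaf (nat_lit 4058)) (.leaf (nat_lit 946))) (.node (nat_lit 29289155413) (.leaf (nat_lit 3871)) (.leaf (nat_lit 905)))) (.node (nat_lit 29357513809) (.node (nat_lit 29355168196) (.leaf (nat_lit 2507)) (.leaf (nat_lit 245))) (.node (nat_lit 29357590276) (.leaf (nat_lit 506)) (.node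 (nat_lit 29357648522) (.leaf (nat_lit 874)) (.leaf (nat_lit 473)))))) (.node (nat_lit 29461889713) (.node (nat_lit 29394781091) (.node (nat_lit 29358051524) (.leaf (nat_lit 2285)) (.leaf (nat_lit 434))) (.node (nat_lit 29401090936) (.leaf (nat_lit 283)) (.node (nat_lit 29461719286) (.leaf (nat_lit 590)) (.leaf (nat_lit 1836))))) (.node (nat_lit 29461922922) (.node (nat_lit 29461889965) (.leaf (nat_lit 1966)) (.leaf (nat_lit 2271))) (.node (nat_lit 29461923190) (.leaf (nat_lit 1495)) (.node (nat_lit 29467119158) (.leaf (nat_lit 447)) (.leaf (nat_lit 103))))))) (.node (nat_lit 29749868487) (.node (nat_lit 29698327478) (.node (nat_lit 29581951256) (.node (nat_lit 29518715733) (.leaf (nat_lit 2030)) (.leaf (nat_lit 163))) (.node (nat_lit 29592392131) (.leaf (nat_lit 908)) (.leaf (nat_lit 362)))) (.node (nat_lit 29749682858) (.node (nat_lit 29700149511) (.leaf (nat_lit 3442)) (.leaf (nat_lit 4810))) (.node (nat_lit 29749723420) (.leaf (nat_lit 2969)) (.node (nat_lit 29749810289) (.leaf (nat_lit 982)) (.leaf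 (nat_lit 811)))))) (.node (nat_lit 29817766838) (.node (nat_lit 29755187399) (.node (nat_lit 29751529735) (.leaf (nat_lit 714)) (.leaf (nat_lit 849))) (.node (nat_lit 29760849415) (.leaf (nat_lit 460)) (.node (nat_lit 29815759111) (.leaf (nat_lit 4722)) (.leaf (nat_lit 59))))) (.node (nat_lit 29934248195) (.node (nat_lit 29900693767) (.leaf (nat_lit 6)) (.leaf (nat_lit 179))) (.node (nat_lit 29944906200) (.leaf (nat_lit 1619)) (.node (nat_lit 30116160034) (.leaf (nat_lit 255)) (.leaf (nat_lit 146)))))))) (.node (nat_lit 33468429851) (.node (nat_lit 30649356739) (.node (nat_lit 30349430664) (.node (nat_lit 30190534570) (.node (nat_lit 30139030164) (.leaf (nat_lit 401)) (.leaf (nat_lit 1142))) (.node (nat_lit 30345234136) (.leaf (nat_lit 233)) (.leaf (nat_lit 62)))) (.node (nat_lit 30416588996) (.node (nat_lit 30414560080) (.leaf (nat_lit 21)) (.leaf (nat_lit 297))) (.node (nat_lit 30518846257) (.leaf (nat_lit 81)) (.node (nat_lit 30586928253) (.leaf (nat_lit 1751)) (.leaf (nat_lit 92)))))) (.node (nat_lit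 31091351811) (.node (nat_lit 30822949430) (.node (nat_lit 30785738865) (.leaf (nat_lit 907)) (.leaf (nat_lit 2996))) (.node (nat_lit 30828404935) (.leaf (nat_lit 274)) (.node (nat_lit 30973068827) (.leaf (nat_lit 313)) (.leaf (nat_lit 114))))) (.node (nat_lit 31107286077) (.node (nat_lit 31101069986) (.leaf (nat_lit 2775)) (.leaf (nat_lit 1500))) (.node (nat_lit 33343648894) (.leaf (nat_lit 249)) (.node (nat_lit 33359481809) (.leaf (nat_lit 85)) (.leaf (nat_lit 477))))))) (.node (nat_lit 33871064126) (.node (nat_lit 33696057456) (.node (nat_lit 33587482820) (.node (nat_lit 33583860245) (.leaf (nat_lit 12)) (.leaf (nat_lit 2639))) (.node (nat_lit 33647237201) (.leaf (nat_lit 1235)) (.node (nat_lit 33689748151) (.leaf (nat_lit 802)) (.leaf (nat_lit 55))))) (.node (nat_lit 33762085410) (.node (nat_lit 33740013386) (.leaf (nat_lit 89)) (.leaf (nat_lit 102))) (.node (nat_lit 33843323554) (.leaf (nat_lit 26)) (.node (nat_lit 33852232131) (.leaf (nat_lit 2540)) (.leaf (nat_lit 1993)))))) (.node (nat_lit 34312052995)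 (.node (nat_lit 33966006471) (.node (nat_lit 33959740336) (.leaf (nat_lit 1)) (.leaf (nat_lit 2892))) (.node (nat_lit 34079225560) (.leaf (nat_lit 38)) (.node (nat_lit 34083364712) (.leaf (nat_lit 10)) (.leaf (nat_lit 14))))) (.node (nat_lit 34377063057) (.node (nat_lit 34377056913) (.leaf (nat_lit 1786)) (.leaf (nat_lit 76))) (.node (nat_lit 34377065137) (.leaf (nat_lit 489)) (.node (nat_lit 34377071281) (.leaf (nat_lit 1628)) (.leaf (nat_lit 4703)))))))))))) (.node (nat_lit 45864513462) (.node (nat_lit 37061452447) (.node (nat_lit 35451068305) (.node (nat_lit 34914097841) (.node (nat_lit 34647630384) (.node (nat_lit 34500298946) (.node (nat_lit 34394097354) (.node (nat_lit 34385652401) (.node (nat_lit 34385515153) (.leaf (nat_lit 5012)) (.leaf (nat_lit 4818))) (.node (nat_lit 34385654449) (.leaf (nat_lit 1332)) (.leaf (nat_lit 316)))) (.node (nat_lit 34410349659) (.node (nat_lit 34402664170) (.leaf (nat_lit 55)) (.leaf (nat_lit 287))) (.node (nat_lit 34418975867) (.leaf (nat_lit 46)) (.node (nat_lit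 34500264130) (.leaf (nat_lit 42)) (.leaf (nat_lit 1983)))))) (.node (nat_lit 34508859618) (.node (nat_lit 34500362466) (.node (nat_lit 34500331746) (.leaf (nat_lit 861)) (.leaf (nat_lit 50))) (.node (nat_lit 34508660930) (.leaf (nat_lit 1105)) (.node (nat_lit 34508695746) (.leaf (nat_lit 1946)) (.leaf (nat_lit 217))))) (.node (nat_lit 34534606344) (.node (nat_lit 34508890338) (.leaf (nat_lit 3579)) (.leaf (nat_lit 341))) (.node (nat_lit 34543203880) (.leaf (nat_lit 84)) (.node (nat_lit 34647589392) (.leaf (nat_lit 54)) (.leaf (nat_lit 1257))))))) (.node (nat_lit 34766667875) (.node (nat_lit 34656043536) (.node (nat_lit 34647702064) (.node (nat_lit 34647661072) (.leaf (nat_lit 739)) (.leaf (nat_lit 330))) (.node (nat_lit 34655984144) (.leaf (nat_lit 1111)) (.leaf (nat_lit 142)))) (.node (nat_lit 34656215600) (.node (nat_lit 34656156208) (.leaf (nat_lit 727)) (.leaf (nat_lit 2268))) (.node (nat_lit 34766602307) (.leaf (nat_lit 633)) (.node (nat_lit 34766637155) (.leaf (nat_lit 373)) (.leaf (nat_lit 2126))))))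 (.node (nat_lit 34775199843) (.node (nat_lit 34775003203) (.node (nat_lit 34766702659) (.leaf (nat_lit 269)) (.leaf (nat_lit 2876))) (.node (nat_lit 34775103555) (.leaf (nat_lit 1677)) (.node (nat_lit 34775169123) (.leaf (nat_lit 4686)) (.leaf (nat_lit 3666))))) (.node (nat_lit 34825792568) (.node (nat_lit 34817197080) (.leaf (nat_lit 955)) (.leaf (nat_lit 252))) (.node (nat_lit 34913960625) (.leaf (nat_lit 37)) (.node (nat_lit 34913968785) (.leaf (nat_lit 251)) (.leaf (nat_lit 620)))))))) (.node (nat_lit 35080105480) (.node (nat_lit 34955779163) (.node (nat_lit 34922549937) (.node (nat_lit 34922416817) (.node (nat_lit 34914106001) (.leaf (nat_lit 1454)) (.leaf (nat_lit 219))) (.node (nat_lit 34922427025) (.leaf (nat_lit 2165)) (.leaf (nat_lit 4948)))) (.node (nat_lit 34931203786) (.node (nat_lit 34922556049) (.leaf (nat_lit 36)) (.leaf (nat_lit 2901))) (.node (nat_lit 34939561706) (.leaf (nat_lit 210)) (.node (nat_lit 34947431547) (.leaf (nat_lit 95)) (.leaf (nat_lit 44)))))) (.node (nat_lit 35045527746)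 (.node (nat_lit 35037245666) (.node (nat_lit 35037147330) (.leaf (nat_lit 159)) (.leaf (nat_lit 884))) (.node (nat_lit 35037313218) (.leaf (nat_lit 2641)) (.node (nat_lit 35037346018) (.leaf (nat_lit 3683)) (.leaf (nat_lit 5715))))) (.node (nat_lit 35045693634) (.node (nat_lit 35045595362) (.leaf (nat_lit 1658)) (.leaf (nat_lit 2890))) (.node (nat_lit 35045757154) (.leaf (nat_lit 1306)) (.node (nat_lit 35071647272) (.leaf (nat_lit 795)) (.leaf (nat_lit 7))))))) (.node (nat_lit 35303542883) (.node (nat_lit 35192863280) (.node (nat_lit 35184493072) (.node (nat_lit 35184468528) (.leaf (nat_lit 166)) (.leaf (nat_lit 381))) (.node (nat_lit 35184671280) (.leaf (nat_lit 1713)) (.node (nat_lit 35184695824) (.leaf (nat_lit 3414)) (.leaf (nat_lit 334))))) (.node (nat_lit 35193018896) (.node (nat_lit 35192947216) (.leaf (nat_lit 21)) (.leaf (nat_lit 1167))) (.node (nat_lit 35193053744) (.leaf (nat_lit 370)) (.node (nat_lit 35303477315) (.leaf (nat_lit 1436)) (.leaf (nat_lit 181)))))) (.node (nat_lit 35312066659)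 (.node (nat_lit 35303708739) (.node (nat_lit 35303643235) (.leaf (nat_lit 10)) (.leaf (nat_lit 1804))) (.node (nat_lit 35311870019) (.leaf (nat_lit 356)) (.node (nat_lit 35311904867) (.leaf (nat_lit 61)) (.leaf (nat_lit 3047))))) (.node (nat_lit 35354246168) (.node (nat_lit 35312101443) (.leaf (nat_lit 1900)) (.leaf (nat_lit 98))) (.node (nat_lit 35362690104) (.leaf (nat_lit 77)) (.node (nat_lit 35450798993) (.leaf (nat_lit 28)) (.leaf (nat_lit 1363))))))))) (.node (nat_lit 36255269088) (.node (nat_lit 35734970192) (.node (nat_lit 35705161952) (.node (nat_lit 35642163394) (.node (nat_lit 35459517393) (.node (nat_lit 35459258321) (.leaf (nat_lit 2255)) (.leaf (nat_lit 1977))) (.node (nat_lit 35639101475) (.leaf (nat_lit 1761)) (.leaf (nat_lit 1822)))) (.node (nat_lit 35684638914) (.node (nat_lit 35672930339) (.leaf (nat_lit 2699)) (.leaf (nat_lit 2365))) (.node (nat_lit 35705094304) (.leaf (nat_lit 17)) (.node (nat_lit 35705095088) (.leaf (nat_lit 2449)) (.leaf (nat_lit 52)))))) (.node (nat_lit 35709356016)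 (.node (nat_lit 35709290656) (.node (nat_lit 35705162736) (.leaf (nat_lit 2043)) (.leaf (nat_lit 1382))) (.node (nat_lit 35709292464) (.leaf (nat_lit 3379)) (.node (nat_lit 35709354208) (.leaf (nat_lit 427)) (.leaf (nat_lit 1204))))) (.node (nat_lit 35722404000) (.node (nat_lit 35722380048) (.leaf (nat_lit 690)) (.leaf (nat_lit 13))) (.node (nat_lit 35722451792) (.leaf (nat_lit 4751)) (.node (nat_lit 35722475744) (.leaf (nat_lit 1642)) (.leaf (nat_lit 151))))))) (.node (nat_lit 35971249969) (.node (nat_lit 35906420898) (.node (nat_lit 35735120032) (.node (nat_lit 35735029520) (.leaf (nat_lit 3362)) (.leaf (nat_lit 1970))) (.node (nat_lit 35735187680) (.leaf (nat_lit 1007)) (.leaf (nat_lit 5276)))) (.node (nat_lit 35957285026) (.node (nat_lit 35907452995) (.leaf (nat_lit 83)) (.leaf (nat_lit 1419))) (.node (nat_lit 35966185539) (.leaf (nat_lit 756)) (.node (nat_lit 35970917169) (.leaf (nat_lit 947)) (.leaf (nat_lit 1326)))))) (.node (nat_lit 36234692643) (.node (nat_lit 35979639665) (.node (nat_lit 35979308913)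 (.leaf (nat_lit 2225)) (.leaf (nat_lit 2149))) (.node (nat_lit 36195823810) (.leaf (nat_lit 3292)) (.node (nat_lit 36201412643) (.leaf (nat_lit 791)) (.leaf (nat_lit 1110))))) (.node (nat_lit 36242489504) (.node (nat_lit 36238282946) (.leaf (nat_lit 3731)) (.leaf (nat_lit 7027))) (.node (nat_lit 36247079072) (.leaf (nat_lit 92)) (.node (nat_lit 36251207904) (.leaf (nat_lit 254)) (.leaf (nat_lit 222)))))))) (.node (nat_lit 36844963875) (.node (nat_lit 36524540565) (.node (nat_lit 36271597728) (.node (nat_lit 36263014624) (.node (nat_lit 36258750624) (.leaf (nat_lit 1773)) (.leaf (nat_lit 2333))) (.node (nat_lit 36267473120) (.leaf (nat_lit 3294)) (.leaf (nat_lit 4785)))) (.node (nat_lit 36469760067) (.node (nat_lit 36460077218) (.leaf (nat_lit 725)) (.leaf (nat_lit 2673))) (.node (nat_lit 36477370530) (.leaf (nat_lit 3302)) (.node (nat_lit 36478144579) (.leaf (nat_lit 5)) (.leaf (nat_lit 2926)))))) (.node (nat_lit 36648796354) (.node (nat_lit 36558103229) (.node (nat_lit 36532460180) (.leaf (nat_lit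 1850)) (.leaf (nat_lit 3756))) (.node (nat_lit 36566055580) (.leaf (nat_lit 1174)) (.node (nat_lit 36646783200) (.leaf (nat_lit 499)) (.leaf (nat_lit 1517))))) (.node (nat_lit 36691009730) (.node (nat_lit 36680612064) (.leaf (nat_lit 1767)) (.leaf (nat_lit 661))) (.node (nat_lit 36844931073) (.leaf (nat_lit 41)) (.node (nat_lit 36844931605) (.leaf (nat_lit 463)) (.leaf (nat_lit 138))))))) (.node (nat_lit 36870096897) (.node (nat_lit 36862181908) (.node (nat_lit 36850174017) (.node (nat_lit 36844964407) (.leaf (nat_lit 3925)) (.leaf (nat_lit 1823))) (.node (nat_lit 36853848065) (.leaf (nat_lit 1340)) (.node (nat_lit 36859091009) (.leaf (nat_lit 887)) (.leaf (nat_lit 2555))))) (.node (nat_lit 36862236673) (.node (nat_lit 36862222902) (.leaf (nat_lit 1681)) (.leaf (nat_lit 2514))) (.node (nat_lit 36862277667) (.leaf (nat_lit 202)) (.node (nat_lit 36867741761) (.leaf (nat_lit 343)) (.leaf (nat_lit 382)))))) (.node (nat_lit 36979182111) (.node (nat_lit 36979148833) (.node (nat_lit 36875601985) (.leaf (nat_lit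 22)) (.leaf (nat_lit 185))) (.node (nat_lit 36979149373) (.leaf (nat_lit 2322)) (.node (nat_lit 36979181571) (.leaf (nat_lit 299)) (.leaf (nat_lit 1839))))) (.node (nat_lit 36988106755) (.node (nat_lit 36982243395) (.leaf (nat_lit 2127)) (.leaf (nat_lit 5228))) (.node (nat_lit 36991168579) (.leaf (nat_lit 1459)) (.node (nat_lit 37038000161) (.leaf (nat_lit 1996)) (.leaf (nat_lit 46)))))))))) (.node (nat_lit 43226569349) (.node (nat_lit 37936996514) (.node (nat_lit 37606464468) (.node (nat_lit 37440555043) (.node (nat_lit 37186465986) (.node (nat_lit 37094998711) (.node (nat_lit 37069331134) (.leaf (nat_lit 2278)) (.leaf (nat_lit 5801))) (.node (nat_lit 37102926518) (.leaf (nat_lit 121)) (.leaf (nat_lit 9821)))) (.node (nat_lit 37226133728) (.node (nat_lit 37192829152) (.leaf (nat_lit 670)) (.leaf (nat_lit 9551))) (.node (nat_lit 37228138690) (.leaf (nat_lit 1307)) (.node (nat_lit 37424314403) (.leaf (nat_lit 1828)) (.leaf (nat_lit 2163)))))) (.node (nat_lit 37536157763) (.node (nat_lit 37533303324)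 (.node (nat_lit 37533278782) (.leaf (nat_lit 7)) (.leaf (nat_lit 863))) (.node (nat_lit 37533456417) (.leaf (nat_lit 116)) (.node (nat_lit 37533497347) (.leaf (nat_lit 348)) (.leaf (nat_lit 1386))))) (.node (nat_lit 37545074755) (.node (nat_lit 37541349379) (.leaf (nat_lit 1114)) (.leaf (nat_lit 209))) (.node (nat_lit 37558491169) (.leaf (nat_lit 399)) (.node (nat_lit 37598282645) (.leaf (nat_lit 2023)) (.leaf (nat_lit 788))))))) (.node (nat_lit 37797781698) (.node (nat_lit 37787569550) (.node (nat_lit 37623475660) (.node (nat_lit 37614812589) (.leaf (nat_lit 497)) (.leaf (nat_lit 1452))) (.node (nat_lit 37787568258) (.leaf (nat_lit 654)) (.leaf (nat_lit 595)))) (.node (nat_lit 37787600237) (.node (nat_lit 37787598945) (.leaf (nat_lit 831)) (.leaf (nat_lit 1892))) (.node (nat_lit 37788598466) (.leaf (nat_lit 3580)) (.node (nat_lit 37796751490) (.leaf (nat_lit 4899)) (.leaf (nat_lit 5259)))))) (.node (nat_lit 37919722325) (.node (nat_lit 37919686818) (.node (nat_lit 37830197345) (.leaf (nat_lit 1805))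 (.leaf (nat_lit 407))) (.node (nat_lit 37919687606) (.leaf (nat_lit 796)) (.node (nat_lit 37919721537) (.leaf (nat_lit 5775)) (.leaf (nat_lit 1134))))) (.node (nat_lit 37928900673) (.node (nat_lit 37922867201) (.leaf (nat_lit 215)) (.leaf (nat_lit 2316))) (.node (nat_lit 37932046337) (.leaf (nat_lit 293)) (.node (nat_lit 37936972564) (.leaf (nat_lit 35)) (.leaf (nat_lit 1523)))))))) (.node (nat_lit 38350295137) (.node (nat_lit 38048133187) (.node (nat_lit 37945149505) (.node (nat_lit 37937085431) (.node (nat_lit 37937027137) (.leaf (nat_lit 787)) (.leaf (nat_lit 75))) (.node (nat_lit 37940434945) (.leaf (nat_lit 2220)) (.leaf (nat_lit 635)))) (.node (nat_lit 37986795680) (.node (nat_lit 37948033025) (.leaf (nat_lit 3826)) (.leaf (nat_lit 1627))) (.node (nat_lit 37988876355) (.leaf (nat_lit 3951)) (.node (nat_lit 38037659808) (.leaf (nat_lit 2789)) (.leaf (nat_lit 1130)))))) (.node (nat_lit 38341609602) (.node (nat_lit 38143653198) (.node (nat_lit 38134945071) (.leaf (nat_lit 170)) (.leaf (nat_lit 1132)))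 (.node (nat_lit 38151955255) (.leaf (nat_lit 2156)) (.node (nat_lit 38160157558) (.leaf (nat_lit 629)) (.leaf (nat_lit 3674))))) (.node (nat_lit 38350126575) (.node (nat_lit 38343045314) (.leaf (nat_lit 84)) (.leaf (nat_lit 214))) (.node (nat_lit 38350210316) (.leaf (nat_lit 1380)) (.node (nat_lit 38350268546) (.leaf (nat_lit 1886)) (.leaf (nat_lit 3678))))))) (.node (nat_lit 43044640784) (.node (nat_lit 38524190880) (.node (nat_lit 38374805601) (.node (nat_lit 38350639298) (.leaf (nat_lit 6895)) (.leaf (nat_lit 2877))) (.node (nat_lit 38490636450) (.leaf (nat_lit 30)) (.node (nat_lit 38506897570) (.leaf (nat_lit 191)) (.leaf (nat_lit 746))))) (.node (nat_lit 38574006432) (.node (nat_lit 38534668355) (.leaf (nat_lit 491)) (.leaf (nat_lit 1884))) (.node (nat_lit 38576083011) (.leaf (nat_lit 3790)) (.node (nat_lit 43034100373) (.leaf (nat_lit 1621)) (.leaf (nat_lit 812)))))) (.node (nat_lit 43090267114) (.node (nat_lit 43078236184) (.node (nat_lit 43067663031) (.leaf (nat_lit 761)) (.leaf (nat_lit 934)))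 (.node (nat_lit 43090198978) (.leaf (nat_lit 1674)) (.node (nat_lit 43090234826) (.leaf (nat_lit 1209)) (.leaf (nat_lit 3178))))) (.node (nat_lit 43226501253) (.node (nat_lit 43090298850) (.leaf (nat_lit 3150)) (.leaf (nat_lit 662))) (.node (nat_lit 43226503317) (.leaf (nat_lit 0)) (.node (nat_lit 43226567317) (.leaf (nat_lit 42)) (.leaf (nat_lit 2730))))))))) (.node (nat_lit 45142568328) (.node (nat_lit 43501335882) (.node (nat_lit 43356603767) (.node (nat_lit 43230763973) (.node (nat_lit 43230698965) (.node (nat_lit 43230695877) (.leaf (nat_lit 2274)) (.leaf (nat_lit 1689))) (.node (nat_lit 43230762965) (.leaf (nat_lit 18)) (.leaf (nat_lit 1103)))) (.node (nat_lit 43310911621) (.node (nat_lit 43304632848) (.leaf (nat_lit 2653)) (.leaf (nat_lit 940))) (.node (nat_lit 43356537159) (.leaf (nat_lit 4823)) (.node (nat_lit 43356573559) (.leaf (nat_lit 122)) (.leaf (nat_lit 1396)))))) (.node (nat_lit 43360957111) (.node (nat_lit 43360727175) (.node (nat_lit 43356638023) (.leaf (nat_lit 34)) (.leaf (nat_lit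 894))) (.node (nat_lit 43360828039) (.leaf (nat_lit 1431)) (.node (nat_lit 43360860343) (.leaf (nat_lit 3881)) (.leaf (nat_lit 471))))) (.node (nat_lit 43478691975) (.node (nat_lit 43472446000) (.leaf (nat_lit 229)) (.leaf (nat_lit 3697))) (.node (nat_lit 43501236546) (.leaf (nat_lit 1630)) (.node (nat_lit 43501240162) (.leaf (nat_lit 1909)) (.leaf (nat_lit 10714))))))) (.node (nat_lit 43763569335) (.node (nat_lit 43738776247) (.node (nat_lit 43705229973) (.node (nat_lit 43501337450) (.leaf (nat_lit 435)) (.leaf (nat_lit 991))) (.node (nat_lit 43715770424) (.leaf (nat_lit 155)) (.leaf (nat_lit 683)))) (.node (nat_lit 43763372167) (.node (nat_lit 43749283888) (.leaf (nat_lit 3764)) (.leaf (nat_lit 3300))) (.node (nat_lit 43763440303) (.leaf (nat_lit 1471)) (.node (nat_lit 43763505311) (.leaf (nat_lit 110)) (.leaf (nat_lit 367)))))) (.node (nat_lit 43897696917) (.node (nat_lit 43881336967) (.node (nat_lit 43875090968) (.leaf (nat_lit 57)) (.leaf (nat_lit 1905))) (.node (nat_lit 43897598085) (.leaf (nat_lit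 433)) (.node (nat_lit 43897600189) (.leaf (nat_lit 1298)) (.leaf (nat_lit 441))))) (.node (nat_lit 43975729720) (.node (nat_lit 43897698989) (.leaf (nat_lit 969)) (.leaf (nat_lit 252))) (.node (nat_lit 43982008453) (.leaf (nat_lit 1211)) (.node (nat_lit 45132038050) (.leaf (nat_lit 873)) (.leaf (nat_lit 180)))))))) (.node (nat_lit 45446861253) (.node (nat_lit 45236718568) (.node (nat_lit 45181592251) (.node (nat_lit 45181581502) (.node (nat_lit 45181573268) (.leaf (nat_lit 4011)) (.leaf (nat_lit 804))) (.node (nat_lit 45181584017) (.leaf (nat_lit 972)) (.leaf (nat_lit 282)))) (.node (nat_lit 45191594516) (.node (nat_lit 45182885268) (.leaf (nat_lit 2381)) (.leaf (nat_lit 954))) (.node (nat_lit 45192906516) (.leaf (nat_lit 337)) (.node (nat_lit 45225280054) (.leaf (nat_lit 2655)) (.leaf (nat_lit 612)))))) (.node (nat_lit 45434866181) (.node (nat_lit 45385007636) (.node (nat_lit 45238731202) (.leaf (nat_lit 1676)) (.leaf (nat_lit 105))) (.node (nat_lit 45390762117) (.leaf (nat_lit 82)) (.node (nat_lit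 45434865681) (.leaf (nat_lit 3034)) (.leaf (nat_lit 1423))))) (.node (nat_lit 45434898991) (.node (nat_lit 45434898491) (.leaf (nat_lit 145)) (.leaf (nat_lit 921))) (.node (nat_lit 45440109381) (.leaf (nat_lit 90)) (.node (nat_lit 45441618053) (.leaf (nat_lit 3311)) (.leaf (nat_lit 878))))))) (.node (nat_lit 45681826664) (.node (nat_lit 45569116187) (.node (nat_lit 45558542471) (.node (nat_lit 45552820790) (.leaf (nat_lit 4820)) (.leaf (nat_lit 1759))) (.node (nat_lit 45569083441) (.leaf (nat_lit 611)) (.node (nat_lit 45569083949) (.leaf (nat_lit 86)) (.leaf (nat_lit 1247))))) (.node (nat_lit 45572178247) (.node (nat_lit 45569116679) (.leaf (nat_lit 2783)) (.leaf (nat_lit 1244))) (.node (nat_lit 45575843975) (.leaf (nat_lit 236)) (.node (nat_lit 45583301575) (.leaf (nat_lit 253)) (.leaf (nat_lit 99)))))) (.node (nat_lit 45852713627) (.node (nat_lit 45770209058) (.node (nat_lit 45683847490) (.leaf (nat_lit 3145)) (.leaf (nat_lit 372))) (.node (nat_lit 45780665608) (.leaf (nat_lit 3538)) (.node (nat_lit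 45852705457) (.leaf (nat_lit 60)) (.leaf (nat_lit 100))))) (.node (nat_lit 45852801206) (.node (nat_lit 45852792988) (.leaf (nat_lit 271)) (.leaf (nat_lit 206))) (.node (nat_lit 45853529398) (.leaf (nat_lit 221)) (.node (nat_lit 45862847030) (.leaf (nat_lit 443)) (.leaf (nat_lit 1774))))))))))) (.node (nat_lit 58804537563) (.node (nat_lit 52101394881) (.node (nat_lit 51068768142) (.node (nat_lit 48786179121) (.node (nat_lit 48402809749) (.node (nat_lit 46012043399) (.node (nat_lit 45921886774) (.node (nat_lit 45896270356) (.leaf (nat_lit 1820)) (.leaf (nat_lit 615))) (.node (nat_lit 45927633031) (.leaf (nat_lit 189)) (.leaf (nat_lit 1775)))) (.node (nat_lit 46095413381) (.node (nat_lit 46089683476) (.leaf (nat_lit 2175)) (.leaf (nat_lit 5803))) (.node (nat_lit 46146269317) (.leaf (nat_lit 154)) (.node (nat_lit 48363079395) (.leaf (nat_lit 291)) (.leaf (nat_lit 204)))))) (.node (nat_lit 48560359180) (.node (nat_lit 48437151067) (.node (nat_lit 48413350992) (.leaf (nat_lit 353)) (.leaf (nat_lit 123)))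 (.node (nat_lit 48524004899) (.leaf (nat_lit 306)) (.node (nat_lit 48527065538) (.leaf (nat_lit 462)) (.leaf (nat_lit 1343))))) (.node (nat_lit 48599862712) (.node (nat_lit 48595599528) (.leaf (nat_lit 45)) (.leaf (nat_lit 23))) (.node (nat_lit 48674390800) (.leaf (nat_lit 413)) (.node (nat_lit 48684863941) (.leaf (nat_lit 273)) (.leaf (nat_lit 1466))))))) (.node (nat_lit 50673500610) (.node (nat_lit 49023591217) (.node (nat_lit 48792355143) (.node (nat_lit 48791323574) (.leaf (nat_lit 500)) (.leaf (nat_lit 1178))) (.node (nat_lit 48920277314) (.leaf (nat_lit 1329)) (.leaf (nat_lit 332)))) (.node (nat_lit 49233666218) (.node (nat_lit 49108467532) (.leaf (nat_lit 1121)) (.leaf (nat_lit 138))) (.node (nat_lit 50501273550) (.leaf (nat_lit 268)) (.node (nat_lit 50550293393) (.leaf (nat_lit 2)) (.leaf (nat_lit 53)))))) (.node (nat_lit 50873778503) (.node (nat_lit 50763665861) (.node (nat_lit 50754765588) (.leaf (nat_lit 150)) (.leaf (nat_lit 91))) (.node (nat_lit 50807770129) (.leaf (nat_lit 487)) (.node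 (nat_lit 50871698352) (.leaf (nat_lit 6493)) (.leaf (nat_lit 589))))) (.node (nat_lit 50994749608) (.node (nat_lit 50990433560) (.leaf (nat_lit 212)) (.leaf (nat_lit 115))) (.node (nat_lit 51032229411) (.leaf (nat_lit 319)) (.node (nat_lit 51035779394) (.leaf (nat_lit 2379)) (.leaf (nat_lit 3467)))))))) (.node (nat_lit 51946507383) (.node (nat_lit 51570887633) (.node (nat_lit 51231964899) (.node (nat_lit 51148096624) (.node (nat_lit 51137520439) (.leaf (nat_lit 29)) (.leaf (nat_lit 3890))) (.node (nat_lit 51172548091) (.leaf (nat_lit 1783)) (.leaf (nat_lit 79)))) (.node (nat_lit 51557974929) (.node (nat_lit 51465027754) (.leaf (nat_lit 289)) (.leaf (nat_lit 339))) (.node (nat_lit 51558243281) (.leaf (nat_lit 3259)) (.node (nat_lit 51570627473) (.leaf (nat_lit 785)) (.leaf (nat_lit 1650)))))) (.node (nat_lit 51828507152) (.node (nat_lit 51680168910) (.node (nat_lit 51680133574) (.leaf (nat_lit 777)) (.leaf (nat_lit 1006))) (.node (nat_lit 51680201726) (.leaf (nat_lit 3740)) (.node (nat_lit 51680231926)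 (.leaf (nat_lit 23)) (.leaf (nat_lit 3986))))) (.node (nat_lit 51837224464) (.node (nat_lit 51833035280) (.leaf (nat_lit 655)) (.leaf (nat_lit 27))) (.node (nat_lit 51841097232) (.leaf (nat_lit 651)) (.node (nat_lit 51946471495) (.leaf (nat_lit 2659)) (.leaf (nat_lit 235))))))) (.node (nat_lit 52083014609) (.node (nat_lit 52078617009) (.node (nat_lit 51946571871) (.node (nat_lit 51946538095) (.leaf (nat_lit 1005)) (.leaf (nat_lit 430))) (.node (nat_lit 52078584193) (.leaf (nat_lit 676)) (.node (nat_lit 52078584737) (.leaf (nat_lit 1425)) (.leaf (nat_lit 957))))) (.node (nat_lit 52082782657) (.node (nat_lit 52078617489) (.leaf (nat_lit 95)) (.leaf (nat_lit 675))) (.node (nat_lit 52082881009) (.leaf (nat_lit 493)) (.node (nat_lit 52082916321) (.leaf (nat_lit 1395)) (.leaf (nat_lit 1364)))))) (.node (nat_lit 52091171201) (.node (nat_lit 52087008753) (.node (nat_lit 52086972865) (.leaf (nat_lit 5543)) (.leaf (nat_lit 3940))) (.node (nat_lit 52087105505) (.leaf (nat_lit 3068)) (.node (nat_lit 52087139281)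 (.leaf (nat_lit 925)) (.leaf (nat_lit 5258))))) (.node (nat_lit 52091270033) (.node (nat_lit 52091174817) (.leaf (nat_lit 62)) (.leaf (nat_lit 1493))) (.node (nat_lit 52091272625) (.leaf (nat_lit 2269)) (.node (nat_lit 52096934273) (.leaf (nat_lit 759)) (.leaf (nat_lit 1678))))))))) (.node (nat_lit 52905728848) (.node (nat_lit 52644366993) (.node (nat_lit 52375961120) (.node (nat_lit 52212802479) (.node (nat_lit 52109521281) (.node (nat_lit 52105585089) (.leaf (nat_lit 1227)) (.leaf (nat_lit 6634))) (.node (nat_lit 52212801927) (.leaf (nat_lit 505)) (.leaf (nat_lit 126)))) (.node (nat_lit 52212835231) (.node (nat_lit 52212834743) (.leaf (nat_lit 1715)) (.leaf (nat_lit 1339))) (.node (nat_lit 52363305504) (.leaf (nat_lit 117)) (.node (nat_lit 52363638304) (.leaf (nat_lit 2862)) (.leaf (nat_lit 485)))))) (.node (nat_lit 52487634038) (.node (nat_lit 52487532614) (.node (nat_lit 52376152608) (.leaf (nat_lit 1445)) (.leaf (nat_lit 2981))) (.node (nat_lit 52487534718) (.leaf (nat_lit 2687)) (.node (nat_lit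 52487631950) (.leaf (nat_lit 97)) (.leaf (nat_lit 1956))))) (.node (nat_lit 52631715681) (.node (nat_lit 52631708449) (.leaf (nat_lit 220)) (.leaf (nat_lit 166))) (.node (nat_lit 52631716497) (.leaf (nat_lit 268)) (.node (nat_lit 52631723729) (.leaf (nat_lit 986)) (.leaf (nat_lit 2508))))))) (.node (nat_lit 52822032838) (.node (nat_lit 52714289277) (.node (nat_lit 52644423457) (.node (nat_lit 52644370129) (.leaf (nat_lit 187)) (.leaf (nat_lit 246))) (.node (nat_lit 52644428641) (.leaf (nat_lit 425)) (.leaf (nat_lit 3803)))) (.node (nat_lit 52732371757) (.node (nat_lit 52728228684) (.leaf (nat_lit 102)) (.leaf (nat_lit 853))) (.node (nat_lit 52743501916) (.leaf (nat_lit 623)) (.node (nat_lit 52818971703) (.leaf (nat_lit 2676)) (.leaf (nat_lit 1275)))))) (.node (nat_lit 52889160352) (.node (nat_lit 52884964000) (.node (nat_lit 52884963760) (.leaf (nat_lit 7626)) (.leaf (nat_lit 2871))) (.node (nat_lit 52885032432) (.leaf (nat_lit 1251)) (.node (nat_lit 52885032672) (.leaf (nat_lit 1931)) (.leaf (nat_lit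 1327))))) (.node (nat_lit 52889223664) (.node (nat_lit 52889161136) (.leaf (nat_lit 845)) (.leaf (nat_lit 597))) (.node (nat_lit 52889224928) (.leaf (nat_lit 2341)) (.node (nat_lit 52901200656) (.leaf (nat_lit 858)) (.leaf (nat_lit 393)))))))) (.node (nat_lit 53519668269) (.node (nat_lit 53170151809) (.node (nat_lit 53087322183) (.node (nat_lit 52914111248) (.node (nat_lit 52909595472) (.leaf (nat_lit 4019)) (.leaf (nat_lit 317))) (.node (nat_lit 53086290358) (.leaf (nat_lit 2151)) (.leaf (nat_lit 4)))) (.node (nat_lit 53157310913) (.node (nat_lit 53152850305) (.leaf (nat_lit 2123)) (.leaf (nat_lit 1002))) (.node (nat_lit 53161238977) (.leaf (nat_lit 374)) (.node (nat_lit 53165699457) (.leaf (nat_lit 85)) (.leaf (nat_lit 1769)))))) (.node (nat_lit 53377035318) (.node (nat_lit 53178802625) (.node (nat_lit 53174350273) (.leaf (nat_lit 298)) (.leaf (nat_lit 270))) (.node (nat_lit 53183000961) (.leaf (nat_lit 182)) (.node (nat_lit 53371478407) (.leaf (nat_lit 974)) (.leaf (nat_lit 79))))) (.node (nat_lit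 53420657488) (.node (nat_lit 53420262160) (.leaf (nat_lit 394)) (.leaf (nat_lit 77))) (.node (nat_lit 53433043792) (.leaf (nat_lit 3062)) (.node (nat_lit 53433172752) (.leaf (nat_lit 2681)) (.leaf (nat_lit 2869))))))) (.node (nat_lit 58121619704) (.node (nat_lit 53645422662) (.node (nat_lit 53548778508) (.node (nat_lit 53520925468) (.leaf (nat_lit 606)) (.leaf (nat_lit 203))) (.node (nat_lit 53550340989) (.leaf (nat_lit 2513)) (.node (nat_lit 53644227063) (.leaf (nat_lit 466)) (.leaf (nat_lit 1137))))) (.node (nat_lit 58011753108) (.node (nat_lit 58000425877) (.leaf (nat_lit 201)) (.leaf (nat_lit 1949))) (.node (nat_lit 58084574926) (.leaf (nat_lit 5484)) (.node (nat_lit 58097382718) (.leaf (nat_lit 190)) (.leaf (nat_lit 36)))))) (.node (nat_lit 58457079879) (.node (nat_lit 58325011285) (.node (nat_lit 58123633094) (.leaf (nat_lit 2359)) (.leaf (nat_lit 6558))) (.node (nat_lit 58338066964) (.leaf (nat_lit 2715)) (.node (nat_lit 58440566044) (.leaf (nat_lit 2134)) (.leaf (nat_lit 226))))) (.node (nat_lit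 58581195841) (.node (nat_lit 58554715137) (.leaf (nat_lit 1122)) (.leaf (nat_lit 313))) (.node (nat_lit 58688966189) (.leaf (nat_lit 38)) (.node (nat_lit 58740711815) (.leaf (nat_lit 121)) (.leaf (nat_lit 1017)))))))))) (.node (nat_lit 63449400852) (.node (nat_lit 60406437589) (.node (nat_lit 59892152571) (.node (nat_lit 59263435206) (.node (nat_lit 59074167445) (.node (nat_lit 58928794248) (.node (nat_lit 58805756458) (.leaf (nat_lit 218)) (.leaf (nat_lit 6377))) (.node (nat_lit 58930769990) (.leaf (nat_lit 1205)) (.leaf (nat_lit 919)))) (.node (nat_lit 59173520735) (.node (nat_lit 59085233108) (.leaf (nat_lit 780)) (.leaf (nat_lit 758))) (.node (nat_lit 59186261743) (.leaf (nat_lit 439)) (.node (nat_lit 59231716876) (.leaf (nat_lit 285)) (.leaf (nat_lit 93)))))) (.node (nat_lit 59634490369) (.node (nat_lit 59410760468) (.node (nat_lit 59397704213) (.leaf (nat_lit 2406)) (.leaf (nat_lit 3957))) (.node (nat_lit 59461632680) (.leaf (nat_lit 101)) (.node (nat_lit 59463712839) (.leaf (nat_lit 436)) (.leaf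 (nat_lit 867))))) (.node (nat_lit 59729518983) (.node (nat_lit 59658603585) (.leaf (nat_lit 17)) (.leaf (nat_lit 357))) (.node (nat_lit 59735935192) (.leaf (nat_lit 4761)) (.node (nat_lit 59890600458) (.leaf (nat_lit 1657)) (.leaf (nat_lit 1004))))))) (.node (nat_lit 60270135542) (.node (nat_lit 60229753872) (.node (nat_lit 60088135750) (.node (nat_lit 60055061885) (.leaf (nat_lit 287)) (.leaf (nat_lit 397))) (.node (nat_lit 60215018389) (.leaf (nat_lit 3444)) (.leaf (nat_lit 243)))) (.node (nat_lit 60246239752) (.node (nat_lit 60231547766) (.leaf (nat_lit 930)) (.leaf (nat_lit 5929))) (.node (nat_lit 60270067910) (.leaf (nat_lit 1701)) (.node (nat_lit 60270104262) (.leaf (nat_lit 1515)) (.leaf (nat_lit 486)))))) (.node (nat_lit 60274420598) (.node (nat_lit 60274254150) (.node (nat_lit 60270167798) (.leaf (nat_lit 475)) (.leaf (nat_lit 4926))) (.node (nat_lit 60274290502) (.leaf (nat_lit 1444)) (.node (nat_lit 60274386294) (.leaf (nat_lit 20)) (.leaf (nat_lit 2732))))) (.node (nat_lit 60376228166) (.node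 (nat_lit 60370057776) (.leaf (nat_lit 765)) (.leaf (nat_lit 1462))) (.node (nat_lit 60406370501) (.leaf (nat_lit 494)) (.node (nat_lit 60406372565) (.leaf (nat_lit 1193)) (.leaf (nat_lit 879)))))))) (.node (nat_lit 60802769813) (.node (nat_lit 60536441699) (.node (nat_lit 60410631061) (.node (nat_lit 60410564997) (.node (nat_lit 60406439621) (.leaf (nat_lit 1225)) (.leaf (nat_lit 2354))) (.node (nat_lit 60410568085) (.leaf (nat_lit 484)) (.leaf (nat_lit 719)))) (.node (nat_lit 60485550608) (.node (nat_lit 60410634117) (.leaf (nat_lit 1194)) (.leaf (nat_lit 1170))) (.node (nat_lit 60496023941) (.leaf (nat_lit 139)) (.node (nat_lit 60536406339) (.leaf (nat_lit 5729)) (.leaf (nat_lit 3401)))))) (.node (nat_lit 60668551611) (.node (nat_lit 60536507227) (.node (nat_lit 60536471931) (.leaf (nat_lit 1311)) (.leaf (nat_lit 147))) (.node (nat_lit 60668518787) (.leaf (nat_lit 3875)) (.node (nat_lit 60668519331) (.leaf (nat_lit 658)) (.leaf (nat_lit 2362))))) (.node (nat_lit 60802736517) (.node (nat_lit 60668552091)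 (.leaf (nat_lit 1907)) (.leaf (nat_lit 3023))) (.node (nat_lit 60802737069) (.leaf (nat_lit 3021)) (.node (nat_lit 60802769341) (.leaf (nat_lit 404)) (.leaf (nat_lit 380))))))) (.node (nat_lit 61169333141) (.node (nat_lit 60939180878) (.node (nat_lit 60898704424) (.node (nat_lit 60888195461) (.leaf (nat_lit 465)) (.leaf (nat_lit 482))) (.node (nat_lit 60939047238) (.leaf (nat_lit 1697)) (.node (nat_lit 60939112830) (.leaf (nat_lit 339)) (.leaf (nat_lit 309))))) (.node (nat_lit 61041021254) (.node (nat_lit 60939246454) (.leaf (nat_lit 502)) (.leaf (nat_lit 1013))) (.node (nat_lit 61047424008) (.leaf (nat_lit 1610)) (.node (nat_lit 61154566696) (.leaf (nat_lit 1643)) (.leaf (nat_lit 4981)))))) (.node (nat_lit 63435446484) (.node (nat_lit 61185837942) (.node (nat_lit 61171110960) (.leaf (nat_lit 207)) (.leaf (nat_lit 847))) (.node (nat_lit 63402681123) (.leaf (nat_lit 1324)) (.node (nat_lit 63417482200) (.leaf (nat_lit 358)) (.leaf (nat_lit 2396))))) (.node (nat_lit 63436235567) (.node (nat_lit 63436234196)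 (.leaf (nat_lit 114)) (.leaf (nat_lit 1652))) (.node (nat_lit 63436243601) (.leaf (nat_lit 626)) (.node (nat_lit 63436258410) (.leaf (nat_lit 1274)) (.leaf (nat_lit 1357))))))))) (.node (nat_lit 64390568908) (.node (nat_lit 63695491269) (.node (nat_lit 63558402246) (.node (nat_lit 63529558342) (.node (nat_lit 63467883511) (.node (nat_lit 63450710804) (.leaf (nat_lit 2975)) (.leaf (nat_lit 1))) (.node (nat_lit 63523126263) (.leaf (nat_lit 1164)) (.leaf (nat_lit 1727)))) (.node (nat_lit 63557373830) (.node (nat_lit 63557372554) (.leaf (nat_lit 137)) (.leaf (nat_lit 3443))) (.node (nat_lit 63557403005) (.leaf (nat_lit 3390)) (.node (nat_lit 63557403761) (.leaf (nat_lit 275)) (.leaf (nat_lit 828)))))) (.node (nat_lit 63689490878) (.node (nat_lit 63564423494) (.node (nat_lit 63561330182) (.leaf (nat_lit 926)) (.leaf (nat_lit 351))) (.node (nat_lit 63638618900) (.leaf (nat_lit 423)) (.node (nat_lit 63648829829) (.leaf (nat_lit 470)) (.leaf (nat_lit 1612))))) (.node (nat_lit 63689526353) (.node (nat_lit 63689491114)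 (.leaf (nat_lit 39)) (.leaf (nat_lit 127))) (.node (nat_lit 63689527109) (.leaf (nat_lit 2727)) (.node (nat_lit 63692672517) (.leaf (nat_lit 1102)) (.leaf (nat_lit 1468))))))) (.node (nat_lit 64177312070) (.node (nat_lit 63941124483) (.node (nat_lit 63756599736) (.node (nat_lit 63700734341) (.leaf (nat_lit 508)) (.leaf (nat_lit 818))) (.node (nat_lit 63758680387) (.leaf (nat_lit 618)) (.leaf (nat_lit 333)))) (.node (nat_lit 64058040709) (.node (nat_lit 63943299448) (.leaf (nat_lit 639)) (.leaf (nat_lit 6494))) (.node (nat_lit 64068371220) (.leaf (nat_lit 93)) (.node (nat_lit 64142451077) (.leaf (nat_lit 1981)) (.leaf (nat_lit 1525)))))) (.node (nat_lit 64375092791) (.node (nat_lit 64278761798) (.node (nat_lit 64183892983) (.leaf (nat_lit 329)) (.leaf (nat_lit 882))) (.node (nat_lit 64291898136) (.leaf (nat_lit 141)) (.node (nat_lit 64306605027) (.leaf (nat_lit 9)) (.leaf (nat_lit 694))))) (.node (nat_lit 64388946167) (.node (nat_lit 64375655415) (.leaf (nat_lit 2195)) (.leaf (nat_lit 2700))) (.node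 (nat_lit 64390548145) (.leaf (nat_lit 3924)) (.node (nat_lit 64390558794) (.leaf (nat_lit 685)) (.leaf (nat_lit 596)))))))) (.node (nat_lit 66502900593) (.node (nat_lit 65706934470) (.node (nat_lit 65583727253) (.node (nat_lit 64392561428) (.node (nat_lit 64390571319) (.leaf (nat_lit 395)) (.leaf (nat_lit 4719))) (.node (nat_lit 65563396642) (.leaf (nat_lit 319)) (.leaf (nat_lit 981)))) (.node (nat_lit 65599719370) (.node (nat_lit 65598462032) (.leaf (nat_lit 6125)) (.leaf (nat_lit 94))) (.node (nat_lit 65675069553) (.leaf (nat_lit 107)) (.node (nat_lit 65703873079) (.leaf (nat_lit 1019)) (.leaf (nat_lit 3660)))))) (.node (nat_lit 65971192482) (.node (nat_lit 65779666680) (.node (nat_lit 65775536104) (.leaf (nat_lit 7270)) (.leaf (nat_lit 33))) (.node (nat_lit 65853211408) (.leaf (nat_lit 161)) (.node (nat_lit 65859489989) (.leaf (nat_lit 396)) (.leaf (nat_lit 205))))) (.node (nat_lit 66023867420) (.node (nat_lit 65972224323) (.leaf (nat_lit 5899)) (.leaf (nat_lit 2430))) (.node (nat_lit 66071306627)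 (.leaf (nat_lit 218)) (.node (nat_lit 66426650171) (.leaf (nat_lit 2186)) (.leaf (nat_lit 49))))))) (.node (nat_lit 66914945105) (.node (nat_lit 66713567430) (.node (nat_lit 66623652959) (.node (nat_lit 66554080348) (.leaf (nat_lit 3723)) (.leaf (nat_lit 219))) (.node (nat_lit 66657469329) (.leaf (nat_lit 4)) (.node (nat_lit 66711555056) (.leaf (nat_lit 5338)) (.leaf (nat_lit 1202))))) (.node (nat_lit 66819342072) (.node (nat_lit 66815018760) (.leaf (nat_lit 659)) (.leaf (nat_lit 163))) (.node (nat_lit 66860892692) (.leaf (nat_lit 165)) (.node (nat_lit 66865860805) (.leaf (nat_lit 2933)) (.leaf (nat_lit 1615)))))) (.node (nat_lit 67278868027) (.node (nat_lit 67129319811) (.node (nat_lit 67047014723) (.leaf (nat_lit 1716)) (.leaf (nat_lit 459))) (.node (nat_lit 67130231458) (.leaf (nat_lit 628)) (.node (nat_lit 67144682527) (.leaf (nat_lit 1883)) (.leaf (nat_lit 51))))) (.node (nat_lit 67527097014) (.node (nat_lit 67512436848) (.leaf (nat_lit 170)) (.leaf (nat_lit 406))) (.node (nat_lit 67578042154)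 (.leaf (nat_lit 978)) (.node (nat_lit 67597017634) (.leaf (nat_lit 20)) (.leaf (nat_lit 5855)))))))))))))
noncomputable def T2 : ST := (.node (nat_lit 34078204167) (.node (nat_lit 17718977793) (.node (nat_lit 6541876289) (.node (nat_lit 2913581091) (.node (nat_lit 2276136961) (.node (nat_lit 2242451457) (.leaf (nat_lit 97083)) (.node (nat_lit 2250442753) (.leaf (nat_lit 125750)) (.leaf (nat_lit 55917)))) (.node (nat_lit 2351007779) (.leaf (nat_lit 125750)) (.node (nat_lit 2384693283) (.leaf (nat_lit 3559)) (.leaf (nat_lit 32459))))) (.node (nat_lit 3338082369) (.node (nat_lit 3295742017) (.leaf (nat_lit 83902)) (.node (nat_lit 3321436225) (.leaf (nat_lit 13473)) (.leaf (nat_lit 81363)))) (.node (nat_lit 3346991169) (.leaf (nat_lit 24212)) (.node (nat_lit 6511725569) (.leaf (nat_lit 81363)) (.leaf (nat_lit 97083)))))) (.node (nat_lit 10940942903) (.node (nat_lit 7612472321) (.node (nat_lit 6645976635) (.leaf (nat_lit 188171)) (.node (nat_lit 7590710337) (.leaf (nat_lit 97097)) (.leaf (nat_lit 13473))))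 (.node (nat_lit 8283633179) (.leaf (nat_lit 49961)) (.node (nat_lit 10806692373) (.leaf (nat_lit 21338)) (.leaf (nat_lit 26540))))) (.node (nat_lit 15794611311) (.node (nat_lit 15101660693) (.leaf (nat_lit 45689)) (.node (nat_lit 15235910703) (.leaf (nat_lit 2551)) (.leaf (nat_lit 3559)))) (.node (nat_lit 17718845697) (.leaf (nat_lit 22638)) (.node (nat_lit 17718879025) (.leaf (nat_lit 0)) (.leaf (nat_lit 171895))))))) (.node (nat_lit 22181618491) (.node (nat_lit 18810937601) (.node (nat_lit 17731533681) (.node (nat_lit 17719011121) (.leaf (nat_lit 130834)) (.node (nat_lit 17731432769) (.leaf (nat_lit 129707)) (.leaf (nat_lit 76897)))) (.node (nat_lit 17731564865) (.leaf (nat_lit 123699)) (.node (nat_lit 17731665777) (.leaf (nat_lit 76897)) (.leaf (nat_lit 123699))))) (.node (nat_lit 18823524673) (.node (nat_lit 18815526209) (.leaf (nat_lit 19303)) (.node (nat_lit 18819724545) (.leaf (nat_lit 16275)) (.leaf (nat_lit 254628)))) (.node (nat_lit 22047367425) (.leaf (nat_lit 16275)) (.node (nat_lit 22077518145)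 (.leaf (nat_lit 0)) (.leaf (nat_lit 27434)))))) (.node (nat_lit 26443162927) (.node (nat_lit 23139459329) (.node (nat_lit 22732544859) (.leaf (nat_lit 7380)) (.node (nat_lit 23135007041) (.leaf (nat_lit 5710)) (.leaf (nat_lit 120442)))) (.node (nat_lit 26442998023) (.leaf (nat_lit 19303)) (.node (nat_lit 26443031351) (.leaf (nat_lit 9020)) (.leaf (nat_lit 90071))))) (.node (nat_lit 30122412925) (.node (nat_lit 29065546581) (.leaf (nat_lit 9020)) (.node (nat_lit 29749682439) (.leaf (nat_lit 124573)) (.leaf (nat_lit 109301)))) (.node (nat_lit 30771519751) (.node (nat_lit 30637335357) (.leaf (nat_lit 211602)) (.leaf (nat_lit 171895))) (.node (nat_lit 33360514901) (.leaf (nat_lit 12015)) (.leaf (nat_lit 19389)))))))) (.node (nat_lit 45181583892) (.node (nat_lit 34922755632) (.node (nat_lit 34498166850) (.node (nat_lit 34385517072) (.node (nat_lit 34377056784) (.leaf (nat_lit 129847)) (.node (nat_lit 34377319952) (.leaf (nat_lit 438)) (.leaf (nat_lit 30129)))) (.node (nat_lit 34410611224) (.leaf (nat_lit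 17721)) (.node (nat_lit 34419235384) (.leaf (nat_lit 438)) (.leaf (nat_lit 1533))))) (.node (nat_lit 34540607586) (.node (nat_lit 34498267234) (.leaf (nat_lit 47822)) (.node (nat_lit 34531983426) (.leaf (nat_lit 42340)) (.leaf (nat_lit 11491)))) (.node (nat_lit 34913968688) (.leaf (nat_lit 47507)) (.node (nat_lit 34914430512) (.leaf (nat_lit 30617)) (.leaf (nat_lit 155533)))))) (.node (nat_lit 35043638346) (.node (nat_lit 35043438658) (.node (nat_lit 34947523128) (.leaf (nat_lit 11613)) (.node (nat_lit 34956081688) (.leaf (nat_lit 30617)) (.leaf (nat_lit 47595)))) (.node (nat_lit 35043539042) (.leaf (nat_lit 42908)) (.node (nat_lit 35043603562) (.leaf (nat_lit 193257)) (.leaf (nat_lit 21170))))) (.node (nat_lit 37787549762) (.node (nat_lit 35069093986) (.leaf (nat_lit 64989)) (.node (nat_lit 35077255234) (.leaf (nat_lit 193257)) (.leaf (nat_lit 42908)))) (.node (nat_lit 37821366338) (.leaf (nat_lit 126358)) (.node (nat_lit 38350123074) (.leaf (nat_lit 80095)) (.leaf (nat_lit 144083))))))) (.node (nat_lit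 59174830872) (.node (nat_lit 51222899726) (.node (nat_lit 45886267966) (.node (nat_lit 45215138332) (.leaf (nat_lit 19955)) (.node (nat_lit 45852713526) (.leaf (nat_lit 256159)) (.leaf (nat_lit 21338)))) (.node (nat_lit 50551604756) (.leaf (nat_lit 58673)) (.node (nat_lit 50672452686) (.leaf (nat_lit 19955)) (.leaf (nat_lit 126358))))) (.node (nat_lit 52644371280) (.node (nat_lit 52631716624) (.leaf (nat_lit 125807)) (.node (nat_lit 52631979792) (.leaf (nat_lit 3513)) (.leaf (nat_lit 21077)))) (.node (nat_lit 58095819640) (.leaf (nat_lit 2214)) (.node (nat_lit 58746402090) (.leaf (nat_lit 124573)) (.leaf (nat_lit 109301)))))) (.node (nat_lit 63436243732) (.node (nat_lit 60267971918) (.node (nat_lit 59262387530) (.leaf (nat_lit 18922)) (.node (nat_lit 60267970886) (.leaf (nat_lit 80116)) (.leaf (nat_lit 28555)))) (.node (nat_lit 60268071798) (.leaf (nat_lit 111924)) (.node (nat_lit 60268072830) (.leaf (nat_lit 5710)) (.leaf (nat_lit 10532))))) (.node (nat_lit 65671545158) (.node (nat_lit 63557353798)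 (.leaf (nat_lit 17513)) (.node (nat_lit 65550172956) (.leaf (nat_lit 15601)) (.leaf (nat_lit 3513)))) (.node (nat_lit 66656683796) (.node (nat_lit 66074405724) (.leaf (nat_lit 28555)) (.leaf (nat_lit 60707))) (.node (nat_lit 66811347270) (.leaf (nat_lit 17513)) (.leaf (nat_lit 15601)))))))))
noncomputable def key (A : List ℕ) : ℕ :=
  List.rec (motive := fun _ => ℕ) (nat_lit 0) (fun a _ ih => Nat.add a (Nat.mul (nat_lit 64) ih)) A
noncomputable def eqL (A B : List ℕ) : Bool := Nat.beq (neL A B) (nat_lit 0)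
theorem eqL_eq {A B : List ℕ} (h : eqL A B = true) : A = B := neL_zero (Nat.eq_of_beq_eq_true h)

noncomputable def leaf (M : List ℕ) : Bool := eqL M E6 ||
  ((!fx (ap M) (nat_lit 3) || force (force (key M) T1.find) fun w =>
      redK (nat_lit 8) w M fun B => eqL B B0 || eqL B B1) &&
    (!fx (ap M) (nat_lit 2) || (!fx (fun v => force (ap M v) (ap B1)) (nat_lit 7) &&
      (!fx (fun v => force (ap M v) (ap B0)) (nat_lit 7) || force (force (key M) T2.find) fun w =>
        redK (nat_lit 8) w M fun A => redK (nat_lit 8) w B0 fun B => (eqL B B0 && (eqL A AP || eqL A AU)) ||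
          (eqL A AU && redK (nat_lit 8) w B2 fun B' => eqL B' B0)))))

noncomputable def nt (m o : ℕ) : ℕ := Nat.xor m (Nat.land m o)

theorem nt_bit {m o i : ℕ} (h : m.testBit i = true) (h' : o.testBit i = false) : (nt m o).testBit i = true := by
  show (m ^^^ (m &&& o)).testBit i = true
  rw [Nat.testBit_xor, Nat.testBit_and, h, h']; rfl

theorem land_bit {m o i : ℕ} (h : m.testBit i = true) (h' : o.testBit i = true) :
    (Nat.land m o).testBit i = true := by
  show (m &&& o).testBit i = true
  rw [Nat.testBit_and, h, h']; rfl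

noncomputable def en (a0 : ℕ) : Bool := force (orth a0) fun o0 => force (nt sg o0) <| allM (fun a3 =>
  force (Nat.land (Nat.land sg o0) (orth a3)) fun m1 => allM (fun a1 => force (orth a1) fun o1 =>
    force (nt m1 o1) <| allM (fun a4 => force (Nat.land (Nat.land m1 o1) (orth a4)) fun m2 =>
      allM (fun a2 => force (nt m2 (orth a2)) <| allM (fun a5 => leaf [a0, a1, a2, a3, a4, a5])
        (nat_lit 64)) (nat_lit 64) m2) (nat_lit 64)) (nat_lit 64) m1) (nat_lit 64)

theorem en_a : allM en (nat_lit 64) (Nat.land sg (nat_lit 65535)) = true := by decide +kernel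
theorem en_b : allM en (nat_lit 64) (Nat.land sg (nat_lit 4294901760)) = true := by decide +kernel
theorem en_c : allM en (nat_lit 64) (Nat.land sg (nat_lit 281470681743360)) = true := by decide +kernel
theorem en_d : allM en (nat_lit 64) (nt sg (nat_lit 281474976710655)) = true := by decide +kernel

end H1.Hu
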