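import Cfsg.Agent.H16.Fast

/-! Generated by tools/h16 (computation kit). -/

set_option maxRecDepth 100000
set_option maxHeartbeats 0

namespace H1.HuT

open H16

noncomputable def Rl : List (List ℕ) := [[nat_lit 0, nat_lit 0],
  [nat_lit 1, nat_lit 2],
  [nat_lit 2, nat_lit 1],
  [nat_lit 1, nat_lit 1, nat_lit 1],
  [nat_lit 1, nat_lit 0, nat_lit 1, nat_lit 0, nat_lit 1, nat_lit 0, nat_lit 1, nat_lit 0, nat_lit 1, nat_lit 0, nat_lit 1, nat_lit 0, nat_lit 1, nat_lit 0],
  [nat_lit 2, nat_lit 0, nat_lit 1, nat_lit 0, nat_lit 2, nat_lit 0, nat_lit 1, nat_lit 0, nat_lit 2, nat_lit 0, nat_lit 1, nat_lit 0, nat_lit 2, nat_lit 0, nat_lit 1, nat_lit 0]]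
noncomputable def Tad : List ℕ := [nat_lit 0x19a3a119d19e2a029f2a63a33a22a42a559b49c2a788388087f87e87d87c87b87887787687587487187086f86e86d86c86986886786699958148299899799699599499357947a99299199098f98e57247398d98c98b98a98998856a46b98798698598485385285184f84c84a84984884784684584484283f83d83c83b83a96596496374396254d44e96173e96095f95e95d95c95b95a65095954044195864b95795695595482982882782682582482382282182081f81e81d81c81b81a93993893793693593493393293193092f92e92d92c92b92a81181080f80e80d80c80b80a919918917916915914913912805804803802909908907906800901,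
  nat_lit 0x8916a749588e88d49849088949449988669d88548a58758c3a339b58f5883a03a49a658b9a54924979a29a158449399f99e99c49699a86468386368186267f86167d86067b85f67946585d67685b67485a67285967085866e85766c85666a45c85466755e98298097e97c97a97897797555597397196f96d96b96996896683865383765183664f83564d83464b83364963283064682f64482e64282d64082c63e82b63c82a53a95295094e94c94a94873194794594394193f93d93b63981962981862781762581662381562181461f81361d81261b92892692492292091e91c91a80961180860f80760d80660b91090e90c90a801605800603904902,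
  nat_lit 0x7a689188f49249788c88b49388888779c88649688439e3a258d5853a539f58958e9a73a14959a49a349849039a9a049449999d99b48a78286478086377e86277c86177a86077885f85e77585d77385b77185a76f85976d85876b85776985685576685437798398197f97d97b97946597636897497297096e96c96a45c96775283875083774e83674c83574a83474883383174583074382f74182e73f82d73d82c73b82b63972a95395194f94d94b94954763294694494294093e93c93a72881972681872481772281672081571e81471c81371a81292992792592392191f91d91b71080970e80870c80770a80691190f90d90b704801702800905903]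
noncomputable def Ta (k u : ℕ) : ℕ := Nat.land (Nat.shiftRight (nth (nat_lit 0) Tad k) (Nat.mul u (nat_lit 12))) (nat_lit 4095)
noncomputable def Iad : List ℕ := [nat_lit 0x800034d20c000000000000000028124928124940924940924000000000000024d281849249050209240000000000009249249249240000009249240009241,
  nat_lit 0x1009048009c01c00b2012c124100000000040000000000201924924b249249000000000400000000001249309249200000000000009249240000009240009,
  nat_lit 0x402402010400700708048008048410410410082082082080401249208249241410410410082082082099249201249250410410410409249250410409250409]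
noncomputable def Ia (k u : ℕ) : ℕ := Nat.land (Nat.shiftRight (nth (nat_lit 0) Iad k) (Nat.mul u (nat_lit 3))) (nat_lit 7)
noncomputable def Dad : ℕ := nat_lit 0xcdae6d2f5d7acbd4de96f4579dbccde5af29793bc8de36f13780bbeddeaeef774bb8dda2ecb562aafd572aa7550aa6d52aa8f544a9dd4e2a6b532a9754b6a5752aa94549ea4b524a915486a3f51ea8dcc666313139894c4261f30d9864c2a6133079834c1260730097f4bf65f32f6979cbb65c92de96dcb621ab0d2867c33218d0bd85bc2d21630ae85542a614f0a6852428e1430a084f427613709a74a3a49d22e8f7473a31d16e897443a19d0ae837413a01cf6e7873ab9c9cdee6c734b9998c6c6062eb1698aec54628b13989ac4c625312588ec46622310d482a4051f28f5476a3a51c28dd466a30516a8a904e824410a07903a81c40d2064c2e61630a184cc1e60c204901880a4041010804400000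
noncomputable def Da (u : ℕ) : ℕ := Nat.land (Nat.shiftRight Dad (Nat.mul u (nat_lit 13))) (nat_lit 8191)
noncomputable def Ea (_ : ℕ) : ℕ := nat_lit 0
noncomputable def Ja (_ : ℕ) : ℕ := nat_lit 0
noncomputable def Wa (_ : ℕ) : ℕ := nat_lit 0
noncomputable def RLa : List (List Rule) := [[.rel (nat_lit 0) (nat_lit 0) [nat_lit 0], .defn, .rel (nat_lit 8) (nat_lit 1) [nat_lit 1, nat_lit 0, nat_lit 1, nat_lit 0, nat_lit 1, nat_lit 0, nat_lit 1, nat_lit 0, nat_lit 1, nat_lit 0, nat_lit 1, nat_lit 0, nat_lit 1], .rel (nat_lit 9) (nat_lit 0) [nat_lit 2, nat_lit 0, nat_lit 2, nat_lit 0, nat_lit 2, nat_lit 0, nat_lit 2, nat_lit 0, nat_lit 2, nat_lit 0, nat_lit 2, nat_lit 0, nat_lit 2], .rel (nat_lit 10) (nat_lit 1) [nat_lit 1, nat_lit 0, nat_lit 2, nat_lit 0, nat_lit 1, nat_lit 0, nat_lit 2, nat_lit 0, nat_lit 1, nat_lit 0, nat_lit 2, nat_lit 0, nat_lit 1, nat_lit 0, nat_lit 2], .rel (nat_lit 10) (nat_lit 3) [nat_lit 2, nat_lit 0, nat_lit 1, nat_lit 0, nat_lit 2, nat_lit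 0, nat_lit 1, nat_lit 0, nat_lit 2, nat_lit 0, nat_lit 1, nat_lit 0, nat_lit 2, nat_lit 0, nat_lit 1]],
  [.rel (nat_lit 2) (nat_lit 0) [nat_lit 2], .defn, .rel (nat_lit 6) (nat_lit 0) [nat_lit 1, nat_lit 1], .rel (nat_lit 10) (nat_lit 2) [nat_lit 0, nat_lit 2, nat_lit 0, nat_lit 1, nat_lit 0, nat_lit 2, nat_lit 0, nat_lit 1, nat_lit 0, nat_lit 2, nat_lit 0, nat_lit 1, nat_lit 0, nat_lit 2, nat_lit 0], .rel (nat_lit 8) (nat_lit 0) [nat_lit 0, nat_lit 1, nat_lit 0, nat_lit 1, nat_lit 0, nat_lit 1, nat_lit 0, nat_lit 1, nat_lit 0, nat_lit 1, nat_lit 0, nat_lit 1, nat_lit 0]],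
  [.rel (nat_lit 2) (nat_lit 1) [nat_lit 1], .defn, .rel (nat_lit 7) (nat_lit 0) [nat_lit 2, nat_lit 2], .rel (nat_lit 9) (nat_lit 1) [nat_lit 0, nat_lit 2, nat_lit 0, nat_lit 2, nat_lit 0, nat_lit 2, nat_lit 0, nat_lit 2, nat_lit 0, nat_lit 2, nat_lit 0, nat_lit 2, nat_lit 0], .rel (nat_lit 10) (nat_lit 0) [nat_lit 0, nat_lit 1, nat_lit 0, nat_lit 2, nat_lit 0, nat_lit 1, nat_lit 0, nat_lit 2, nat_lit 0, nat_lit 1, nat_lit 0, nat_lit 2, nat_lit 0, nat_lit 1, nat_lit 0]]]
noncomputable def ca : TCert2 := ⟨168, 168, 168, 3, 255, 511, 0, Ta, Ia, Da, Ea, Ja, Wa, [], RLa⟩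

theorem ivc : ivChk Rl (nat_lit 3) = true := by decide +kernel
theorem tcae_a : allZ2 (ent2 Ta Ea (selR RLa Ia) Da (nat_lit 255) (nat_lit 168) (nat_lit 168) (nat_lit 168) (nat_lit 3) (nat_lit 511) (nat_lit 0)) (nat_lit 3) (nat_lit 168) = true := by decide +kernel
theorem tcap_0 : allZ (eps2 Ta Ea Ja Wa RLa (nat_lit 255) (nat_lit 168) (nat_lit 168) (nat_lit 3) (nat_lit 0)) (nat_lit 0) (nat_lit 0) = true := by decide +kernel
theorem tcar : rulesChk Rl ca.Sl RLa (nat_lit 3) = true := by decide +kernel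
theorem tcan : 0 < ca.M ∧ ca.n0 ≤ ca.M ∧ 0 < ca.K ∧ ca.K ≤ 3 ∧ ca.D 0 = 0 := by decide +kernel
theorem tcaq : ca.M - ca.n = 0 := by decide +kernel
theorem sta : allL (ltAll 0) ca.Sl = true ∧ 0 < ca.n0 ∧ ca.K = 3 ∧ ca.n0 * 1 = 168 := by decide +kernel

theorem tcae : ∀ k < 3, ∀ i < 168, (ent2 Ta Ea (selR RLa Ia) Da (nat_lit 255) (nat_lit 168) (nat_lit 168) (nat_lit 168) (nat_lit 3) (nat_lit 511) (nat_lit 0)) k i = 0 := allZ2_sound tcae_a
theorem tcap : ∀ i < 0, (eps2 Ta Ea Ja Wa RLa (nat_lit 255) (nat_lit 168) (nat_lit 168) (nat_lit 3) (nat_lit 0)) i = 0 := allZ_sound0 tcap_0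
theorem tca : ca.OK Rl 3 := ⟨tcan, ivc, tcar, tcae, fun i h => tcap i (lt_of_lt_of_eq h tcaq)⟩
theorem bd : Bound Rl 3 168 := Bound.step2 (Bound.zero Rl) tca sta

end H1.HuT
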