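import Cfsg.Agent.H1.Hu6
import Cfsg.Agent.H1.HuT
import Cfsg.Agent.H1.Hd18

/-! Simple groups with an involution centraliser of shape `2^{1+6}_+ . L₃(2)`. -/

set_option autoImplicit false
set_option maxRecDepth 100000
set_option linter.unusedSectionVars false

namespace H1.Hu
open Cfsg H0.PM H16 Subgroup H0 H19 H17.GS H1.Hd

theorem rels_L {G : Type*} [Group G] {x y : G} (h1 : x * x = 1) (h2 : y ^ 3 = 1) (h3 : (x * y) ^ 7 = 1)
    (h4 : (x * y * x * (y * y)) ^ 4 = 1) : Rels (nthG [x, y, y⁻¹]) HuT.Rl := by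
  rw [show y * y = y⁻¹ from eq_inv_of_mul_eq_one_left (by rw [← h2, pow_succ, pow_two])] at h4
  simp only [pow_succ, pow_zero, ← mul_assoc] at h2 h3 h4
  intro r hr
  simp only [HuT.Rl, List.mem_cons, List.not_mem_nil, or_false] at hr
  rcases hr with rfl | rfl | rfl | rfl | rfl | rfl
  exacts [(congrArg (· * x) (one_mul x)).trans h1, (congrArg (· * y) (one_mul _)).trans (inv_mul_cancel y),
    (congrArg (· * y⁻¹) (one_mul _)).trans (mul_inv_cancel y), h2, h3, h4]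

noncomputable def Wd : List ℕ := [nat_lit 1, nat_lit 1, nat_lit 0, nat_lit 1, nat_lit 1, nat_lit 0, nat_lit 1, nat_lit 1, nat_lit 0, nat_lit 1, nat_lit 0, nat_lit 1, nat_lit 1]
noncomputable def dP : ℕ := nat_lit 0x9f3a54b99364c8efdb973e9d78f0dfbb56bd9b74e8af5a953a9568d0bf7ad5bb976cd8cf9b163c9970e0fffbd7bf9f7cf88f1a14389160c01e3850b18344886ed993368d58b05eb952b58b54a82e5891328548903e78d1b3874c984e9912348950a07ef9d3b78f5cb80e181030814080
noncomputable def PZ : ℕ := nat_lit 0x928c2ec94616e4a30af251851928c27c9461264a308b25184392882fc94416e4a20ab251051928826c9441264a208f251043920c2fc9061664830af241851920c26c90612e48308b24184392082ec9041664820ab241051920827c90412e48208f241043828c2fc1461660a30ab051853828c27c1461260a308b05184382882ec1441660a20af051053828826c1441260a208f051043820c2ec10616e0830ab041853820c26c10612e08308b04184382082fc10416e0820af041053820827c10412e08208f041043928c2fc9461664a30ab251853928c26c94612e4a308f25184192882ec9441664a20af251053928827c94412e4a208b251041920c2ec90616e4830ab241853920c27c90612648308f24184192082fc90416e4820af241053920826c90412648208b241041828c2ec14616e0a30af051851828c26c14612e0a308f05184182882fc14416e0a20ab051051828827c14412e0a208b051041820c2fc1061660830af041851820c27c10612608308f04184182082ec1041660820ab041051820826c10412608208b041041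
noncomputable def x0 : ℕ := nat_lit 8917057
noncomputable def y0 : ℕ := nat_lit 4476993
noncomputable def pz (n : ℕ) : ℕ := H16.lk PZ (nat_lit 25) (nat_lit 33554431) n

theorem pz_chk : allN (fun n => force (pz n) fun a => vH a && Nat.beq (mm a x0) (force (force (tb aP n) pz) (mm x0)) &&
    Nat.beq (mm a y0) (force (force (tb be n) pz) (mm y0)) &&
    Nat.beq (force (tb dP n) (evT (tw aP) Wd)) (force (evT (tw aP) Wd n) (tb aP)) &&
    Nat.beq (it (evT (tw aP) [1, 1, 0, 1, 0]) 2 n) (tb dP n) &&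
    allN (fun m => force (pz m) fun b => Nat.beq (mm a b) (force (qm n m) pz) && (!Nat.beq a b || Nat.beq n m))
      (nat_lit 128)) (nat_lit 128) = true := by decide +kernel

theorem xy_chk : vH x0 = true ∧ vH y0 = true ∧ mm x0 x0 = o.one ∧ o.pw y0 3 = o.one ∧ o.pw (mm x0 y0) 7 = o.one ∧
    o.pw (mm (mm (mm x0 y0) x0) (mm y0 y0)) 4 = o.one ∧ pz 0 = o.one ∧ pz 64 = cz ∧
    dm cz = Matrix.transvection 0 1 1 := by decide +kernel

theorem pz_spec {n : ℕ} (hn : n < 128) : vH (pz n) = true ∧ mm (pz n) x0 = mm x0 (pz (tb aP n)) ∧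
    mm (pz n) y0 = mm y0 (pz (tb be n)) ∧ evT (tw aP) Wd (tb dP n) = tb aP (evT (tw aP) Wd n) ∧
    (evT (tw aP) [1, 1, 0, 1, 0])^[2] n = tb dP n ∧
    ∀ m < 128, mm (pz n) (pz m) = pz (qm n m) ∧ (pz n = pz m → n = m) := by
  have := allN_sound pz_chk n hn
  simp only [force_eq, Bool.and_eq_true, Nat.beq_eq, it_eq] at this
  obtain ⟨⟨⟨⟨⟨h1, h2⟩, h3⟩, h4⟩, h5⟩, h6⟩ := this
  refine ⟨h1, h2, h3, h4, h5, fun m hm => ?_⟩
  have := allN_sound h6 m hm
  simp only [Bool.and_eq_true, Nat.beq_eq, Bool.or_eq_true, Bool.not_eq_true'] at this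
  exact ⟨this.1, fun e => this.2.resolve_left fun k => Nat.ne_of_beq_eq_false k e⟩

theorem pz_R {n : ℕ} (hn : n < 128) : R0 (pz n) (el0 (pz n)) := (vH_sound (pz_spec hn).1).1

theorem md0 : Md qm 128 fun n => el0 (pz n) :=
  ⟨fun hn hm => (qm_spec hn hm).1, fun hn hm => (μ0.inj (pz_R (qm_spec hn hm).1)
      (μ0.mul (pz_R hn) (pz_R hm))).1 ((pz_spec hn).2.2.2.2.2 _ hm).1.symm,
    fun hn hm e => ((pz_spec hn).2.2.2.2.2 _ hm).2 ((μ0.inj (pz_R hn) (pz_R hm)).2 e),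
    (μ0.inj (pz_R (by decide)) μ0.one).1 xy_chk.2.2.2.2.2.2.1, by decide⟩

theorem fr0 : Fr md0.sub s0 fun n => el0 (pz n) := ⟨md0, fun _ => Iff.rfl, congrArg el0 xy_chk.2.2.2.2.2.2.2.1⟩

theorem w_chk : ∀ k < 16, (∃ l < 16, tb aU (wc k) = wc l) ∧ (∃ l < 16, tb be (wc k) = wc l) ∧
    (k = 0 ∨ k = 8 ∨ ∀ l < 16, l = 0 ∨ l = 8 ∨
      ∃ j < 7, it (fun n => force (tb aU n) (tb be)) j (wc k) % 64 = wc l % 64) := by decide +kernel

variable {G : Type*} [Group G] [Finite G] {Q : Subgroup G} {z X Y : G} {ψ : ℕ → G} {a : ℕ}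

theorem Md.norm {mul : ℕ → ℕ → ℕ} {N : ℕ} (M : Md mul N ψ) {g : G}
    (h : ∀ n < N, ∃ m < N, ψ n * g = g * ψ m) : g ∈ N(M.sub) :=
  mem_norm_of_le_cj fun _ ⟨n, hn, e⟩ => by
    obtain ⟨m, hm, k⟩ := h n hn
    exact mem_cj.2 ⟨m, hm, by rw [mul_assoc, ← e, k, inv_mul_cancel_left]⟩

theorem card_ker_map {A B : Type*} [Group A] [Group B] (Γ : Subgroup A) (f : A →* B) :
    Nat.card (f.comp Γ.subtype).ker * Nat.card (Γ.map f) = Nat.card Γ := by
  rw [← (f.comp Γ.subtype).ker.card_mul_index, index_ker, MonoidHom.range_comp, range_subtype]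

theorem inj_of_card {A B : Type*} [Group A] [Group B] {Γ : Subgroup A} [Finite Γ] (f : A →* B)
    (h : Nat.card Γ ≤ Nat.card (Γ.map f)) {x : A} (hx : x ∈ Γ) (e : f x = 1) : x = 1 := by
  have k := card_ker_map Γ f
  have : (f.comp Γ.subtype).ker = ⊥ := card_eq_one.1 (by
    have p : 0 < Nat.card Γ := Nat.card_pos
    have p' : 0 < Nat.card (f.comp Γ.subtype).ker := Nat.card_pos
    by_contra c
    nlinarith [show 2 ≤ Nat.card (f.comp Γ.subtype).ker by omega])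
  have e' : (⟨x, hx⟩ : Γ) ∈ (f.comp Γ.subtype).ker := e
  rw [this, mem_bot] at e'
  exact congrArg Subtype.val e'

theorem card_of_inj {A B : Type*} [Group A] [Group B] {Γ : Subgroup A} (f : A →* B)
    (h : ∀ x ∈ Γ, f x = 1 → x = 1) : Nat.card (Γ.map f) = Nat.card Γ := by
  have : (f.comp Γ.subtype).ker = ⊥ := (eq_bot_iff_forall _).2 fun x hx => Subtype.ext (h x x.2 hx)
  rw [← card_ker_map Γ f, this, card_bot, one_mul]

structure NF (Q : Subgroup G) (z : G) (ψ : ℕ → G) (X Y : G) (a : ℕ) : Prop where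
  F : Fr Q z ψ
  L : LE Q z
  card : Nat.card C[z] = 21504
  hX : X ∈ C[z]
  hY : Y ∈ C[z]
  aX : Act ψ 128 X (tb a)
  aY : Act ψ 128 Y (tb be)
  y3 : Y ^ 3 = 1
  xy : (X * Y) ^ 7 = 1
  x2 : X * X = ψ 0 ∨ X * X = ψ 64
  ne : X * Y ≠ 1

theorem Fr.exists_NF (F : Fr Q z ψ) (L : LE Q z) (hc : Nat.card C[z] = 21504) {A : List ℕ} (hX : X ∈ C[z])
    (hY : Y ∈ C[z]) (vX : VA ψ X (ap A)) (vY : VA ψ Y (ap B0)) (h : homChk a A = true) (h' : ochk a = true) :
    ∃ X Y, NF Q z ψ X Y a := by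
  obtain ⟨X, hX, aX⟩ := F.exact vX hX h
  obtain ⟨Y, hY, aY⟩ := F.exact vY hY hom_tabs.2.2
  simp only [ochk, Bool.and_eq_true, Bool.not_eq_true', force_eq] at h'
  have zc : z ∈ C[z] := mem_cent1.2 rfl
  have zp : ∀ {g : G} {k}, g ∈ C[z] → g ^ (2 * k + 1) = z → (g * z) ^ (2 * k + 1) = 1 := fun hg e => by
    rw [Commute.mul_pow (mem_cent1.1 hg), e, pow_succ, pow_mul, pow_two, F.es.zz, one_pow, one_mul, F.es.zz]
  obtain ⟨Y, hY, aY, y3⟩ : ∃ Y ∈ C[z], Act ψ 128 Y (tb be) ∧ Y ^ 3 = 1 := by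
    rcases F.pow L aY o_tabs.2.2.1 with e | e
    exacts [⟨Y, hY, aY, e⟩, ⟨_, mul_mem hY zc, aY.central fun _ => F.cz, zp (k := 1) hY e⟩]
  obtain ⟨X, hX, aX, xy⟩ : ∃ X ∈ C[z], Act ψ 128 X (tb a) ∧ (X * Y) ^ 7 = 1 := by
    rcases F.pow L (aX.mul aY) h'.1.2 with e | e
    exacts [⟨X, hX, aX, e⟩, ⟨_, mul_mem hX zc, aX.central fun _ => F.cz, by
      rw [mul_assoc, ← mem_cent1.1 hY, ← mul_assoc]; exact zp (k := 3) (mul_mem hX hY) e⟩]
  refine ⟨X, Y, F, L, hc, hX, hY, aX, aY, y3, xy, ?_, fun e => Nat.ne_of_beq_eq_false h'.2 ?_⟩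
  · rw [F.md.one, F.z, ← pow_two]; exact F.pow L aX h'.1.1
  · have := (aX.mul aY) 1 (by decide)
    rw [e, mul_one, one_mul] at this
    exact (F.md.inj (by decide) this.1 this.2).symm

namespace NF
variable (N : NF Q z ψ X Y a)
include N

theorem tm {b c u k : ℕ} (h : tchk a b c u k = true) (hu : X * X = ψ u) :
    ∃ φ, TM z (m3 a b c u k) φ ∧ (∀ n < 128, φ n = ψ n) ∧
      ∀ H : Subgroup G, Q ≤ H → X ∈ H → Y ∈ H → C[z] ≤ H := by
  obtain ⟨φ, M, h1, h2⟩ := N.F.exists_T N.L N.hX N.hY N.aX N.aY h hu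
    (by rw [← hu, ← N.F.md.one, ← N.F.z]; exact N.x2)
  have le : ∀ H : Subgroup G, Q ≤ H → X ∈ H → Y ∈ H → M.sub ≤ H :=
    fun H q x y _ ⟨n, hn, e⟩ => e ▸ h2 H q x y n hn
  have c : Nat.card M.sub = 1024 := M.card_of fun _ => Iff.rfl
  have l := le _ N.F.es.le_cent N.hX N.hY
  refine ⟨φ, ⟨M, (h1 64 (by decide)).trans N.F.z, N.F.es.zz, syl_mk l (pG_iff.2 (IsPGroup.of_card (n := 10) c)) ?_⟩,
    h1, fun H q x y => ?_⟩
  · have := card_mul_relIndex l
    rw [c, N.card] at this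
    omega
  · have k1 := card_dvd_of_le (le_inf (le H q x y) l)
    have k2 := orderOf_dvd_card' (show Y ∈ H ⊓ C[z] from ⟨y, N.hY⟩)
    have k3 := orderOf_dvd_card' (show X * Y ∈ H ⊓ C[z] from ⟨mul_mem x y, mul_mem N.hX N.hY⟩)
    have := Fact.mk Nat.prime_three
    have := Fact.mk (show Nat.Prime 7 by decide)
    rw [orderOf_eq_prime N.y3 fun e => o_tabs.2.2.2 (by
      have := N.aY 1 (by decide)
      rw [e, mul_one, one_mul] at this
      exact (N.F.md.inj (by decide) this.1 this.2).symm)] at k2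
    rw [orderOf_eq_prime N.xy N.ne] at k3
    refine inf_eq_right.1 (eq_of_le_of_card_ge inf_le_right ?_)
    have : 0 < Nat.card ↥(H ⊓ C[z]) := Nat.card_pos
    rw [N.card]; rw [c] at k1; omega

theorem not_iso [IsSimpleGroup G] {b c u k s : ℕ} (h : tchk a b c u k = true) (hu : X * X = ψ u)
    (h' : cntChk (m3 a b c u k) s = true) : False := by
  obtain ⟨φ, T, -⟩ := N.tm h hu
  obtain ⟨x, h1, h2, h3⟩ := zstar N.F.es
  exact h3 (T.iso h' h1 h2)

end NF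

theorem NF.notU [IsSimpleGroup G] (N : NF Q z ψ X Y aU) (hu : X * X = ψ 0) {x y : G} (hx : orderOf x = 2)
    (hy : orderOf y = 2) : IsConj x y := by
  obtain ⟨φ, T, h1, h2⟩ := N.tm t_tabs.2.2.1 hu
  have F := N.F
  have zW : z ∈ F.mdW.sub := ⟨8, by decide, F.z⟩
  have nW : C[z] ≤ N(F.mdW.sub) := h2 _ (F.es.norms_of_le zW F.W_le)
    (F.mdW.norm fun k hk => let ⟨l, hl, e⟩ := (w_chk k hk).1; ⟨l, hl, e ▸ (N.aX _ (wc_spec k hk).1).2⟩)
    (F.mdW.norm fun k hk => let ⟨l, hl, e⟩ := (w_chk k hk).2.1; ⟨l, hl, e ▸ (N.aY _ (wc_spec k hk).1).2⟩)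
  have inW : ∀ x ∈ C[z], IsConj z x → x ∈ F.mdW.sub := fun x hx e => by
    by_cases k : x = z
    · exact k ▸ zW
    obtain ⟨c, hc, l, hl, k⟩ := T.inW u_U hx e k
    exact (mem_normalizer_iff.1 (nW hc) x).2 ⟨l, hl, by rw [k, h1 _ (wc_spec l hl).1]⟩
  obtain ⟨v, hv, e, vz⟩ := zstar F.es
  obtain ⟨k, hk, rfl⟩ := inW v hv e
  have z1 := F.es.z1
  have all : ∀ w ∈ F.mdW.sub, w = 1 ∨ IsConj z w := by
    rintro _ ⟨l, hl, rfl⟩
    rcases (w_chk k hk).2.2 with rfl | rfl | H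
    · exact absurd (isConj_one_left.1 (F.md.one ▸ e)) z1
    · exact absurd F.z vz
    rcases H l hl with rfl | rfl | ⟨j, -, H⟩
    · exact .inl F.md.one
    · exact .inr (F.z ▸ IsConj.refl _)
    simp only [force_eq, it_eq] at H
    obtain ⟨p1, p2⟩ := (N.aX.mul N.aY).pow j _ (wc_spec k hk).1
    have e1 := e.trans (isConj_of p2.symm).symm
    rcases F.modz p1 (wc_spec l hl).1 H with q | q <;> rw [q] at e1
    · exact .inr e1
    · by_cases c : ψ (wc l) ∈ zpowers z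
      · exact (F.es.mem_zp.1 c).imp_right fun c => isConj_iff.2 ⟨1, by simpa using Eq.symm c⟩
      · obtain ⟨u, -, c⟩ := F.es.exists_conj (F.memQ (wc_spec l hl).1) c
        exact .inr (e1.trans (isConj_iff.2 ⟨u, c⟩).symm)
  have := Fact.mk Nat.prime_two
  obtain ⟨S, hS⟩ := (N.L.syl_top T.syl).exists_sylow_top
  have QS : Q ≤ S := hS ▸ N.L.le_syl T.syl
  rcases Cfsg.Agent.S1169.result S F.mdW.sub (fun e => z1 (mem_bot.1 (e ▸ zW)))
    (abelem2_iff.2 F.W_sq).1 ⟨F.W_le.trans QS, fun w hw g hg => by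
      rcases all w hw with rfl | c
      · simp
      · exact inW _ (T.syl.le (hS ▸ hg)) (c.trans (isConj_cj g w))⟩ with c | ⟨H, hH⟩
  · obtain ⟨x, hx, y, hy, k⟩ := F.es.nonab
    exact absurd (congrArg Subtype.val (c.is_comm.comm ⟨x, QS hx⟩ ⟨y, QS hy⟩)) k
  · exact H10.SE.isConj hH hx hy

end H1.Hu
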