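import Cfsg.Agent.H1.Am7
import Cfsg.Agent.H16.M.A11

/-! Generated by tools/h0/tr.py. -/

set_option maxRecDepth 100000
set_option maxHeartbeats 0

namespace H1.La
open H16 H0.TR
open scoped Pointwise

open H1.Am

noncomputable def UA : Wl := [[nat_lit 6, nat_lit 9, nat_lit 7, nat_lit 5, nat_lit 6, nat_lit 3],
  [nat_lit 7, nat_lit 8, nat_lit 6, nat_lit 9, nat_lit 7, nat_lit 8, nat_lit 5, nat_lit 6, nat_lit 7, nat_lit 3],
  [nat_lit 7, nat_lit 8, nat_lit 9, nat_lit 7, nat_lit 8, nat_lit 7, nat_lit 4, nat_lit 5, nat_lit 3, nat_lit 4],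
  [nat_lit 7, nat_lit 8, nat_lit 9, nat_lit 7, nat_lit 8, nat_lit 7, nat_lit 3, nat_lit 4, nat_lit 5, nat_lit 3, nat_lit 4, nat_lit 3],
  [],
  [nat_lit 1],
  [nat_lit 0],
  [nat_lit 5, nat_lit 9, nat_lit 6, nat_lit 7, nat_lit 5, nat_lit 6, nat_lit 5],
  [nat_lit 1, nat_lit 2, nat_lit 0, nat_lit 3, nat_lit 2, nat_lit 4, nat_lit 3, nat_lit 5, nat_lit 4, nat_lit 3, nat_lit 6, nat_lit 5, nat_lit 4, nat_lit 7, nat_lit 6, nat_lit 5, nat_lit 4, nat_lit 3, nat_lit 8, nat_lit 7, nat_lit 6, nat_lit 5, nat_lit 4, nat_lit 3, nat_lit 2, nat_lit 0, nat_lit 9, nat_lit 8, nat_lit 7, nat_lit 6, nat_lit 5, nat_lit 4, nat_lit 3, nat_lit 2, nat_lit 0, nat_lit 2, nat_lit 2],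
  [nat_lit 1, nat_lit 2, nat_lit 0, nat_lit 3, nat_lit 2, nat_lit 4, nat_lit 3, nat_lit 5, nat_lit 4, nat_lit 3, nat_lit 6, nat_lit 5, nat_lit 4, nat_lit 7, nat_lit 6, nat_lit 5, nat_lit 4, nat_lit 3, nat_lit 8, nat_lit 7, nat_lit 6, nat_lit 5, nat_lit 4, nat_lit 3, nat_lit 2, nat_lit 0, nat_lit 9, nat_lit 8, nat_lit 7, nat_lit 6, nat_lit 5, nat_lit 4, nat_lit 3, nat_lit 2, nat_lit 0, nat_lit 2, nat_lit 2]]
noncomputable def LW : Wl := [[nat_lit 0],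
  [nat_lit 1],
  [nat_lit 2],
  [nat_lit 3],
  [nat_lit 4],
  [nat_lit 5],
  [nat_lit 6],
  [nat_lit 7],
  [nat_lit 8],
  [nat_lit 9],
  [nat_lit 2, nat_lit 3, nat_lit 0, nat_lit 2, nat_lit 3],
  [nat_lit 0, nat_lit 1],
  [nat_lit 1, nat_lit 0],
  [nat_lit 2, nat_lit 3, nat_lit 2, nat_lit 0, nat_lit 3],
  [nat_lit 2, nat_lit 0, nat_lit 2],
  [nat_lit 2, nat_lit 3]]
noncomputable def a_W : Wl := LW.map (fl UA)
noncomputable def a_Pd : List ℕ := [nat_lit 0xa9867325401,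
  nat_lit 0xa9867210543,
  nat_lit 0xa9854760123,
  nat_lit 0xa9845670123,
  nat_lit 0xa9876543210,
  nat_lit 0x98a76543210,
  nat_lit 0x8a976543210,
  nat_lit 0x9a876234501,
  nat_lit 0x107862435a9,
  nat_lit 0x107862435a9,
  nat_lit 0xa9867234501,
  nat_lit 0xa9876052134,
  nat_lit 0xa9876401325,
  nat_lit 0xa9810452376,
  nat_lit 0xa9801452367,
  nat_lit 0xa9867453210]
noncomputable def a_P (k u : ℕ) : ℕ := Nat.land (Nat.shiftRight (nth (nat_lit 0) a_Pd k) (Nat.mul u (nat_lit 4))) (nat_lit 15)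
noncomputable def κ : List ℕ → ℕ := H15.CS.key (tot a_P 16) 11 H16.A11.B
noncomputable def p2t_W : List (List ℕ) := [[nat_lit 2, nat_lit 0, nat_lit 3, nat_lit 4, nat_lit 3, nat_lit 2, nat_lit 0, nat_lit 5, nat_lit 4, nat_lit 3, nat_lit 6, nat_lit 5, nat_lit 4, nat_lit 3, nat_lit 2, nat_lit 0, nat_lit 7, nat_lit 6, nat_lit 5, nat_lit 4, nat_lit 3, nat_lit 8, nat_lit 7, nat_lit 6, nat_lit 5, nat_lit 4, nat_lit 3, nat_lit 2],
  [nat_lit 2, nat_lit 0, nat_lit 3, nat_lit 2, nat_lit 4, nat_lit 3, nat_lit 5, nat_lit 4, nat_lit 6, nat_lit 5, nat_lit 4, nat_lit 3, nat_lit 2, nat_lit 0, nat_lit 7, nat_lit 8, nat_lit 7, nat_lit 6, nat_lit 5, nat_lit 4, nat_lit 3, nat_lit 2],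
  [nat_lit 2, nat_lit 1, nat_lit 3, nat_lit 2, nat_lit 4, nat_lit 3, nat_lit 2, nat_lit 1, nat_lit 5, nat_lit 6, nat_lit 7, nat_lit 8, nat_lit 7, nat_lit 6, nat_lit 5, nat_lit 4, nat_lit 3, nat_lit 2],
  [nat_lit 0, nat_lit 2, nat_lit 3, nat_lit 2, nat_lit 1, nat_lit 5, nat_lit 7, nat_lit 6, nat_lit 5, nat_lit 8, nat_lit 7],
  [nat_lit 1, nat_lit 2, nat_lit 3, nat_lit 5, nat_lit 4, nat_lit 3, nat_lit 2, nat_lit 0, nat_lit 6, nat_lit 5, nat_lit 4, nat_lit 3, nat_lit 2, nat_lit 7, nat_lit 6, nat_lit 5, nat_lit 4, nat_lit 3, nat_lit 2, nat_lit 0, nat_lit 8, nat_lit 7, nat_lit 6, nat_lit 5, nat_lit 4, nat_lit 3, nat_lit 2, nat_lit 1],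
  [nat_lit 2, nat_lit 3, nat_lit 2, nat_lit 1, nat_lit 5, nat_lit 6, nat_lit 5, nat_lit 7, nat_lit 8],
  [nat_lit 1, nat_lit 2, nat_lit 0, nat_lit 3, nat_lit 2, nat_lit 4, nat_lit 3, nat_lit 2, nat_lit 0, nat_lit 5, nat_lit 6, nat_lit 5, nat_lit 4, nat_lit 3, nat_lit 2, nat_lit 7, nat_lit 8, nat_lit 7]]
noncomputable def p2t_P : ℕ → ℕ → ℕ := wdsP H16.A11.P p2t_W
noncomputable def p2Pd : List ℕ := [nat_lit 0xa9431287560,
  nat_lit 0xa9831547260,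
  nat_lit 0xa9471583260,
  nat_lit 0xa9567821430,
  nat_lit 0x9a624315780,
  nat_lit 0xa9685714320,
  nat_lit 0xa9417586230]
noncomputable def p2P (k u : ℕ) : ℕ := Nat.land (Nat.shiftRight (nth (nat_lit 0) p2Pd k) (Nat.mul u (nat_lit 4))) (nat_lit 15)
noncomputable def p2Ed : ℕ := nat_lit 0x74a98653210
noncomputable def p2E (u : ℕ) : ℕ := Nat.land (Nat.shiftRight p2Ed (Nat.mul u (nat_lit 4))) (nat_lit 15)
noncomputable def p2Id : ℕ := nat_lit 0x876a5493210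
noncomputable def p2I (u : ℕ) : ℕ := Nat.land (Nat.shiftRight p2Id (Nat.mul u (nat_lit 4))) (nat_lit 15)
noncomputable def p2B : List ℕ := [nat_lit 0, nat_lit 1, nat_lit 2, nat_lit 3, nat_lit 9, nat_lit 4, nat_lit 5, nat_lit 10, nat_lit 7]
noncomputable def p2C : List (List (List ℕ)) := [[[],
  [],
  [],
  [],
  [],
  [],
  []], [[],
  [],
  [],
  [],
  [nat_lit 0],
  [nat_lit 0],
  []], [[],
  [],
  [],
  [nat_lit 0],
  [],
  [nat_lit 0, nat_lit 1],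
  [nat_lit 1]], [[],
  [],
  [],
  [],
  [nat_lit 1],
  [],
  [nat_lit 0]], [[],
  [],
  [],
  [],
  [nat_lit 2],
  [nat_lit 2, nat_lit 3],
  [nat_lit 0, nat_lit 3]], [[],
  [],
  [],
  [],
  [],
  [nat_lit 3],
  [nat_lit 1, nat_lit 3]], [[],
  [],
  [],
  [],
  [],
  [],
  [nat_lit 1]]]
noncomputable def p2e : List (List ℕ) := [[],
  [],
  [],
  [],
  [],
  [],
  [],
  [],
  [],
  [],
  [],
  [],
  [],
  [],
  [],
  [],
  [],
  [],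
  [],
  [],
  [],
  [],
  [],
  [],
  [],
  [],
  [],
  [],
  [],
  [],
  [],
  [],
  [],
  [],
  [],
  [],
  [],
  [],
  [nat_lit 3, nat_lit 4, nat_lit 5, nat_lit 6],
  [],
  [nat_lit 1, nat_lit 2],
  [nat_lit 0, nat_lit 2],
  [],
  [nat_lit 1, nat_lit 2],
  [nat_lit 1, nat_lit 3, nat_lit 6],
  [nat_lit 2, nat_lit 4, nat_lit 6]]
noncomputable def p2l0Dd : ℕ := nat_lit 0xb789885b5a572d00
noncomputable def p2l0D (u : ℕ) : ℕ := Nat.land (Nat.shiftRight p2l0Dd (Nat.mul u (nat_lit 8))) (nat_lit 255)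
noncomputable def p2l0Pd : ℕ := nat_lit 0x63874521
noncomputable def p2l0P (u : ℕ) : ℕ := Nat.land (Nat.shiftRight p2l0Pd (Nat.mul u (nat_lit 4))) (nat_lit 15)
noncomputable def p2l0Qd : ℕ := nat_lit 0x59d3c40
noncomputable def p2l0Q (u : ℕ) : ℕ := Nat.land (Nat.shiftRight p2l0Qd (Nat.mul u (nat_lit 3))) (nat_lit 7)
noncomputable def p2l0 : Lev := ⟨8, 46, p2l0D, p2l0P, p2l0Q⟩
noncomputable def p2l1Dd : ℕ := nat_lit 0xb2b1480
noncomputable def p2l1D (u : ℕ) : ℕ := Nat.land (Nat.shiftRight p2l1Dd (Nat.mul u (nat_lit 7))) (nat_lit 127)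
noncomputable def p2l1Pd : ℕ := nat_lit 0x8452
noncomputable def p2l1P (u : ℕ) : ℕ := Nat.land (Nat.shiftRight p2l1Pd (Nat.mul u (nat_lit 4))) (nat_lit 15)
noncomputable def p2l1Qd : ℕ := nat_lit 0x30600
noncomputable def p2l1Q (u : ℕ) : ℕ := Nat.land (Nat.shiftRight p2l1Qd (Nat.mul u (nat_lit 2))) (nat_lit 3)
noncomputable def p2l1 : Lev := ⟨4, 45, p2l1D, p2l1P, p2l1Q⟩
noncomputable def p2l2Dd : ℕ := nat_lit 0xa00
noncomputable def p2l2D (u : ℕ) : ℕ := Nat.land (Nat.shiftRight p2l2Dd (Nat.mul u (nat_lit 6))) (nat_lit 63)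
noncomputable def p2l2Pd : ℕ := nat_lit 0x84
noncomputable def p2l2P (u : ℕ) : ℕ := Nat.land (Nat.shiftRight p2l2Pd (Nat.mul u (nat_lit 4))) (nat_lit 15)
noncomputable def p2l2Qd : ℕ := nat_lit 0x100
noncomputable def p2l2Q (u : ℕ) : ℕ := Nat.land (Nat.shiftRight p2l2Qd (Nat.mul u (nat_lit 1))) (nat_lit 1)
noncomputable def p2l2 : Lev := ⟨2, 41, p2l2D, p2l2P, p2l2Q⟩
noncomputable def p2l3Dd : ℕ := nat_lit 0x980
noncomputable def p2l3D (u : ℕ) : ℕ := Nat.land (Nat.shiftRight p2l3Dd (Nat.mul u (nat_lit 6))) (nat_lit 63)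
noncomputable def p2l3Pd : ℕ := nat_lit 0x3b
noncomputable def p2l3P (u : ℕ) : ℕ := Nat.land (Nat.shiftRight p2l3Pd (Nat.mul u (nat_lit 3))) (nat_lit 7)
noncomputable def p2l3Qd : ℕ := nat_lit 0x80
noncomputable def p2l3Q (u : ℕ) : ℕ := Nat.land (Nat.shiftRight p2l3Qd (Nat.mul u (nat_lit 1))) (nat_lit 1)
noncomputable def p2l3 : Lev := ⟨2, 39, p2l3D, p2l3P, p2l3Q⟩
noncomputable def covr_W : List (List ℕ) := [[nat_lit 3, nat_lit 5],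
  [nat_lit 3, nat_lit 5, nat_lit 6, nat_lit 5, nat_lit 7, nat_lit 6, nat_lit 5, nat_lit 9]]
noncomputable def covr_P : ℕ → ℕ → ℕ := wdsP H16.A11.P covr_W
noncomputable def covT0 : CT := (.split (.more (.split (.more (.split (.more (.split (.more (.split (.more (.split (.more (.split (.more .one (.more (.leaf (nat_lit 1) [nat_lit 2, nat_lit 0, nat_lit 3, nat_lit 2, nat_lit 4, nat_lit 3, nat_lit 2, nat_lit 1, nat_lit 5, nat_lit 4, nat_lit 3, nat_lit 2, nat_lit 0, nat_lit 6, nat_lit 7, nat_lit 8, nat_lit 9, nat_lit 8, nat_lit 7, nat_lit 6, nat_lit 5, nat_lit 4, nat_lit 3, nat_lit 2, nat_lit 1]) .one))) (.more (.fuse [nat_lit 4] [] (.leaf (nat_lit 0) [nat_lit 3, nat_lit 2, nat_lit 1, nat_lit 4, nat_lit 3, nat_lit 2, nat_lit 0, nat_lit 5, nat_lit 6, nat_lit 5, nat_lit 4, nat_lit 3, nat_lit 8, nat_lit 7, nat_lit 6, nat_lit 5, nat_lit 9, nat_lit 8, nat_lit 7])) .one)))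 (.more (.fuse [nat_lit 5] [nat_lit 0] (.fuse [nat_lit 3] [] (.leaf (nat_lit 0) [nat_lit 2, nat_lit 1, nat_lit 3, nat_lit 2, nat_lit 1, nat_lit 4, nat_lit 6, nat_lit 8, nat_lit 7, nat_lit 6, nat_lit 5, nat_lit 9]))) .one))) (.more (.split (.more (.fuse [nat_lit 4] [] (.fuse [nat_lit 2] [] (.leaf (nat_lit 1) [nat_lit 2, nat_lit 0, nat_lit 3, nat_lit 2, nat_lit 4, nat_lit 3, nat_lit 5, nat_lit 4, nat_lit 3, nat_lit 2, nat_lit 0, nat_lit 7, nat_lit 8, nat_lit 9, nat_lit 8, nat_lit 7, nat_lit 6, nat_lit 5, nat_lit 4, nat_lit 3, nat_lit 2, nat_lit 1]))) (.more (.fuse [nat_lit 4] [] (.fuse [nat_lit 2] [] (.prune (nat_lit 0) (nat_lit 1) []))) .one))) .one))) (.more (.fuse [nat_lit 5] [nat_lit 0, nat_lit 1, nat_lit 2] (.fuse [nat_lit 5, nat_lit 6] [nat_lit 1] (.prune (nat_lit 2) (nat_lit 1) []))) .one))) (.more (.split (.more (.fuse [nat_lit 4] [nat_lit 0, nat_lit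 1, nat_lit 2] (.prune (nat_lit 3) (nat_lit 1) [])) (.more (.fuse [nat_lit 4] [nat_lit 0, nat_lit 2] (.split (.more (.fuse [nat_lit 2] [nat_lit 0] (.prune (nat_lit 1) (nat_lit 1) [nat_lit 0])) (.more (.fuse [nat_lit 2] [nat_lit 0] (.fuse [nat_lit 2, nat_lit 3] [] (.leaf (nat_lit 1) [nat_lit 1, nat_lit 2, nat_lit 0, nat_lit 5, nat_lit 4, nat_lit 3, nat_lit 2, nat_lit 6, nat_lit 5, nat_lit 7, nat_lit 6, nat_lit 8, nat_lit 7, nat_lit 6, nat_lit 5, nat_lit 4, nat_lit 3, nat_lit 2, nat_lit 0, nat_lit 9, nat_lit 8, nat_lit 7, nat_lit 6, nat_lit 5, nat_lit 4, nat_lit 3, nat_lit 2, nat_lit 0]))) .one)))) .one))) .one))) (.more (.split (.more (.split (.more (.fuse [nat_lit 4] [] (.split (.more (.fuse [nat_lit 2] [] (.prune (nat_lit 1) (nat_lit 1) [])) (.more (.fuse [nat_lit 2] [] (.split (.more (.leaf (nat_lit 0) [nat_lit 1, nat_lit 2, nat_lit 1, nat_lit 4, nat_lit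 3, nat_lit 2, nat_lit 1, nat_lit 5, nat_lit 6, nat_lit 5, nat_lit 4, nat_lit 3, nat_lit 8, nat_lit 7, nat_lit 6]) (.more (.leaf (nat_lit 1) [nat_lit 0, nat_lit 2, nat_lit 1, nat_lit 5, nat_lit 4, nat_lit 3, nat_lit 2, nat_lit 1, nat_lit 7, nat_lit 6, nat_lit 5, nat_lit 9, nat_lit 8, nat_lit 7, nat_lit 6, nat_lit 5, nat_lit 4, nat_lit 3, nat_lit 2, nat_lit 1]) .one)))) .one)))) (.more (.fuse [nat_lit 4] [nat_lit 0, nat_lit 1] (.prune (nat_lit 3) (nat_lit 1) [nat_lit 1, nat_lit 2])) .one))) (.more (.split (.more (.fuse [nat_lit 5] [nat_lit 1] (.fuse [nat_lit 4] [nat_lit 0, nat_lit 1] (.split (.more (.fuse [nat_lit 1] [] (.prune (nat_lit 0) (nat_lit 1) [])) (.more (.fuse [nat_lit 1] [] (.leaf (nat_lit 1) [nat_lit 2, nat_lit 1, nat_lit 4, nat_lit 5, nat_lit 4, nat_lit 3, nat_lit 2, nat_lit 0, nat_lit 6, nat_lit 5, nat_lit 7, nat_lit 8, nat_lit 9, nat_lit 8, nat_lit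 7, nat_lit 6, nat_lit 5, nat_lit 4, nat_lit 3, nat_lit 2])) .one))))) (.more (.split (.more (.fuse [nat_lit 4] [nat_lit 1] (.fuse [nat_lit 3] [] (.prune (nat_lit 1) (nat_lit 1) []))) (.more (.fuse [nat_lit 4] [nat_lit 0] (.fuse [nat_lit 3] [] (.split (.more (.leaf (nat_lit 0) [nat_lit 1, nat_lit 2, nat_lit 3, nat_lit 2, nat_lit 5, nat_lit 4, nat_lit 6]) (.more (.leaf (nat_lit 1) [nat_lit 2, nat_lit 3, nat_lit 2, nat_lit 4, nat_lit 3, nat_lit 2, nat_lit 5, nat_lit 4, nat_lit 6, nat_lit 5, nat_lit 4, nat_lit 3, nat_lit 2, nat_lit 1, nat_lit 7, nat_lit 8, nat_lit 9, nat_lit 8, nat_lit 7, nat_lit 6, nat_lit 5, nat_lit 4, nat_lit 3, nat_lit 2, nat_lit 1]) .one))))) .one))) .one))) .one))) .one)))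
noncomputable def e_W : List (List ℕ) := [[nat_lit 7, nat_lit 8, nat_lit 9, nat_lit 7, nat_lit 8, nat_lit 7, nat_lit 4, nat_lit 5, nat_lit 3, nat_lit 4, nat_lit 7, nat_lit 8, nat_lit 9, nat_lit 7, nat_lit 8, nat_lit 7, nat_lit 3, nat_lit 4, nat_lit 5, nat_lit 3, nat_lit 4, nat_lit 3, nat_lit 6, nat_lit 9, nat_lit 7, nat_lit 5, nat_lit 6, nat_lit 3, nat_lit 7, nat_lit 8, nat_lit 9, nat_lit 7, nat_lit 8, nat_lit 7, nat_lit 4, nat_lit 5, nat_lit 3, nat_lit 4, nat_lit 7, nat_lit 8, nat_lit 9, nat_lit 7, nat_lit 8, nat_lit 7, nat_lit 3, nat_lit 4, nat_lit 5, nat_lit 3, nat_lit 4, nat_lit 3]]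
noncomputable def e_P : ℕ → ℕ → ℕ := wdsP H16.A11.P e_W
noncomputable def teh_W : List (List ℕ) := [[nat_lit 0],
  [nat_lit 1],
  [nat_lit 2],
  [nat_lit 3],
  [nat_lit 0, nat_lit 3, nat_lit 4, nat_lit 5, nat_lit 4, nat_lit 3, nat_lit 2],
  [nat_lit 6],
  [nat_lit 4],
  [nat_lit 5],
  [nat_lit 7],
  [nat_lit 8],
  [nat_lit 9]]
noncomputable def teh_P : ℕ → ℕ → ℕ := wdsP H16.A11.P teh_W
noncomputable def tel0Dd : ℕ := nat_lit 0x166c447ac19a63c50500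
noncomputable def tel0D (u : ℕ) : ℕ := Nat.land (Nat.shiftRight tel0Dd (Nat.mul u (nat_lit 7))) (nat_lit 127)
noncomputable def tel0Pd : ℕ := nat_lit 0x9a867543210
noncomputable def tel0P (u : ℕ) : ℕ := Nat.land (Nat.shiftRight tel0Pd (Nat.mul u (nat_lit 4))) (nat_lit 15)
noncomputable def tel0Qd : ℕ := nat_lit 0x9a867543210
noncomputable def tel0Q (u : ℕ) : ℕ := Nat.land (Nat.shiftRight tel0Qd (Nat.mul u (nat_lit 4))) (nat_lit 15)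
noncomputable def tel0 : Lev := ⟨11, 11, tel0D, tel0P, tel0Q⟩
noncomputable def tel1Dd : ℕ := nat_lit 0x23c668b91253248480
noncomputable def tel1D (u : ℕ) : ℕ := Nat.land (Nat.shiftRight tel1Dd (Nat.mul u (nat_lit 7))) (nat_lit 127)
noncomputable def tel1Pd : ℕ := nat_lit 0x9a86754321
noncomputable def tel1P (u : ℕ) : ℕ := Nat.land (Nat.shiftRight tel1Pd (Nat.mul u (nat_lit 4))) (nat_lit 15)
noncomputable def tel1Qd : ℕ := nat_lit 0x89756432100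
noncomputable def tel1Q (u : ℕ) : ℕ := Nat.land (Nat.shiftRight tel1Qd (Nat.mul u (nat_lit 4))) (nat_lit 15)
noncomputable def tel1 : Lev := ⟨10, 10, tel1D, tel1P, tel1Q⟩
noncomputable def tel2Dd : ℕ := nat_lit 0x37da685664e200
noncomputable def tel2D (u : ℕ) : ℕ := Nat.land (Nat.shiftRight tel2Dd (Nat.mul u (nat_lit 6))) (nat_lit 63)
noncomputable def tel2Pd : ℕ := nat_lit 0x9a8675432
noncomputable def tel2P (u : ℕ) : ℕ := Nat.land (Nat.shiftRight tel2Pd (Nat.mul u (nat_lit 4))) (nat_lit 15)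
noncomputable def tel2Qd : ℕ := nat_lit 0x78645321000
noncomputable def tel2Q (u : ℕ) : ℕ := Nat.land (Nat.shiftRight tel2Qd (Nat.mul u (nat_lit 4))) (nat_lit 15)
noncomputable def tel2 : Lev := ⟨9, 9, tel2D, tel2P, tel2Q⟩
noncomputable def tel3Dd : ℕ := nat_lit 0xa686952c7180
noncomputable def tel3D (u : ℕ) : ℕ := Nat.land (Nat.shiftRight tel3Dd (Nat.mul u (nat_lit 6))) (nat_lit 63)
noncomputable def tel3Pd : ℕ := nat_lit 0x9a837465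
noncomputable def tel3P (u : ℕ) : ℕ := Nat.land (Nat.shiftRight tel3Pd (Nat.mul u (nat_lit 4))) (nat_lit 15)
noncomputable def tel3Qd : ℕ := nat_lit 0x1bd642800
noncomputable def tel3Q (u : ℕ) : ℕ := Nat.land (Nat.shiftRight tel3Qd (Nat.mul u (nat_lit 3))) (nat_lit 7)
noncomputable def tel3 : Lev := ⟨8, 8, tel3D, tel3P, tel3Q⟩
noncomputable def tel4Dd : ℕ := nat_lit 0x4e4f728a0
noncomputable def tel4D (u : ℕ) : ℕ := Nat.land (Nat.shiftRight tel4Dd (Nat.mul u (nat_lit 5))) (nat_lit 31)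
noncomputable def tel4Pd : ℕ := nat_lit 0x9a68743
noncomputable def tel4P (u : ℕ) : ℕ := Nat.land (Nat.shiftRight tel4Pd (Nat.mul u (nat_lit 4))) (nat_lit 15)
noncomputable def tel4Qd : ℕ := nat_lit 0x173501000
noncomputable def tel4Q (u : ℕ) : ℕ := Nat.land (Nat.shiftRight tel4Qd (Nat.mul u (nat_lit 3))) (nat_lit 7)
noncomputable def tel4 : Lev := ⟨7, 6, tel4D, tel4P, tel4Q⟩
noncomputable def tel5Dd : ℕ := nat_lit 0xba8740
noncomputable def tel5D (u : ℕ) : ℕ := Nat.land (Nat.shiftRight tel5Dd (Nat.mul u (nat_lit 4))) (nat_lit 15)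
noncomputable def tel5Pd : ℕ := nat_lit 0x9a6874
noncomputable def tel5P (u : ℕ) : ℕ := Nat.land (Nat.shiftRight tel5Pd (Nat.mul u (nat_lit 4))) (nat_lit 15)
noncomputable def tel5Qd : ℕ := nat_lit 0x12a2c0000
noncomputable def tel5Q (u : ℕ) : ℕ := Nat.land (Nat.shiftRight tel5Qd (Nat.mul u (nat_lit 3))) (nat_lit 7)
noncomputable def tel5 : Lev := ⟨6, 5, tel5D, tel5P, tel5Q⟩
noncomputable def tel6Dd : ℕ := nat_lit 0x98630
noncomputable def tel6D (u : ℕ) : ℕ := Nat.land (Nat.shiftRight tel6Dd (Nat.mul u (nat_lit 4))) (nat_lit 15)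
noncomputable def tel6Pd : ℕ := nat_lit 0x9a876
noncomputable def tel6P (u : ℕ) : ℕ := Nat.land (Nat.shiftRight tel6Pd (Nat.mul u (nat_lit 4))) (nat_lit 15)
noncomputable def tel6Qd : ℕ := nat_lit 0xe2200000
noncomputable def tel6Q (u : ℕ) : ℕ := Nat.land (Nat.shiftRight tel6Qd (Nat.mul u (nat_lit 3))) (nat_lit 7)
noncomputable def tel6 : Lev := ⟨5, 4, tel6D, tel6P, tel6Q⟩
noncomputable def tel7Dd : ℕ := nat_lit 0x8d0
noncomputable def tel7D (u : ℕ) : ℕ := Nat.land (Nat.shiftRight tel7Dd (Nat.mul u (nat_lit 3))) (nat_lit 7)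
noncomputable def tel7Pd : ℕ := nat_lit 0x9a87
noncomputable def tel7P (u : ℕ) : ℕ := Nat.land (Nat.shiftRight tel7Pd (Nat.mul u (nat_lit 4))) (nat_lit 15)
noncomputable def tel7Qd : ℕ := nat_lit 0x2d0000
noncomputable def tel7Q (u : ℕ) : ℕ := Nat.land (Nat.shiftRight tel7Qd (Nat.mul u (nat_lit 2))) (nat_lit 3)
noncomputable def tel7 : Lev := ⟨4, 3, tel7D, tel7P, tel7Q⟩
noncomputable def tel8Dd : ℕ := nat_lit 4
noncomputable def tel8D (u : ℕ) : ℕ := Nat.land (Nat.shiftRight tel8Dd (Nat.mul u (nat_lit 1))) (nat_lit 1)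
noncomputable def tel8Pd : ℕ := nat_lit 0x9a8
noncomputable def tel8P (u : ℕ) : ℕ := Nat.land (Nat.shiftRight tel8Pd (Nat.mul u (nat_lit 4))) (nat_lit 15)
noncomputable def tel8Qd : ℕ := nat_lit 0x180000
noncomputable def tel8Q (u : ℕ) : ℕ := Nat.land (Nat.shiftRight tel8Qd (Nat.mul u (nat_lit 2))) (nat_lit 3)
noncomputable def tel8 : Lev := ⟨3, 2, tel8D, tel8P, tel8Q⟩
noncomputable def cee_W : List (List ℕ) := [[nat_lit 1],
  [nat_lit 3],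
  [nat_lit 3, nat_lit 6],
  [nat_lit 4, nat_lit 3, nat_lit 5, nat_lit 4, nat_lit 3, nat_lit 6, nat_lit 5, nat_lit 4],
  [nat_lit 1, nat_lit 6, nat_lit 5, nat_lit 7],
  [nat_lit 1, nat_lit 6, nat_lit 7, nat_lit 6, nat_lit 8, nat_lit 7, nat_lit 6, nat_lit 5, nat_lit 9, nat_lit 8]]
noncomputable def cee_P : ℕ → ℕ → ℕ := wdsP H16.A11.P cee_W
noncomputable def cec8Dd : ℕ := nat_lit 4
noncomputable def cec8D (u : ℕ) : ℕ := Nat.land (Nat.shiftRight cec8Dd (Nat.mul u (nat_lit 1))) (nat_lit 1)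
noncomputable def cec8Pd : ℕ := nat_lit 0xa98
noncomputable def cec8P (u : ℕ) : ℕ := Nat.land (Nat.shiftRight cec8Pd (Nat.mul u (nat_lit 4))) (nat_lit 15)
noncomputable def cec8Qd : ℕ := nat_lit 0x240000
noncomputable def cec8Q (u : ℕ) : ℕ := Nat.land (Nat.shiftRight cec8Qd (Nat.mul u (nat_lit 2))) (nat_lit 3)
noncomputable def cec8 : Lev := ⟨3, 1, cec8D, cec8P, cec8Q⟩
noncomputable def ten0Fd : ℕ := nat_lit 0
noncomputable def ten0F (u : ℕ) : ℕ := Nat.land (Nat.shiftRight ten0Fd (Nat.mul u (nat_lit 1))) (nat_lit 1)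
noncomputable def ten0 : Nd := ⟨ten0F, (nat_lit 2), (nat_lit 1), [], [((nat_lit 0), [])], []⟩
noncomputable def cec6Dd : ℕ := nat_lit 2
noncomputable def cec6D (u : ℕ) : ℕ := Nat.land (Nat.shiftRight cec6Dd (Nat.mul u (nat_lit 1))) (nat_lit 1)
noncomputable def cec6Pd : ℕ := nat_lit 0x3e
noncomputable def cec6P (u : ℕ) : ℕ := Nat.land (Nat.shiftRight cec6Pd (Nat.mul u (nat_lit 3))) (nat_lit 7)
noncomputable def cec6Qd : ℕ := nat_lit 0x80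
noncomputable def cec6Q (u : ℕ) : ℕ := Nat.land (Nat.shiftRight cec6Qd (Nat.mul u (nat_lit 1))) (nat_lit 1)
noncomputable def cec6 : Lev := ⟨2, 2, cec6D, cec6P, cec6Q⟩
noncomputable def ten1Fd : ℕ := nat_lit 0x2840
noncomputable def ten1F (u : ℕ) : ℕ := Nat.land (Nat.shiftRight ten1Fd (Nat.mul u (nat_lit 3))) (nat_lit 7)
noncomputable def ten1 : Nd := ⟨ten1F, (nat_lit 2), (nat_lit 2), [[nat_lit 0]], [((nat_lit 0), [])], []⟩
noncomputable def cec4Dd : ℕ := nat_lit 0x9320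
noncomputable def cec4D (u : ℕ) : ℕ := Nat.land (Nat.shiftRight cec4Dd (Nat.mul u (nat_lit 4))) (nat_lit 15)
noncomputable def cec4Pd : ℕ := nat_lit 0xfa3
noncomputable def cec4P (u : ℕ) : ℕ := Nat.land (Nat.shiftRight cec4Pd (Nat.mul u (nat_lit 3))) (nat_lit 7)
noncomputable def cec4Qd : ℕ := nat_lit 0xe100
noncomputable def cec4Q (u : ℕ) : ℕ := Nat.land (Nat.shiftRight cec4Qd (Nat.mul u (nat_lit 2))) (nat_lit 3)
noncomputable def cec4 : Lev := ⟨4, 4, cec4D, cec4P, cec4Q⟩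
noncomputable def ten2Fd : ℕ := nat_lit 0x4801000
noncomputable def ten2F (u : ℕ) : ℕ := Nat.land (Nat.shiftRight ten2Fd (Nat.mul u (nat_lit 4))) (nat_lit 15)
noncomputable def ten2 : Nd := ⟨ten2F, (nat_lit 4), (nat_lit 4), [[nat_lit 0]], [((nat_lit 0), [])], []⟩
noncomputable def cec2Dd : ℕ := nat_lit 0x2a849c80
noncomputable def cec2D (u : ℕ) : ℕ := Nat.land (Nat.shiftRight cec2Dd (Nat.mul u (nat_lit 5))) (nat_lit 31)
noncomputable def cec2Pd : ℕ := nat_lit 0x37ae2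
noncomputable def cec2P (u : ℕ) : ℕ := Nat.land (Nat.shiftRight cec2Pd (Nat.mul u (nat_lit 3))) (nat_lit 7)
noncomputable def cec2Qd : ℕ := nat_lit 0x959400
noncomputable def cec2Q (u : ℕ) : ℕ := Nat.land (Nat.shiftRight cec2Qd (Nat.mul u (nat_lit 3))) (nat_lit 7)
noncomputable def cec2 : Lev := ⟨6, 5, cec2D, cec2P, cec2Q⟩
noncomputable def ten3Fd : ℕ := nat_lit 0x5a1000000
noncomputable def ten3F (u : ℕ) : ℕ := Nat.land (Nat.shiftRight ten3Fd (Nat.mul u (nat_lit 4))) (nat_lit 15)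
noncomputable def ten3 : Nd := ⟨ten3F, (nat_lit 5), (nat_lit 5), [[nat_lit 0]], [((nat_lit 0), [])], []⟩
noncomputable def cec0Dd : ℕ := nat_lit 0xbe609520a0
noncomputable def cec0D (u : ℕ) : ℕ := Nat.land (Nat.shiftRight cec0Dd (Nat.mul u (nat_lit 5))) (nat_lit 31)
noncomputable def cec0Pd : ℕ := nat_lit 0x397ae0
noncomputable def cec0P (u : ℕ) : ℕ := Nat.land (Nat.shiftRight cec0Pd (Nat.mul u (nat_lit 3))) (nat_lit 7)
noncomputable def cec0Qd : ℕ := nat_lit 0x999578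
noncomputable def cec0Q (u : ℕ) : ℕ := Nat.land (Nat.shiftRight cec0Qd (Nat.mul u (nat_lit 3))) (nat_lit 7)
noncomputable def cec0 : Lev := ⟨8, 6, cec0D, cec0P, cec0Q⟩
noncomputable def ten4Fd : ℕ := nat_lit 0x6c100000000
noncomputable def ten4F (u : ℕ) : ℕ := Nat.land (Nat.shiftRight ten4Fd (Nat.mul u (nat_lit 4))) (nat_lit 15)
noncomputable def ten4 : Nd := ⟨ten4F, (nat_lit 6), (nat_lit 6), [[nat_lit 0]], [((nat_lit 0), [])], []⟩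
noncomputable def x_W : List (List ℕ) := [[nat_lit 1]]
noncomputable def x_P : ℕ → ℕ → ℕ := wdsP H16.A11.P x_W
noncomputable def txh_W : List (List ℕ) := [[nat_lit 4, nat_lit 3],
  [nat_lit 3, nat_lit 5, nat_lit 4, nat_lit 3],
  [nat_lit 4, nat_lit 6],
  [nat_lit 5, nat_lit 6, nat_lit 5, nat_lit 7],
  [nat_lit 3, nat_lit 4, nat_lit 5, nat_lit 7, nat_lit 6, nat_lit 8],
  [nat_lit 6, nat_lit 7, nat_lit 6, nat_lit 5, nat_lit 8, nat_lit 9],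
  [nat_lit 1, nat_lit 2, nat_lit 3, nat_lit 2, nat_lit 4, nat_lit 3, nat_lit 2, nat_lit 0, nat_lit 7, nat_lit 6, nat_lit 5, nat_lit 4],
  [nat_lit 3],
  [nat_lit 4],
  [nat_lit 5],
  [nat_lit 6],
  [nat_lit 7],
  [nat_lit 8],
  [nat_lit 9],
  [nat_lit 0],
  [nat_lit 1],
  [nat_lit 2]]
noncomputable def txh_P : ℕ → ℕ → ℕ := wdsP H16.A11.P txh_W
noncomputable def txl0Dd : ℕ := nat_lit 0x9e8c4947443433100f0e00
noncomputable def txl0D (u : ℕ) : ℕ := Nat.land (Nat.shiftRight txl0Dd (Nat.mul u (nat_lit 8))) (nat_lit 255)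
noncomputable def txl0Pd : ℕ := nat_lit 0x12364579a8
noncomputable def txl0P (u : ℕ) : ℕ := Nat.land (Nat.shiftRight txl0Pd (Nat.mul u (nat_lit 4))) (nat_lit 15)
noncomputable def txl0Qd : ℕ := nat_lit 0x1203645789a
noncomputable def txl0Q (u : ℕ) : ℕ := Nat.land (Nat.shiftRight txl0Qd (Nat.mul u (nat_lit 4))) (nat_lit 15)
noncomputable def txl0 : Lev := ⟨11, 17, txl0D, txl0P, txl0Q⟩
noncomputable def txl1Dd : ℕ := nat_lit 0x3ae64294f9d3850380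
noncomputable def txl1D (u : ℕ) : ℕ := Nat.land (Nat.shiftRight txl1Dd (Nat.mul u (nat_lit 7))) (nat_lit 127)
noncomputable def txl1Pd : ℕ := nat_lit 0x12437659a
noncomputable def txl1P (u : ℕ) : ℕ := Nat.land (Nat.shiftRight txl1Pd (Nat.mul u (nat_lit 4))) (nat_lit 15)
noncomputable def txl1Qd : ℕ := nat_lit 0x1043265789
noncomputable def txl1Q (u : ℕ) : ℕ := Nat.land (Nat.shiftRight txl1Qd (Nat.mul u (nat_lit 4))) (nat_lit 15)
noncomputable def txl1 : Lev := ⟨10, 14, txl1D, txl1P, txl1Q⟩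
noncomputable def txl2Dd : ℕ := nat_lit 0x36b8c2ca207180
noncomputable def txl2D (u : ℕ) : ℕ := Nat.land (Nat.shiftRight txl2Dd (Nat.mul u (nat_lit 6))) (nat_lit 63)
noncomputable def txl2Pd : ℕ := nat_lit 0x12437659
noncomputable def txl2P (u : ℕ) : ℕ := Nat.land (Nat.shiftRight txl2Pd (Nat.mul u (nat_lit 4))) (nat_lit 15)
noncomputable def txl2Qd : ℕ := nat_lit 0x32154678
noncomputable def txl2Q (u : ℕ) : ℕ := Nat.land (Nat.shiftRight txl2Qd (Nat.mul u (nat_lit 4))) (nat_lit 15)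
noncomputable def txl2 : Lev := ⟨9, 7, txl2D, txl2P, txl2Q⟩
noncomputable def txl3Dd : ℕ := nat_lit 0x8932921c8140
noncomputable def txl3D (u : ℕ) : ℕ := Nat.land (Nat.shiftRight txl3Dd (Nat.mul u (nat_lit 6))) (nat_lit 63)
noncomputable def txl3Pd : ℕ := nat_lit 0x3d6ae0
noncomputable def txl3P (u : ℕ) : ℕ := Nat.land (Nat.shiftRight txl3Pd (Nat.mul u (nat_lit 3))) (nat_lit 7)
noncomputable def txl3Qd : ℕ := nat_lit 0xd19578
noncomputable def txl3Q (u : ℕ) : ℕ := Nat.land (Nat.shiftRight txl3Qd (Nat.mul u (nat_lit 3))) (nat_lit 7)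
noncomputable def txl3 : Lev := ⟨8, 6, txl3D, txl3P, txl3Q⟩
noncomputable def txl4Dd : ℕ := nat_lit 0x656941c80
noncomputable def txl4D (u : ℕ) : ℕ := Nat.land (Nat.shiftRight txl4Dd (Nat.mul u (nat_lit 5))) (nat_lit 31)
noncomputable def txl4Pd : ℕ := nat_lit 0x1af519
noncomputable def txl4P (u : ℕ) : ℕ := Nat.land (Nat.shiftRight txl4Pd (Nat.mul u (nat_lit 3))) (nat_lit 7)
noncomputable def txl4Qd : ℕ := nat_lit 0x9aa2c0
noncomputable def txl4Q (u : ℕ) : ℕ := Nat.land (Nat.shiftRight txl4Qd (Nat.mul u (nat_lit 3))) (nat_lit 7)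
noncomputable def txl4 : Lev := ⟨7, 5, txl4D, txl4P, txl4Q⟩
noncomputable def txl5Dd : ℕ := nat_lit 0x24729060
noncomputable def txl5D (u : ℕ) : ℕ := Nat.land (Nat.shiftRight txl5Dd (Nat.mul u (nat_lit 5))) (nat_lit 31)
noncomputable def txl5Pd : ℕ := nat_lit 0x23faa
noncomputable def txl5P (u : ℕ) : ℕ := Nat.land (Nat.shiftRight txl5Pd (Nat.mul u (nat_lit 3))) (nat_lit 7)
noncomputable def txl5Qd : ℕ := nat_lit 0x68d800
noncomputable def txl5Q (u : ℕ) : ℕ := Nat.land (Nat.shiftRight txl5Qd (Nat.mul u (nat_lit 3))) (nat_lit 7)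
noncomputable def txl5 : Lev := ⟨6, 4, txl5D, txl5P, txl5Q⟩
noncomputable def txl6Dd : ℕ := nat_lit 0x7d10
noncomputable def txl6D (u : ℕ) : ℕ := Nat.land (Nat.shiftRight txl6Dd (Nat.mul u (nat_lit 3))) (nat_lit 7)
noncomputable def txl6Pd : ℕ := nat_lit 0x7d63
noncomputable def txl6P (u : ℕ) : ℕ := Nat.land (Nat.shiftRight txl6Pd (Nat.mul u (nat_lit 3))) (nat_lit 7)
noncomputable def txl6Qd : ℕ := nat_lit 0x8d1000
noncomputable def txl6Q (u : ℕ) : ℕ := Nat.land (Nat.shiftRight txl6Qd (Nat.mul u (nat_lit 3))) (nat_lit 7)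
noncomputable def txl6 : Lev := ⟨5, 3, txl6D, txl6P, txl6Q⟩
noncomputable def txl7Dd : ℕ := nat_lit 0xe4
noncomputable def txl7D (u : ℕ) : ℕ := Nat.land (Nat.shiftRight txl7Dd (Nat.mul u (nat_lit 2))) (nat_lit 3)
noncomputable def txl7Pd : ℕ := nat_lit 0xfac
noncomputable def txl7P (u : ℕ) : ℕ := Nat.land (Nat.shiftRight txl7Pd (Nat.mul u (nat_lit 3))) (nat_lit 7)
noncomputable def txl7Qd : ℕ := nat_lit 0xe400
noncomputable def txl7Q (u : ℕ) : ℕ := Nat.land (Nat.shiftRight txl7Qd (Nat.mul u (nat_lit 2))) (nat_lit 3)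
noncomputable def txl7 : Lev := ⟨4, 2, txl7D, txl7P, txl7Q⟩
noncomputable def txl8Dd : ℕ := nat_lit 4
noncomputable def txl8D (u : ℕ) : ℕ := Nat.land (Nat.shiftRight txl8Dd (Nat.mul u (nat_lit 1))) (nat_lit 1)
noncomputable def txl8Pd : ℕ := nat_lit 0x1f5
noncomputable def txl8P (u : ℕ) : ℕ := Nat.land (Nat.shiftRight txl8Pd (Nat.mul u (nat_lit 3))) (nat_lit 7)
noncomputable def txl8Qd : ℕ := nat_lit 0x9000
noncomputable def txl8Q (u : ℕ) : ℕ := Nat.land (Nat.shiftRight txl8Qd (Nat.mul u (nat_lit 2))) (nat_lit 3)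
noncomputable def txl8 : Lev := ⟨3, 1, txl8D, txl8P, txl8Q⟩
noncomputable def cxe_W : List (List ℕ) := [[nat_lit 4, nat_lit 3],
  [nat_lit 5, nat_lit 4],
  [nat_lit 5, nat_lit 6],
  [nat_lit 4, nat_lit 5, nat_lit 4, nat_lit 7],
  [nat_lit 4, nat_lit 5, nat_lit 4, nat_lit 3, nat_lit 6, nat_lit 5, nat_lit 7, nat_lit 8],
  [nat_lit 6, nat_lit 5, nat_lit 4, nat_lit 7, nat_lit 8, nat_lit 7, nat_lit 6, nat_lit 5, nat_lit 4, nat_lit 3, nat_lit 9, nat_lit 8],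
  [nat_lit 1, nat_lit 5, nat_lit 4, nat_lit 3, nat_lit 7, nat_lit 6, nat_lit 5, nat_lit 4, nat_lit 8, nat_lit 7, nat_lit 6]]
noncomputable def cxe_P : ℕ → ℕ → ℕ := wdsP H16.A11.P cxe_W
noncomputable def cxc8Dd : ℕ := nat_lit 4
noncomputable def cxc8D (u : ℕ) : ℕ := Nat.land (Nat.shiftRight cxc8Dd (Nat.mul u (nat_lit 1))) (nat_lit 1)
noncomputable def cxc8Pd : ℕ := nat_lit 0x1f5
noncomputable def cxc8P (u : ℕ) : ℕ := Nat.land (Nat.shiftRight cxc8Pd (Nat.mul u (nat_lit 3))) (nat_lit 7)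
noncomputable def cxc8Qd : ℕ := nat_lit 0x9000
noncomputable def cxc8Q (u : ℕ) : ℕ := Nat.land (Nat.shiftRight cxc8Qd (Nat.mul u (nat_lit 2))) (nat_lit 3)
noncomputable def cxc8 : Lev := ⟨3, 1, cxc8D, cxc8P, cxc8Q⟩
noncomputable def txn0Fd : ℕ := nat_lit 0
noncomputable def txn0F (u : ℕ) : ℕ := Nat.land (Nat.shiftRight txn0Fd (Nat.mul u (nat_lit 1))) (nat_lit 1)
noncomputable def txn0 : Nd := ⟨txn0F, (nat_lit 2), (nat_lit 1), [], [((nat_lit 0), [])], []⟩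
noncomputable def cxc7Dd : ℕ := nat_lit 0x888
noncomputable def cxc7D (u : ℕ) : ℕ := Nat.land (Nat.shiftRight cxc7Dd (Nat.mul u (nat_lit 3))) (nat_lit 7)
noncomputable def cxc7Pd : ℕ := nat_lit 0xfac
noncomputable def cxc7P (u : ℕ) : ℕ := Nat.land (Nat.shiftRight cxc7Pd (Nat.mul u (nat_lit 3))) (nat_lit 7)
noncomputable def cxc7Qd : ℕ := nat_lit 0xe400
noncomputable def cxc7Q (u : ℕ) : ℕ := Nat.land (Nat.shiftRight cxc7Qd (Nat.mul u (nat_lit 2))) (nat_lit 3)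
noncomputable def cxc7 : Lev := ⟨4, 2, cxc7D, cxc7P, cxc7Q⟩
noncomputable def txn1Fd : ℕ := nat_lit 0
noncomputable def txn1F (u : ℕ) : ℕ := Nat.land (Nat.shiftRight txn1Fd (Nat.mul u (nat_lit 1))) (nat_lit 1)
noncomputable def txn1 : Nd := ⟨txn1F, (nat_lit 2), (nat_lit 2), [], [((nat_lit 0), [])], []⟩
noncomputable def cxc6Dd : ℕ := nat_lit 0x6ad0
noncomputable def cxc6D (u : ℕ) : ℕ := Nat.land (Nat.shiftRight cxc6Dd (Nat.mul u (nat_lit 3))) (nat_lit 7)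
noncomputable def cxc6Pd : ℕ := nat_lit 0x79ab
noncomputable def cxc6P (u : ℕ) : ℕ := Nat.land (Nat.shiftRight cxc6Pd (Nat.mul u (nat_lit 3))) (nat_lit 7)
noncomputable def cxc6Qd : ℕ := nat_lit 0x88b000
noncomputable def cxc6Q (u : ℕ) : ℕ := Nat.land (Nat.shiftRight cxc6Qd (Nat.mul u (nat_lit 3))) (nat_lit 7)
noncomputable def cxc6 : Lev := ⟨5, 3, cxc6D, cxc6P, cxc6Q⟩
noncomputable def txn2Fd : ℕ := nat_lit 0
noncomputable def txn2F (u : ℕ) : ℕ := Nat.land (Nat.shiftRight txn2Fd (Nat.mul u (nat_lit 1))) (nat_lit 1)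
noncomputable def txn2 : Nd := ⟨txn2F, (nat_lit 3), (nat_lit 3), [], [((nat_lit 0), [])], []⟩
noncomputable def cxc5Dd : ℕ := nat_lit 0xca8630
noncomputable def cxc5D (u : ℕ) : ℕ := Nat.land (Nat.shiftRight cxc5Dd (Nat.mul u (nat_lit 4))) (nat_lit 15)
noncomputable def cxc5Pd : ℕ := nat_lit 0x3cd5a
noncomputable def cxc5P (u : ℕ) : ℕ := Nat.land (Nat.shiftRight cxc5Pd (Nat.mul u (nat_lit 3))) (nat_lit 7)
noncomputable def cxc5Qd : ℕ := nat_lit 0xad4200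
noncomputable def cxc5Q (u : ℕ) : ℕ := Nat.land (Nat.shiftRight cxc5Qd (Nat.mul u (nat_lit 3))) (nat_lit 7)
noncomputable def cxc5 : Lev := ⟨6, 4, cxc5D, cxc5P, cxc5Q⟩
noncomputable def txn3Fd : ℕ := nat_lit 0
noncomputable def txn3F (u : ℕ) : ℕ := Nat.land (Nat.shiftRight txn3Fd (Nat.mul u (nat_lit 1))) (nat_lit 1)
noncomputable def txn3 : Nd := ⟨txn3F, (nat_lit 4), (nat_lit 4), [], [((nat_lit 0), [])], []⟩
noncomputable def cxc4Dd : ℕ := nat_lit 0x722a31480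
noncomputable def cxc4D (u : ℕ) : ℕ := Nat.land (Nat.shiftRight cxc4Dd (Nat.mul u (nat_lit 5))) (nat_lit 31)
noncomputable def cxc4Pd : ℕ := nat_lit 0x9d9f1
noncomputable def cxc4P (u : ℕ) : ℕ := Nat.land (Nat.shiftRight cxc4Pd (Nat.mul u (nat_lit 3))) (nat_lit 7)
noncomputable def cxc4Qd : ℕ := nat_lit 0x463b80
noncomputable def cxc4Q (u : ℕ) : ℕ := Nat.land (Nat.shiftRight cxc4Qd (Nat.mul u (nat_lit 3))) (nat_lit 7)
noncomputable def cxc4 : Lev := ⟨7, 5, cxc4D, cxc4P, cxc4Q⟩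
noncomputable def txn4Fd : ℕ := nat_lit 0
noncomputable def txn4F (u : ℕ) : ℕ := Nat.land (Nat.shiftRight txn4Fd (Nat.mul u (nat_lit 1))) (nat_lit 1)
noncomputable def txn4 : Nd := ⟨txn4F, (nat_lit 5), (nat_lit 5), [], [((nat_lit 0), [])], []⟩
noncomputable def cxc3Dd : ℕ := nat_lit 0xa1560c207140
noncomputable def cxc3D (u : ℕ) : ℕ := Nat.land (Nat.shiftRight cxc3Dd (Nat.mul u (nat_lit 6))) (nat_lit 63)
noncomputable def cxc3Pd : ℕ := nat_lit 0x2be760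
noncomputable def cxc3P (u : ℕ) : ℕ := Nat.land (Nat.shiftRight cxc3Pd (Nat.mul u (nat_lit 3))) (nat_lit 7)
noncomputable def cxc3Qd : ℕ := nat_lit 0xb117b8
noncomputable def cxc3Q (u : ℕ) : ℕ := Nat.land (Nat.shiftRight cxc3Qd (Nat.mul u (nat_lit 3))) (nat_lit 7)
noncomputable def cxc3 : Lev := ⟨8, 6, cxc3D, cxc3P, cxc3Q⟩
noncomputable def txn5Fd : ℕ := nat_lit 0
noncomputable def txn5F (u : ℕ) : ℕ := Nat.land (Nat.shiftRight txn5Fd (Nat.mul u (nat_lit 1))) (nat_lit 1)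
noncomputable def txn5 : Nd := ⟨txn5F, (nat_lit 6), (nat_lit 6), [], [((nat_lit 0), [])], []⟩
noncomputable def cxc0Dd : ℕ := nat_lit 0xd60
noncomputable def cxc0D (u : ℕ) : ℕ := Nat.land (Nat.shiftRight cxc0Dd (Nat.mul u (nat_lit 4))) (nat_lit 15)
noncomputable def cxc0Pd : ℕ := nat_lit 0xa98
noncomputable def cxc0P (u : ℕ) : ℕ := Nat.land (Nat.shiftRight cxc0Pd (Nat.mul u (nat_lit 4))) (nat_lit 15)
noncomputable def cxc0Qd : ℕ := nat_lit 0x240000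
noncomputable def cxc0Q (u : ℕ) : ℕ := Nat.land (Nat.shiftRight cxc0Qd (Nat.mul u (nat_lit 2))) (nat_lit 3)
noncomputable def cxc0 : Lev := ⟨3, 7, cxc0D, cxc0P, cxc0Q⟩
noncomputable def txn6Fd : ℕ := nat_lit 0x2831f5ce407040000
noncomputable def txn6F (u : ℕ) : ℕ := Nat.land (Nat.shiftRight txn6Fd (Nat.mul u (nat_lit 6))) (nat_lit 63)
noncomputable def txn6 : Nd := ⟨txn6F, (nat_lit 7), (nat_lit 7), [[nat_lit 0]], [((nat_lit 0), [])], []⟩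
noncomputable def d_W : Wl := [[nat_lit 0, nat_lit 5, nat_lit 13],
  [nat_lit 0, nat_lit 5, nat_lit 7, nat_lit 10, nat_lit 14],
  [nat_lit 0, nat_lit 5, nat_lit 7, nat_lit 12, nat_lit 13, nat_lit 12, nat_lit 14, nat_lit 12],
  [nat_lit 0, nat_lit 5, nat_lit 11, nat_lit 13, nat_lit 11, nat_lit 14, nat_lit 11],
  [nat_lit 5, nat_lit 10, nat_lit 13, nat_lit 11, nat_lit 14, nat_lit 11],
  [nat_lit 5, nat_lit 7, nat_lit 12, nat_lit 14],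
  [nat_lit 5, nat_lit 7, nat_lit 13, nat_lit 14, nat_lit 12, nat_lit 13],
  [nat_lit 5, nat_lit 10, nat_lit 12, nat_lit 13],
  [nat_lit 5, nat_lit 10, nat_lit 13],
  [nat_lit 5, nat_lit 7, nat_lit 14],
  [nat_lit 5, nat_lit 7, nat_lit 12, nat_lit 13, nat_lit 14, nat_lit 11, nat_lit 13],
  [nat_lit 5, nat_lit 11, nat_lit 13, nat_lit 14, nat_lit 12, nat_lit 13],
  [nat_lit 0, nat_lit 5, nat_lit 13, nat_lit 12, nat_lit 14, nat_lit 12],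
  [nat_lit 0, nat_lit 5, nat_lit 7, nat_lit 10, nat_lit 11, nat_lit 14],
  [nat_lit 0, nat_lit 5, nat_lit 7, nat_lit 10, nat_lit 13, nat_lit 14, nat_lit 11, nat_lit 13],
  [nat_lit 0, nat_lit 5, nat_lit 11, nat_lit 13],
  [nat_lit 5, nat_lit 7, nat_lit 11, nat_lit 13, nat_lit 14, nat_lit 12, nat_lit 13],
  [nat_lit 5, nat_lit 12, nat_lit 13, nat_lit 14, nat_lit 11, nat_lit 13],
  [nat_lit 5, nat_lit 14],
  [nat_lit 5, nat_lit 7, nat_lit 10, nat_lit 13],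
  [nat_lit 0, nat_lit 5, nat_lit 7, nat_lit 11, nat_lit 13],
  [nat_lit 0, nat_lit 5, nat_lit 10, nat_lit 13, nat_lit 14, nat_lit 11, nat_lit 13],
  [nat_lit 0, nat_lit 5, nat_lit 10, nat_lit 11, nat_lit 14],
  [nat_lit 0, nat_lit 5, nat_lit 7, nat_lit 13, nat_lit 12, nat_lit 14, nat_lit 12],
  [nat_lit 0, nat_lit 5, nat_lit 7, nat_lit 11, nat_lit 13, nat_lit 11, nat_lit 14, nat_lit 11],
  [nat_lit 0, nat_lit 5, nat_lit 12, nat_lit 13, nat_lit 12, nat_lit 14, nat_lit 12],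
  [nat_lit 0, nat_lit 5, nat_lit 10, nat_lit 14],
  [nat_lit 0, nat_lit 5, nat_lit 7, nat_lit 13],
  [nat_lit 5, nat_lit 7, nat_lit 10, nat_lit 12, nat_lit 13],
  [nat_lit 5, nat_lit 13, nat_lit 14, nat_lit 12, nat_lit 13],
  [nat_lit 5, nat_lit 12, nat_lit 14],
  [nat_lit 5, nat_lit 7, nat_lit 10, nat_lit 13, nat_lit 11, nat_lit 14, nat_lit 11],
  [nat_lit 0, nat_lit 5, nat_lit 13, nat_lit 11, nat_lit 14, nat_lit 11],
  [nat_lit 0, nat_lit 5, nat_lit 7, nat_lit 10, nat_lit 12, nat_lit 14],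
  [nat_lit 5, nat_lit 10, nat_lit 13, nat_lit 12, nat_lit 14, nat_lit 12],
  [nat_lit 5, nat_lit 7, nat_lit 11, nat_lit 14],
  [nat_lit 5, nat_lit 7, nat_lit 10, nat_lit 11, nat_lit 13],
  [nat_lit 5, nat_lit 13, nat_lit 14, nat_lit 11, nat_lit 13],
  [nat_lit 0, nat_lit 5, nat_lit 7, nat_lit 12, nat_lit 13],
  [nat_lit 0, nat_lit 5, nat_lit 10, nat_lit 13, nat_lit 14, nat_lit 12, nat_lit 13],
  [nat_lit 0, nat_lit 5, nat_lit 7, nat_lit 10, nat_lit 13, nat_lit 14, nat_lit 12, nat_lit 13],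
  [nat_lit 0, nat_lit 5, nat_lit 12, nat_lit 13],
  [nat_lit 5, nat_lit 7, nat_lit 13, nat_lit 14, nat_lit 11, nat_lit 13],
  [nat_lit 5, nat_lit 10, nat_lit 11, nat_lit 13],
  [nat_lit 5, nat_lit 11, nat_lit 14],
  [nat_lit 5, nat_lit 7, nat_lit 10, nat_lit 13, nat_lit 12, nat_lit 14, nat_lit 12],
  [nat_lit 0, nat_lit 5, nat_lit 10, nat_lit 12, nat_lit 14],
  [nat_lit 0, nat_lit 5, nat_lit 7, nat_lit 13, nat_lit 11, nat_lit 14, nat_lit 11],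
  [nat_lit 0, nat_lit 5, nat_lit 7, nat_lit 10, nat_lit 13],
  [nat_lit 0, nat_lit 5, nat_lit 14],
  [nat_lit 0, nat_lit 5, nat_lit 11, nat_lit 13, nat_lit 14, nat_lit 12, nat_lit 13],
  [nat_lit 0, nat_lit 5, nat_lit 7, nat_lit 12, nat_lit 13, nat_lit 14, nat_lit 11, nat_lit 13],
  [nat_lit 5, nat_lit 7, nat_lit 13, nat_lit 11, nat_lit 14, nat_lit 11],
  [nat_lit 5, nat_lit 10, nat_lit 12, nat_lit 14],
  [nat_lit 5, nat_lit 10, nat_lit 13, nat_lit 14, nat_lit 12, nat_lit 13],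
  [nat_lit 5, nat_lit 7, nat_lit 12, nat_lit 13],
  [nat_lit 5, nat_lit 7, nat_lit 13],
  [nat_lit 5, nat_lit 10, nat_lit 14],
  [nat_lit 5, nat_lit 11, nat_lit 13, nat_lit 11, nat_lit 14, nat_lit 11],
  [nat_lit 5, nat_lit 7, nat_lit 12, nat_lit 13, nat_lit 12, nat_lit 14, nat_lit 12],
  [nat_lit 0, nat_lit 5, nat_lit 7, nat_lit 10, nat_lit 13, nat_lit 12, nat_lit 14, nat_lit 12],
  [nat_lit 0, nat_lit 5, nat_lit 11, nat_lit 14],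
  [nat_lit 0, nat_lit 5, nat_lit 13, nat_lit 14, nat_lit 11, nat_lit 13],
  [nat_lit 0, nat_lit 5, nat_lit 7, nat_lit 10, nat_lit 11, nat_lit 13],
  [nat_lit 5, nat_lit 12, nat_lit 13, nat_lit 12, nat_lit 14, nat_lit 12],
  [nat_lit 5, nat_lit 7, nat_lit 11, nat_lit 13, nat_lit 11, nat_lit 14, nat_lit 11],
  [nat_lit 5, nat_lit 7, nat_lit 10, nat_lit 14],
  [nat_lit 5, nat_lit 13],
  [nat_lit 0, nat_lit 5, nat_lit 10, nat_lit 11, nat_lit 13],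
  [nat_lit 0, nat_lit 5, nat_lit 7, nat_lit 13, nat_lit 14, nat_lit 11, nat_lit 13],
  [nat_lit 0, nat_lit 5, nat_lit 7, nat_lit 11, nat_lit 14],
  [nat_lit 0, nat_lit 5, nat_lit 10, nat_lit 13, nat_lit 12, nat_lit 14, nat_lit 12],
  [nat_lit 0, nat_lit 5, nat_lit 12, nat_lit 13, nat_lit 14, nat_lit 11, nat_lit 13],
  [nat_lit 0, nat_lit 5, nat_lit 7, nat_lit 11, nat_lit 13, nat_lit 14, nat_lit 12, nat_lit 13],
  [nat_lit 0, nat_lit 5, nat_lit 7, nat_lit 14],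
  [nat_lit 0, nat_lit 5, nat_lit 10, nat_lit 13],
  [nat_lit 5, nat_lit 12, nat_lit 13],
  [nat_lit 5, nat_lit 7, nat_lit 10, nat_lit 13, nat_lit 14, nat_lit 12, nat_lit 13],
  [nat_lit 5, nat_lit 7, nat_lit 10, nat_lit 12, nat_lit 14],
  [nat_lit 5, nat_lit 13, nat_lit 11, nat_lit 14, nat_lit 11],
  [nat_lit 0, nat_lit 5, nat_lit 7, nat_lit 10, nat_lit 13, nat_lit 11, nat_lit 14, nat_lit 11],
  [nat_lit 0, nat_lit 5, nat_lit 12, nat_lit 14],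
  [nat_lit 5, nat_lit 7, nat_lit 13, nat_lit 12, nat_lit 14, nat_lit 12],
  [nat_lit 5, nat_lit 10, nat_lit 11, nat_lit 14],
  [nat_lit 5, nat_lit 11, nat_lit 13],
  [nat_lit 5, nat_lit 7, nat_lit 10, nat_lit 13, nat_lit 14, nat_lit 11, nat_lit 13],
  [nat_lit 0, nat_lit 5, nat_lit 10, nat_lit 12, nat_lit 13],
  [nat_lit 0, nat_lit 5, nat_lit 7, nat_lit 13, nat_lit 14, nat_lit 12, nat_lit 13],
  [nat_lit 0, nat_lit 5, nat_lit 13, nat_lit 14, nat_lit 12, nat_lit 13],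
  [nat_lit 0, nat_lit 5, nat_lit 7, nat_lit 10, nat_lit 12, nat_lit 13],
  [nat_lit 5, nat_lit 10, nat_lit 13, nat_lit 14, nat_lit 11, nat_lit 13],
  [nat_lit 5, nat_lit 7, nat_lit 11, nat_lit 13],
  [nat_lit 5, nat_lit 7, nat_lit 10, nat_lit 11, nat_lit 14],
  [nat_lit 5, nat_lit 13, nat_lit 12, nat_lit 14, nat_lit 12],
  [nat_lit 0, nat_lit 5, nat_lit 7, nat_lit 12, nat_lit 14],
  [nat_lit 0, nat_lit 5, nat_lit 10, nat_lit 13, nat_lit 11, nat_lit 14, nat_lit 11],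
  [nat_lit 5, nat_lit 10, nat_lit 11, nat_lit 14, nat_lit 11, nat_lit 13],
  [nat_lit 5, nat_lit 7, nat_lit 11, nat_lit 13, nat_lit 11, nat_lit 14],
  [nat_lit 5, nat_lit 7, nat_lit 10, nat_lit 14, nat_lit 12],
  [nat_lit 5, nat_lit 13, nat_lit 12],
  [nat_lit 0, nat_lit 5, nat_lit 10, nat_lit 11, nat_lit 13, nat_lit 12],
  [nat_lit 0, nat_lit 5, nat_lit 7, nat_lit 14, nat_lit 12, nat_lit 13, nat_lit 11],
  [nat_lit 0, nat_lit 5, nat_lit 7, nat_lit 11, nat_lit 14, nat_lit 12],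
  [nat_lit 0, nat_lit 5, nat_lit 12, nat_lit 14, nat_lit 11, nat_lit 13],
  [nat_lit 5, nat_lit 7, nat_lit 13, nat_lit 12],
  [nat_lit 5, nat_lit 10, nat_lit 14, nat_lit 12],
  [nat_lit 5, nat_lit 11, nat_lit 13, nat_lit 11, nat_lit 14],
  [nat_lit 5, nat_lit 7, nat_lit 10, nat_lit 11, nat_lit 14, nat_lit 11, nat_lit 13],
  [nat_lit 0, nat_lit 5, nat_lit 7, nat_lit 12, nat_lit 14, nat_lit 11, nat_lit 13],
  [nat_lit 0, nat_lit 5, nat_lit 11, nat_lit 14, nat_lit 12],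
  [nat_lit 0, nat_lit 5, nat_lit 14, nat_lit 12, nat_lit 13, nat_lit 11],
  [nat_lit 0, nat_lit 5, nat_lit 7, nat_lit 10, nat_lit 11, nat_lit 13, nat_lit 12],
  [nat_lit 0, nat_lit 5, nat_lit 11, nat_lit 14, nat_lit 11, nat_lit 13],
  [nat_lit 0, nat_lit 5, nat_lit 7, nat_lit 10, nat_lit 11, nat_lit 13, nat_lit 11, nat_lit 14],
  [nat_lit 0, nat_lit 5, nat_lit 7, nat_lit 10, nat_lit 13, nat_lit 12],
  [nat_lit 0, nat_lit 5, nat_lit 14, nat_lit 12],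
  [nat_lit 5, nat_lit 10, nat_lit 12, nat_lit 14, nat_lit 12],
  [nat_lit 5, nat_lit 7, nat_lit 13, nat_lit 11, nat_lit 14],
  [nat_lit 5, nat_lit 7, nat_lit 12, nat_lit 13, nat_lit 12],
  [nat_lit 5, nat_lit 10, nat_lit 14, nat_lit 11, nat_lit 13],
  [nat_lit 0, nat_lit 5, nat_lit 7, nat_lit 14, nat_lit 12],
  [nat_lit 0, nat_lit 5, nat_lit 10, nat_lit 13, nat_lit 12],
  [nat_lit 0, nat_lit 5, nat_lit 10, nat_lit 11, nat_lit 13, nat_lit 11, nat_lit 14],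
  [nat_lit 0, nat_lit 5, nat_lit 7, nat_lit 11, nat_lit 14, nat_lit 11, nat_lit 13],
  [nat_lit 5, nat_lit 7, nat_lit 10, nat_lit 14, nat_lit 11, nat_lit 13],
  [nat_lit 5, nat_lit 12, nat_lit 13, nat_lit 12],
  [nat_lit 5, nat_lit 13, nat_lit 11, nat_lit 14],
  [nat_lit 5, nat_lit 7, nat_lit 10, nat_lit 12, nat_lit 14, nat_lit 12],
  [nat_lit 5, nat_lit 11, nat_lit 13, nat_lit 12],
  [nat_lit 5, nat_lit 7, nat_lit 12, nat_lit 13, nat_lit 11, nat_lit 14],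
  [nat_lit 5, nat_lit 7, nat_lit 13, nat_lit 12, nat_lit 14, nat_lit 11],
  [nat_lit 5, nat_lit 10, nat_lit 11, nat_lit 14, nat_lit 12],
  [nat_lit 0, nat_lit 5, nat_lit 12, nat_lit 14, nat_lit 12],
  [nat_lit 0, nat_lit 5, nat_lit 7, nat_lit 10, nat_lit 13, nat_lit 11, nat_lit 14],
  [nat_lit 0, nat_lit 5, nat_lit 7, nat_lit 14, nat_lit 11, nat_lit 13],
  [nat_lit 0, nat_lit 5, nat_lit 10, nat_lit 12, nat_lit 13, nat_lit 12],
  [nat_lit 5, nat_lit 7, nat_lit 10, nat_lit 11, nat_lit 14, nat_lit 12],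
  [nat_lit 5, nat_lit 13, nat_lit 12, nat_lit 14, nat_lit 11],
  [nat_lit 5, nat_lit 12, nat_lit 13, nat_lit 11, nat_lit 14],
  [nat_lit 5, nat_lit 7, nat_lit 11, nat_lit 13, nat_lit 12],
  [nat_lit 0, nat_lit 5, nat_lit 7, nat_lit 10, nat_lit 12, nat_lit 13, nat_lit 12],
  [nat_lit 0, nat_lit 5, nat_lit 14, nat_lit 11, nat_lit 13],
  [nat_lit 0, nat_lit 5, nat_lit 10, nat_lit 13, nat_lit 11, nat_lit 14],
  [nat_lit 0, nat_lit 5, nat_lit 7, nat_lit 12, nat_lit 14, nat_lit 12],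
  [nat_lit 0, nat_lit 5, nat_lit 12, nat_lit 14, nat_lit 12, nat_lit 13],
  [nat_lit 0, nat_lit 5, nat_lit 7, nat_lit 10, nat_lit 12, nat_lit 13, nat_lit 12, nat_lit 14],
  [nat_lit 0, nat_lit 5, nat_lit 7, nat_lit 14, nat_lit 11],
  [nat_lit 0, nat_lit 5, nat_lit 10, nat_lit 13, nat_lit 11],
  [nat_lit 5, nat_lit 12, nat_lit 13, nat_lit 11],
  [nat_lit 5, nat_lit 7, nat_lit 11, nat_lit 13, nat_lit 12, nat_lit 14],
  [nat_lit 5, nat_lit 7, nat_lit 10, nat_lit 12, nat_lit 14, nat_lit 11],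
  [nat_lit 5, nat_lit 13, nat_lit 11, nat_lit 14, nat_lit 12],
  [nat_lit 0, nat_lit 5, nat_lit 7, nat_lit 10, nat_lit 13, nat_lit 11],
  [nat_lit 0, nat_lit 5, nat_lit 14, nat_lit 11],
  [nat_lit 0, nat_lit 5, nat_lit 10, nat_lit 12, nat_lit 13, nat_lit 12, nat_lit 14],
  [nat_lit 0, nat_lit 5, nat_lit 7, nat_lit 12, nat_lit 14, nat_lit 12, nat_lit 13],
  [nat_lit 5, nat_lit 7, nat_lit 13, nat_lit 11, nat_lit 14, nat_lit 12],
  [nat_lit 5, nat_lit 10, nat_lit 12, nat_lit 14, nat_lit 11],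
  [nat_lit 5, nat_lit 11, nat_lit 13, nat_lit 12, nat_lit 14],
  [nat_lit 5, nat_lit 7, nat_lit 12, nat_lit 13, nat_lit 11],
  [nat_lit 5, nat_lit 10, nat_lit 12, nat_lit 14, nat_lit 12, nat_lit 13],
  [nat_lit 5, nat_lit 7, nat_lit 12, nat_lit 13, nat_lit 12, nat_lit 14],
  [nat_lit 5, nat_lit 7, nat_lit 13, nat_lit 11],
  [nat_lit 5, nat_lit 10, nat_lit 14, nat_lit 11],
  [nat_lit 0, nat_lit 5, nat_lit 11, nat_lit 14, nat_lit 11],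
  [nat_lit 0, nat_lit 5, nat_lit 7, nat_lit 10, nat_lit 13, nat_lit 12, nat_lit 14],
  [nat_lit 0, nat_lit 5, nat_lit 7, nat_lit 10, nat_lit 11, nat_lit 13, nat_lit 11],
  [nat_lit 0, nat_lit 5, nat_lit 14, nat_lit 12, nat_lit 13],
  [nat_lit 5, nat_lit 7, nat_lit 10, nat_lit 14, nat_lit 11],
  [nat_lit 5, nat_lit 13, nat_lit 11],
  [nat_lit 5, nat_lit 12, nat_lit 13, nat_lit 12, nat_lit 14],
  [nat_lit 5, nat_lit 7, nat_lit 10, nat_lit 12, nat_lit 14, nat_lit 12, nat_lit 13],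
  [nat_lit 0, nat_lit 5, nat_lit 7, nat_lit 14, nat_lit 12, nat_lit 13],
  [nat_lit 0, nat_lit 5, nat_lit 10, nat_lit 11, nat_lit 13, nat_lit 11],
  [nat_lit 0, nat_lit 5, nat_lit 10, nat_lit 13, nat_lit 12, nat_lit 14],
  [nat_lit 0, nat_lit 5, nat_lit 7, nat_lit 11, nat_lit 14, nat_lit 11],
  [nat_lit 0, nat_lit 5, nat_lit 10, nat_lit 12, nat_lit 13, nat_lit 11],
  [nat_lit 0, nat_lit 5, nat_lit 7, nat_lit 14, nat_lit 11, nat_lit 13, nat_lit 12],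
  [nat_lit 0, nat_lit 5, nat_lit 7, nat_lit 11, nat_lit 14, nat_lit 12, nat_lit 13],
  [nat_lit 0, nat_lit 5, nat_lit 12, nat_lit 14, nat_lit 11],
  [nat_lit 5, nat_lit 10, nat_lit 11, nat_lit 14, nat_lit 11],
  [nat_lit 5, nat_lit 7, nat_lit 13, nat_lit 12, nat_lit 14],
  [nat_lit 5, nat_lit 7, nat_lit 10, nat_lit 14, nat_lit 12, nat_lit 13],
  [nat_lit 5, nat_lit 11, nat_lit 13, nat_lit 11],
  [nat_lit 0, nat_lit 5, nat_lit 7, nat_lit 12, nat_lit 14, nat_lit 11],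
  [nat_lit 0, nat_lit 5, nat_lit 11, nat_lit 14, nat_lit 12, nat_lit 13],
  [nat_lit 0, nat_lit 5, nat_lit 14, nat_lit 11, nat_lit 13, nat_lit 12],
  [nat_lit 0, nat_lit 5, nat_lit 7, nat_lit 10, nat_lit 12, nat_lit 13, nat_lit 11],
  [nat_lit 5, nat_lit 7, nat_lit 11, nat_lit 13, nat_lit 11],
  [nat_lit 5, nat_lit 10, nat_lit 14, nat_lit 12, nat_lit 13],
  [nat_lit 5, nat_lit 13, nat_lit 12, nat_lit 14],
  [nat_lit 5, nat_lit 7, nat_lit 10, nat_lit 11, nat_lit 14, nat_lit 11],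
  [nat_lit 0, nat_lit 5, nat_lit 7, nat_lit 10, nat_lit 12, nat_lit 14, nat_lit 12, nat_lit 13],
  [nat_lit 0, nat_lit 5, nat_lit 12, nat_lit 13, nat_lit 12, nat_lit 14],
  [nat_lit 0, nat_lit 5, nat_lit 10, nat_lit 14, nat_lit 11],
  [nat_lit 0, nat_lit 5, nat_lit 7, nat_lit 13, nat_lit 11],
  [nat_lit 5, nat_lit 7, nat_lit 10, nat_lit 12, nat_lit 13, nat_lit 11],
  [nat_lit 5, nat_lit 14, nat_lit 11, nat_lit 13, nat_lit 12],
  [nat_lit 5, nat_lit 12, nat_lit 14, nat_lit 11],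
  [nat_lit 5, nat_lit 7, nat_lit 11, nat_lit 14, nat_lit 12, nat_lit 13],
  [nat_lit 0, nat_lit 5, nat_lit 13, nat_lit 11],
  [nat_lit 0, nat_lit 5, nat_lit 7, nat_lit 10, nat_lit 14, nat_lit 11],
  [nat_lit 0, nat_lit 5, nat_lit 7, nat_lit 12, nat_lit 13, nat_lit 12, nat_lit 14],
  [nat_lit 0, nat_lit 5, nat_lit 10, nat_lit 12, nat_lit 14, nat_lit 12, nat_lit 13],
  [nat_lit 5, nat_lit 11, nat_lit 14, nat_lit 12, nat_lit 13],
  [nat_lit 5, nat_lit 7, nat_lit 12, nat_lit 14, nat_lit 11],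
  [nat_lit 5, nat_lit 7, nat_lit 14, nat_lit 11, nat_lit 13, nat_lit 12],
  [nat_lit 5, nat_lit 10, nat_lit 12, nat_lit 13, nat_lit 11],
  [nat_lit 5, nat_lit 7, nat_lit 12, nat_lit 14, nat_lit 12, nat_lit 13],
  [nat_lit 5, nat_lit 10, nat_lit 12, nat_lit 13, nat_lit 12, nat_lit 14],
  [nat_lit 5, nat_lit 10, nat_lit 13, nat_lit 11],
  [nat_lit 5, nat_lit 7, nat_lit 14, nat_lit 11],
  [nat_lit 0, nat_lit 5, nat_lit 7, nat_lit 10, nat_lit 11, nat_lit 14, nat_lit 11],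
  [nat_lit 0, nat_lit 5, nat_lit 13, nat_lit 12, nat_lit 14],
  [nat_lit 0, nat_lit 5, nat_lit 11, nat_lit 13, nat_lit 11],
  [nat_lit 0, nat_lit 5, nat_lit 7, nat_lit 10, nat_lit 14, nat_lit 12, nat_lit 13],
  [nat_lit 5, nat_lit 14, nat_lit 11],
  [nat_lit 5, nat_lit 7, nat_lit 10, nat_lit 13, nat_lit 11],
  [nat_lit 5, nat_lit 7, nat_lit 10, nat_lit 12, nat_lit 13, nat_lit 12, nat_lit 14],
  [nat_lit 5, nat_lit 12, nat_lit 14, nat_lit 12, nat_lit 13],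
  [nat_lit 0, nat_lit 5, nat_lit 10, nat_lit 14, nat_lit 12, nat_lit 13],
  [nat_lit 0, nat_lit 5, nat_lit 7, nat_lit 11, nat_lit 13, nat_lit 11],
  [nat_lit 0, nat_lit 5, nat_lit 7, nat_lit 13, nat_lit 12, nat_lit 14],
  [nat_lit 0, nat_lit 5, nat_lit 10, nat_lit 11, nat_lit 14, nat_lit 11],
  [nat_lit 0, nat_lit 5, nat_lit 7, nat_lit 12, nat_lit 13, nat_lit 11],
  [nat_lit 0, nat_lit 5, nat_lit 11, nat_lit 13, nat_lit 12, nat_lit 14],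
  [nat_lit 0, nat_lit 5, nat_lit 13, nat_lit 11, nat_lit 14, nat_lit 12],
  [nat_lit 0, nat_lit 5, nat_lit 7, nat_lit 10, nat_lit 12, nat_lit 14, nat_lit 11],
  [nat_lit 5, nat_lit 7, nat_lit 11, nat_lit 14, nat_lit 11],
  [nat_lit 5, nat_lit 10, nat_lit 13, nat_lit 12, nat_lit 14],
  [nat_lit 5, nat_lit 14, nat_lit 12, nat_lit 13],
  [nat_lit 5, nat_lit 7, nat_lit 10, nat_lit 11, nat_lit 13, nat_lit 11],
  [nat_lit 0, nat_lit 5, nat_lit 10, nat_lit 12, nat_lit 14, nat_lit 11],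
  [nat_lit 0, nat_lit 5, nat_lit 7, nat_lit 13, nat_lit 11, nat_lit 14, nat_lit 12],
  [nat_lit 0, nat_lit 5, nat_lit 7, nat_lit 11, nat_lit 13, nat_lit 12, nat_lit 14],
  [nat_lit 0, nat_lit 5, nat_lit 12, nat_lit 13, nat_lit 11],
  [nat_lit 5, nat_lit 10, nat_lit 11, nat_lit 13, nat_lit 11],
  [nat_lit 5, nat_lit 7, nat_lit 14, nat_lit 12, nat_lit 13],
  [nat_lit 5, nat_lit 7, nat_lit 10, nat_lit 13, nat_lit 12, nat_lit 14],
  [nat_lit 5, nat_lit 11, nat_lit 14, nat_lit 11],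
  [nat_lit 5, nat_lit 7, nat_lit 11, nat_lit 14, nat_lit 11, nat_lit 13],
  [nat_lit 5, nat_lit 10, nat_lit 11, nat_lit 13, nat_lit 11, nat_lit 14],
  [nat_lit 5, nat_lit 14, nat_lit 12],
  [nat_lit 5, nat_lit 7, nat_lit 10, nat_lit 13, nat_lit 12],
  [nat_lit 0, nat_lit 5, nat_lit 7, nat_lit 11, nat_lit 13, nat_lit 12],
  [nat_lit 0, nat_lit 5, nat_lit 12, nat_lit 13, nat_lit 11, nat_lit 14],
  [nat_lit 0, nat_lit 5, nat_lit 10, nat_lit 11, nat_lit 14, nat_lit 12],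
  [nat_lit 0, nat_lit 5, nat_lit 7, nat_lit 13, nat_lit 12, nat_lit 14, nat_lit 11],
  [nat_lit 5, nat_lit 10, nat_lit 13, nat_lit 12],
  [nat_lit 5, nat_lit 7, nat_lit 14, nat_lit 12],
  [nat_lit 5, nat_lit 7, nat_lit 10, nat_lit 11, nat_lit 13, nat_lit 11, nat_lit 14],
  [nat_lit 5, nat_lit 11, nat_lit 14, nat_lit 11, nat_lit 13],
  [nat_lit 0, nat_lit 5, nat_lit 13, nat_lit 12, nat_lit 14, nat_lit 11],
  [nat_lit 0, nat_lit 5, nat_lit 7, nat_lit 10, nat_lit 11, nat_lit 14, nat_lit 12],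
  [nat_lit 0, nat_lit 5, nat_lit 7, nat_lit 12, nat_lit 13, nat_lit 11, nat_lit 14],
  [nat_lit 0, nat_lit 5, nat_lit 11, nat_lit 13, nat_lit 12],
  [nat_lit 0, nat_lit 5, nat_lit 7, nat_lit 10, nat_lit 11, nat_lit 14, nat_lit 11, nat_lit 13],
  [nat_lit 0, nat_lit 5, nat_lit 11, nat_lit 13, nat_lit 11, nat_lit 14],
  [nat_lit 0, nat_lit 5, nat_lit 13, nat_lit 12],
  [nat_lit 0, nat_lit 5, nat_lit 7, nat_lit 10, nat_lit 14, nat_lit 12],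
  [nat_lit 5, nat_lit 7, nat_lit 12, nat_lit 14, nat_lit 12],
  [nat_lit 5, nat_lit 10, nat_lit 13, nat_lit 11, nat_lit 14],
  [nat_lit 5, nat_lit 10, nat_lit 12, nat_lit 13, nat_lit 12],
  [nat_lit 5, nat_lit 7, nat_lit 14, nat_lit 11, nat_lit 13],
  [nat_lit 0, nat_lit 5, nat_lit 10, nat_lit 14, nat_lit 12],
  [nat_lit 0, nat_lit 5, nat_lit 7, nat_lit 13, nat_lit 12],
  [nat_lit 0, nat_lit 5, nat_lit 7, nat_lit 11, nat_lit 13, nat_lit 11, nat_lit 14],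
  [nat_lit 0, nat_lit 5, nat_lit 10, nat_lit 11, nat_lit 14, nat_lit 11, nat_lit 13],
  [nat_lit 5, nat_lit 14, nat_lit 11, nat_lit 13],
  [nat_lit 5, nat_lit 7, nat_lit 10, nat_lit 12, nat_lit 13, nat_lit 12],
  [nat_lit 5, nat_lit 7, nat_lit 10, nat_lit 13, nat_lit 11, nat_lit 14],
  [nat_lit 5, nat_lit 12, nat_lit 14, nat_lit 12],
  [nat_lit 5, nat_lit 7, nat_lit 10, nat_lit 11, nat_lit 13, nat_lit 12],
  [nat_lit 5, nat_lit 14, nat_lit 12, nat_lit 13, nat_lit 11],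
  [nat_lit 5, nat_lit 12, nat_lit 14, nat_lit 11, nat_lit 13],
  [nat_lit 5, nat_lit 7, nat_lit 11, nat_lit 14, nat_lit 12],
  [nat_lit 0, nat_lit 5, nat_lit 7, nat_lit 10, nat_lit 12, nat_lit 14, nat_lit 12],
  [nat_lit 0, nat_lit 5, nat_lit 13, nat_lit 11, nat_lit 14],
  [nat_lit 0, nat_lit 5, nat_lit 10, nat_lit 14, nat_lit 11, nat_lit 13],
  [nat_lit 0, nat_lit 5, nat_lit 7, nat_lit 12, nat_lit 13, nat_lit 12],
  [nat_lit 5, nat_lit 11, nat_lit 14, nat_lit 12],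
  [nat_lit 5, nat_lit 7, nat_lit 12, nat_lit 14, nat_lit 11, nat_lit 13],
  [nat_lit 5, nat_lit 7, nat_lit 14, nat_lit 12, nat_lit 13, nat_lit 11],
  [nat_lit 5, nat_lit 10, nat_lit 11, nat_lit 13, nat_lit 12],
  [nat_lit 0, nat_lit 5, nat_lit 12, nat_lit 13, nat_lit 12],
  [nat_lit 0, nat_lit 5, nat_lit 7, nat_lit 10, nat_lit 14, nat_lit 11, nat_lit 13],
  [nat_lit 0, nat_lit 5, nat_lit 7, nat_lit 13, nat_lit 11, nat_lit 14],
  [nat_lit 0, nat_lit 5, nat_lit 10, nat_lit 12, nat_lit 14, nat_lit 12],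
  [nat_lit 5, nat_lit 12, nat_lit 13, nat_lit 14, nat_lit 12],
  [nat_lit 5, nat_lit 7, nat_lit 11, nat_lit 13, nat_lit 14],
  [nat_lit 0, nat_lit 5, nat_lit 10, nat_lit 11, nat_lit 13, nat_lit 14, nat_lit 11],
  [nat_lit 0, nat_lit 5, nat_lit 7, nat_lit 10, nat_lit 12, nat_lit 13, nat_lit 14],
  [nat_lit 0, nat_lit 5, nat_lit 7, nat_lit 12],
  [nat_lit 0, nat_lit 5, nat_lit 10, nat_lit 13, nat_lit 14, nat_lit 12],
  [nat_lit 5, nat_lit 7, nat_lit 10, nat_lit 11],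
  [nat_lit 5, nat_lit 13, nat_lit 14, nat_lit 11],
  [nat_lit 5, nat_lit 7, nat_lit 13, nat_lit 14, nat_lit 11],
  [nat_lit 5, nat_lit 10, nat_lit 11],
  [nat_lit 0, nat_lit 5, nat_lit 7, nat_lit 10, nat_lit 13, nat_lit 14, nat_lit 12],
  [nat_lit 0, nat_lit 5, nat_lit 12],
  [nat_lit 0, nat_lit 5, nat_lit 10, nat_lit 12, nat_lit 13, nat_lit 14],
  [nat_lit 0, nat_lit 5, nat_lit 7, nat_lit 10, nat_lit 11, nat_lit 13, nat_lit 14, nat_lit 11],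
  [nat_lit 5, nat_lit 11, nat_lit 13, nat_lit 14],
  [nat_lit 5, nat_lit 7, nat_lit 12, nat_lit 13, nat_lit 14, nat_lit 12],
  [nat_lit 0, nat_lit 5, nat_lit 10, nat_lit 12, nat_lit 13, nat_lit 14, nat_lit 12],
  [nat_lit 0, nat_lit 5, nat_lit 7, nat_lit 10, nat_lit 11, nat_lit 13, nat_lit 14],
  [nat_lit 0, nat_lit 5, nat_lit 7, nat_lit 10, nat_lit 13, nat_lit 14, nat_lit 11],
  [nat_lit 0, nat_lit 5, nat_lit 11],
  [nat_lit 5, nat_lit 10],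
  [nat_lit 5, nat_lit 7, nat_lit 13, nat_lit 14],
  [nat_lit 5, nat_lit 7, nat_lit 12, nat_lit 13, nat_lit 14, nat_lit 11],
  [nat_lit 5, nat_lit 11, nat_lit 13, nat_lit 14, nat_lit 12],
  [nat_lit 5, nat_lit 11, nat_lit 13, nat_lit 14, nat_lit 11],
  [nat_lit 5, nat_lit 7, nat_lit 12, nat_lit 13, nat_lit 14],
  [nat_lit 5, nat_lit 7, nat_lit 13, nat_lit 14, nat_lit 12],
  [nat_lit 5, nat_lit 10, nat_lit 12],
  [nat_lit 0, nat_lit 5],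
  [nat_lit 0, nat_lit 5, nat_lit 7, nat_lit 10, nat_lit 13, nat_lit 14],
  [nat_lit 0, nat_lit 5, nat_lit 7, nat_lit 10, nat_lit 11, nat_lit 13, nat_lit 14, nat_lit 12],
  [nat_lit 0, nat_lit 5, nat_lit 10, nat_lit 12, nat_lit 13, nat_lit 14, nat_lit 11],
  [nat_lit 5, nat_lit 7, nat_lit 10, nat_lit 12],
  [nat_lit 5, nat_lit 13, nat_lit 14, nat_lit 12],
  [nat_lit 5, nat_lit 12, nat_lit 13, nat_lit 14],
  [nat_lit 5, nat_lit 7, nat_lit 11, nat_lit 13, nat_lit 14, nat_lit 11],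
  [nat_lit 0, nat_lit 5, nat_lit 7, nat_lit 10, nat_lit 12, nat_lit 13, nat_lit 14, nat_lit 11],
  [nat_lit 0, nat_lit 5, nat_lit 10, nat_lit 11, nat_lit 13, nat_lit 14, nat_lit 12],
  [nat_lit 0, nat_lit 5, nat_lit 10, nat_lit 13, nat_lit 14],
  [nat_lit 0, nat_lit 5, nat_lit 7],
  [nat_lit 0, nat_lit 5, nat_lit 7, nat_lit 11],
  [nat_lit 0, nat_lit 5, nat_lit 10, nat_lit 13, nat_lit 14, nat_lit 11],
  [nat_lit 0, nat_lit 5, nat_lit 10, nat_lit 11, nat_lit 13, nat_lit 14],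
  [nat_lit 0, nat_lit 5, nat_lit 7, nat_lit 10, nat_lit 12, nat_lit 13, nat_lit 14, nat_lit 12],
  [nat_lit 5, nat_lit 7, nat_lit 11, nat_lit 13, nat_lit 14, nat_lit 12],
  [nat_lit 5, nat_lit 12, nat_lit 13, nat_lit 14, nat_lit 11],
  [nat_lit 5, nat_lit 13, nat_lit 14],
  [nat_lit 5, nat_lit 7, nat_lit 10],
  [nat_lit 5, nat_lit 7, nat_lit 10, nat_lit 12, nat_lit 13, nat_lit 14, nat_lit 12],
  [nat_lit 5, nat_lit 10, nat_lit 11, nat_lit 13, nat_lit 14],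
  [nat_lit 0, nat_lit 5, nat_lit 7, nat_lit 11, nat_lit 13, nat_lit 14, nat_lit 11],
  [nat_lit 0, nat_lit 5, nat_lit 12, nat_lit 13, nat_lit 14],
  [nat_lit 0, nat_lit 5, nat_lit 10, nat_lit 12],
  [nat_lit 0, nat_lit 5, nat_lit 7, nat_lit 13, nat_lit 14, nat_lit 12],
  [nat_lit 5, nat_lit 11],
  [nat_lit 5, nat_lit 7, nat_lit 10, nat_lit 13, nat_lit 14, nat_lit 11],
  [nat_lit 5, nat_lit 10, nat_lit 13, nat_lit 14, nat_lit 11],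
  [nat_lit 5, nat_lit 7, nat_lit 11],
  [nat_lit 0, nat_lit 5, nat_lit 13, nat_lit 14, nat_lit 12],
  [nat_lit 0, nat_lit 5, nat_lit 7, nat_lit 10, nat_lit 12],
  [nat_lit 0, nat_lit 5, nat_lit 7, nat_lit 12, nat_lit 13, nat_lit 14],
  [nat_lit 0, nat_lit 5, nat_lit 11, nat_lit 13, nat_lit 14, nat_lit 11],
  [nat_lit 5, nat_lit 7, nat_lit 10, nat_lit 11, nat_lit 13, nat_lit 14],
  [nat_lit 5, nat_lit 10, nat_lit 12, nat_lit 13, nat_lit 14, nat_lit 12],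
  [nat_lit 0, nat_lit 5, nat_lit 7, nat_lit 12, nat_lit 13, nat_lit 14, nat_lit 12],
  [nat_lit 0, nat_lit 5, nat_lit 11, nat_lit 13, nat_lit 14],
  [nat_lit 0, nat_lit 5, nat_lit 13, nat_lit 14, nat_lit 11],
  [nat_lit 0, nat_lit 5, nat_lit 7, nat_lit 10, nat_lit 11],
  [nat_lit 5, nat_lit 7],
  [nat_lit 5, nat_lit 10, nat_lit 13, nat_lit 14],
  [nat_lit 5, nat_lit 10, nat_lit 12, nat_lit 13, nat_lit 14, nat_lit 11],
  [nat_lit 5, nat_lit 7, nat_lit 10, nat_lit 11, nat_lit 13, nat_lit 14, nat_lit 12],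
  [nat_lit 5, nat_lit 7, nat_lit 10, nat_lit 11, nat_lit 13, nat_lit 14, nat_lit 11],
  [nat_lit 5, nat_lit 10, nat_lit 12, nat_lit 13, nat_lit 14],
  [nat_lit 5, nat_lit 10, nat_lit 13, nat_lit 14, nat_lit 12],
  [nat_lit 5, nat_lit 7, nat_lit 12],
  [nat_lit 0, nat_lit 5, nat_lit 7, nat_lit 10],
  [nat_lit 0, nat_lit 5, nat_lit 13, nat_lit 14],
  [nat_lit 0, nat_lit 5, nat_lit 11, nat_lit 13, nat_lit 14, nat_lit 12],
  [nat_lit 0, nat_lit 5, nat_lit 7, nat_lit 12, nat_lit 13, nat_lit 14, nat_lit 11],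
  [nat_lit 5, nat_lit 12],
  [nat_lit 5, nat_lit 7, nat_lit 10, nat_lit 13, nat_lit 14, nat_lit 12],
  [nat_lit 5, nat_lit 7, nat_lit 10, nat_lit 12, nat_lit 13, nat_lit 14],
  [nat_lit 5, nat_lit 10, nat_lit 11, nat_lit 13, nat_lit 14, nat_lit 11],
  [nat_lit 0, nat_lit 5, nat_lit 12, nat_lit 13, nat_lit 14, nat_lit 11],
  [nat_lit 0, nat_lit 5, nat_lit 7, nat_lit 11, nat_lit 13, nat_lit 14, nat_lit 12],
  [nat_lit 0, nat_lit 5, nat_lit 7, nat_lit 13, nat_lit 14],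
  [nat_lit 0, nat_lit 5, nat_lit 10],
  [nat_lit 0, nat_lit 5, nat_lit 10, nat_lit 11],
  [nat_lit 0, nat_lit 5, nat_lit 7, nat_lit 13, nat_lit 14, nat_lit 11],
  [nat_lit 0, nat_lit 5, nat_lit 7, nat_lit 11, nat_lit 13, nat_lit 14],
  [nat_lit 0, nat_lit 5, nat_lit 12, nat_lit 13, nat_lit 14, nat_lit 12],
  [nat_lit 5, nat_lit 10, nat_lit 11, nat_lit 13, nat_lit 14, nat_lit 12],
  [nat_lit 5, nat_lit 7, nat_lit 10, nat_lit 12, nat_lit 13, nat_lit 14, nat_lit 11],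
  [nat_lit 5, nat_lit 7, nat_lit 10, nat_lit 13, nat_lit 14],
  [nat_lit 5],
  [nat_lit 0, nat_lit 13],
  [nat_lit 0, nat_lit 6, nat_lit 7, nat_lit 10, nat_lit 14],
  [nat_lit 0, nat_lit 6, nat_lit 7, nat_lit 12, nat_lit 13, nat_lit 12, nat_lit 14, nat_lit 12],
  [nat_lit 0, nat_lit 11, nat_lit 13, nat_lit 11, nat_lit 14, nat_lit 11],
  [nat_lit 10, nat_lit 13, nat_lit 11, nat_lit 14, nat_lit 11],
  [nat_lit 6, nat_lit 7, nat_lit 12, nat_lit 14],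
  [nat_lit 6, nat_lit 7, nat_lit 13, nat_lit 14, nat_lit 12, nat_lit 13],
  [nat_lit 10, nat_lit 12, nat_lit 13],
  [nat_lit 10, nat_lit 13],
  [nat_lit 6, nat_lit 7, nat_lit 14],
  [nat_lit 6, nat_lit 7, nat_lit 12, nat_lit 13, nat_lit 14, nat_lit 11, nat_lit 13],
  [nat_lit 11, nat_lit 13, nat_lit 14, nat_lit 12, nat_lit 13],
  [nat_lit 0, nat_lit 13, nat_lit 12, nat_lit 14, nat_lit 12],
  [nat_lit 0, nat_lit 6, nat_lit 7, nat_lit 10, nat_lit 11, nat_lit 14],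
  [nat_lit 0, nat_lit 6, nat_lit 7, nat_lit 10, nat_lit 13, nat_lit 14, nat_lit 11, nat_lit 13],
  [nat_lit 0, nat_lit 11, nat_lit 13],
  [nat_lit 6, nat_lit 7, nat_lit 11, nat_lit 13, nat_lit 14, nat_lit 12, nat_lit 13],
  [nat_lit 12, nat_lit 13, nat_lit 14, nat_lit 11, nat_lit 13],
  [nat_lit 14],
  [nat_lit 6, nat_lit 7, nat_lit 10, nat_lit 13],
  [nat_lit 0, nat_lit 6, nat_lit 7, nat_lit 11, nat_lit 13],
  [nat_lit 0, nat_lit 10, nat_lit 13, nat_lit 14, nat_lit 11, nat_lit 13],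
  [nat_lit 0, nat_lit 10, nat_lit 11, nat_lit 14],
  [nat_lit 0, nat_lit 6, nat_lit 7, nat_lit 13, nat_lit 12, nat_lit 14, nat_lit 12],
  [nat_lit 0, nat_lit 6, nat_lit 7, nat_lit 11, nat_lit 13, nat_lit 11, nat_lit 14, nat_lit 11],
  [nat_lit 0, nat_lit 12, nat_lit 13, nat_lit 12, nat_lit 14, nat_lit 12],
  [nat_lit 0, nat_lit 10, nat_lit 14],
  [nat_lit 0, nat_lit 6, nat_lit 7, nat_lit 13],
  [nat_lit 6, nat_lit 7, nat_lit 10, nat_lit 12, nat_lit 13],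
  [nat_lit 13, nat_lit 14, nat_lit 12, nat_lit 13],
  [nat_lit 12, nat_lit 14],
  [nat_lit 6, nat_lit 7, nat_lit 10, nat_lit 13, nat_lit 11, nat_lit 14, nat_lit 11],
  [nat_lit 0, nat_lit 13, nat_lit 11, nat_lit 14, nat_lit 11],
  [nat_lit 0, nat_lit 6, nat_lit 7, nat_lit 10, nat_lit 12, nat_lit 14],
  [nat_lit 10, nat_lit 13, nat_lit 12, nat_lit 14, nat_lit 12],
  [nat_lit 6, nat_lit 7, nat_lit 11, nat_lit 14],
  [nat_lit 6, nat_lit 7, nat_lit 10, nat_lit 11, nat_lit 13],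
  [nat_lit 13, nat_lit 14, nat_lit 11, nat_lit 13],
  [nat_lit 0, nat_lit 6, nat_lit 7, nat_lit 12, nat_lit 13],
  [nat_lit 0, nat_lit 10, nat_lit 13, nat_lit 14, nat_lit 12, nat_lit 13],
  [nat_lit 0, nat_lit 6, nat_lit 7, nat_lit 10, nat_lit 13, nat_lit 14, nat_lit 12, nat_lit 13],
  [nat_lit 0, nat_lit 12, nat_lit 13],
  [nat_lit 6, nat_lit 7, nat_lit 13, nat_lit 14, nat_lit 11, nat_lit 13],
  [nat_lit 10, nat_lit 11, nat_lit 13],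
  [nat_lit 11, nat_lit 14],
  [nat_lit 6, nat_lit 7, nat_lit 10, nat_lit 13, nat_lit 12, nat_lit 14, nat_lit 12],
  [nat_lit 0, nat_lit 10, nat_lit 12, nat_lit 14],
  [nat_lit 0, nat_lit 6, nat_lit 7, nat_lit 13, nat_lit 11, nat_lit 14, nat_lit 11],
  [nat_lit 0, nat_lit 6, nat_lit 7, nat_lit 10, nat_lit 13],
  [nat_lit 0, nat_lit 14],
  [nat_lit 0, nat_lit 11, nat_lit 13, nat_lit 14, nat_lit 12, nat_lit 13],
  [nat_lit 0, nat_lit 6, nat_lit 7, nat_lit 12, nat_lit 13, nat_lit 14, nat_lit 11, nat_lit 13],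
  [nat_lit 6, nat_lit 7, nat_lit 13, nat_lit 11, nat_lit 14, nat_lit 11],
  [nat_lit 10, nat_lit 12, nat_lit 14],
  [nat_lit 10, nat_lit 13, nat_lit 14, nat_lit 12, nat_lit 13],
  [nat_lit 6, nat_lit 7, nat_lit 12, nat_lit 13],
  [nat_lit 6, nat_lit 7, nat_lit 13],
  [nat_lit 10, nat_lit 14],
  [nat_lit 11, nat_lit 13, nat_lit 11, nat_lit 14, nat_lit 11],
  [nat_lit 6, nat_lit 7, nat_lit 12, nat_lit 13, nat_lit 12, nat_lit 14, nat_lit 12],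
  [nat_lit 0, nat_lit 6, nat_lit 7, nat_lit 10, nat_lit 13, nat_lit 12, nat_lit 14, nat_lit 12],
  [nat_lit 0, nat_lit 11, nat_lit 14],
  [nat_lit 0, nat_lit 13, nat_lit 14, nat_lit 11, nat_lit 13],
  [nat_lit 0, nat_lit 6, nat_lit 7, nat_lit 10, nat_lit 11, nat_lit 13],
  [nat_lit 12, nat_lit 13, nat_lit 12, nat_lit 14, nat_lit 12],
  [nat_lit 6, nat_lit 7, nat_lit 11, nat_lit 13, nat_lit 11, nat_lit 14, nat_lit 11],
  [nat_lit 6, nat_lit 7, nat_lit 10, nat_lit 14],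
  [nat_lit 13],
  [nat_lit 0, nat_lit 10, nat_lit 11, nat_lit 13],
  [nat_lit 0, nat_lit 6, nat_lit 7, nat_lit 13, nat_lit 14, nat_lit 11, nat_lit 13],
  [nat_lit 0, nat_lit 6, nat_lit 7, nat_lit 11, nat_lit 14],
  [nat_lit 0, nat_lit 10, nat_lit 13, nat_lit 12, nat_lit 14, nat_lit 12],
  [nat_lit 0, nat_lit 12, nat_lit 13, nat_lit 14, nat_lit 11, nat_lit 13],
  [nat_lit 0, nat_lit 6, nat_lit 7, nat_lit 11, nat_lit 13, nat_lit 14, nat_lit 12, nat_lit 13],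
  [nat_lit 0, nat_lit 6, nat_lit 7, nat_lit 14],
  [nat_lit 0, nat_lit 10, nat_lit 13],
  [nat_lit 12, nat_lit 13],
  [nat_lit 6, nat_lit 7, nat_lit 10, nat_lit 13, nat_lit 14, nat_lit 12, nat_lit 13],
  [nat_lit 6, nat_lit 7, nat_lit 10, nat_lit 12, nat_lit 14],
  [nat_lit 13, nat_lit 11, nat_lit 14, nat_lit 11],
  [nat_lit 0, nat_lit 6, nat_lit 7, nat_lit 10, nat_lit 13, nat_lit 11, nat_lit 14, nat_lit 11],
  [nat_lit 0, nat_lit 12, nat_lit 14],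
  [nat_lit 6, nat_lit 7, nat_lit 13, nat_lit 12, nat_lit 14, nat_lit 12],
  [nat_lit 10, nat_lit 11, nat_lit 14],
  [nat_lit 11, nat_lit 13],
  [nat_lit 6, nat_lit 7, nat_lit 10, nat_lit 13, nat_lit 14, nat_lit 11, nat_lit 13],
  [nat_lit 0, nat_lit 10, nat_lit 12, nat_lit 13],
  [nat_lit 0, nat_lit 6, nat_lit 7, nat_lit 13, nat_lit 14, nat_lit 12, nat_lit 13],
  [nat_lit 0, nat_lit 13, nat_lit 14, nat_lit 12, nat_lit 13],
  [nat_lit 0, nat_lit 6, nat_lit 7, nat_lit 10, nat_lit 12, nat_lit 13],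
  [nat_lit 10, nat_lit 13, nat_lit 14, nat_lit 11, nat_lit 13],
  [nat_lit 6, nat_lit 7, nat_lit 11, nat_lit 13],
  [nat_lit 6, nat_lit 7, nat_lit 10, nat_lit 11, nat_lit 14],
  [nat_lit 13, nat_lit 12, nat_lit 14, nat_lit 12],
  [nat_lit 0, nat_lit 6, nat_lit 7, nat_lit 12, nat_lit 14],
  [nat_lit 0, nat_lit 10, nat_lit 13, nat_lit 11, nat_lit 14, nat_lit 11],
  [nat_lit 10, nat_lit 11, nat_lit 14, nat_lit 11, nat_lit 13],
  [nat_lit 6, nat_lit 7, nat_lit 11, nat_lit 13, nat_lit 11, nat_lit 14],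
  [nat_lit 6, nat_lit 7, nat_lit 10, nat_lit 14, nat_lit 12],
  [nat_lit 13, nat_lit 12],
  [nat_lit 0, nat_lit 10, nat_lit 11, nat_lit 13, nat_lit 12],
  [nat_lit 0, nat_lit 6, nat_lit 7, nat_lit 14, nat_lit 12, nat_lit 13, nat_lit 11],
  [nat_lit 0, nat_lit 6, nat_lit 7, nat_lit 11, nat_lit 14, nat_lit 12],
  [nat_lit 0, nat_lit 12, nat_lit 14, nat_lit 11, nat_lit 13],
  [nat_lit 6, nat_lit 7, nat_lit 13, nat_lit 12],
  [nat_lit 10, nat_lit 14, nat_lit 12],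
  [nat_lit 11, nat_lit 13, nat_lit 11, nat_lit 14],
  [nat_lit 6, nat_lit 7, nat_lit 10, nat_lit 11, nat_lit 14, nat_lit 11, nat_lit 13],
  [nat_lit 0, nat_lit 6, nat_lit 7, nat_lit 12, nat_lit 14, nat_lit 11, nat_lit 13],
  [nat_lit 0, nat_lit 11, nat_lit 14, nat_lit 12],
  [nat_lit 0, nat_lit 14, nat_lit 12, nat_lit 13, nat_lit 11],
  [nat_lit 0, nat_lit 6, nat_lit 7, nat_lit 10, nat_lit 11, nat_lit 13, nat_lit 12],
  [nat_lit 0, nat_lit 11, nat_lit 14, nat_lit 11, nat_lit 13],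
  [nat_lit 0, nat_lit 6, nat_lit 7, nat_lit 10, nat_lit 11, nat_lit 13, nat_lit 11, nat_lit 14],
  [nat_lit 0, nat_lit 6, nat_lit 7, nat_lit 10, nat_lit 13, nat_lit 12],
  [nat_lit 0, nat_lit 14, nat_lit 12],
  [nat_lit 10, nat_lit 12, nat_lit 14, nat_lit 12],
  [nat_lit 6, nat_lit 7, nat_lit 13, nat_lit 11, nat_lit 14],
  [nat_lit 6, nat_lit 7, nat_lit 12, nat_lit 13, nat_lit 12],
  [nat_lit 10, nat_lit 14, nat_lit 11, nat_lit 13],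
  [nat_lit 0, nat_lit 6, nat_lit 7, nat_lit 14, nat_lit 12],
  [nat_lit 0, nat_lit 10, nat_lit 13, nat_lit 12],
  [nat_lit 0, nat_lit 10, nat_lit 11, nat_lit 13, nat_lit 11, nat_lit 14],
  [nat_lit 0, nat_lit 6, nat_lit 7, nat_lit 11, nat_lit 14, nat_lit 11, nat_lit 13],
  [nat_lit 6, nat_lit 7, nat_lit 10, nat_lit 14, nat_lit 11, nat_lit 13],
  [nat_lit 12, nat_lit 13, nat_lit 12],
  [nat_lit 13, nat_lit 11, nat_lit 14],
  [nat_lit 6, nat_lit 7, nat_lit 10, nat_lit 12, nat_lit 14, nat_lit 12],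
  [nat_lit 11, nat_lit 13, nat_lit 12],
  [nat_lit 6, nat_lit 7, nat_lit 12, nat_lit 13, nat_lit 11, nat_lit 14],
  [nat_lit 6, nat_lit 7, nat_lit 13, nat_lit 12, nat_lit 14, nat_lit 11],
  [nat_lit 10, nat_lit 11, nat_lit 14, nat_lit 12],
  [nat_lit 0, nat_lit 12, nat_lit 14, nat_lit 12],
  [nat_lit 0, nat_lit 6, nat_lit 7, nat_lit 10, nat_lit 13, nat_lit 11, nat_lit 14],
  [nat_lit 0, nat_lit 6, nat_lit 7, nat_lit 14, nat_lit 11, nat_lit 13],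
  [nat_lit 0, nat_lit 10, nat_lit 12, nat_lit 13, nat_lit 12],
  [nat_lit 6, nat_lit 7, nat_lit 10, nat_lit 11, nat_lit 14, nat_lit 12],
  [nat_lit 13, nat_lit 12, nat_lit 14, nat_lit 11],
  [nat_lit 12, nat_lit 13, nat_lit 11, nat_lit 14],
  [nat_lit 6, nat_lit 7, nat_lit 11, nat_lit 13, nat_lit 12],
  [nat_lit 0, nat_lit 6, nat_lit 7, nat_lit 10, nat_lit 12, nat_lit 13, nat_lit 12],
  [nat_lit 0, nat_lit 14, nat_lit 11, nat_lit 13],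
  [nat_lit 0, nat_lit 10, nat_lit 13, nat_lit 11, nat_lit 14],
  [nat_lit 0, nat_lit 6, nat_lit 7, nat_lit 12, nat_lit 14, nat_lit 12],
  [nat_lit 0, nat_lit 12, nat_lit 14, nat_lit 12, nat_lit 13],
  [nat_lit 0, nat_lit 6, nat_lit 7, nat_lit 10, nat_lit 12, nat_lit 13, nat_lit 12, nat_lit 14],
  [nat_lit 0, nat_lit 6, nat_lit 7, nat_lit 14, nat_lit 11],
  [nat_lit 0, nat_lit 10, nat_lit 13, nat_lit 11],
  [nat_lit 12, nat_lit 13, nat_lit 11],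
  [nat_lit 6, nat_lit 7, nat_lit 11, nat_lit 13, nat_lit 12, nat_lit 14],
  [nat_lit 6, nat_lit 7, nat_lit 10, nat_lit 12, nat_lit 14, nat_lit 11],
  [nat_lit 13, nat_lit 11, nat_lit 14, nat_lit 12],
  [nat_lit 0, nat_lit 6, nat_lit 7, nat_lit 10, nat_lit 13, nat_lit 11],
  [nat_lit 0, nat_lit 14, nat_lit 11],
  [nat_lit 0, nat_lit 10, nat_lit 12, nat_lit 13, nat_lit 12, nat_lit 14],
  [nat_lit 0, nat_lit 6, nat_lit 7, nat_lit 12, nat_lit 14, nat_lit 12, nat_lit 13],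
  [nat_lit 6, nat_lit 7, nat_lit 13, nat_lit 11, nat_lit 14, nat_lit 12],
  [nat_lit 10, nat_lit 12, nat_lit 14, nat_lit 11],
  [nat_lit 11, nat_lit 13, nat_lit 12, nat_lit 14],
  [nat_lit 6, nat_lit 7, nat_lit 12, nat_lit 13, nat_lit 11],
  [nat_lit 10, nat_lit 12, nat_lit 14, nat_lit 12, nat_lit 13],
  [nat_lit 6, nat_lit 7, nat_lit 12, nat_lit 13, nat_lit 12, nat_lit 14],
  [nat_lit 6, nat_lit 7, nat_lit 13, nat_lit 11],
  [nat_lit 10, nat_lit 14, nat_lit 11],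
  [nat_lit 0, nat_lit 11, nat_lit 14, nat_lit 11],
  [nat_lit 0, nat_lit 6, nat_lit 7, nat_lit 10, nat_lit 13, nat_lit 12, nat_lit 14],
  [nat_lit 0, nat_lit 6, nat_lit 7, nat_lit 10, nat_lit 11, nat_lit 13, nat_lit 11],
  [nat_lit 0, nat_lit 14, nat_lit 12, nat_lit 13],
  [nat_lit 6, nat_lit 7, nat_lit 10, nat_lit 14, nat_lit 11],
  [nat_lit 13, nat_lit 11],
  [nat_lit 12, nat_lit 13, nat_lit 12, nat_lit 14],
  [nat_lit 6, nat_lit 7, nat_lit 10, nat_lit 12, nat_lit 14, nat_lit 12, nat_lit 13],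
  [nat_lit 0, nat_lit 6, nat_lit 7, nat_lit 14, nat_lit 12, nat_lit 13],
  [nat_lit 0, nat_lit 10, nat_lit 11, nat_lit 13, nat_lit 11],
  [nat_lit 0, nat_lit 10, nat_lit 13, nat_lit 12, nat_lit 14],
  [nat_lit 0, nat_lit 6, nat_lit 7, nat_lit 11, nat_lit 14, nat_lit 11],
  [nat_lit 0, nat_lit 10, nat_lit 12, nat_lit 13, nat_lit 11],
  [nat_lit 0, nat_lit 6, nat_lit 7, nat_lit 14, nat_lit 11, nat_lit 13, nat_lit 12],
  [nat_lit 0, nat_lit 6, nat_lit 7, nat_lit 11, nat_lit 14, nat_lit 12, nat_lit 13],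
  [nat_lit 0, nat_lit 12, nat_lit 14, nat_lit 11],
  [nat_lit 10, nat_lit 11, nat_lit 14, nat_lit 11],
  [nat_lit 6, nat_lit 7, nat_lit 13, nat_lit 12, nat_lit 14],
  [nat_lit 6, nat_lit 7, nat_lit 10, nat_lit 14, nat_lit 12, nat_lit 13],
  [nat_lit 11, nat_lit 13, nat_lit 11],
  [nat_lit 0, nat_lit 6, nat_lit 7, nat_lit 12, nat_lit 14, nat_lit 11],
  [nat_lit 0, nat_lit 11, nat_lit 14, nat_lit 12, nat_lit 13],
  [nat_lit 0, nat_lit 14, nat_lit 11, nat_lit 13, nat_lit 12],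
  [nat_lit 0, nat_lit 6, nat_lit 7, nat_lit 10, nat_lit 12, nat_lit 13, nat_lit 11],
  [nat_lit 6, nat_lit 7, nat_lit 11, nat_lit 13, nat_lit 11],
  [nat_lit 10, nat_lit 14, nat_lit 12, nat_lit 13],
  [nat_lit 13, nat_lit 12, nat_lit 14],
  [nat_lit 6, nat_lit 7, nat_lit 10, nat_lit 11, nat_lit 14, nat_lit 11],
  [nat_lit 0, nat_lit 6, nat_lit 7, nat_lit 10, nat_lit 12, nat_lit 14, nat_lit 12, nat_lit 13],
  [nat_lit 0, nat_lit 12, nat_lit 13, nat_lit 12, nat_lit 14],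
  [nat_lit 0, nat_lit 10, nat_lit 14, nat_lit 11],
  [nat_lit 0, nat_lit 6, nat_lit 7, nat_lit 13, nat_lit 11],
  [nat_lit 6, nat_lit 7, nat_lit 10, nat_lit 12, nat_lit 13, nat_lit 11],
  [nat_lit 14, nat_lit 11, nat_lit 13, nat_lit 12],
  [nat_lit 12, nat_lit 14, nat_lit 11],
  [nat_lit 6, nat_lit 7, nat_lit 11, nat_lit 14, nat_lit 12, nat_lit 13],
  [nat_lit 0, nat_lit 13, nat_lit 11],
  [nat_lit 0, nat_lit 6, nat_lit 7, nat_lit 10, nat_lit 14, nat_lit 11],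
  [nat_lit 0, nat_lit 6, nat_lit 7, nat_lit 12, nat_lit 13, nat_lit 12, nat_lit 14],
  [nat_lit 0, nat_lit 10, nat_lit 12, nat_lit 14, nat_lit 12, nat_lit 13],
  [nat_lit 11, nat_lit 14, nat_lit 12, nat_lit 13],
  [nat_lit 6, nat_lit 7, nat_lit 12, nat_lit 14, nat_lit 11],
  [nat_lit 6, nat_lit 7, nat_lit 14, nat_lit 11, nat_lit 13, nat_lit 12],
  [nat_lit 10, nat_lit 12, nat_lit 13, nat_lit 11],
  [nat_lit 6, nat_lit 7, nat_lit 12, nat_lit 14, nat_lit 12, nat_lit 13],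
  [nat_lit 10, nat_lit 12, nat_lit 13, nat_lit 12, nat_lit 14],
  [nat_lit 10, nat_lit 13, nat_lit 11],
  [nat_lit 6, nat_lit 7, nat_lit 14, nat_lit 11],
  [nat_lit 0, nat_lit 6, nat_lit 7, nat_lit 10, nat_lit 11, nat_lit 14, nat_lit 11],
  [nat_lit 0, nat_lit 13, nat_lit 12, nat_lit 14],
  [nat_lit 0, nat_lit 11, nat_lit 13, nat_lit 11],
  [nat_lit 0, nat_lit 6, nat_lit 7, nat_lit 10, nat_lit 14, nat_lit 12, nat_lit 13],
  [nat_lit 14, nat_lit 11],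
  [nat_lit 6, nat_lit 7, nat_lit 10, nat_lit 13, nat_lit 11],
  [nat_lit 6, nat_lit 7, nat_lit 10, nat_lit 12, nat_lit 13, nat_lit 12, nat_lit 14],
  [nat_lit 12, nat_lit 14, nat_lit 12, nat_lit 13],
  [nat_lit 0, nat_lit 10, nat_lit 14, nat_lit 12, nat_lit 13],
  [nat_lit 0, nat_lit 6, nat_lit 7, nat_lit 11, nat_lit 13, nat_lit 11],
  [nat_lit 0, nat_lit 6, nat_lit 7, nat_lit 13, nat_lit 12, nat_lit 14],
  [nat_lit 0, nat_lit 10, nat_lit 11, nat_lit 14, nat_lit 11],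
  [nat_lit 0, nat_lit 6, nat_lit 7, nat_lit 12, nat_lit 13, nat_lit 11],
  [nat_lit 0, nat_lit 11, nat_lit 13, nat_lit 12, nat_lit 14],
  [nat_lit 0, nat_lit 13, nat_lit 11, nat_lit 14, nat_lit 12],
  [nat_lit 0, nat_lit 6, nat_lit 7, nat_lit 10, nat_lit 12, nat_lit 14, nat_lit 11],
  [nat_lit 6, nat_lit 7, nat_lit 11, nat_lit 14, nat_lit 11],
  [nat_lit 10, nat_lit 13, nat_lit 12, nat_lit 14],
  [nat_lit 14, nat_lit 12, nat_lit 13],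
  [nat_lit 6, nat_lit 7, nat_lit 10, nat_lit 11, nat_lit 13, nat_lit 11],
  [nat_lit 0, nat_lit 10, nat_lit 12, nat_lit 14, nat_lit 11],
  [nat_lit 0, nat_lit 6, nat_lit 7, nat_lit 13, nat_lit 11, nat_lit 14, nat_lit 12],
  [nat_lit 0, nat_lit 6, nat_lit 7, nat_lit 11, nat_lit 13, nat_lit 12, nat_lit 14],
  [nat_lit 0, nat_lit 12, nat_lit 13, nat_lit 11],
  [nat_lit 10, nat_lit 11, nat_lit 13, nat_lit 11],
  [nat_lit 6, nat_lit 7, nat_lit 14, nat_lit 12, nat_lit 13],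
  [nat_lit 6, nat_lit 7, nat_lit 10, nat_lit 13, nat_lit 12, nat_lit 14],
  [nat_lit 11, nat_lit 14, nat_lit 11],
  [nat_lit 6, nat_lit 7, nat_lit 11, nat_lit 14, nat_lit 11, nat_lit 13],
  [nat_lit 10, nat_lit 11, nat_lit 13, nat_lit 11, nat_lit 14],
  [nat_lit 14, nat_lit 12],
  [nat_lit 6, nat_lit 7, nat_lit 10, nat_lit 13, nat_lit 12],
  [nat_lit 0, nat_lit 6, nat_lit 7, nat_lit 11, nat_lit 13, nat_lit 12],
  [nat_lit 0, nat_lit 12, nat_lit 13, nat_lit 11, nat_lit 14],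
  [nat_lit 0, nat_lit 10, nat_lit 11, nat_lit 14, nat_lit 12],
  [nat_lit 0, nat_lit 6, nat_lit 7, nat_lit 13, nat_lit 12, nat_lit 14, nat_lit 11],
  [nat_lit 10, nat_lit 13, nat_lit 12],
  [nat_lit 6, nat_lit 7, nat_lit 14, nat_lit 12],
  [nat_lit 6, nat_lit 7, nat_lit 10, nat_lit 11, nat_lit 13, nat_lit 11, nat_lit 14],
  [nat_lit 11, nat_lit 14, nat_lit 11, nat_lit 13],
  [nat_lit 0, nat_lit 13, nat_lit 12, nat_lit 14, nat_lit 11],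
  [nat_lit 0, nat_lit 6, nat_lit 7, nat_lit 10, nat_lit 11, nat_lit 14, nat_lit 12],
  [nat_lit 0, nat_lit 6, nat_lit 7, nat_lit 12, nat_lit 13, nat_lit 11, nat_lit 14],
  [nat_lit 0, nat_lit 11, nat_lit 13, nat_lit 12],
  [nat_lit 0, nat_lit 6, nat_lit 7, nat_lit 10, nat_lit 11, nat_lit 14, nat_lit 11, nat_lit 13],
  [nat_lit 0, nat_lit 11, nat_lit 13, nat_lit 11, nat_lit 14],
  [nat_lit 0, nat_lit 13, nat_lit 12],
  [nat_lit 0, nat_lit 6, nat_lit 7, nat_lit 10, nat_lit 14, nat_lit 12],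
  [nat_lit 6, nat_lit 7, nat_lit 12, nat_lit 14, nat_lit 12],
  [nat_lit 10, nat_lit 13, nat_lit 11, nat_lit 14],
  [nat_lit 10, nat_lit 12, nat_lit 13, nat_lit 12],
  [nat_lit 6, nat_lit 7, nat_lit 14, nat_lit 11, nat_lit 13],
  [nat_lit 0, nat_lit 10, nat_lit 14, nat_lit 12],
  [nat_lit 0, nat_lit 6, nat_lit 7, nat_lit 13, nat_lit 12],
  [nat_lit 0, nat_lit 6, nat_lit 7, nat_lit 11, nat_lit 13, nat_lit 11, nat_lit 14],
  [nat_lit 0, nat_lit 10, nat_lit 11, nat_lit 14, nat_lit 11, nat_lit 13],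
  [nat_lit 14, nat_lit 11, nat_lit 13],
  [nat_lit 6, nat_lit 7, nat_lit 10, nat_lit 12, nat_lit 13, nat_lit 12],
  [nat_lit 6, nat_lit 7, nat_lit 10, nat_lit 13, nat_lit 11, nat_lit 14],
  [nat_lit 12, nat_lit 14, nat_lit 12],
  [nat_lit 6, nat_lit 7, nat_lit 10, nat_lit 11, nat_lit 13, nat_lit 12],
  [nat_lit 14, nat_lit 12, nat_lit 13, nat_lit 11],
  [nat_lit 12, nat_lit 14, nat_lit 11, nat_lit 13],
  [nat_lit 6, nat_lit 7, nat_lit 11, nat_lit 14, nat_lit 12],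
  [nat_lit 0, nat_lit 6, nat_lit 7, nat_lit 10, nat_lit 12, nat_lit 14, nat_lit 12],
  [nat_lit 0, nat_lit 13, nat_lit 11, nat_lit 14],
  [nat_lit 0, nat_lit 10, nat_lit 14, nat_lit 11, nat_lit 13],
  [nat_lit 0, nat_lit 6, nat_lit 7, nat_lit 12, nat_lit 13, nat_lit 12],
  [nat_lit 11, nat_lit 14, nat_lit 12],
  [nat_lit 6, nat_lit 7, nat_lit 12, nat_lit 14, nat_lit 11, nat_lit 13],
  [nat_lit 6, nat_lit 7, nat_lit 14, nat_lit 12, nat_lit 13, nat_lit 11],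
  [nat_lit 10, nat_lit 11, nat_lit 13, nat_lit 12],
  [nat_lit 0, nat_lit 12, nat_lit 13, nat_lit 12],
  [nat_lit 0, nat_lit 6, nat_lit 7, nat_lit 10, nat_lit 14, nat_lit 11, nat_lit 13],
  [nat_lit 0, nat_lit 6, nat_lit 7, nat_lit 13, nat_lit 11, nat_lit 14],
  [nat_lit 0, nat_lit 10, nat_lit 12, nat_lit 14, nat_lit 12],
  [nat_lit 12, nat_lit 13, nat_lit 14, nat_lit 12],
  [nat_lit 6, nat_lit 7, nat_lit 11, nat_lit 13, nat_lit 14],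
  [nat_lit 0, nat_lit 10, nat_lit 11, nat_lit 13, nat_lit 14, nat_lit 11],
  [nat_lit 0, nat_lit 6, nat_lit 7, nat_lit 10, nat_lit 12, nat_lit 13, nat_lit 14],
  [nat_lit 0, nat_lit 6, nat_lit 7, nat_lit 12],
  [nat_lit 0, nat_lit 10, nat_lit 13, nat_lit 14, nat_lit 12],
  [nat_lit 6, nat_lit 7, nat_lit 10, nat_lit 11],
  [nat_lit 13, nat_lit 14, nat_lit 11],
  [nat_lit 6, nat_lit 7, nat_lit 13, nat_lit 14, nat_lit 11],
  [nat_lit 10, nat_lit 11],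
  [nat_lit 0, nat_lit 6, nat_lit 7, nat_lit 10, nat_lit 13, nat_lit 14, nat_lit 12],
  [nat_lit 0, nat_lit 12],
  [nat_lit 0, nat_lit 10, nat_lit 12, nat_lit 13, nat_lit 14],
  [nat_lit 0, nat_lit 6, nat_lit 7, nat_lit 10, nat_lit 11, nat_lit 13, nat_lit 14, nat_lit 11],
  [nat_lit 11, nat_lit 13, nat_lit 14],
  [nat_lit 6, nat_lit 7, nat_lit 12, nat_lit 13, nat_lit 14, nat_lit 12],
  [nat_lit 0, nat_lit 10, nat_lit 12, nat_lit 13, nat_lit 14, nat_lit 12],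
  [nat_lit 0, nat_lit 6, nat_lit 7, nat_lit 10, nat_lit 11, nat_lit 13, nat_lit 14],
  [nat_lit 0, nat_lit 6, nat_lit 7, nat_lit 10, nat_lit 13, nat_lit 14, nat_lit 11],
  [nat_lit 0, nat_lit 11],
  [nat_lit 10],
  [nat_lit 6, nat_lit 7, nat_lit 13, nat_lit 14],
  [nat_lit 6, nat_lit 7, nat_lit 12, nat_lit 13, nat_lit 14, nat_lit 11],
  [nat_lit 11, nat_lit 13, nat_lit 14, nat_lit 12],
  [nat_lit 11, nat_lit 13, nat_lit 14, nat_lit 11],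
  [nat_lit 6, nat_lit 7, nat_lit 12, nat_lit 13, nat_lit 14],
  [nat_lit 6, nat_lit 7, nat_lit 13, nat_lit 14, nat_lit 12],
  [nat_lit 10, nat_lit 12],
  [nat_lit 0],
  [nat_lit 0, nat_lit 6, nat_lit 7, nat_lit 10, nat_lit 13, nat_lit 14],
  [nat_lit 0, nat_lit 6, nat_lit 7, nat_lit 10, nat_lit 11, nat_lit 13, nat_lit 14, nat_lit 12],
  [nat_lit 0, nat_lit 10, nat_lit 12, nat_lit 13, nat_lit 14, nat_lit 11],
  [nat_lit 6, nat_lit 7, nat_lit 10, nat_lit 12],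
  [nat_lit 13, nat_lit 14, nat_lit 12],
  [nat_lit 12, nat_lit 13, nat_lit 14],
  [nat_lit 6, nat_lit 7, nat_lit 11, nat_lit 13, nat_lit 14, nat_lit 11],
  [nat_lit 0, nat_lit 6, nat_lit 7, nat_lit 10, nat_lit 12, nat_lit 13, nat_lit 14, nat_lit 11],
  [nat_lit 0, nat_lit 10, nat_lit 11, nat_lit 13, nat_lit 14, nat_lit 12],
  [nat_lit 0, nat_lit 10, nat_lit 13, nat_lit 14],
  [nat_lit 0, nat_lit 6, nat_lit 7],
  [nat_lit 0, nat_lit 6, nat_lit 7, nat_lit 11],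
  [nat_lit 0, nat_lit 10, nat_lit 13, nat_lit 14, nat_lit 11],
  [nat_lit 0, nat_lit 10, nat_lit 11, nat_lit 13, nat_lit 14],
  [nat_lit 0, nat_lit 6, nat_lit 7, nat_lit 10, nat_lit 12, nat_lit 13, nat_lit 14, nat_lit 12],
  [nat_lit 6, nat_lit 7, nat_lit 11, nat_lit 13, nat_lit 14, nat_lit 12],
  [nat_lit 12, nat_lit 13, nat_lit 14, nat_lit 11],
  [nat_lit 13, nat_lit 14],
  [nat_lit 6, nat_lit 7, nat_lit 10],
  [nat_lit 6, nat_lit 7, nat_lit 10, nat_lit 12, nat_lit 13, nat_lit 14, nat_lit 12],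
  [nat_lit 10, nat_lit 11, nat_lit 13, nat_lit 14],
  [nat_lit 0, nat_lit 6, nat_lit 7, nat_lit 11, nat_lit 13, nat_lit 14, nat_lit 11],
  [nat_lit 0, nat_lit 12, nat_lit 13, nat_lit 14],
  [nat_lit 0, nat_lit 10, nat_lit 12],
  [nat_lit 0, nat_lit 6, nat_lit 7, nat_lit 13, nat_lit 14, nat_lit 12],
  [nat_lit 11],
  [nat_lit 6, nat_lit 7, nat_lit 10, nat_lit 13, nat_lit 14, nat_lit 11],
  [nat_lit 10, nat_lit 13, nat_lit 14, nat_lit 11],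
  [nat_lit 6, nat_lit 7, nat_lit 11],
  [nat_lit 0, nat_lit 13, nat_lit 14, nat_lit 12],
  [nat_lit 0, nat_lit 6, nat_lit 7, nat_lit 10, nat_lit 12],
  [nat_lit 0, nat_lit 6, nat_lit 7, nat_lit 12, nat_lit 13, nat_lit 14],
  [nat_lit 0, nat_lit 11, nat_lit 13, nat_lit 14, nat_lit 11],
  [nat_lit 6, nat_lit 7, nat_lit 10, nat_lit 11, nat_lit 13, nat_lit 14],
  [nat_lit 10, nat_lit 12, nat_lit 13, nat_lit 14, nat_lit 12],
  [nat_lit 0, nat_lit 6, nat_lit 7, nat_lit 12, nat_lit 13, nat_lit 14, nat_lit 12],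
  [nat_lit 0, nat_lit 11, nat_lit 13, nat_lit 14],
  [nat_lit 0, nat_lit 13, nat_lit 14, nat_lit 11],
  [nat_lit 0, nat_lit 6, nat_lit 7, nat_lit 10, nat_lit 11],
  [nat_lit 6, nat_lit 7],
  [nat_lit 10, nat_lit 13, nat_lit 14],
  [nat_lit 10, nat_lit 12, nat_lit 13, nat_lit 14, nat_lit 11],
  [nat_lit 6, nat_lit 7, nat_lit 10, nat_lit 11, nat_lit 13, nat_lit 14, nat_lit 12],
  [nat_lit 6, nat_lit 7, nat_lit 10, nat_lit 11, nat_lit 13, nat_lit 14, nat_lit 11],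
  [nat_lit 10, nat_lit 12, nat_lit 13, nat_lit 14],
  [nat_lit 10, nat_lit 13, nat_lit 14, nat_lit 12],
  [nat_lit 6, nat_lit 7, nat_lit 12],
  [nat_lit 0, nat_lit 6, nat_lit 7, nat_lit 10],
  [nat_lit 0, nat_lit 13, nat_lit 14],
  [nat_lit 0, nat_lit 11, nat_lit 13, nat_lit 14, nat_lit 12],
  [nat_lit 0, nat_lit 6, nat_lit 7, nat_lit 12, nat_lit 13, nat_lit 14, nat_lit 11],
  [nat_lit 12],
  [nat_lit 6, nat_lit 7, nat_lit 10, nat_lit 13, nat_lit 14, nat_lit 12],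
  [nat_lit 6, nat_lit 7, nat_lit 10, nat_lit 12, nat_lit 13, nat_lit 14],
  [nat_lit 10, nat_lit 11, nat_lit 13, nat_lit 14, nat_lit 11],
  [nat_lit 0, nat_lit 12, nat_lit 13, nat_lit 14, nat_lit 11],
  [nat_lit 0, nat_lit 6, nat_lit 7, nat_lit 11, nat_lit 13, nat_lit 14, nat_lit 12],
  [nat_lit 0, nat_lit 6, nat_lit 7, nat_lit 13, nat_lit 14],
  [nat_lit 0, nat_lit 10],
  [nat_lit 0, nat_lit 10, nat_lit 11],
  [nat_lit 0, nat_lit 6, nat_lit 7, nat_lit 13, nat_lit 14, nat_lit 11],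
  [nat_lit 0, nat_lit 6, nat_lit 7, nat_lit 11, nat_lit 13, nat_lit 14],
  [nat_lit 0, nat_lit 12, nat_lit 13, nat_lit 14, nat_lit 12],
  [nat_lit 10, nat_lit 11, nat_lit 13, nat_lit 14, nat_lit 12],
  [nat_lit 6, nat_lit 7, nat_lit 10, nat_lit 12, nat_lit 13, nat_lit 14, nat_lit 11],
  [nat_lit 6, nat_lit 7, nat_lit 10, nat_lit 13, nat_lit 14],
  [],
  [nat_lit 0, nat_lit 6, nat_lit 13],
  [nat_lit 0, nat_lit 7, nat_lit 10, nat_lit 14],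
  [nat_lit 0, nat_lit 7, nat_lit 12, nat_lit 13, nat_lit 12, nat_lit 14, nat_lit 12],
  [nat_lit 0, nat_lit 6, nat_lit 11, nat_lit 13, nat_lit 11, nat_lit 14, nat_lit 11],
  [nat_lit 6, nat_lit 10, nat_lit 13, nat_lit 11, nat_lit 14, nat_lit 11],
  [nat_lit 7, nat_lit 12, nat_lit 14],
  [nat_lit 7, nat_lit 13, nat_lit 14, nat_lit 12, nat_lit 13],
  [nat_lit 6, nat_lit 10, nat_lit 12, nat_lit 13],
  [nat_lit 6, nat_lit 10, nat_lit 13],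
  [nat_lit 7, nat_lit 14],
  [nat_lit 7, nat_lit 12, nat_lit 13, nat_lit 14, nat_lit 11, nat_lit 13],
  [nat_lit 6, nat_lit 11, nat_lit 13, nat_lit 14, nat_lit 12, nat_lit 13],
  [nat_lit 0, nat_lit 6, nat_lit 13, nat_lit 12, nat_lit 14, nat_lit 12],
  [nat_lit 0, nat_lit 7, nat_lit 10, nat_lit 11, nat_lit 14],
  [nat_lit 0, nat_lit 7, nat_lit 10, nat_lit 13, nat_lit 14, nat_lit 11, nat_lit 13],
  [nat_lit 0, nat_lit 6, nat_lit 11, nat_lit 13],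
  [nat_lit 7, nat_lit 11, nat_lit 13, nat_lit 14, nat_lit 12, nat_lit 13],
  [nat_lit 6, nat_lit 12, nat_lit 13, nat_lit 14, nat_lit 11, nat_lit 13],
  [nat_lit 6, nat_lit 14],
  [nat_lit 7, nat_lit 10, nat_lit 13],
  [nat_lit 0, nat_lit 7, nat_lit 11, nat_lit 13],
  [nat_lit 0, nat_lit 6, nat_lit 10, nat_lit 13, nat_lit 14, nat_lit 11, nat_lit 13],
  [nat_lit 0, nat_lit 6, nat_lit 10, nat_lit 11, nat_lit 14],
  [nat_lit 0, nat_lit 7, nat_lit 13, nat_lit 12, nat_lit 14, nat_lit 12],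
  [nat_lit 0, nat_lit 7, nat_lit 11, nat_lit 13, nat_lit 11, nat_lit 14, nat_lit 11],
  [nat_lit 0, nat_lit 6, nat_lit 12, nat_lit 13, nat_lit 12, nat_lit 14, nat_lit 12],
  [nat_lit 0, nat_lit 6, nat_lit 10, nat_lit 14],
  [nat_lit 0, nat_lit 7, nat_lit 13],
  [nat_lit 7, nat_lit 10, nat_lit 12, nat_lit 13],
  [nat_lit 6, nat_lit 13, nat_lit 14, nat_lit 12, nat_lit 13],
  [nat_lit 6, nat_lit 12, nat_lit 14],
  [nat_lit 7, nat_lit 10, nat_lit 13, nat_lit 11, nat_lit 14, nat_lit 11],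
  [nat_lit 0, nat_lit 6, nat_lit 13, nat_lit 11, nat_lit 14, nat_lit 11],
  [nat_lit 0, nat_lit 7, nat_lit 10, nat_lit 12, nat_lit 14],
  [nat_lit 6, nat_lit 10, nat_lit 13, nat_lit 12, nat_lit 14, nat_lit 12],
  [nat_lit 7, nat_lit 11, nat_lit 14],
  [nat_lit 7, nat_lit 10, nat_lit 11, nat_lit 13],
  [nat_lit 6, nat_lit 13, nat_lit 14, nat_lit 11, nat_lit 13],
  [nat_lit 0, nat_lit 7, nat_lit 12, nat_lit 13],
  [nat_lit 0, nat_lit 6, nat_lit 10, nat_lit 13, nat_lit 14, nat_lit 12, nat_lit 13],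
  [nat_lit 0, nat_lit 7, nat_lit 10, nat_lit 13, nat_lit 14, nat_lit 12, nat_lit 13],
  [nat_lit 0, nat_lit 6, nat_lit 12, nat_lit 13],
  [nat_lit 7, nat_lit 13, nat_lit 14, nat_lit 11, nat_lit 13],
  [nat_lit 6, nat_lit 10, nat_lit 11, nat_lit 13],
  [nat_lit 6, nat_lit 11, nat_lit 14],
  [nat_lit 7, nat_lit 10, nat_lit 13, nat_lit 12, nat_lit 14, nat_lit 12],
  [nat_lit 0, nat_lit 6, nat_lit 10, nat_lit 12, nat_lit 14],
  [nat_lit 0, nat_lit 7, nat_lit 13, nat_lit 11, nat_lit 14, nat_lit 11],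
  [nat_lit 0, nat_lit 7, nat_lit 10, nat_lit 13],
  [nat_lit 0, nat_lit 6, nat_lit 14],
  [nat_lit 0, nat_lit 6, nat_lit 11, nat_lit 13, nat_lit 14, nat_lit 12, nat_lit 13],
  [nat_lit 0, nat_lit 7, nat_lit 12, nat_lit 13, nat_lit 14, nat_lit 11, nat_lit 13],
  [nat_lit 7, nat_lit 13, nat_lit 11, nat_lit 14, nat_lit 11],
  [nat_lit 6, nat_lit 10, nat_lit 12, nat_lit 14],
  [nat_lit 6, nat_lit 10, nat_lit 13, nat_lit 14, nat_lit 12, nat_lit 13],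
  [nat_lit 7, nat_lit 12, nat_lit 13],
  [nat_lit 7, nat_lit 13],
  [nat_lit 6, nat_lit 10, nat_lit 14],
  [nat_lit 6, nat_lit 11, nat_lit 13, nat_lit 11, nat_lit 14, nat_lit 11],
  [nat_lit 7, nat_lit 12, nat_lit 13, nat_lit 12, nat_lit 14, nat_lit 12],
  [nat_lit 0, nat_lit 7, nat_lit 10, nat_lit 13, nat_lit 12, nat_lit 14, nat_lit 12],
  [nat_lit 0, nat_lit 6, nat_lit 11, nat_lit 14],
  [nat_lit 0, nat_lit 6, nat_lit 13, nat_lit 14, nat_lit 11, nat_lit 13],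
  [nat_lit 0, nat_lit 7, nat_lit 10, nat_lit 11, nat_lit 13],
  [nat_lit 6, nat_lit 12, nat_lit 13, nat_lit 12, nat_lit 14, nat_lit 12],
  [nat_lit 7, nat_lit 11, nat_lit 13, nat_lit 11, nat_lit 14, nat_lit 11],
  [nat_lit 7, nat_lit 10, nat_lit 14],
  [nat_lit 6, nat_lit 13],
  [nat_lit 0, nat_lit 6, nat_lit 10, nat_lit 11, nat_lit 13],
  [nat_lit 0, nat_lit 7, nat_lit 13, nat_lit 14, nat_lit 11, nat_lit 13],
  [nat_lit 0, nat_lit 7, nat_lit 11, nat_lit 14],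
  [nat_lit 0, nat_lit 6, nat_lit 10, nat_lit 13, nat_lit 12, nat_lit 14, nat_lit 12],
  [nat_lit 0, nat_lit 6, nat_lit 12, nat_lit 13, nat_lit 14, nat_lit 11, nat_lit 13],
  [nat_lit 0, nat_lit 7, nat_lit 11, nat_lit 13, nat_lit 14, nat_lit 12, nat_lit 13],
  [nat_lit 0, nat_lit 7, nat_lit 14],
  [nat_lit 0, nat_lit 6, nat_lit 10, nat_lit 13],
  [nat_lit 6, nat_lit 12, nat_lit 13],
  [nat_lit 7, nat_lit 10, nat_lit 13, nat_lit 14, nat_lit 12, nat_lit 13],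
  [nat_lit 7, nat_lit 10, nat_lit 12, nat_lit 14],
  [nat_lit 6, nat_lit 13, nat_lit 11, nat_lit 14, nat_lit 11],
  [nat_lit 0, nat_lit 7, nat_lit 10, nat_lit 13, nat_lit 11, nat_lit 14, nat_lit 11],
  [nat_lit 0, nat_lit 6, nat_lit 12, nat_lit 14],
  [nat_lit 7, nat_lit 13, nat_lit 12, nat_lit 14, nat_lit 12],
  [nat_lit 6, nat_lit 10, nat_lit 11, nat_lit 14],
  [nat_lit 6, nat_lit 11, nat_lit 13],
  [nat_lit 7, nat_lit 10, nat_lit 13, nat_lit 14, nat_lit 11, nat_lit 13],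
  [nat_lit 0, nat_lit 6, nat_lit 10, nat_lit 12, nat_lit 13],
  [nat_lit 0, nat_lit 7, nat_lit 13, nat_lit 14, nat_lit 12, nat_lit 13],
  [nat_lit 0, nat_lit 6, nat_lit 13, nat_lit 14, nat_lit 12, nat_lit 13],
  [nat_lit 0, nat_lit 7, nat_lit 10, nat_lit 12, nat_lit 13],
  [nat_lit 6, nat_lit 10, nat_lit 13, nat_lit 14, nat_lit 11, nat_lit 13],
  [nat_lit 7, nat_lit 11, nat_lit 13],
  [nat_lit 7, nat_lit 10, nat_lit 11, nat_lit 14],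
  [nat_lit 6, nat_lit 13, nat_lit 12, nat_lit 14, nat_lit 12],
  [nat_lit 0, nat_lit 7, nat_lit 12, nat_lit 14],
  [nat_lit 0, nat_lit 6, nat_lit 10, nat_lit 13, nat_lit 11, nat_lit 14, nat_lit 11],
  [nat_lit 6, nat_lit 10, nat_lit 11, nat_lit 14, nat_lit 11, nat_lit 13],
  [nat_lit 7, nat_lit 11, nat_lit 13, nat_lit 11, nat_lit 14],
  [nat_lit 7, nat_lit 10, nat_lit 14, nat_lit 12],
  [nat_lit 6, nat_lit 13, nat_lit 12],
  [nat_lit 0, nat_lit 6, nat_lit 10, nat_lit 11, nat_lit 13, nat_lit 12],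
  [nat_lit 0, nat_lit 7, nat_lit 14, nat_lit 12, nat_lit 13, nat_lit 11],
  [nat_lit 0, nat_lit 7, nat_lit 11, nat_lit 14, nat_lit 12],
  [nat_lit 0, nat_lit 6, nat_lit 12, nat_lit 14, nat_lit 11, nat_lit 13],
  [nat_lit 7, nat_lit 13, nat_lit 12],
  [nat_lit 6, nat_lit 10, nat_lit 14, nat_lit 12],
  [nat_lit 6, nat_lit 11, nat_lit 13, nat_lit 11, nat_lit 14],
  [nat_lit 7, nat_lit 10, nat_lit 11, nat_lit 14, nat_lit 11, nat_lit 13],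
  [nat_lit 0, nat_lit 7, nat_lit 12, nat_lit 14, nat_lit 11, nat_lit 13],
  [nat_lit 0, nat_lit 6, nat_lit 11, nat_lit 14, nat_lit 12],
  [nat_lit 0, nat_lit 6, nat_lit 14, nat_lit 12, nat_lit 13, nat_lit 11],
  [nat_lit 0, nat_lit 7, nat_lit 10, nat_lit 11, nat_lit 13, nat_lit 12],
  [nat_lit 0, nat_lit 6, nat_lit 11, nat_lit 14, nat_lit 11, nat_lit 13],
  [nat_lit 0, nat_lit 7, nat_lit 10, nat_lit 11, nat_lit 13, nat_lit 11, nat_lit 14],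
  [nat_lit 0, nat_lit 7, nat_lit 10, nat_lit 13, nat_lit 12],
  [nat_lit 0, nat_lit 6, nat_lit 14, nat_lit 12],
  [nat_lit 6, nat_lit 10, nat_lit 12, nat_lit 14, nat_lit 12],
  [nat_lit 7, nat_lit 13, nat_lit 11, nat_lit 14],
  [nat_lit 7, nat_lit 12, nat_lit 13, nat_lit 12],
  [nat_lit 6, nat_lit 10, nat_lit 14, nat_lit 11, nat_lit 13],
  [nat_lit 0, nat_lit 7, nat_lit 14, nat_lit 12],
  [nat_lit 0, nat_lit 6, nat_lit 10, nat_lit 13, nat_lit 12],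
  [nat_lit 0, nat_lit 6, nat_lit 10, nat_lit 11, nat_lit 13, nat_lit 11, nat_lit 14],
  [nat_lit 0, nat_lit 7, nat_lit 11, nat_lit 14, nat_lit 11, nat_lit 13],
  [nat_lit 7, nat_lit 10, nat_lit 14, nat_lit 11, nat_lit 13],
  [nat_lit 6, nat_lit 12, nat_lit 13, nat_lit 12],
  [nat_lit 6, nat_lit 13, nat_lit 11, nat_lit 14],
  [nat_lit 7, nat_lit 10, nat_lit 12, nat_lit 14, nat_lit 12],
  [nat_lit 6, nat_lit 11, nat_lit 13, nat_lit 12],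
  [nat_lit 7, nat_lit 12, nat_lit 13, nat_lit 11, nat_lit 14],
  [nat_lit 7, nat_lit 13, nat_lit 12, nat_lit 14, nat_lit 11],
  [nat_lit 6, nat_lit 10, nat_lit 11, nat_lit 14, nat_lit 12],
  [nat_lit 0, nat_lit 6, nat_lit 12, nat_lit 14, nat_lit 12],
  [nat_lit 0, nat_lit 7, nat_lit 10, nat_lit 13, nat_lit 11, nat_lit 14],
  [nat_lit 0, nat_lit 7, nat_lit 14, nat_lit 11, nat_lit 13],
  [nat_lit 0, nat_lit 6, nat_lit 10, nat_lit 12, nat_lit 13, nat_lit 12],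
  [nat_lit 7, nat_lit 10, nat_lit 11, nat_lit 14, nat_lit 12],
  [nat_lit 6, nat_lit 13, nat_lit 12, nat_lit 14, nat_lit 11],
  [nat_lit 6, nat_lit 12, nat_lit 13, nat_lit 11, nat_lit 14],
  [nat_lit 7, nat_lit 11, nat_lit 13, nat_lit 12],
  [nat_lit 0, nat_lit 7, nat_lit 10, nat_lit 12, nat_lit 13, nat_lit 12],
  [nat_lit 0, nat_lit 6, nat_lit 14, nat_lit 11, nat_lit 13],
  [nat_lit 0, nat_lit 6, nat_lit 10, nat_lit 13, nat_lit 11, nat_lit 14],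
  [nat_lit 0, nat_lit 7, nat_lit 12, nat_lit 14, nat_lit 12],
  [nat_lit 0, nat_lit 6, nat_lit 12, nat_lit 14, nat_lit 12, nat_lit 13],
  [nat_lit 0, nat_lit 7, nat_lit 10, nat_lit 12, nat_lit 13, nat_lit 12, nat_lit 14],
  [nat_lit 0, nat_lit 7, nat_lit 14, nat_lit 11],
  [nat_lit 0, nat_lit 6, nat_lit 10, nat_lit 13, nat_lit 11],
  [nat_lit 6, nat_lit 12, nat_lit 13, nat_lit 11],
  [nat_lit 7, nat_lit 11, nat_lit 13, nat_lit 12, nat_lit 14],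
  [nat_lit 7, nat_lit 10, nat_lit 12, nat_lit 14, nat_lit 11],
  [nat_lit 6, nat_lit 13, nat_lit 11, nat_lit 14, nat_lit 12],
  [nat_lit 0, nat_lit 7, nat_lit 10, nat_lit 13, nat_lit 11],
  [nat_lit 0, nat_lit 6, nat_lit 14, nat_lit 11],
  [nat_lit 0, nat_lit 6, nat_lit 10, nat_lit 12, nat_lit 13, nat_lit 12, nat_lit 14],
  [nat_lit 0, nat_lit 7, nat_lit 12, nat_lit 14, nat_lit 12, nat_lit 13],
  [nat_lit 7, nat_lit 13, nat_lit 11, nat_lit 14, nat_lit 12],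
  [nat_lit 6, nat_lit 10, nat_lit 12, nat_lit 14, nat_lit 11],
  [nat_lit 6, nat_lit 11, nat_lit 13, nat_lit 12, nat_lit 14],
  [nat_lit 7, nat_lit 12, nat_lit 13, nat_lit 11],
  [nat_lit 6, nat_lit 10, nat_lit 12, nat_lit 14, nat_lit 12, nat_lit 13],
  [nat_lit 7, nat_lit 12, nat_lit 13, nat_lit 12, nat_lit 14],
  [nat_lit 7, nat_lit 13, nat_lit 11],
  [nat_lit 6, nat_lit 10, nat_lit 14, nat_lit 11],
  [nat_lit 0, nat_lit 6, nat_lit 11, nat_lit 14, nat_lit 11],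
  [nat_lit 0, nat_lit 7, nat_lit 10, nat_lit 13, nat_lit 12, nat_lit 14],
  [nat_lit 0, nat_lit 7, nat_lit 10, nat_lit 11, nat_lit 13, nat_lit 11],
  [nat_lit 0, nat_lit 6, nat_lit 14, nat_lit 12, nat_lit 13],
  [nat_lit 7, nat_lit 10, nat_lit 14, nat_lit 11],
  [nat_lit 6, nat_lit 13, nat_lit 11],
  [nat_lit 6, nat_lit 12, nat_lit 13, nat_lit 12, nat_lit 14],
  [nat_lit 7, nat_lit 10, nat_lit 12, nat_lit 14, nat_lit 12, nat_lit 13],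
  [nat_lit 0, nat_lit 7, nat_lit 14, nat_lit 12, nat_lit 13],
  [nat_lit 0, nat_lit 6, nat_lit 10, nat_lit 11, nat_lit 13, nat_lit 11],
  [nat_lit 0, nat_lit 6, nat_lit 10, nat_lit 13, nat_lit 12, nat_lit 14],
  [nat_lit 0, nat_lit 7, nat_lit 11, nat_lit 14, nat_lit 11],
  [nat_lit 0, nat_lit 6, nat_lit 10, nat_lit 12, nat_lit 13, nat_lit 11],
  [nat_lit 0, nat_lit 7, nat_lit 14, nat_lit 11, nat_lit 13, nat_lit 12],
  [nat_lit 0, nat_lit 7, nat_lit 11, nat_lit 14, nat_lit 12, nat_lit 13],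
  [nat_lit 0, nat_lit 6, nat_lit 12, nat_lit 14, nat_lit 11],
  [nat_lit 6, nat_lit 10, nat_lit 11, nat_lit 14, nat_lit 11],
  [nat_lit 7, nat_lit 13, nat_lit 12, nat_lit 14],
  [nat_lit 7, nat_lit 10, nat_lit 14, nat_lit 12, nat_lit 13],
  [nat_lit 6, nat_lit 11, nat_lit 13, nat_lit 11],
  [nat_lit 0, nat_lit 7, nat_lit 12, nat_lit 14, nat_lit 11],
  [nat_lit 0, nat_lit 6, nat_lit 11, nat_lit 14, nat_lit 12, nat_lit 13],
  [nat_lit 0, nat_lit 6, nat_lit 14, nat_lit 11, nat_lit 13, nat_lit 12],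
  [nat_lit 0, nat_lit 7, nat_lit 10, nat_lit 12, nat_lit 13, nat_lit 11],
  [nat_lit 7, nat_lit 11, nat_lit 13, nat_lit 11],
  [nat_lit 6, nat_lit 10, nat_lit 14, nat_lit 12, nat_lit 13],
  [nat_lit 6, nat_lit 13, nat_lit 12, nat_lit 14],
  [nat_lit 7, nat_lit 10, nat_lit 11, nat_lit 14, nat_lit 11],
  [nat_lit 0, nat_lit 7, nat_lit 10, nat_lit 12, nat_lit 14, nat_lit 12, nat_lit 13],
  [nat_lit 0, nat_lit 6, nat_lit 12, nat_lit 13, nat_lit 12, nat_lit 14],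
  [nat_lit 0, nat_lit 6, nat_lit 10, nat_lit 14, nat_lit 11],
  [nat_lit 0, nat_lit 7, nat_lit 13, nat_lit 11],
  [nat_lit 7, nat_lit 10, nat_lit 12, nat_lit 13, nat_lit 11],
  [nat_lit 6, nat_lit 14, nat_lit 11, nat_lit 13, nat_lit 12],
  [nat_lit 6, nat_lit 12, nat_lit 14, nat_lit 11],
  [nat_lit 7, nat_lit 11, nat_lit 14, nat_lit 12, nat_lit 13],
  [nat_lit 0, nat_lit 6, nat_lit 13, nat_lit 11],
  [nat_lit 0, nat_lit 7, nat_lit 10, nat_lit 14, nat_lit 11],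
  [nat_lit 0, nat_lit 7, nat_lit 12, nat_lit 13, nat_lit 12, nat_lit 14],
  [nat_lit 0, nat_lit 6, nat_lit 10, nat_lit 12, nat_lit 14, nat_lit 12, nat_lit 13],
  [nat_lit 6, nat_lit 11, nat_lit 14, nat_lit 12, nat_lit 13],
  [nat_lit 7, nat_lit 12, nat_lit 14, nat_lit 11],
  [nat_lit 7, nat_lit 14, nat_lit 11, nat_lit 13, nat_lit 12],
  [nat_lit 6, nat_lit 10, nat_lit 12, nat_lit 13, nat_lit 11],
  [nat_lit 7, nat_lit 12, nat_lit 14, nat_lit 12, nat_lit 13],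
  [nat_lit 6, nat_lit 10, nat_lit 12, nat_lit 13, nat_lit 12, nat_lit 14],
  [nat_lit 6, nat_lit 10, nat_lit 13, nat_lit 11],
  [nat_lit 7, nat_lit 14, nat_lit 11],
  [nat_lit 0, nat_lit 7, nat_lit 10, nat_lit 11, nat_lit 14, nat_lit 11],
  [nat_lit 0, nat_lit 6, nat_lit 13, nat_lit 12, nat_lit 14],
  [nat_lit 0, nat_lit 6, nat_lit 11, nat_lit 13, nat_lit 11],
  [nat_lit 0, nat_lit 7, nat_lit 10, nat_lit 14, nat_lit 12, nat_lit 13],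
  [nat_lit 6, nat_lit 14, nat_lit 11],
  [nat_lit 7, nat_lit 10, nat_lit 13, nat_lit 11],
  [nat_lit 7, nat_lit 10, nat_lit 12, nat_lit 13, nat_lit 12, nat_lit 14],
  [nat_lit 6, nat_lit 12, nat_lit 14, nat_lit 12, nat_lit 13],
  [nat_lit 0, nat_lit 6, nat_lit 10, nat_lit 14, nat_lit 12, nat_lit 13],
  [nat_lit 0, nat_lit 7, nat_lit 11, nat_lit 13, nat_lit 11],
  [nat_lit 0, nat_lit 7, nat_lit 13, nat_lit 12, nat_lit 14],
  [nat_lit 0, nat_lit 6, nat_lit 10, nat_lit 11, nat_lit 14, nat_lit 11],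
  [nat_lit 0, nat_lit 7, nat_lit 12, nat_lit 13, nat_lit 11],
  [nat_lit 0, nat_lit 6, nat_lit 11, nat_lit 13, nat_lit 12, nat_lit 14],
  [nat_lit 0, nat_lit 6, nat_lit 13, nat_lit 11, nat_lit 14, nat_lit 12],
  [nat_lit 0, nat_lit 7, nat_lit 10, nat_lit 12, nat_lit 14, nat_lit 11],
  [nat_lit 7, nat_lit 11, nat_lit 14, nat_lit 11],
  [nat_lit 6, nat_lit 10, nat_lit 13, nat_lit 12, nat_lit 14],
  [nat_lit 6, nat_lit 14, nat_lit 12, nat_lit 13],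
  [nat_lit 7, nat_lit 10, nat_lit 11, nat_lit 13, nat_lit 11],
  [nat_lit 0, nat_lit 6, nat_lit 10, nat_lit 12, nat_lit 14, nat_lit 11],
  [nat_lit 0, nat_lit 7, nat_lit 13, nat_lit 11, nat_lit 14, nat_lit 12],
  [nat_lit 0, nat_lit 7, nat_lit 11, nat_lit 13, nat_lit 12, nat_lit 14],
  [nat_lit 0, nat_lit 6, nat_lit 12, nat_lit 13, nat_lit 11],
  [nat_lit 6, nat_lit 10, nat_lit 11, nat_lit 13, nat_lit 11],
  [nat_lit 7, nat_lit 14, nat_lit 12, nat_lit 13],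
  [nat_lit 7, nat_lit 10, nat_lit 13, nat_lit 12, nat_lit 14],
  [nat_lit 6, nat_lit 11, nat_lit 14, nat_lit 11],
  [nat_lit 7, nat_lit 11, nat_lit 14, nat_lit 11, nat_lit 13],
  [nat_lit 6, nat_lit 10, nat_lit 11, nat_lit 13, nat_lit 11, nat_lit 14],
  [nat_lit 6, nat_lit 14, nat_lit 12],
  [nat_lit 7, nat_lit 10, nat_lit 13, nat_lit 12],
  [nat_lit 0, nat_lit 7, nat_lit 11, nat_lit 13, nat_lit 12],
  [nat_lit 0, nat_lit 6, nat_lit 12, nat_lit 13, nat_lit 11, nat_lit 14],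
  [nat_lit 0, nat_lit 6, nat_lit 10, nat_lit 11, nat_lit 14, nat_lit 12],
  [nat_lit 0, nat_lit 7, nat_lit 13, nat_lit 12, nat_lit 14, nat_lit 11],
  [nat_lit 6, nat_lit 10, nat_lit 13, nat_lit 12],
  [nat_lit 7, nat_lit 14, nat_lit 12],
  [nat_lit 7, nat_lit 10, nat_lit 11, nat_lit 13, nat_lit 11, nat_lit 14],
  [nat_lit 6, nat_lit 11, nat_lit 14, nat_lit 11, nat_lit 13],
  [nat_lit 0, nat_lit 6, nat_lit 13, nat_lit 12, nat_lit 14, nat_lit 11],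
  [nat_lit 0, nat_lit 7, nat_lit 10, nat_lit 11, nat_lit 14, nat_lit 12],
  [nat_lit 0, nat_lit 7, nat_lit 12, nat_lit 13, nat_lit 11, nat_lit 14],
  [nat_lit 0, nat_lit 6, nat_lit 11, nat_lit 13, nat_lit 12],
  [nat_lit 0, nat_lit 7, nat_lit 10, nat_lit 11, nat_lit 14, nat_lit 11, nat_lit 13],
  [nat_lit 0, nat_lit 6, nat_lit 11, nat_lit 13, nat_lit 11, nat_lit 14],
  [nat_lit 0, nat_lit 6, nat_lit 13, nat_lit 12],
  [nat_lit 0, nat_lit 7, nat_lit 10, nat_lit 14, nat_lit 12],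
  [nat_lit 7, nat_lit 12, nat_lit 14, nat_lit 12],
  [nat_lit 6, nat_lit 10, nat_lit 13, nat_lit 11, nat_lit 14],
  [nat_lit 6, nat_lit 10, nat_lit 12, nat_lit 13, nat_lit 12],
  [nat_lit 7, nat_lit 14, nat_lit 11, nat_lit 13],
  [nat_lit 0, nat_lit 6, nat_lit 10, nat_lit 14, nat_lit 12],
  [nat_lit 0, nat_lit 7, nat_lit 13, nat_lit 12],
  [nat_lit 0, nat_lit 7, nat_lit 11, nat_lit 13, nat_lit 11, nat_lit 14],
  [nat_lit 0, nat_lit 6, nat_lit 10, nat_lit 11, nat_lit 14, nat_lit 11, nat_lit 13],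
  [nat_lit 6, nat_lit 14, nat_lit 11, nat_lit 13],
  [nat_lit 7, nat_lit 10, nat_lit 12, nat_lit 13, nat_lit 12],
  [nat_lit 7, nat_lit 10, nat_lit 13, nat_lit 11, nat_lit 14],
  [nat_lit 6, nat_lit 12, nat_lit 14, nat_lit 12],
  [nat_lit 7, nat_lit 10, nat_lit 11, nat_lit 13, nat_lit 12],
  [nat_lit 6, nat_lit 14, nat_lit 12, nat_lit 13, nat_lit 11],
  [nat_lit 6, nat_lit 12, nat_lit 14, nat_lit 11, nat_lit 13],
  [nat_lit 7, nat_lit 11, nat_lit 14, nat_lit 12],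
  [nat_lit 0, nat_lit 7, nat_lit 10, nat_lit 12, nat_lit 14, nat_lit 12],
  [nat_lit 0, nat_lit 6, nat_lit 13, nat_lit 11, nat_lit 14],
  [nat_lit 0, nat_lit 6, nat_lit 10, nat_lit 14, nat_lit 11, nat_lit 13],
  [nat_lit 0, nat_lit 7, nat_lit 12, nat_lit 13, nat_lit 12],
  [nat_lit 6, nat_lit 11, nat_lit 14, nat_lit 12],
  [nat_lit 7, nat_lit 12, nat_lit 14, nat_lit 11, nat_lit 13],
  [nat_lit 7, nat_lit 14, nat_lit 12, nat_lit 13, nat_lit 11],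
  [nat_lit 6, nat_lit 10, nat_lit 11, nat_lit 13, nat_lit 12],
  [nat_lit 0, nat_lit 6, nat_lit 12, nat_lit 13, nat_lit 12],
  [nat_lit 0, nat_lit 7, nat_lit 10, nat_lit 14, nat_lit 11, nat_lit 13],
  [nat_lit 0, nat_lit 7, nat_lit 13, nat_lit 11, nat_lit 14],
  [nat_lit 0, nat_lit 6, nat_lit 10, nat_lit 12, nat_lit 14, nat_lit 12],
  [nat_lit 6, nat_lit 12, nat_lit 13, nat_lit 14, nat_lit 12],
  [nat_lit 7, nat_lit 11, nat_lit 13, nat_lit 14],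
  [nat_lit 0, nat_lit 6, nat_lit 10, nat_lit 11, nat_lit 13, nat_lit 14, nat_lit 11],
  [nat_lit 0, nat_lit 7, nat_lit 10, nat_lit 12, nat_lit 13, nat_lit 14],
  [nat_lit 0, nat_lit 7, nat_lit 12],
  [nat_lit 0, nat_lit 6, nat_lit 10, nat_lit 13, nat_lit 14, nat_lit 12],
  [nat_lit 7, nat_lit 10, nat_lit 11],
  [nat_lit 6, nat_lit 13, nat_lit 14, nat_lit 11],
  [nat_lit 7, nat_lit 13, nat_lit 14, nat_lit 11],
  [nat_lit 6, nat_lit 10, nat_lit 11],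
  [nat_lit 0, nat_lit 7, nat_lit 10, nat_lit 13, nat_lit 14, nat_lit 12],
  [nat_lit 0, nat_lit 6, nat_lit 12],
  [nat_lit 0, nat_lit 6, nat_lit 10, nat_lit 12, nat_lit 13, nat_lit 14],
  [nat_lit 0, nat_lit 7, nat_lit 10, nat_lit 11, nat_lit 13, nat_lit 14, nat_lit 11],
  [nat_lit 6, nat_lit 11, nat_lit 13, nat_lit 14],
  [nat_lit 7, nat_lit 12, nat_lit 13, nat_lit 14, nat_lit 12],
  [nat_lit 0, nat_lit 6, nat_lit 10, nat_lit 12, nat_lit 13, nat_lit 14, nat_lit 12],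
  [nat_lit 0, nat_lit 7, nat_lit 10, nat_lit 11, nat_lit 13, nat_lit 14],
  [nat_lit 0, nat_lit 7, nat_lit 10, nat_lit 13, nat_lit 14, nat_lit 11],
  [nat_lit 0, nat_lit 6, nat_lit 11],
  [nat_lit 6, nat_lit 10],
  [nat_lit 7, nat_lit 13, nat_lit 14],
  [nat_lit 7, nat_lit 12, nat_lit 13, nat_lit 14, nat_lit 11],
  [nat_lit 6, nat_lit 11, nat_lit 13, nat_lit 14, nat_lit 12],
  [nat_lit 6, nat_lit 11, nat_lit 13, nat_lit 14, nat_lit 11],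
  [nat_lit 7, nat_lit 12, nat_lit 13, nat_lit 14],
  [nat_lit 7, nat_lit 13, nat_lit 14, nat_lit 12],
  [nat_lit 6, nat_lit 10, nat_lit 12],
  [nat_lit 0, nat_lit 6],
  [nat_lit 0, nat_lit 7, nat_lit 10, nat_lit 13, nat_lit 14],
  [nat_lit 0, nat_lit 7, nat_lit 10, nat_lit 11, nat_lit 13, nat_lit 14, nat_lit 12],
  [nat_lit 0, nat_lit 6, nat_lit 10, nat_lit 12, nat_lit 13, nat_lit 14, nat_lit 11],
  [nat_lit 7, nat_lit 10, nat_lit 12],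
  [nat_lit 6, nat_lit 13, nat_lit 14, nat_lit 12],
  [nat_lit 6, nat_lit 12, nat_lit 13, nat_lit 14],
  [nat_lit 7, nat_lit 11, nat_lit 13, nat_lit 14, nat_lit 11],
  [nat_lit 0, nat_lit 7, nat_lit 10, nat_lit 12, nat_lit 13, nat_lit 14, nat_lit 11],
  [nat_lit 0, nat_lit 6, nat_lit 10, nat_lit 11, nat_lit 13, nat_lit 14, nat_lit 12],
  [nat_lit 0, nat_lit 6, nat_lit 10, nat_lit 13, nat_lit 14],
  [nat_lit 0, nat_lit 7],
  [nat_lit 0, nat_lit 7, nat_lit 11],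
  [nat_lit 0, nat_lit 6, nat_lit 10, nat_lit 13, nat_lit 14, nat_lit 11],
  [nat_lit 0, nat_lit 6, nat_lit 10, nat_lit 11, nat_lit 13, nat_lit 14],
  [nat_lit 0, nat_lit 7, nat_lit 10, nat_lit 12, nat_lit 13, nat_lit 14, nat_lit 12],
  [nat_lit 7, nat_lit 11, nat_lit 13, nat_lit 14, nat_lit 12],
  [nat_lit 6, nat_lit 12, nat_lit 13, nat_lit 14, nat_lit 11],
  [nat_lit 6, nat_lit 13, nat_lit 14],
  [nat_lit 7, nat_lit 10],
  [nat_lit 7, nat_lit 10, nat_lit 12, nat_lit 13, nat_lit 14, nat_lit 12],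
  [nat_lit 6, nat_lit 10, nat_lit 11, nat_lit 13, nat_lit 14],
  [nat_lit 0, nat_lit 7, nat_lit 11, nat_lit 13, nat_lit 14, nat_lit 11],
  [nat_lit 0, nat_lit 6, nat_lit 12, nat_lit 13, nat_lit 14],
  [nat_lit 0, nat_lit 6, nat_lit 10, nat_lit 12],
  [nat_lit 0, nat_lit 7, nat_lit 13, nat_lit 14, nat_lit 12],
  [nat_lit 6, nat_lit 11],
  [nat_lit 7, nat_lit 10, nat_lit 13, nat_lit 14, nat_lit 11],
  [nat_lit 6, nat_lit 10, nat_lit 13, nat_lit 14, nat_lit 11],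
  [nat_lit 7, nat_lit 11],
  [nat_lit 0, nat_lit 6, nat_lit 13, nat_lit 14, nat_lit 12],
  [nat_lit 0, nat_lit 7, nat_lit 10, nat_lit 12],
  [nat_lit 0, nat_lit 7, nat_lit 12, nat_lit 13, nat_lit 14],
  [nat_lit 0, nat_lit 6, nat_lit 11, nat_lit 13, nat_lit 14, nat_lit 11],
  [nat_lit 7, nat_lit 10, nat_lit 11, nat_lit 13, nat_lit 14],
  [nat_lit 6, nat_lit 10, nat_lit 12, nat_lit 13, nat_lit 14, nat_lit 12],
  [nat_lit 0, nat_lit 7, nat_lit 12, nat_lit 13, nat_lit 14, nat_lit 12],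
  [nat_lit 0, nat_lit 6, nat_lit 11, nat_lit 13, nat_lit 14],
  [nat_lit 0, nat_lit 6, nat_lit 13, nat_lit 14, nat_lit 11],
  [nat_lit 0, nat_lit 7, nat_lit 10, nat_lit 11],
  [nat_lit 7],
  [nat_lit 6, nat_lit 10, nat_lit 13, nat_lit 14],
  [nat_lit 6, nat_lit 10, nat_lit 12, nat_lit 13, nat_lit 14, nat_lit 11],
  [nat_lit 7, nat_lit 10, nat_lit 11, nat_lit 13, nat_lit 14, nat_lit 12],
  [nat_lit 7, nat_lit 10, nat_lit 11, nat_lit 13, nat_lit 14, nat_lit 11],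
  [nat_lit 6, nat_lit 10, nat_lit 12, nat_lit 13, nat_lit 14],
  [nat_lit 6, nat_lit 10, nat_lit 13, nat_lit 14, nat_lit 12],
  [nat_lit 7, nat_lit 12],
  [nat_lit 0, nat_lit 7, nat_lit 10],
  [nat_lit 0, nat_lit 6, nat_lit 13, nat_lit 14],
  [nat_lit 0, nat_lit 6, nat_lit 11, nat_lit 13, nat_lit 14, nat_lit 12],
  [nat_lit 0, nat_lit 7, nat_lit 12, nat_lit 13, nat_lit 14, nat_lit 11],
  [nat_lit 6, nat_lit 12],
  [nat_lit 7, nat_lit 10, nat_lit 13, nat_lit 14, nat_lit 12],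
  [nat_lit 7, nat_lit 10, nat_lit 12, nat_lit 13, nat_lit 14],
  [nat_lit 6, nat_lit 10, nat_lit 11, nat_lit 13, nat_lit 14, nat_lit 11],
  [nat_lit 0, nat_lit 6, nat_lit 12, nat_lit 13, nat_lit 14, nat_lit 11],
  [nat_lit 0, nat_lit 7, nat_lit 11, nat_lit 13, nat_lit 14, nat_lit 12],
  [nat_lit 0, nat_lit 7, nat_lit 13, nat_lit 14],
  [nat_lit 0, nat_lit 6, nat_lit 10],
  [nat_lit 0, nat_lit 6, nat_lit 10, nat_lit 11],
  [nat_lit 0, nat_lit 7, nat_lit 13, nat_lit 14, nat_lit 11],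
  [nat_lit 0, nat_lit 7, nat_lit 11, nat_lit 13, nat_lit 14],
  [nat_lit 0, nat_lit 6, nat_lit 12, nat_lit 13, nat_lit 14, nat_lit 12],
  [nat_lit 6, nat_lit 10, nat_lit 11, nat_lit 13, nat_lit 14, nat_lit 12],
  [nat_lit 7, nat_lit 10, nat_lit 12, nat_lit 13, nat_lit 14, nat_lit 11],
  [nat_lit 7, nat_lit 10, nat_lit 13, nat_lit 14],
  [nat_lit 6]]
noncomputable def s_W : List (List ℕ) := [[nat_lit 1],
  [nat_lit 0],
  [nat_lit 2],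
  [nat_lit 3],
  [nat_lit 4],
  [nat_lit 5],
  [nat_lit 6],
  [nat_lit 7],
  [nat_lit 8],
  [nat_lit 9]]
noncomputable def s_P : ℕ → ℕ → ℕ := wdsP H16.A11.P s_W

theorem md_b : ltAll 11 H16.A11.B = 0 ∧ 19958400 ≠ 0 := by decide +kernel
theorem a_lt : allL (ltAll 10) a_W = true := by decide +kernel
theorem a_m_a : allZ2 (matEnt (wdsP H16.A11.P a_W) a_P) (nat_lit 16) (nat_lit 11) = true := by decide +kernel
theorem p2t_lt : allL (ltAll 10) p2t_W = true := by decide +kernel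
theorem p2_r_a : allZ2 (resEnt p2t_P p2P p2E p2I (nat_lit 11) (nat_lit 11)) (nat_lit 7) (nat_lit 11) = true := by decide +kernel
theorem p2_b : neL H16.A11.B (p2B.map p2E) = 0 ∧ ltAll 11 p2B = 0 := by decide +kernel
theorem p2_p : allZ2 (pcEnt p2P (nat_lit 2) p2B p2C) 7 7 = true := by decide +kernel
theorem p2_e : allL (ltAll 7) p2e = true := by decide +kernel
theorem p2l0_e_0 : allZ (dent p2l0 (wdsP p2P p2e) (nat_lit 11)) (nat_lit 0) (nat_lit 7) = true := by decide +kernel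
theorem p2l0_h : 0 < p2l0.n ∧ 0 < p2l0.K ∧ p2l0.Pt 0 < 11 ∧ p2l0.Q (p2l0.Pt 0) = 0 := by decide +kernel
theorem p2l1_e_0 : allZ (dent p2l1 (wdsP p2P p2e) (nat_lit 11)) (nat_lit 0) (nat_lit 3) = true := by decide +kernel
theorem p2l1_h : 0 < p2l1.n ∧ 0 < p2l1.K ∧ p2l1.Pt 0 < 11 ∧ p2l1.Q (p2l1.Pt 0) = 0 := by decide +kernel
theorem p2l2_e_0 : allZ (dent p2l2 (wdsP p2P p2e) (nat_lit 11)) (nat_lit 0) (nat_lit 1) = true := by decide +kernel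
theorem p2l2_h : 0 < p2l2.n ∧ 0 < p2l2.K ∧ p2l2.Pt 0 < 11 ∧ p2l2.Q (p2l2.Pt 0) = 0 := by decide +kernel
theorem p2l3_e_0 : allZ (dent p2l3 (wdsP p2P p2e) (nat_lit 11)) (nat_lit 0) (nat_lit 1) = true := by decide +kernel
theorem p2l3_h : 0 < p2l3.n ∧ 0 < p2l3.K ∧ p2l3.Pt 0 < 11 ∧ p2l3.Q (p2l3.Pt 0) = 0 := by decide +kernel
theorem p2_f3 : (Nat.ble p2l3.K 46 && Nat.ble (topK []) p2l3.K && fixLetters (wdsP p2P p2e) (topK []) (p2l3.Pt 0)) = true := by decide +kernel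
theorem p2_f2 : (Nat.ble p2l2.K 46 && Nat.ble (topK [p2l3]) p2l2.K && fixLetters (wdsP p2P p2e) (topK [p2l3]) (p2l2.Pt 0)) = true := by decide +kernel
theorem p2_f1 : (Nat.ble p2l1.K 46 && Nat.ble (topK [p2l2, p2l3]) p2l1.K && fixLetters (wdsP p2P p2e) (topK [p2l2, p2l3]) (p2l1.Pt 0)) = true := by decide +kernel
theorem p2_f0 : (Nat.ble p2l0.K 46 && Nat.ble (topK [p2l1, p2l2, p2l3]) p2l0.K && fixLetters (wdsP p2P p2e) (topK [p2l1, p2l2, p2l3]) (p2l0.Pt 0)) = true := by decide +kernel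
theorem p2_c : chainCard [p2l0, p2l1, p2l2, p2l3] = 2 ^ 7 ∧ ¬ 2 ^ (7 + 1) ∣ 19958400 := by decide +kernel
theorem covr_lt : allL (ltAll 10) covr_W = true := by decide +kernel
theorem cov_c0 : (Nat.ble 7 7 && Nat.beq (ltAll 7 []) 0 && Nat.beq (covT0.chk H16.A11.P p2P covr_P p2E 10 7 2 2 2 p2B 7 [] 0) 0) = true := by decide +kernel
theorem e_lt : allL (ltAll 10) e_W = true := by decide +kernel
theorem teh_lt : allL (ltAll 10) teh_W = true := by decide +kernel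
theorem tel0_e_0 : allZ (dent tel0 teh_P (nat_lit 11)) (nat_lit 0) (nat_lit 10) = true := by decide +kernel
theorem tel0_h : 0 < tel0.n ∧ 0 < tel0.K ∧ tel0.Pt 0 < 11 ∧ tel0.Q (tel0.Pt 0) = 0 := by decide +kernel
theorem tel1_e_0 : allZ (dent tel1 teh_P (nat_lit 11)) (nat_lit 0) (nat_lit 9) = true := by decide +kernel
theorem tel1_h : 0 < tel1.n ∧ 0 < tel1.K ∧ tel1.Pt 0 < 11 ∧ tel1.Q (tel1.Pt 0) = 0 := by decide +kernel
theorem tel2_e_0 : allZ (dent tel2 teh_P (nat_lit 11)) (nat_lit 0) (nat_lit 8) = true := by decide +kernel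
theorem tel2_h : 0 < tel2.n ∧ 0 < tel2.K ∧ tel2.Pt 0 < 11 ∧ tel2.Q (tel2.Pt 0) = 0 := by decide +kernel
theorem tel3_e_0 : allZ (dent tel3 teh_P (nat_lit 11)) (nat_lit 0) (nat_lit 7) = true := by decide +kernel
theorem tel3_h : 0 < tel3.n ∧ 0 < tel3.K ∧ tel3.Pt 0 < 11 ∧ tel3.Q (tel3.Pt 0) = 0 := by decide +kernel
theorem tel4_e_0 : allZ (dent tel4 teh_P (nat_lit 11)) (nat_lit 0) (nat_lit 6) = true := by decide +kernel
theorem tel4_h : 0 < tel4.n ∧ 0 < tel4.K ∧ tel4.Pt 0 < 11 ∧ tel4.Q (tel4.Pt 0) = 0 := by decide +kernel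
theorem tel5_e_0 : allZ (dent tel5 teh_P (nat_lit 11)) (nat_lit 0) (nat_lit 5) = true := by decide +kernel
theorem tel5_h : 0 < tel5.n ∧ 0 < tel5.K ∧ tel5.Pt 0 < 11 ∧ tel5.Q (tel5.Pt 0) = 0 := by decide +kernel
theorem tel6_e_0 : allZ (dent tel6 teh_P (nat_lit 11)) (nat_lit 0) (nat_lit 4) = true := by decide +kernel
theorem tel6_h : 0 < tel6.n ∧ 0 < tel6.K ∧ tel6.Pt 0 < 11 ∧ tel6.Q (tel6.Pt 0) = 0 := by decide +kernel
theorem tel7_e_0 : allZ (dent tel7 teh_P (nat_lit 11)) (nat_lit 0) (nat_lit 3) = true := by decide +kernel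
theorem tel7_h : 0 < tel7.n ∧ 0 < tel7.K ∧ tel7.Pt 0 < 11 ∧ tel7.Q (tel7.Pt 0) = 0 := by decide +kernel
theorem tel8_e_0 : allZ (dent tel8 teh_P (nat_lit 11)) (nat_lit 0) (nat_lit 2) = true := by decide +kernel
theorem tel8_h : 0 < tel8.n ∧ 0 < tel8.K ∧ tel8.Pt 0 < 11 ∧ tel8.Q (tel8.Pt 0) = 0 := by decide +kernel
theorem te_f8 : (Nat.ble tel8.K 11 && Nat.ble (topK []) tel8.K && fixLetters teh_P (topK []) (tel8.Pt 0)) = true := by decide +kernel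
theorem te_f7 : (Nat.ble tel7.K 11 && Nat.ble (topK [tel8]) tel7.K && fixLetters teh_P (topK [tel8]) (tel7.Pt 0)) = true := by decide +kernel
theorem te_f6 : (Nat.ble tel6.K 11 && Nat.ble (topK [tel7, tel8]) tel6.K && fixLetters teh_P (topK [tel7, tel8]) (tel6.Pt 0)) = true := by decide +kernel
theorem te_f5 : (Nat.ble tel5.K 11 && Nat.ble (topK [tel6, tel7, tel8]) tel5.K && fixLetters teh_P (topK [tel6, tel7, tel8]) (tel5.Pt 0)) = true := by decide +kernel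
theorem te_f4 : (Nat.ble tel4.K 11 && Nat.ble (topK [tel5, tel6, tel7, tel8]) tel4.K && fixLetters teh_P (topK [tel5, tel6, tel7, tel8]) (tel4.Pt 0)) = true := by decide +kernel
theorem te_f3 : (Nat.ble tel3.K 11 && Nat.ble (topK [tel4, tel5, tel6, tel7, tel8]) tel3.K && fixLetters teh_P (topK [tel4, tel5, tel6, tel7, tel8]) (tel3.Pt 0)) = true := by decide +kernel
theorem te_f2 : (Nat.ble tel2.K 11 && Nat.ble (topK [tel3, tel4, tel5, tel6, tel7, tel8]) tel2.K && fixLetters teh_P (topK [tel3, tel4, tel5, tel6, tel7, tel8]) (tel2.Pt 0)) = true := by decide +kernel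
theorem te_f1 : (Nat.ble tel1.K 11 && Nat.ble (topK [tel2, tel3, tel4, tel5, tel6, tel7, tel8]) tel1.K && fixLetters teh_P (topK [tel2, tel3, tel4, tel5, tel6, tel7, tel8]) (tel1.Pt 0)) = true := by decide +kernel
theorem te_f0 : (Nat.ble tel0.K 11 && Nat.ble (topK [tel1, tel2, tel3, tel4, tel5, tel6, tel7, tel8]) tel0.K && fixLetters teh_P (topK [tel1, tel2, tel3, tel4, tel5, tel6, tel7, tel8]) (tel0.Pt 0)) = true := by decide +kernel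
theorem te_c : chainCard [tel0, tel1, tel2, tel3, tel4, tel5, tel6, tel7, tel8] = 19958400 := by decide +kernel
theorem cee_lt : allL (ltAll 10) cee_W = true := by decide +kernel
theorem cec8_e_0 : allZ (dent cec8 cee_P (nat_lit 11)) (nat_lit 0) (nat_lit 2) = true := by decide +kernel
theorem cec8_h : 0 < cec8.n ∧ 0 < cec8.K ∧ cec8.Pt 0 < 11 ∧ cec8.Q (cec8.Pt 0) = 0 := by decide +kernel
theorem ten0_0 : (Nat.ble tel8.K 11 && Nat.beq (ltAll 11 [tel7.Pt 0, tel6.Pt 0, tel5.Pt 0, tel4.Pt 0, tel3.Pt 0, tel2.Pt 0, tel1.Pt 0, tel0.Pt 0]) 0 && kChk cee_P e_P ten0.Kn 1 H16.A11.B [tel7.Pt 0, tel6.Pt 0, tel5.Pt 0, tel4.Pt 0, tel3.Pt 0, tel2.Pt 0, tel1.Pt 0, tel0.Pt 0] && allL (ltAll 1) ten0.pre && planOK teh_P e_P 1 (tel8.Pt 0) ten0.plan [tel8]) = true := by decide +kernel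
theorem ten0_1_0 : allZ (ten0.ent H16.A11.P teh_P e_P e_P cee_P (nat_lit 10) (nat_lit 1) H16.A11.B tel8 [] (memO cec8)) (nat_lit 0) (nat_lit 3) = true := by decide +kernel
theorem ce_f8 : (Nat.ble cec8.K 6 && Nat.ble (topK []) cec8.K && Nat.beq (cec8.Pt 0) (tel8.Pt 0) && Nat.beq (ltAll 11 [tel7.Pt 0, tel6.Pt 0, tel5.Pt 0, tel4.Pt 0, tel3.Pt 0, tel2.Pt 0, tel1.Pt 0, tel0.Pt 0]) 0 && kChk cee_P e_P cec8.K 1 H16.A11.B [tel7.Pt 0, tel6.Pt 0, tel5.Pt 0, tel4.Pt 0, tel3.Pt 0, tel2.Pt 0, tel1.Pt 0, tel0.Pt 0]) = true := by decide +kernel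
theorem ce_f7 : (Nat.ble tel7.K 11 && Nat.blt (nat_lit 6) 11 && fixLetters teh_P tel7.K (nat_lit 6) && Nat.beq (ltAll 1 [nat_lit 0]) 0 && Nat.beq (apW e_P [nat_lit 0] (nat_lit 6)) (tel7.Pt 0)) = true := by decide +kernel
theorem cec6_e_0 : allZ (dent cec6 cee_P (nat_lit 11)) (nat_lit 0) (nat_lit 1) = true := by decide +kernel
theorem cec6_h : 0 < cec6.n ∧ 0 < cec6.K ∧ cec6.Pt 0 < 11 ∧ cec6.Q (cec6.Pt 0) = 0 := by decide +kernel
theorem ten1_0 : (Nat.ble tel6.K 11 && Nat.beq (ltAll 11 [tel5.Pt 0, tel4.Pt 0, tel3.Pt 0, tel2.Pt 0, tel1.Pt 0, tel0.Pt 0]) 0 && kChk cee_P e_P ten1.Kn 1 H16.A11.B [tel5.Pt 0, tel4.Pt 0, tel3.Pt 0, tel2.Pt 0, tel1.Pt 0, tel0.Pt 0] && allL (ltAll 1) ten1.pre && planOK teh_P e_P 1 (tel6.Pt 0) ten1.plan [tel6, tel7, tel8]) = true := by decide +kernel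
theorem ten1_1_0 : allZ (ten1.ent H16.A11.P teh_P e_P e_P cee_P (nat_lit 10) (nat_lit 1) H16.A11.B tel6 [tel7, tel8] (memO cec6)) (nat_lit 0) (nat_lit 5) = true := by decide +kernel
theorem ce_f6 : (Nat.ble cec6.K 6 && Nat.ble (topK [cec8]) cec6.K && Nat.beq (cec6.Pt 0) (tel6.Pt 0) && Nat.beq (ltAll 11 [tel5.Pt 0, tel4.Pt 0, tel3.Pt 0, tel2.Pt 0, tel1.Pt 0, tel0.Pt 0]) 0 && kChk cee_P e_P cec6.K 1 H16.A11.B [tel5.Pt 0, tel4.Pt 0, tel3.Pt 0, tel2.Pt 0, tel1.Pt 0, tel0.Pt 0]) = true := by decide +kernel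
theorem ce_f5 : (Nat.ble tel5.K 11 && Nat.blt (nat_lit 3) 11 && fixLetters teh_P tel5.K (nat_lit 3) && Nat.beq (ltAll 1 [nat_lit 0]) 0 && Nat.beq (apW e_P [nat_lit 0] (nat_lit 3)) (tel5.Pt 0)) = true := by decide +kernel
theorem cec4_e_0 : allZ (dent cec4 cee_P (nat_lit 11)) (nat_lit 0) (nat_lit 3) = true := by decide +kernel
theorem cec4_h : 0 < cec4.n ∧ 0 < cec4.K ∧ cec4.Pt 0 < 11 ∧ cec4.Q (cec4.Pt 0) = 0 := by decide +kernel
theorem ten2_0 : (Nat.ble tel4.K 11 && Nat.beq (ltAll 11 [tel3.Pt 0, tel2.Pt 0, tel1.Pt 0, tel0.Pt 0]) 0 && kChk cee_P e_P ten2.Kn 1 H16.A11.B [tel3.Pt 0, tel2.Pt 0, tel1.Pt 0, tel0.Pt 0] && allL (ltAll 1) ten2.pre && planOK teh_P e_P 1 (tel4.Pt 0) ten2.plan [tel4, tel5, tel6, tel7, tel8]) = true := by decide +kernel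
theorem ten2_1_0 : allZ (ten2.ent H16.A11.P teh_P e_P e_P cee_P (nat_lit 10) (nat_lit 1) H16.A11.B tel4 [tel5, tel6, tel7, tel8] (memO cec4)) (nat_lit 0) (nat_lit 7) = true := by decide +kernel
theorem ce_f4 : (Nat.ble cec4.K 6 && Nat.ble (topK [cec6, cec8]) cec4.K && Nat.beq (cec4.Pt 0) (tel4.Pt 0) && Nat.beq (ltAll 11 [tel3.Pt 0, tel2.Pt 0, tel1.Pt 0, tel0.Pt 0]) 0 && kChk cee_P e_P cec4.K 1 H16.A11.B [tel3.Pt 0, tel2.Pt 0, tel1.Pt 0, tel0.Pt 0]) = true := by decide +kernel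
theorem ce_f3 : (Nat.ble tel3.K 11 && Nat.blt (nat_lit 2) 11 && fixLetters teh_P tel3.K (nat_lit 2) && Nat.beq (ltAll 1 [nat_lit 0]) 0 && Nat.beq (apW e_P [nat_lit 0] (nat_lit 2)) (tel3.Pt 0)) = true := by decide +kernel
theorem cec2_e_0 : allZ (dent cec2 cee_P (nat_lit 11)) (nat_lit 0) (nat_lit 5) = true := by decide +kernel
theorem cec2_h : 0 < cec2.n ∧ 0 < cec2.K ∧ cec2.Pt 0 < 11 ∧ cec2.Q (cec2.Pt 0) = 0 := by decide +kernel
theorem ten3_0 : (Nat.ble tel2.K 11 && Nat.beq (ltAll 11 [tel1.Pt 0, tel0.Pt 0]) 0 && kChk cee_P e_P ten3.Kn 1 H16.A11.B [tel1.Pt 0, tel0.Pt 0] && allL (ltAll 1) ten3.pre && planOK teh_P e_P 1 (tel2.Pt 0) ten3.plan [tel2, tel3, tel4, tel5, tel6, tel7, tel8]) = true := by decide +kernel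
theorem ten3_1_0 : allZ (ten3.ent H16.A11.P teh_P e_P e_P cee_P (nat_lit 10) (nat_lit 1) H16.A11.B tel2 [tel3, tel4, tel5, tel6, tel7, tel8] (memO cec2)) (nat_lit 0) (nat_lit 9) = true := by decide +kernel
theorem ce_f2 : (Nat.ble cec2.K 6 && Nat.ble (topK [cec4, cec6, cec8]) cec2.K && Nat.beq (cec2.Pt 0) (tel2.Pt 0) && Nat.beq (ltAll 11 [tel1.Pt 0, tel0.Pt 0]) 0 && kChk cee_P e_P cec2.K 1 H16.A11.B [tel1.Pt 0, tel0.Pt 0]) = true := by decide +kernel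
theorem ce_f1 : (Nat.ble tel1.K 11 && Nat.blt (nat_lit 0) 11 && fixLetters teh_P tel1.K (nat_lit 0) && Nat.beq (ltAll 1 [nat_lit 0]) 0 && Nat.beq (apW e_P [nat_lit 0] (nat_lit 0)) (tel1.Pt 0)) = true := by decide +kernel
theorem cec0_e_0 : allZ (dent cec0 cee_P (nat_lit 11)) (nat_lit 0) (nat_lit 7) = true := by decide +kernel
theorem cec0_h : 0 < cec0.n ∧ 0 < cec0.K ∧ cec0.Pt 0 < 11 ∧ cec0.Q (cec0.Pt 0) = 0 := by decide +kernel
theorem ten4_0 : (Nat.ble tel0.K 11 && Nat.beq (ltAll 11 []) 0 && kChk cee_P e_P ten4.Kn 1 H16.A11.B [] && allL (ltAll 1) ten4.pre && planOK teh_P e_P 1 (tel0.Pt 0) ten4.plan [tel0, tel1, tel2, tel3, tel4, tel5, tel6, tel7, tel8]) = true := by decide +kernel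
theorem ten4_1_0 : allZ (ten4.ent H16.A11.P teh_P e_P e_P cee_P (nat_lit 10) (nat_lit 1) H16.A11.B tel0 [tel1, tel2, tel3, tel4, tel5, tel6, tel7, tel8] (memO cec0)) (nat_lit 0) (nat_lit 11) = true := by decide +kernel
theorem ce_f0 : (Nat.ble cec0.K 6 && Nat.ble (topK [cec2, cec4, cec6, cec8]) cec0.K && Nat.beq (cec0.Pt 0) (tel0.Pt 0) && Nat.beq (ltAll 11 []) 0 && kChk cee_P e_P cec0.K 1 H16.A11.B []) = true := by decide +kernel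
theorem ce_c : chainCard [cec0, cec2, cec4, cec6, cec8] = 1152 ∧ topK [cec0, cec2, cec4, cec6, cec8] = 6 := by decide +kernel
theorem x_lt : allL (ltAll 10) x_W = true := by decide +kernel
theorem txh_lt : allL (ltAll 10) txh_W = true := by decide +kernel
theorem txl0_e_0 : allZ (dent txl0 txh_P (nat_lit 11)) (nat_lit 0) (nat_lit 10) = true := by decide +kernel
theorem txl0_h : 0 < txl0.n ∧ 0 < txl0.K ∧ txl0.Pt 0 < 11 ∧ txl0.Q (txl0.Pt 0) = 0 := by decide +kernel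
theorem txl1_e_0 : allZ (dent txl1 txh_P (nat_lit 11)) (nat_lit 0) (nat_lit 9) = true := by decide +kernel
theorem txl1_h : 0 < txl1.n ∧ 0 < txl1.K ∧ txl1.Pt 0 < 11 ∧ txl1.Q (txl1.Pt 0) = 0 := by decide +kernel
theorem txl2_e_0 : allZ (dent txl2 txh_P (nat_lit 11)) (nat_lit 0) (nat_lit 8) = true := by decide +kernel
theorem txl2_h : 0 < txl2.n ∧ 0 < txl2.K ∧ txl2.Pt 0 < 11 ∧ txl2.Q (txl2.Pt 0) = 0 := by decide +kernel
theorem txl3_e_0 : allZ (dent txl3 txh_P (nat_lit 11)) (nat_lit 0) (nat_lit 7) = true := by decide +kernel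
theorem txl3_h : 0 < txl3.n ∧ 0 < txl3.K ∧ txl3.Pt 0 < 11 ∧ txl3.Q (txl3.Pt 0) = 0 := by decide +kernel
theorem txl4_e_0 : allZ (dent txl4 txh_P (nat_lit 11)) (nat_lit 0) (nat_lit 6) = true := by decide +kernel
theorem txl4_h : 0 < txl4.n ∧ 0 < txl4.K ∧ txl4.Pt 0 < 11 ∧ txl4.Q (txl4.Pt 0) = 0 := by decide +kernel
theorem txl5_e_0 : allZ (dent txl5 txh_P (nat_lit 11)) (nat_lit 0) (nat_lit 5) = true := by decide +kernel
theorem txl5_h : 0 < txl5.n ∧ 0 < txl5.K ∧ txl5.Pt 0 < 11 ∧ txl5.Q (txl5.Pt 0) = 0 := by decide +kernel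
theorem txl6_e_0 : allZ (dent txl6 txh_P (nat_lit 11)) (nat_lit 0) (nat_lit 4) = true := by decide +kernel
theorem txl6_h : 0 < txl6.n ∧ 0 < txl6.K ∧ txl6.Pt 0 < 11 ∧ txl6.Q (txl6.Pt 0) = 0 := by decide +kernel
theorem txl7_e_0 : allZ (dent txl7 txh_P (nat_lit 11)) (nat_lit 0) (nat_lit 3) = true := by decide +kernel
theorem txl7_h : 0 < txl7.n ∧ 0 < txl7.K ∧ txl7.Pt 0 < 11 ∧ txl7.Q (txl7.Pt 0) = 0 := by decide +kernel
theorem txl8_e_0 : allZ (dent txl8 txh_P (nat_lit 11)) (nat_lit 0) (nat_lit 2) = true := by decide +kernel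
theorem txl8_h : 0 < txl8.n ∧ 0 < txl8.K ∧ txl8.Pt 0 < 11 ∧ txl8.Q (txl8.Pt 0) = 0 := by decide +kernel
theorem tx_f8 : (Nat.ble txl8.K 17 && Nat.ble (topK []) txl8.K && fixLetters txh_P (topK []) (txl8.Pt 0)) = true := by decide +kernel
theorem tx_f7 : (Nat.ble txl7.K 17 && Nat.ble (topK [txl8]) txl7.K && fixLetters txh_P (topK [txl8]) (txl7.Pt 0)) = true := by decide +kernel
theorem tx_f6 : (Nat.ble txl6.K 17 && Nat.ble (topK [txl7, txl8]) txl6.K && fixLetters txh_P (topK [txl7, txl8]) (txl6.Pt 0)) = true := by decide +kernel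
theorem tx_f5 : (Nat.ble txl5.K 17 && Nat.ble (topK [txl6, txl7, txl8]) txl5.K && fixLetters txh_P (topK [txl6, txl7, txl8]) (txl5.Pt 0)) = true := by decide +kernel
theorem tx_f4 : (Nat.ble txl4.K 17 && Nat.ble (topK [txl5, txl6, txl7, txl8]) txl4.K && fixLetters txh_P (topK [txl5, txl6, txl7, txl8]) (txl4.Pt 0)) = true := by decide +kernel
theorem tx_f3 : (Nat.ble txl3.K 17 && Nat.ble (topK [txl4, txl5, txl6, txl7, txl8]) txl3.K && fixLetters txh_P (topK [txl4, txl5, txl6, txl7, txl8]) (txl3.Pt 0)) = true := by decide +kernel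
theorem tx_f2 : (Nat.ble txl2.K 17 && Nat.ble (topK [txl3, txl4, txl5, txl6, txl7, txl8]) txl2.K && fixLetters txh_P (topK [txl3, txl4, txl5, txl6, txl7, txl8]) (txl2.Pt 0)) = true := by decide +kernel
theorem tx_f1 : (Nat.ble txl1.K 17 && Nat.ble (topK [txl2, txl3, txl4, txl5, txl6, txl7, txl8]) txl1.K && fixLetters txh_P (topK [txl2, txl3, txl4, txl5, txl6, txl7, txl8]) (txl1.Pt 0)) = true := by decide +kernel
theorem tx_f0 : (Nat.ble txl0.K 17 && Nat.ble (topK [txl1, txl2, txl3, txl4, txl5, txl6, txl7, txl8]) txl0.K && fixLetters txh_P (topK [txl1, txl2, txl3, txl4, txl5, txl6, txl7, txl8]) (txl0.Pt 0)) = true := by decide +kernel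
theorem tx_c : chainCard [txl0, txl1, txl2, txl3, txl4, txl5, txl6, txl7, txl8] = 19958400 := by decide +kernel
theorem cxe_lt : allL (ltAll 10) cxe_W = true := by decide +kernel
theorem cxc8_e_0 : allZ (dent cxc8 cxe_P (nat_lit 11)) (nat_lit 0) (nat_lit 2) = true := by decide +kernel
theorem cxc8_h : 0 < cxc8.n ∧ 0 < cxc8.K ∧ cxc8.Pt 0 < 11 ∧ cxc8.Q (cxc8.Pt 0) = 0 := by decide +kernel
theorem txn0_0 : (Nat.ble txl8.K 17 && Nat.beq (ltAll 11 [txl7.Pt 0, txl6.Pt 0, txl5.Pt 0, txl4.Pt 0, txl3.Pt 0, txl2.Pt 0, txl1.Pt 0, txl0.Pt 0]) 0 && kChk cxe_P x_P txn0.Kn 1 H16.A11.B [txl7.Pt 0, txl6.Pt 0, txl5.Pt 0, txl4.Pt 0, txl3.Pt 0, txl2.Pt 0, txl1.Pt 0, txl0.Pt 0] && allL (ltAll 1) txn0.pre && planOK txh_P x_P 1 (txl8.Pt 0) txn0.plan [txl8]) = true := by decide +kernel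
theorem txn0_1_0 : allZ (txn0.ent H16.A11.P txh_P x_P x_P cxe_P (nat_lit 10) (nat_lit 1) H16.A11.B txl8 [] (memO cxc8)) (nat_lit 0) (nat_lit 3) = true := by decide +kernel
theorem cx_f8 : (Nat.ble cxc8.K 7 && Nat.ble (topK []) cxc8.K && Nat.beq (cxc8.Pt 0) (txl8.Pt 0) && Nat.beq (ltAll 11 [txl7.Pt 0, txl6.Pt 0, txl5.Pt 0, txl4.Pt 0, txl3.Pt 0, txl2.Pt 0, txl1.Pt 0, txl0.Pt 0]) 0 && kChk cxe_P x_P cxc8.K 1 H16.A11.B [txl7.Pt 0, txl6.Pt 0, txl5.Pt 0, txl4.Pt 0, txl3.Pt 0, txl2.Pt 0, txl1.Pt 0, txl0.Pt 0]) = true := by decide +kernel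
theorem cxc7_e_0 : allZ (dent cxc7 cxe_P (nat_lit 11)) (nat_lit 0) (nat_lit 3) = true := by decide +kernel
theorem cxc7_h : 0 < cxc7.n ∧ 0 < cxc7.K ∧ cxc7.Pt 0 < 11 ∧ cxc7.Q (cxc7.Pt 0) = 0 := by decide +kernel
theorem txn1_0 : (Nat.ble txl7.K 17 && Nat.beq (ltAll 11 [txl6.Pt 0, txl5.Pt 0, txl4.Pt 0, txl3.Pt 0, txl2.Pt 0, txl1.Pt 0, txl0.Pt 0]) 0 && kChk cxe_P x_P txn1.Kn 1 H16.A11.B [txl6.Pt 0, txl5.Pt 0, txl4.Pt 0, txl3.Pt 0, txl2.Pt 0, txl1.Pt 0, txl0.Pt 0] && allL (ltAll 1) txn1.pre && planOK txh_P x_P 1 (txl7.Pt 0) txn1.plan [txl7, txl8]) = true := by decide +kernel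
theorem txn1_1_0 : allZ (txn1.ent H16.A11.P txh_P x_P x_P cxe_P (nat_lit 10) (nat_lit 1) H16.A11.B txl7 [txl8] (memO cxc7)) (nat_lit 0) (nat_lit 4) = true := by decide +kernel
theorem cx_f7 : (Nat.ble cxc7.K 7 && Nat.ble (topK [cxc8]) cxc7.K && Nat.beq (cxc7.Pt 0) (txl7.Pt 0) && Nat.beq (ltAll 11 [txl6.Pt 0, txl5.Pt 0, txl4.Pt 0, txl3.Pt 0, txl2.Pt 0, txl1.Pt 0, txl0.Pt 0]) 0 && kChk cxe_P x_P cxc7.K 1 H16.A11.B [txl6.Pt 0, txl5.Pt 0, txl4.Pt 0, txl3.Pt 0, txl2.Pt 0, txl1.Pt 0, txl0.Pt 0]) = true := by decide +kernel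
theorem cxc6_e_0 : allZ (dent cxc6 cxe_P (nat_lit 11)) (nat_lit 0) (nat_lit 4) = true := by decide +kernel
theorem cxc6_h : 0 < cxc6.n ∧ 0 < cxc6.K ∧ cxc6.Pt 0 < 11 ∧ cxc6.Q (cxc6.Pt 0) = 0 := by decide +kernel
theorem txn2_0 : (Nat.ble txl6.K 17 && Nat.beq (ltAll 11 [txl5.Pt 0, txl4.Pt 0, txl3.Pt 0, txl2.Pt 0, txl1.Pt 0, txl0.Pt 0]) 0 && kChk cxe_P x_P txn2.Kn 1 H16.A11.B [txl5.Pt 0, txl4.Pt 0, txl3.Pt 0, txl2.Pt 0, txl1.Pt 0, txl0.Pt 0] && allL (ltAll 1) txn2.pre && planOK txh_P x_P 1 (txl6.Pt 0) txn2.plan [txl6, txl7, txl8]) = true := by decide +kernel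
theorem txn2_1_0 : allZ (txn2.ent H16.A11.P txh_P x_P x_P cxe_P (nat_lit 10) (nat_lit 1) H16.A11.B txl6 [txl7, txl8] (memO cxc6)) (nat_lit 0) (nat_lit 5) = true := by decide +kernel
theorem cx_f6 : (Nat.ble cxc6.K 7 && Nat.ble (topK [cxc7, cxc8]) cxc6.K && Nat.beq (cxc6.Pt 0) (txl6.Pt 0) && Nat.beq (ltAll 11 [txl5.Pt 0, txl4.Pt 0, txl3.Pt 0, txl2.Pt 0, txl1.Pt 0, txl0.Pt 0]) 0 && kChk cxe_P x_P cxc6.K 1 H16.A11.B [txl5.Pt 0, txl4.Pt 0, txl3.Pt 0, txl2.Pt 0, txl1.Pt 0, txl0.Pt 0]) = true := by decide +kernel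
theorem cxc5_e_0 : allZ (dent cxc5 cxe_P (nat_lit 11)) (nat_lit 0) (nat_lit 5) = true := by decide +kernel
theorem cxc5_h : 0 < cxc5.n ∧ 0 < cxc5.K ∧ cxc5.Pt 0 < 11 ∧ cxc5.Q (cxc5.Pt 0) = 0 := by decide +kernel
theorem txn3_0 : (Nat.ble txl5.K 17 && Nat.beq (ltAll 11 [txl4.Pt 0, txl3.Pt 0, txl2.Pt 0, txl1.Pt 0, txl0.Pt 0]) 0 && kChk cxe_P x_P txn3.Kn 1 H16.A11.B [txl4.Pt 0, txl3.Pt 0, txl2.Pt 0, txl1.Pt 0, txl0.Pt 0] && allL (ltAll 1) txn3.pre && planOK txh_P x_P 1 (txl5.Pt 0) txn3.plan [txl5, txl6, txl7, txl8]) = true := by decide +kernel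
theorem txn3_1_0 : allZ (txn3.ent H16.A11.P txh_P x_P x_P cxe_P (nat_lit 10) (nat_lit 1) H16.A11.B txl5 [txl6, txl7, txl8] (memO cxc5)) (nat_lit 0) (nat_lit 6) = true := by decide +kernel
theorem cx_f5 : (Nat.ble cxc5.K 7 && Nat.ble (topK [cxc6, cxc7, cxc8]) cxc5.K && Nat.beq (cxc5.Pt 0) (txl5.Pt 0) && Nat.beq (ltAll 11 [txl4.Pt 0, txl3.Pt 0, txl2.Pt 0, txl1.Pt 0, txl0.Pt 0]) 0 && kChk cxe_P x_P cxc5.K 1 H16.A11.B [txl4.Pt 0, txl3.Pt 0, txl2.Pt 0, txl1.Pt 0, txl0.Pt 0]) = true := by decide +kernel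
theorem cxc4_e_0 : allZ (dent cxc4 cxe_P (nat_lit 11)) (nat_lit 0) (nat_lit 6) = true := by decide +kernel
theorem cxc4_h : 0 < cxc4.n ∧ 0 < cxc4.K ∧ cxc4.Pt 0 < 11 ∧ cxc4.Q (cxc4.Pt 0) = 0 := by decide +kernel
theorem txn4_0 : (Nat.ble txl4.K 17 && Nat.beq (ltAll 11 [txl3.Pt 0, txl2.Pt 0, txl1.Pt 0, txl0.Pt 0]) 0 && kChk cxe_P x_P txn4.Kn 1 H16.A11.B [txl3.Pt 0, txl2.Pt 0, txl1.Pt 0, txl0.Pt 0] && allL (ltAll 1) txn4.pre && planOK txh_P x_P 1 (txl4.Pt 0) txn4.plan [txl4, txl5, txl6, txl7, txl8]) = true := by decide +kernel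
theorem txn4_1_0 : allZ (txn4.ent H16.A11.P txh_P x_P x_P cxe_P (nat_lit 10) (nat_lit 1) H16.A11.B txl4 [txl5, txl6, txl7, txl8] (memO cxc4)) (nat_lit 0) (nat_lit 7) = true := by decide +kernel
theorem cx_f4 : (Nat.ble cxc4.K 7 && Nat.ble (topK [cxc5, cxc6, cxc7, cxc8]) cxc4.K && Nat.beq (cxc4.Pt 0) (txl4.Pt 0) && Nat.beq (ltAll 11 [txl3.Pt 0, txl2.Pt 0, txl1.Pt 0, txl0.Pt 0]) 0 && kChk cxe_P x_P cxc4.K 1 H16.A11.B [txl3.Pt 0, txl2.Pt 0, txl1.Pt 0, txl0.Pt 0]) = true := by decide +kernel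
theorem cxc3_e_0 : allZ (dent cxc3 cxe_P (nat_lit 11)) (nat_lit 0) (nat_lit 7) = true := by decide +kernel
theorem cxc3_h : 0 < cxc3.n ∧ 0 < cxc3.K ∧ cxc3.Pt 0 < 11 ∧ cxc3.Q (cxc3.Pt 0) = 0 := by decide +kernel
theorem txn5_0 : (Nat.ble txl3.K 17 && Nat.beq (ltAll 11 [txl2.Pt 0, txl1.Pt 0, txl0.Pt 0]) 0 && kChk cxe_P x_P txn5.Kn 1 H16.A11.B [txl2.Pt 0, txl1.Pt 0, txl0.Pt 0] && allL (ltAll 1) txn5.pre && planOK txh_P x_P 1 (txl3.Pt 0) txn5.plan [txl3, txl4, txl5, txl6, txl7, txl8]) = true := by decide +kernel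
theorem txn5_1_0 : allZ (txn5.ent H16.A11.P txh_P x_P x_P cxe_P (nat_lit 10) (nat_lit 1) H16.A11.B txl3 [txl4, txl5, txl6, txl7, txl8] (memO cxc3)) (nat_lit 0) (nat_lit 8) = true := by decide +kernel
theorem cx_f3 : (Nat.ble cxc3.K 7 && Nat.ble (topK [cxc4, cxc5, cxc6, cxc7, cxc8]) cxc3.K && Nat.beq (cxc3.Pt 0) (txl3.Pt 0) && Nat.beq (ltAll 11 [txl2.Pt 0, txl1.Pt 0, txl0.Pt 0]) 0 && kChk cxe_P x_P cxc3.K 1 H16.A11.B [txl2.Pt 0, txl1.Pt 0, txl0.Pt 0]) = true := by decide +kernel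
theorem cx_f2 : (Nat.ble txl2.K 17 && Nat.blt (nat_lit 8) 11 && fixLetters txh_P txl2.K (nat_lit 8) && Nat.beq (ltAll 1 [nat_lit 0, nat_lit 0]) 0 && Nat.beq (apW x_P [nat_lit 0, nat_lit 0] (nat_lit 8)) (txl2.Pt 0)) = true := by decide +kernel
theorem cx_f1 : (Nat.ble txl1.K 17 && Nat.blt (nat_lit 8) 11 && fixLetters txh_P txl1.K (nat_lit 8) && Nat.beq (ltAll 1 [nat_lit 0]) 0 && Nat.beq (apW x_P [nat_lit 0] (nat_lit 8)) (txl1.Pt 0)) = true := by decide +kernel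
theorem cxc0_e_0 : allZ (dent cxc0 cxe_P (nat_lit 11)) (nat_lit 0) (nat_lit 2) = true := by decide +kernel
theorem cxc0_h : 0 < cxc0.n ∧ 0 < cxc0.K ∧ cxc0.Pt 0 < 11 ∧ cxc0.Q (cxc0.Pt 0) = 0 := by decide +kernel
theorem txn6_0 : (Nat.ble txl0.K 17 && Nat.beq (ltAll 11 []) 0 && kChk cxe_P x_P txn6.Kn 1 H16.A11.B [] && allL (ltAll 1) txn6.pre && planOK txh_P x_P 1 (txl0.Pt 0) txn6.plan [txl0, txl1, txl2, txl3, txl4, txl5, txl6, txl7, txl8]) = true := by decide +kernel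
theorem txn6_1_0 : allZ (txn6.ent H16.A11.P txh_P x_P x_P cxe_P (nat_lit 10) (nat_lit 1) H16.A11.B txl0 [txl1, txl2, txl3, txl4, txl5, txl6, txl7, txl8] (memO cxc0)) (nat_lit 0) (nat_lit 11) = true := by decide +kernel
theorem cx_f0 : (Nat.ble cxc0.K 7 && Nat.ble (topK [cxc3, cxc4, cxc5, cxc6, cxc7, cxc8]) cxc0.K && Nat.beq (cxc0.Pt 0) (txl0.Pt 0) && Nat.beq (ltAll 11 []) 0 && kChk cxe_P x_P cxc0.K 1 H16.A11.B []) = true := by decide +kernel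
theorem cx_c : chainCard [cxc0, cxc3, cxc4, cxc5, cxc6, cxc7, cxc8] = 60480 ∧ topK [cxc0, cxc3, cxc4, cxc5, cxc6, cxc7, cxc8] = 7 := by decide +kernel
theorem gx : allZ (fun k => Nat.add (ltAll 6 (nth [] [[nat_lit 0, nat_lit 2, nat_lit 1, nat_lit 0, nat_lit 2, nat_lit 3, nat_lit 0, nat_lit 1, nat_lit 3, nat_lit 0],
  [nat_lit 2, nat_lit 3, nat_lit 0, nat_lit 2, nat_lit 0, nat_lit 1, nat_lit 2, nat_lit 3, nat_lit 1, nat_lit 0, nat_lit 3, nat_lit 0],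
  [nat_lit 1, nat_lit 2, nat_lit 1, nat_lit 0, nat_lit 2, nat_lit 3, nat_lit 1, nat_lit 0, nat_lit 3, nat_lit 1],
  [nat_lit 1, nat_lit 2, nat_lit 1, nat_lit 3, nat_lit 0, nat_lit 1, nat_lit 3, nat_lit 0, nat_lit 1, nat_lit 2, nat_lit 0, nat_lit 3],
  [nat_lit 0, nat_lit 2, nat_lit 0, nat_lit 1, nat_lit 0, nat_lit 2, nat_lit 0, nat_lit 3, nat_lit 0, nat_lit 1, nat_lit 0, nat_lit 2, nat_lit 0, nat_lit 3],
  [nat_lit 1, nat_lit 2, nat_lit 3, nat_lit 0, nat_lit 2, nat_lit 0, nat_lit 1, nat_lit 3, nat_lit 0, nat_lit 2, nat_lit 3],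
  [nat_lit 2, nat_lit 3, nat_lit 0, nat_lit 3, nat_lit 1, nat_lit 0, nat_lit 2, nat_lit 0, nat_lit 3, nat_lit 1, nat_lit 0, nat_lit 3, nat_lit 5]] k)) (sumL (fun β => Nat.xor (cxe_P k β) (apW a_P (nth [] [[nat_lit 0, nat_lit 2, nat_lit 1, nat_lit 0, nat_lit 2, nat_lit 3, nat_lit 0, nat_lit 1, nat_lit 3, nat_lit 0],
  [nat_lit 2, nat_lit 3, nat_lit 0, nat_lit 2, nat_lit 0, nat_lit 1, nat_lit 2, nat_lit 3, nat_lit 1, nat_lit 0, nat_lit 3, nat_lit 0],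
  [nat_lit 1, nat_lit 2, nat_lit 1, nat_lit 0, nat_lit 2, nat_lit 3, nat_lit 1, nat_lit 0, nat_lit 3, nat_lit 1],
  [nat_lit 1, nat_lit 2, nat_lit 1, nat_lit 3, nat_lit 0, nat_lit 1, nat_lit 3, nat_lit 0, nat_lit 1, nat_lit 2, nat_lit 0, nat_lit 3],
  [nat_lit 0, nat_lit 2, nat_lit 0, nat_lit 1, nat_lit 0, nat_lit 2, nat_lit 0, nat_lit 3, nat_lit 0, nat_lit 1, nat_lit 0, nat_lit 2, nat_lit 0, nat_lit 3],
  [nat_lit 1, nat_lit 2, nat_lit 3, nat_lit 0, nat_lit 2, nat_lit 0, nat_lit 1, nat_lit 3, nat_lit 0, nat_lit 2, nat_lit 3],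
  [nat_lit 2, nat_lit 3, nat_lit 0, nat_lit 3, nat_lit 1, nat_lit 0, nat_lit 2, nat_lit 0, nat_lit 3, nat_lit 1, nat_lit 0, nat_lit 3, nat_lit 5]] k) β)) H16.A11.B)) 0 7 = true := by decide +kernel
theorem x_e : nth [] e_W 0 = nth [] a_W 10 ∧ nth [] x_W 0 = nth [] a_W 5 ∧ eqL H16.A11.P 10 H16.A11.B (nth [] covr_W 0) (nth [] a_W 15) = 0 ∧ eqL H16.A11.P 10 H16.A11.B (nth [] covr_W 1) (nth [] a_W 10) = 0 := by decide +kernel
theorem d_a : d_W.length = 1152 ∧ incr κ d_W 0 = true := by decide +kernel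
theorem d_b : allB (allB (mem [nat_lit 0, nat_lit 5, nat_lit 6, nat_lit 7, nat_lit 10, nat_lit 11, nat_lit 12, nat_lit 13, nat_lit 14])) d_W = true ∧ allB (fun k => allB (fun Z => cjK κ [k] Z Z) [[nat_lit 10]]) [nat_lit 0, nat_lit 5, nat_lit 6, nat_lit 7, nat_lit 10, nat_lit 11, nat_lit 12, nat_lit 13, nat_lit 14] = true := by decide +kernel
theorem f2 : allB (fun W => cjK κ W [5] [5] || cjK κ W [5] [6]) d_W = true := by decide +kernel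
theorem f3 : allB (fun W => !(eqK κ (rep W 3) [] && allB (fun Y => cjK κ Y W W || cjK κ Y W (app W W)) [[nat_lit 13],
  [nat_lit 14]]) || anyB (eqK κ W) [[],
  [nat_lit 5],
  [nat_lit 6]]) d_W = true := by decide +kernel
theorem ee : eqK κ [nat_lit 2, nat_lit 3, nat_lit 2, nat_lit 3] [] = true ∧ eqK κ [nat_lit 5] [] = false := by decide +kernel
theorem s_lt : allL (ltAll 10) s_W = true := by decide +kernel
theorem sw : allL (fixL H16.A11.P 10 H16.A11.B) H16.A11.Rl = true ∧ allL (fixL s_P 10 H16.A11.B) H16.A11.Rl = true ∧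
    allZ (fun k => Nat.add (ltAll 10 (nth [] s_W k)) (sumL (fun β => Nat.xor (H16.A11.P k β) (apW s_P (nth [] s_W k) β)) H16.A11.B)) 0 10 = true := by decide +kernel
theorem sx : allL (ltAll 10) UA = true ∧ (∀ k < 4, eqL H16.A11.P 10 H16.A11.B (fl s_W (nth [] UA k)) (nth [] UA k) = 0) ∧ eqL H16.A11.P 10 H16.A11.B (fl s_W (nth [] UA 5)) (nth [] UA 6) = 0 := by decide +kernel

theorem md {G : Type*} [Group G] (e : gen H16.A11.g 10 ≃* G) :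
    ∃ (_ : MulAction G (Fin 11)) (g : ℕ → G), Md g (ptF 11) H16.A11.P 11 10 H16.A11.B 19958400 ∧
      ∀ k < 10, (e.symm (g k)).1 = H16.A11.g k :=
  exists_md H16.A11.act (ptF_inj 11) H16.A11.card H16.A11.isBase md_b e
theorem a_m : ∀ k < 16, ∀ i < 11, (matEnt (wdsP H16.A11.P a_W) a_P) k i = 0 := allZ2_sound a_m_a
theorem a_act {G Ω : Type*} [Group G] [MulAction G Ω] {g : ℕ → G} {pt : ℕ → Ω}
    (M : Md g pt H16.A11.P 11 10 H16.A11.B 19958400) : H16.Act (wds g a_W) pt a_P 11 16 :=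
  act_mat (M.wact a_lt) a_m
theorem p2t_act {G Ω : Type*} [Group G] [MulAction G Ω] {g : ℕ → G} {pt : ℕ → Ω}
    (M : Md g pt H16.A11.P 11 10 H16.A11.B 19958400) : H16.Act (wds g p2t_W) pt p2t_P 11 7 :=
  M.wact p2t_lt
theorem p2_r : ∀ k < 7, ∀ i < 11, (resEnt p2t_P p2P p2E p2I (nat_lit 11) (nat_lit 11)) k i = 0 := allZ2_sound p2_r_a
theorem p2_sm {G Ω : Type*} [Group G] [MulAction G Ω] {g : ℕ → G} {pt : ℕ → Ω}
    (M : Md g pt H16.A11.P 11 10 H16.A11.B 19958400) : Sm (wds g p2t_W) (fun i => pt (p2E i)) p2P 11 7 p2B ∧ ∀ i < 11, p2E i < 11 :=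
  M.res (p2t_act M) (by decide) p2_r p2_b
theorem p2l0_e : ∀ i < 7, (dent p2l0 (wdsP p2P p2e) (nat_lit 11)) i = 0 := allZ_sound0 p2l0_e_0
theorem p2l0_ok : DOK p2l0 (wdsP p2P p2e) 11 := ⟨p2l0_h, p2l0_e⟩
theorem p2l1_e : ∀ i < 3, (dent p2l1 (wdsP p2P p2e) (nat_lit 11)) i = 0 := allZ_sound0 p2l1_e_0
theorem p2l1_ok : DOK p2l1 (wdsP p2P p2e) 11 := ⟨p2l1_h, p2l1_e⟩
theorem p2l2_e : ∀ i < 1, (dent p2l2 (wdsP p2P p2e) (nat_lit 11)) i = 0 := allZ_sound0 p2l2_e_0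
theorem p2l2_ok : DOK p2l2 (wdsP p2P p2e) 11 := ⟨p2l2_h, p2l2_e⟩
theorem p2l3_e : ∀ i < 1, (dent p2l3 (wdsP p2P p2e) (nat_lit 11)) i = 0 := allZ_sound0 p2l3_e_0
theorem p2l3_ok : DOK p2l3 (wdsP p2P p2e) 11 := ⟨p2l3_h, p2l3_e⟩
theorem p2_low {G Ω : Type*} [Group G] [MulAction G Ω] {g : ℕ → G} {pt : ℕ → Ω}
    (M : Md g pt H16.A11.P 11 10 H16.A11.B 19958400) : SLow (gi (wds (wds g p2t_W) p2e)) (fun i => pt (p2E i)) 11 [p2l0, p2l1, p2l2, p2l3] :=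
  ((((SLow.nil).cons p2l3_ok ((p2_sm M).1.act.wds p2_e 46) p2_f3).cons p2l2_ok ((p2_sm M).1.act.wds p2_e 46) p2_f2).cons p2l1_ok ((p2_sm M).1.act.wds p2_e 46) p2_f1).cons p2l0_ok ((p2_sm M).1.act.wds p2_e 46) p2_f0
theorem p2_pc {G Ω : Type*} [Group G] [MulAction G Ω] {g : ℕ → G} {pt : ℕ → Ω}
    (M : Md g pt H16.A11.P 11 10 H16.A11.B 19958400) : PC (wds g p2t_W) 7 2 :=
  have := M.fin
  ((p2_sm M).1.pc0 (by decide) p2_p).pc (p2_low M) (p2_sm M).1.inj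
    (fun k => evA_mem_gen _ (nth_lt p2_e k)) M.card ⟨by decide, p2_c⟩
theorem covr_act {G Ω : Type*} [Group G] [MulAction G Ω] {g : ℕ → G} {pt : ℕ → Ω}
    (M : Md g pt H16.A11.P 11 10 H16.A11.B 19958400) : H16.Act (wds g covr_W) pt covr_P 11 2 :=
  M.wact covr_lt
theorem cov_0 {G Ω : Type*} [Group G] [MulAction G Ω] {g : ℕ → G} {pt : ℕ → Ω}
    (M : Md g pt H16.A11.P 11 10 H16.A11.B 19958400) : Cov (wds g p2t_W) (wds g covr_W) 2 2 7 (evA (wds g p2t_W) []) :=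
  have := M.fin
  covT0.cov M (p2_sm M).1 (p2_sm M).2 (covr_act M) (p2_pc M) _ _ cov_c0
theorem cov {G Ω : Type*} [Group G] [MulAction G Ω] {g : ℕ → G} {pt : ℕ → Ω}
    (M : Md g pt H16.A11.P 11 10 H16.A11.B 19958400) {y : G} {e : ℕ} (hy : y ^ 2 ^ e = 1) (hq : y ^ 2 = 1) : Good (wds g covr_W) 2 y :=
  have := M.fin
  Cov.all (p2_pc M) (cov_0 M) hy hq
theorem e_act {G Ω : Type*} [Group G] [MulAction G Ω] {g : ℕ → G} {pt : ℕ → Ω}
    (M : Md g pt H16.A11.P 11 10 H16.A11.B 19958400) : H16.Act (wds g e_W) pt e_P 11 1 :=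
  M.wact e_lt
theorem teh_act {G Ω : Type*} [Group G] [MulAction G Ω] {g : ℕ → G} {pt : ℕ → Ω}
    (M : Md g pt H16.A11.P 11 10 H16.A11.B 19958400) : H16.Act (wds g teh_W) pt teh_P 11 11 :=
  M.wact teh_lt
theorem tel0_e : ∀ i < 10, (dent tel0 teh_P (nat_lit 11)) i = 0 := allZ_sound0 tel0_e_0
theorem tel0_ok : DOK tel0 teh_P 11 := ⟨tel0_h, tel0_e⟩
theorem tel1_e : ∀ i < 9, (dent tel1 teh_P (nat_lit 11)) i = 0 := allZ_sound0 tel1_e_0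
theorem tel1_ok : DOK tel1 teh_P 11 := ⟨tel1_h, tel1_e⟩
theorem tel2_e : ∀ i < 8, (dent tel2 teh_P (nat_lit 11)) i = 0 := allZ_sound0 tel2_e_0
theorem tel2_ok : DOK tel2 teh_P 11 := ⟨tel2_h, tel2_e⟩
theorem tel3_e : ∀ i < 7, (dent tel3 teh_P (nat_lit 11)) i = 0 := allZ_sound0 tel3_e_0
theorem tel3_ok : DOK tel3 teh_P 11 := ⟨tel3_h, tel3_e⟩
theorem tel4_e : ∀ i < 6, (dent tel4 teh_P (nat_lit 11)) i = 0 := allZ_sound0 tel4_e_0
theorem tel4_ok : DOK tel4 teh_P 11 := ⟨tel4_h, tel4_e⟩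
theorem tel5_e : ∀ i < 5, (dent tel5 teh_P (nat_lit 11)) i = 0 := allZ_sound0 tel5_e_0
theorem tel5_ok : DOK tel5 teh_P 11 := ⟨tel5_h, tel5_e⟩
theorem tel6_e : ∀ i < 4, (dent tel6 teh_P (nat_lit 11)) i = 0 := allZ_sound0 tel6_e_0
theorem tel6_ok : DOK tel6 teh_P 11 := ⟨tel6_h, tel6_e⟩
theorem tel7_e : ∀ i < 3, (dent tel7 teh_P (nat_lit 11)) i = 0 := allZ_sound0 tel7_e_0
theorem tel7_ok : DOK tel7 teh_P 11 := ⟨tel7_h, tel7_e⟩
theorem tel8_e : ∀ i < 2, (dent tel8 teh_P (nat_lit 11)) i = 0 := allZ_sound0 tel8_e_0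
theorem tel8_ok : DOK tel8 teh_P 11 := ⟨tel8_h, tel8_e⟩
theorem te_low {G Ω : Type*} [Group G] [MulAction G Ω] {g : ℕ → G} {pt : ℕ → Ω}
    (M : Md g pt H16.A11.P 11 10 H16.A11.B 19958400) : SLow (gi (wds g teh_W)) pt 11 [tel0, tel1, tel2, tel3, tel4, tel5, tel6, tel7, tel8] :=
  (((((((((SLow.nil).cons tel8_ok (teh_act M) te_f8).cons tel7_ok (teh_act M) te_f7).cons tel6_ok (teh_act M) te_f6).cons tel5_ok (teh_act M) te_f5).cons tel4_ok (teh_act M) te_f4).cons tel3_ok (teh_act M) te_f3).cons tel2_ok (teh_act M) te_f2).cons tel1_ok (teh_act M) te_f1).cons tel0_ok (teh_act M) te_f0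
theorem te_S0 {G Ω : Type*} [Group G] [MulAction G Ω] {g : ℕ → G} {pt : ℕ → Ω}
    (M : Md g pt H16.A11.P 11 10 H16.A11.B 19958400) : Stage ⊤ (wds g teh_W) pt 11 [tel0, tel1, tel2, tel3, tel4, tel5, tel6, tel7, tel8] [] :=
  M.stage (te_low M) te_c
theorem te_S1 {G Ω : Type*} [Group G] [MulAction G Ω] {g : ℕ → G} {pt : ℕ → Ω}
    (M : Md g pt H16.A11.P 11 10 H16.A11.B 19958400) : Stage ⊤ (wds g teh_W) pt 11 [tel1, tel2, tel3, tel4, tel5, tel6, tel7, tel8] [tel0.Pt 0] :=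
  (te_S0 M).next
theorem te_S2 {G Ω : Type*} [Group G] [MulAction G Ω] {g : ℕ → G} {pt : ℕ → Ω}
    (M : Md g pt H16.A11.P 11 10 H16.A11.B 19958400) : Stage ⊤ (wds g teh_W) pt 11 [tel2, tel3, tel4, tel5, tel6, tel7, tel8] [tel1.Pt 0, tel0.Pt 0] :=
  (te_S1 M).next
theorem te_S3 {G Ω : Type*} [Group G] [MulAction G Ω] {g : ℕ → G} {pt : ℕ → Ω}
    (M : Md g pt H16.A11.P 11 10 H16.A11.B 19958400) : Stage ⊤ (wds g teh_W) pt 11 [tel3, tel4, tel5, tel6, tel7, tel8] [tel2.Pt 0, tel1.Pt 0, tel0.Pt 0] :=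
  (te_S2 M).next
theorem te_S4 {G Ω : Type*} [Group G] [MulAction G Ω] {g : ℕ → G} {pt : ℕ → Ω}
    (M : Md g pt H16.A11.P 11 10 H16.A11.B 19958400) : Stage ⊤ (wds g teh_W) pt 11 [tel4, tel5, tel6, tel7, tel8] [tel3.Pt 0, tel2.Pt 0, tel1.Pt 0, tel0.Pt 0] :=
  (te_S3 M).next
theorem te_S5 {G Ω : Type*} [Group G] [MulAction G Ω] {g : ℕ → G} {pt : ℕ → Ω}
    (M : Md g pt H16.A11.P 11 10 H16.A11.B 19958400) : Stage ⊤ (wds g teh_W) pt 11 [tel5, tel6, tel7, tel8] [tel4.Pt 0, tel3.Pt 0, tel2.Pt 0, tel1.Pt 0, tel0.Pt 0] :=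
  (te_S4 M).next
theorem te_S6 {G Ω : Type*} [Group G] [MulAction G Ω] {g : ℕ → G} {pt : ℕ → Ω}
    (M : Md g pt H16.A11.P 11 10 H16.A11.B 19958400) : Stage ⊤ (wds g teh_W) pt 11 [tel6, tel7, tel8] [tel5.Pt 0, tel4.Pt 0, tel3.Pt 0, tel2.Pt 0, tel1.Pt 0, tel0.Pt 0] :=
  (te_S5 M).next
theorem te_S7 {G Ω : Type*} [Group G] [MulAction G Ω] {g : ℕ → G} {pt : ℕ → Ω}
    (M : Md g pt H16.A11.P 11 10 H16.A11.B 19958400) : Stage ⊤ (wds g teh_W) pt 11 [tel7, tel8] [tel6.Pt 0, tel5.Pt 0, tel4.Pt 0, tel3.Pt 0, tel2.Pt 0, tel1.Pt 0, tel0.Pt 0] :=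
  (te_S6 M).next
theorem te_S8 {G Ω : Type*} [Group G] [MulAction G Ω] {g : ℕ → G} {pt : ℕ → Ω}
    (M : Md g pt H16.A11.P 11 10 H16.A11.B 19958400) : Stage ⊤ (wds g teh_W) pt 11 [tel8] [tel7.Pt 0, tel6.Pt 0, tel5.Pt 0, tel4.Pt 0, tel3.Pt 0, tel2.Pt 0, tel1.Pt 0, tel0.Pt 0] :=
  (te_S7 M).next
theorem te_S9 {G Ω : Type*} [Group G] [MulAction G Ω] {g : ℕ → G} {pt : ℕ → Ω}
    (M : Md g pt H16.A11.P 11 10 H16.A11.B 19958400) : Stage ⊤ (wds g teh_W) pt 11 [] [tel8.Pt 0, tel7.Pt 0, tel6.Pt 0, tel5.Pt 0, tel4.Pt 0, tel3.Pt 0, tel2.Pt 0, tel1.Pt 0, tel0.Pt 0] :=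
  (te_S8 M).next
theorem cee_act {G Ω : Type*} [Group G] [MulAction G Ω] {g : ℕ → G} {pt : ℕ → Ω}
    (M : Md g pt H16.A11.P 11 10 H16.A11.B 19958400) : H16.Act (wds g cee_W) pt cee_P 11 6 :=
  M.wact cee_lt
theorem cec8_e : ∀ i < 2, (dent cec8 cee_P (nat_lit 11)) i = 0 := allZ_sound0 cec8_e_0
theorem cec8_ok : DOK cec8 cee_P 11 := ⟨cec8_h, cec8_e⟩
theorem ten0_1 : ∀ i < 3, (ten0.ent H16.A11.P teh_P e_P e_P cee_P (nat_lit 10) (nat_lit 1) H16.A11.B tel8 [] (memO cec8)) i = 0 := allZ_sound0 ten0_1_0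
theorem ten0_t {G Ω : Type*} [Group G] [MulAction G Ω] {g : ℕ → G} {pt : ℕ → Ω}
    (M : Md g pt H16.A11.P 11 10 H16.A11.B 19958400) : TrO (gen (wds g teh_W) tel8.K) (wds g e_W) (wds g e_W) 1 pt 11 (tel8.Pt 0) (memO cec8) :=
  node M (te_S8 M) (teh_act M) (e_act M) (e_act M) ten0 ((cee_act M).mono (by decide)) (fun _ _ => trivial) ten0_0 ten0_1 (List.forall_mem_nil _)
theorem cec6_e : ∀ i < 1, (dent cec6 cee_P (nat_lit 11)) i = 0 := allZ_sound0 cec6_e_0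
theorem cec6_ok : DOK cec6 cee_P 11 := ⟨cec6_h, cec6_e⟩
theorem ten1_1 : ∀ i < 5, (ten1.ent H16.A11.P teh_P e_P e_P cee_P (nat_lit 10) (nat_lit 1) H16.A11.B tel6 [tel7, tel8] (memO cec6)) i = 0 := allZ_sound0 ten1_1_0
theorem ten1_t {G Ω : Type*} [Group G] [MulAction G Ω] {g : ℕ → G} {pt : ℕ → Ω}
    (M : Md g pt H16.A11.P 11 10 H16.A11.B 19958400) : TrO (gen (wds g teh_W) tel6.K) (wds g e_W) (wds g e_W) 1 pt 11 (tel6.Pt 0) (memO cec6) :=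
  node M (te_S6 M) (teh_act M) (e_act M) (e_act M) ten1 ((cee_act M).mono (by decide)) (fun _ _ => trivial) ten1_0 ten1_1 (List.forall_mem_nil _)
theorem cec4_e : ∀ i < 3, (dent cec4 cee_P (nat_lit 11)) i = 0 := allZ_sound0 cec4_e_0
theorem cec4_ok : DOK cec4 cee_P 11 := ⟨cec4_h, cec4_e⟩
theorem ten2_1 : ∀ i < 7, (ten2.ent H16.A11.P teh_P e_P e_P cee_P (nat_lit 10) (nat_lit 1) H16.A11.B tel4 [tel5, tel6, tel7, tel8] (memO cec4)) i = 0 := allZ_sound0 ten2_1_0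
theorem ten2_t {G Ω : Type*} [Group G] [MulAction G Ω] {g : ℕ → G} {pt : ℕ → Ω}
    (M : Md g pt H16.A11.P 11 10 H16.A11.B 19958400) : TrO (gen (wds g teh_W) tel4.K) (wds g e_W) (wds g e_W) 1 pt 11 (tel4.Pt 0) (memO cec4) :=
  node M (te_S4 M) (teh_act M) (e_act M) (e_act M) ten2 ((cee_act M).mono (by decide)) (fun _ _ => trivial) ten2_0 ten2_1 (List.forall_mem_nil _)
theorem cec2_e : ∀ i < 5, (dent cec2 cee_P (nat_lit 11)) i = 0 := allZ_sound0 cec2_e_0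
theorem cec2_ok : DOK cec2 cee_P 11 := ⟨cec2_h, cec2_e⟩
theorem ten3_1 : ∀ i < 9, (ten3.ent H16.A11.P teh_P e_P e_P cee_P (nat_lit 10) (nat_lit 1) H16.A11.B tel2 [tel3, tel4, tel5, tel6, tel7, tel8] (memO cec2)) i = 0 := allZ_sound0 ten3_1_0
theorem ten3_t {G Ω : Type*} [Group G] [MulAction G Ω] {g : ℕ → G} {pt : ℕ → Ω}
    (M : Md g pt H16.A11.P 11 10 H16.A11.B 19958400) : TrO (gen (wds g teh_W) tel2.K) (wds g e_W) (wds g e_W) 1 pt 11 (tel2.Pt 0) (memO cec2) :=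
  node M (te_S2 M) (teh_act M) (e_act M) (e_act M) ten3 ((cee_act M).mono (by decide)) (fun _ _ => trivial) ten3_0 ten3_1 (List.forall_mem_nil _)
theorem cec0_e : ∀ i < 7, (dent cec0 cee_P (nat_lit 11)) i = 0 := allZ_sound0 cec0_e_0
theorem cec0_ok : DOK cec0 cee_P 11 := ⟨cec0_h, cec0_e⟩
theorem ten4_1 : ∀ i < 11, (ten4.ent H16.A11.P teh_P e_P e_P cee_P (nat_lit 10) (nat_lit 1) H16.A11.B tel0 [tel1, tel2, tel3, tel4, tel5, tel6, tel7, tel8] (memO cec0)) i = 0 := allZ_sound0 ten4_1_0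
theorem ten4_t {G Ω : Type*} [Group G] [MulAction G Ω] {g : ℕ → G} {pt : ℕ → Ω}
    (M : Md g pt H16.A11.P 11 10 H16.A11.B 19958400) : TrO (gen (wds g teh_W) tel0.K) (wds g e_W) (wds g e_W) 1 pt 11 (tel0.Pt 0) (memO cec0) :=
  node M (te_S0 M) (teh_act M) (e_act M) (e_act M) ten4 ((cee_act M).mono (by decide)) (fun _ _ => trivial) ten4_0 ten4_1 (List.forall_mem_nil _)
theorem ce {G Ω : Type*} [Group G] [MulAction G Ω] {g : ℕ → G} {pt : ℕ → Ω}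
    (M : Md g pt H16.A11.P 11 10 H16.A11.B 19958400) : Cen ⊤ (wds g e_W) 1 (wds g cee_W) pt 11 [cec0, cec2, cec4, cec6, cec8] :=
  (te_S0 M).top ▸ Cen.lev M (te_S0 M) (Cen.triv (te_S1 M) (Cen.lev M (te_S2 M) (Cen.triv (te_S3 M) (Cen.lev M (te_S4 M) (Cen.triv (te_S5 M) (Cen.lev M (te_S6 M) (Cen.triv (te_S7 M) (Cen.lev M (te_S8 M) (Cen.bot) (ten0_t M) (e_act M) (cee_act M) (fun _ _ => trivial) cec8_ok ce_f8) (forced (te_S7 M) (teh_act M) (e_act M) _ _ ce_f7)) (ten1_t M) (e_act M) (cee_act M) (fun _ _ => trivial) cec6_ok ce_f6) (forced (te_S5 M) (teh_act M) (e_act M) _ _ ce_f5)) (ten2_t M) (e_act M) (cee_act M) (fun _ _ => trivial) cec4_ok ce_f4) (forced (te_S3 M) (teh_act M) (e_act M) _ _ ce_f3)) (ten3_t M) (e_act M) (cee_act M) (fun _ _ => trivial) cec2_ok ce_f2) (forced (te_S1 M) (teh_act M) (e_act M) _ _ ce_f1)) (ten4_t M) (e_act M) (cee_act M) (fun _ _ =>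 trivial) cec0_ok ce_f0
theorem ce_card {G Ω : Type*} [Group G] [MulAction G Ω] {g : ℕ → G} {pt : ℕ → Ω}
    (M : Md g pt H16.A11.P 11 10 H16.A11.B 19958400) : Nat.card (Subgroup.centralizer {(wds g e_W) 0}) = 1152 :=
  (ce M).card_cent1 M.inj ce_c.1
theorem ce_eq {G Ω : Type*} [Group G] [MulAction G Ω] {g : ℕ → G} {pt : ℕ → Ω}
    (M : Md g pt H16.A11.P 11 10 H16.A11.B 19958400) : Subgroup.centralizer (gen (wds g e_W) 1) = gen (wds g cee_W) 6 ∧ Nat.card (gen (wds g cee_W) 6) = 1152 :=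
  ce_c.1 ▸ ce_c.2 ▸ ⟨(ce M).cent, (ce M).card M.inj⟩
theorem x_act {G Ω : Type*} [Group G] [MulAction G Ω] {g : ℕ → G} {pt : ℕ → Ω}
    (M : Md g pt H16.A11.P 11 10 H16.A11.B 19958400) : H16.Act (wds g x_W) pt x_P 11 1 :=
  M.wact x_lt
theorem txh_act {G Ω : Type*} [Group G] [MulAction G Ω] {g : ℕ → G} {pt : ℕ → Ω}
    (M : Md g pt H16.A11.P 11 10 H16.A11.B 19958400) : H16.Act (wds g txh_W) pt txh_P 11 17 :=
  M.wact txh_lt
theorem txl0_e : ∀ i < 10, (dent txl0 txh_P (nat_lit 11)) i = 0 := allZ_sound0 txl0_e_0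
theorem txl0_ok : DOK txl0 txh_P 11 := ⟨txl0_h, txl0_e⟩
theorem txl1_e : ∀ i < 9, (dent txl1 txh_P (nat_lit 11)) i = 0 := allZ_sound0 txl1_e_0
theorem txl1_ok : DOK txl1 txh_P 11 := ⟨txl1_h, txl1_e⟩
theorem txl2_e : ∀ i < 8, (dent txl2 txh_P (nat_lit 11)) i = 0 := allZ_sound0 txl2_e_0
theorem txl2_ok : DOK txl2 txh_P 11 := ⟨txl2_h, txl2_e⟩
theorem txl3_e : ∀ i < 7, (dent txl3 txh_P (nat_lit 11)) i = 0 := allZ_sound0 txl3_e_0
theorem txl3_ok : DOK txl3 txh_P 11 := ⟨txl3_h, txl3_e⟩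
theorem txl4_e : ∀ i < 6, (dent txl4 txh_P (nat_lit 11)) i = 0 := allZ_sound0 txl4_e_0
theorem txl4_ok : DOK txl4 txh_P 11 := ⟨txl4_h, txl4_e⟩
theorem txl5_e : ∀ i < 5, (dent txl5 txh_P (nat_lit 11)) i = 0 := allZ_sound0 txl5_e_0
theorem txl5_ok : DOK txl5 txh_P 11 := ⟨txl5_h, txl5_e⟩
theorem txl6_e : ∀ i < 4, (dent txl6 txh_P (nat_lit 11)) i = 0 := allZ_sound0 txl6_e_0
theorem txl6_ok : DOK txl6 txh_P 11 := ⟨txl6_h, txl6_e⟩
theorem txl7_e : ∀ i < 3, (dent txl7 txh_P (nat_lit 11)) i = 0 := allZ_sound0 txl7_e_0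
theorem txl7_ok : DOK txl7 txh_P 11 := ⟨txl7_h, txl7_e⟩
theorem txl8_e : ∀ i < 2, (dent txl8 txh_P (nat_lit 11)) i = 0 := allZ_sound0 txl8_e_0
theorem txl8_ok : DOK txl8 txh_P 11 := ⟨txl8_h, txl8_e⟩
theorem tx_low {G Ω : Type*} [Group G] [MulAction G Ω] {g : ℕ → G} {pt : ℕ → Ω}
    (M : Md g pt H16.A11.P 11 10 H16.A11.B 19958400) : SLow (gi (wds g txh_W)) pt 11 [txl0, txl1, txl2, txl3, txl4, txl5, txl6, txl7, txl8] :=
  (((((((((SLow.nil).cons txl8_ok (txh_act M) tx_f8).cons txl7_ok (txh_act M) tx_f7).cons txl6_ok (txh_act M) tx_f6).cons txl5_ok (txh_act M) tx_f5).cons txl4_ok (txh_act M) tx_f4).cons txl3_ok (txh_act M) tx_f3).cons txl2_ok (txh_act M) tx_f2).cons txl1_ok (txh_act M) tx_f1).cons txl0_ok (txh_act M) tx_f0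
theorem tx_S0 {G Ω : Type*} [Group G] [MulAction G Ω] {g : ℕ → G} {pt : ℕ → Ω}
    (M : Md g pt H16.A11.P 11 10 H16.A11.B 19958400) : Stage ⊤ (wds g txh_W) pt 11 [txl0, txl1, txl2, txl3, txl4, txl5, txl6, txl7, txl8] [] :=
  M.stage (tx_low M) tx_c
theorem tx_S1 {G Ω : Type*} [Group G] [MulAction G Ω] {g : ℕ → G} {pt : ℕ → Ω}
    (M : Md g pt H16.A11.P 11 10 H16.A11.B 19958400) : Stage ⊤ (wds g txh_W) pt 11 [txl1, txl2, txl3, txl4, txl5, txl6, txl7, txl8] [txl0.Pt 0] :=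
  (tx_S0 M).next
theorem tx_S2 {G Ω : Type*} [Group G] [MulAction G Ω] {g : ℕ → G} {pt : ℕ → Ω}
    (M : Md g pt H16.A11.P 11 10 H16.A11.B 19958400) : Stage ⊤ (wds g txh_W) pt 11 [txl2, txl3, txl4, txl5, txl6, txl7, txl8] [txl1.Pt 0, txl0.Pt 0] :=
  (tx_S1 M).next
theorem tx_S3 {G Ω : Type*} [Group G] [MulAction G Ω] {g : ℕ → G} {pt : ℕ → Ω}
    (M : Md g pt H16.A11.P 11 10 H16.A11.B 19958400) : Stage ⊤ (wds g txh_W) pt 11 [txl3, txl4, txl5, txl6, txl7, txl8] [txl2.Pt 0, txl1.Pt 0, txl0.Pt 0] :=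
  (tx_S2 M).next
theorem tx_S4 {G Ω : Type*} [Group G] [MulAction G Ω] {g : ℕ → G} {pt : ℕ → Ω}
    (M : Md g pt H16.A11.P 11 10 H16.A11.B 19958400) : Stage ⊤ (wds g txh_W) pt 11 [txl4, txl5, txl6, txl7, txl8] [txl3.Pt 0, txl2.Pt 0, txl1.Pt 0, txl0.Pt 0] :=
  (tx_S3 M).next
theorem tx_S5 {G Ω : Type*} [Group G] [MulAction G Ω] {g : ℕ → G} {pt : ℕ → Ω}
    (M : Md g pt H16.A11.P 11 10 H16.A11.B 19958400) : Stage ⊤ (wds g txh_W) pt 11 [txl5, txl6, txl7, txl8] [txl4.Pt 0, txl3.Pt 0, txl2.Pt 0, txl1.Pt 0, txl0.Pt 0] :=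
  (tx_S4 M).next
theorem tx_S6 {G Ω : Type*} [Group G] [MulAction G Ω] {g : ℕ → G} {pt : ℕ → Ω}
    (M : Md g pt H16.A11.P 11 10 H16.A11.B 19958400) : Stage ⊤ (wds g txh_W) pt 11 [txl6, txl7, txl8] [txl5.Pt 0, txl4.Pt 0, txl3.Pt 0, txl2.Pt 0, txl1.Pt 0, txl0.Pt 0] :=
  (tx_S5 M).next
theorem tx_S7 {G Ω : Type*} [Group G] [MulAction G Ω] {g : ℕ → G} {pt : ℕ → Ω}
    (M : Md g pt H16.A11.P 11 10 H16.A11.B 19958400) : Stage ⊤ (wds g txh_W) pt 11 [txl7, txl8] [txl6.Pt 0, txl5.Pt 0, txl4.Pt 0, txl3.Pt 0, txl2.Pt 0, txl1.Pt 0, txl0.Pt 0] :=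
  (tx_S6 M).next
theorem tx_S8 {G Ω : Type*} [Group G] [MulAction G Ω] {g : ℕ → G} {pt : ℕ → Ω}
    (M : Md g pt H16.A11.P 11 10 H16.A11.B 19958400) : Stage ⊤ (wds g txh_W) pt 11 [txl8] [txl7.Pt 0, txl6.Pt 0, txl5.Pt 0, txl4.Pt 0, txl3.Pt 0, txl2.Pt 0, txl1.Pt 0, txl0.Pt 0] :=
  (tx_S7 M).next
theorem tx_S9 {G Ω : Type*} [Group G] [MulAction G Ω] {g : ℕ → G} {pt : ℕ → Ω}
    (M : Md g pt H16.A11.P 11 10 H16.A11.B 19958400) : Stage ⊤ (wds g txh_W) pt 11 [] [txl8.Pt 0, txl7.Pt 0, txl6.Pt 0, txl5.Pt 0, txl4.Pt 0, txl3.Pt 0, txl2.Pt 0, txl1.Pt 0, txl0.Pt 0] :=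
  (tx_S8 M).next
theorem cxe_act {G Ω : Type*} [Group G] [MulAction G Ω] {g : ℕ → G} {pt : ℕ → Ω}
    (M : Md g pt H16.A11.P 11 10 H16.A11.B 19958400) : H16.Act (wds g cxe_W) pt cxe_P 11 7 :=
  M.wact cxe_lt
theorem cxc8_e : ∀ i < 2, (dent cxc8 cxe_P (nat_lit 11)) i = 0 := allZ_sound0 cxc8_e_0
theorem cxc8_ok : DOK cxc8 cxe_P 11 := ⟨cxc8_h, cxc8_e⟩
theorem txn0_1 : ∀ i < 3, (txn0.ent H16.A11.P txh_P x_P x_P cxe_P (nat_lit 10) (nat_lit 1) H16.A11.B txl8 [] (memO cxc8)) i = 0 := allZ_sound0 txn0_1_0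
theorem txn0_t {G Ω : Type*} [Group G] [MulAction G Ω] {g : ℕ → G} {pt : ℕ → Ω}
    (M : Md g pt H16.A11.P 11 10 H16.A11.B 19958400) : TrO (gen (wds g txh_W) txl8.K) (wds g x_W) (wds g x_W) 1 pt 11 (txl8.Pt 0) (memO cxc8) :=
  node M (tx_S8 M) (txh_act M) (x_act M) (x_act M) txn0 ((cxe_act M).mono (by decide)) (fun _ _ => trivial) txn0_0 txn0_1 (List.forall_mem_nil _)
theorem cxc7_e : ∀ i < 3, (dent cxc7 cxe_P (nat_lit 11)) i = 0 := allZ_sound0 cxc7_e_0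
theorem cxc7_ok : DOK cxc7 cxe_P 11 := ⟨cxc7_h, cxc7_e⟩
theorem txn1_1 : ∀ i < 4, (txn1.ent H16.A11.P txh_P x_P x_P cxe_P (nat_lit 10) (nat_lit 1) H16.A11.B txl7 [txl8] (memO cxc7)) i = 0 := allZ_sound0 txn1_1_0
theorem txn1_t {G Ω : Type*} [Group G] [MulAction G Ω] {g : ℕ → G} {pt : ℕ → Ω}
    (M : Md g pt H16.A11.P 11 10 H16.A11.B 19958400) : TrO (gen (wds g txh_W) txl7.K) (wds g x_W) (wds g x_W) 1 pt 11 (txl7.Pt 0) (memO cxc7) :=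
  node M (tx_S7 M) (txh_act M) (x_act M) (x_act M) txn1 ((cxe_act M).mono (by decide)) (fun _ _ => trivial) txn1_0 txn1_1 (List.forall_mem_nil _)
theorem cxc6_e : ∀ i < 4, (dent cxc6 cxe_P (nat_lit 11)) i = 0 := allZ_sound0 cxc6_e_0
theorem cxc6_ok : DOK cxc6 cxe_P 11 := ⟨cxc6_h, cxc6_e⟩
theorem txn2_1 : ∀ i < 5, (txn2.ent H16.A11.P txh_P x_P x_P cxe_P (nat_lit 10) (nat_lit 1) H16.A11.B txl6 [txl7, txl8] (memO cxc6)) i = 0 := allZ_sound0 txn2_1_0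
theorem txn2_t {G Ω : Type*} [Group G] [MulAction G Ω] {g : ℕ → G} {pt : ℕ → Ω}
    (M : Md g pt H16.A11.P 11 10 H16.A11.B 19958400) : TrO (gen (wds g txh_W) txl6.K) (wds g x_W) (wds g x_W) 1 pt 11 (txl6.Pt 0) (memO cxc6) :=
  node M (tx_S6 M) (txh_act M) (x_act M) (x_act M) txn2 ((cxe_act M).mono (by decide)) (fun _ _ => trivial) txn2_0 txn2_1 (List.forall_mem_nil _)
theorem cxc5_e : ∀ i < 5, (dent cxc5 cxe_P (nat_lit 11)) i = 0 := allZ_sound0 cxc5_e_0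
theorem cxc5_ok : DOK cxc5 cxe_P 11 := ⟨cxc5_h, cxc5_e⟩
theorem txn3_1 : ∀ i < 6, (txn3.ent H16.A11.P txh_P x_P x_P cxe_P (nat_lit 10) (nat_lit 1) H16.A11.B txl5 [txl6, txl7, txl8] (memO cxc5)) i = 0 := allZ_sound0 txn3_1_0
theorem txn3_t {G Ω : Type*} [Group G] [MulAction G Ω] {g : ℕ → G} {pt : ℕ → Ω}
    (M : Md g pt H16.A11.P 11 10 H16.A11.B 19958400) : TrO (gen (wds g txh_W) txl5.K) (wds g x_W) (wds g x_W) 1 pt 11 (txl5.Pt 0) (memO cxc5) :=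
  node M (tx_S5 M) (txh_act M) (x_act M) (x_act M) txn3 ((cxe_act M).mono (by decide)) (fun _ _ => trivial) txn3_0 txn3_1 (List.forall_mem_nil _)
theorem cxc4_e : ∀ i < 6, (dent cxc4 cxe_P (nat_lit 11)) i = 0 := allZ_sound0 cxc4_e_0
theorem cxc4_ok : DOK cxc4 cxe_P 11 := ⟨cxc4_h, cxc4_e⟩
theorem txn4_1 : ∀ i < 7, (txn4.ent H16.A11.P txh_P x_P x_P cxe_P (nat_lit 10) (nat_lit 1) H16.A11.B txl4 [txl5, txl6, txl7, txl8] (memO cxc4)) i = 0 := allZ_sound0 txn4_1_0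
theorem txn4_t {G Ω : Type*} [Group G] [MulAction G Ω] {g : ℕ → G} {pt : ℕ → Ω}
    (M : Md g pt H16.A11.P 11 10 H16.A11.B 19958400) : TrO (gen (wds g txh_W) txl4.K) (wds g x_W) (wds g x_W) 1 pt 11 (txl4.Pt 0) (memO cxc4) :=
  node M (tx_S4 M) (txh_act M) (x_act M) (x_act M) txn4 ((cxe_act M).mono (by decide)) (fun _ _ => trivial) txn4_0 txn4_1 (List.forall_mem_nil _)
theorem cxc3_e : ∀ i < 7, (dent cxc3 cxe_P (nat_lit 11)) i = 0 := allZ_sound0 cxc3_e_0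
theorem cxc3_ok : DOK cxc3 cxe_P 11 := ⟨cxc3_h, cxc3_e⟩
theorem txn5_1 : ∀ i < 8, (txn5.ent H16.A11.P txh_P x_P x_P cxe_P (nat_lit 10) (nat_lit 1) H16.A11.B txl3 [txl4, txl5, txl6, txl7, txl8] (memO cxc3)) i = 0 := allZ_sound0 txn5_1_0
theorem txn5_t {G Ω : Type*} [Group G] [MulAction G Ω] {g : ℕ → G} {pt : ℕ → Ω}
    (M : Md g pt H16.A11.P 11 10 H16.A11.B 19958400) : TrO (gen (wds g txh_W) txl3.K) (wds g x_W) (wds g x_W) 1 pt 11 (txl3.Pt 0) (memO cxc3) :=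
  node M (tx_S3 M) (txh_act M) (x_act M) (x_act M) txn5 ((cxe_act M).mono (by decide)) (fun _ _ => trivial) txn5_0 txn5_1 (List.forall_mem_nil _)
theorem cxc0_e : ∀ i < 2, (dent cxc0 cxe_P (nat_lit 11)) i = 0 := allZ_sound0 cxc0_e_0
theorem cxc0_ok : DOK cxc0 cxe_P 11 := ⟨cxc0_h, cxc0_e⟩
theorem txn6_1 : ∀ i < 11, (txn6.ent H16.A11.P txh_P x_P x_P cxe_P (nat_lit 10) (nat_lit 1) H16.A11.B txl0 [txl1, txl2, txl3, txl4, txl5, txl6, txl7, txl8] (memO cxc0)) i = 0 := allZ_sound0 txn6_1_0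
theorem txn6_t {G Ω : Type*} [Group G] [MulAction G Ω] {g : ℕ → G} {pt : ℕ → Ω}
    (M : Md g pt H16.A11.P 11 10 H16.A11.B 19958400) : TrO (gen (wds g txh_W) txl0.K) (wds g x_W) (wds g x_W) 1 pt 11 (txl0.Pt 0) (memO cxc0) :=
  node M (tx_S0 M) (txh_act M) (x_act M) (x_act M) txn6 ((cxe_act M).mono (by decide)) (fun _ _ => trivial) txn6_0 txn6_1 (List.forall_mem_nil _)
theorem cx {G Ω : Type*} [Group G] [MulAction G Ω] {g : ℕ → G} {pt : ℕ → Ω}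
    (M : Md g pt H16.A11.P 11 10 H16.A11.B 19958400) : Cen ⊤ (wds g x_W) 1 (wds g cxe_W) pt 11 [cxc0, cxc3, cxc4, cxc5, cxc6, cxc7, cxc8] :=
  (tx_S0 M).top ▸ Cen.lev M (tx_S0 M) (Cen.triv (tx_S1 M) (Cen.triv (tx_S2 M) (Cen.lev M (tx_S3 M) (Cen.lev M (tx_S4 M) (Cen.lev M (tx_S5 M) (Cen.lev M (tx_S6 M) (Cen.lev M (tx_S7 M) (Cen.lev M (tx_S8 M) (Cen.bot) (txn0_t M) (x_act M) (cxe_act M) (fun _ _ => trivial) cxc8_ok cx_f8) (txn1_t M) (x_act M) (cxe_act M) (fun _ _ => trivial) cxc7_ok cx_f7) (txn2_t M) (x_act M) (cxe_act M) (fun _ _ => trivial) cxc6_ok cx_f6) (txn3_t M) (x_act M) (cxe_act M) (fun _ _ => trivial) cxc5_ok cx_f5) (txn4_t M) (x_act M) (cxe_act M) (fun _ _ => trivial) cxc4_ok cx_f4) (txn5_t M) (x_act M) (cxe_act M) (fun _ _ => trivial) cxc3_ok cx_f3) (forced (tx_S2 M) (txh_act M) (x_act M) _ _ cx_f2)) (forced (tx_S1 M) (txh_act M) (x_act M) _ _ cx_f1))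 (txn6_t M) (x_act M) (cxe_act M) (fun _ _ => trivial) cxc0_ok cx_f0
theorem cx_card {G Ω : Type*} [Group G] [MulAction G Ω] {g : ℕ → G} {pt : ℕ → Ω}
    (M : Md g pt H16.A11.P 11 10 H16.A11.B 19958400) : Nat.card (Subgroup.centralizer {(wds g x_W) 0}) = 60480 :=
  (cx M).card_cent1 M.inj cx_c.1
theorem cx_eq {G Ω : Type*} [Group G] [MulAction G Ω] {g : ℕ → G} {pt : ℕ → Ω}
    (M : Md g pt H16.A11.P 11 10 H16.A11.B 19958400) : Subgroup.centralizer (gen (wds g x_W) 1) = gen (wds g cxe_W) 7 ∧ Nat.card (gen (wds g cxe_W) 7) = 60480 :=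
  cx_c.1 ▸ cx_c.2 ▸ ⟨(cx M).cent, (cx M).card M.inj⟩
theorem s_act {G Ω : Type*} [Group G] [MulAction G Ω] {g : ℕ → G} {pt : ℕ → Ω}
    (M : Md g pt H16.A11.P 11 10 H16.A11.B 19958400) : H16.Act (wds g s_W) pt s_P 11 10 :=
  M.wact s_lt

end H1.La
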