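import Cfsg.Agent.H1.McT.C0
import Cfsg.Agent.H1.McT.C1
import Cfsg.Agent.H1.McT.C2

/-! Generated by tools/h16 (computation kit). -/

set_option maxRecDepth 100000
set_option maxHeartbeats 0

namespace H1.McT

open H16

theorem tcb2e : ∀ k < 2, ∀ i < 6, (ent2 Tb2 Eb2 (selR RLb2 Ib2) Db2 (nat_lit 7) (nat_lit 6) (nat_lit 6) (nat_lit 6) (nat_lit 2) (nat_lit 15) (nat_lit 0)) k i = 0 := allZ2_sound tcb2e_a
theorem tcb2p : ∀ i < 0, (eps2 Tb2 Eb2 Jb2 Wb2 RLb2 (nat_lit 7) (nat_lit 6) (nat_lit 6) (nat_lit 2) (nat_lit 0)) i = 0 := allZ_sound0 tcb2p_0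
theorem tcb2 : cb2.OK Rl 5 := ⟨tcb2n, ivc, tcb2r, tcb2e, fun i h => tcb2p i (lt_of_lt_of_eq h tcb2q)⟩
theorem bdb2 : Bound Rl 2 6 := Bound.step2 (Bound.zero Rl) tcb2 stb2
theorem tcb3e : ∀ k < 3, ∀ i < 28, (ent2 Tb3 Eb3 (selR RLb3 Ib3) Db3 (nat_lit 31) (nat_lit 28) (nat_lit 28) (nat_lit 28) (nat_lit 3) (nat_lit 127) (nat_lit 0)) k i = 0 := allZ2_sound tcb3e_a
theorem tcb3p : ∀ i < 0, (eps2 Tb3 Eb3 Jb3 Wb3 RLb3 (nat_lit 31) (nat_lit 28) (nat_lit 28) (nat_lit 3) (nat_lit 0)) i = 0 := allZ_sound0 tcb3p_0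
theorem tcb3 : cb3.OK Rl 5 := ⟨tcb3n, ivc, tcb3r, tcb3e, fun i h => tcb3p i (lt_of_lt_of_eq h tcb3q)⟩
theorem bdb3 : Bound Rl 3 168 := Bound.step2 (bdb2) tcb3 stb3
theorem tcb4e : ∀ k < 4, ∀ i < 242, (ent2 Tb4 Eb4 (selR RLb4 Ib4) Db4 (nat_lit 255) (nat_lit 240) (nat_lit 240) (nat_lit 242) (nat_lit 4) (nat_lit 1023) (nat_lit 1)) k i = 0 := allZ2_sound tcb4e_a
theorem tcb4p : ∀ i < 2, (eps2 Tb4 Eb4 Jb4 Wb4 RLb4 (nat_lit 255) (nat_lit 240) (nat_lit 242) (nat_lit 4) (nat_lit 1)) i = 0 := allZ_sound0 tcb4p_0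
theorem tcb4 : cb4.OK Rl 5 := ⟨tcb4n, ivc, tcb4r, tcb4e, fun i h => tcb4p i (lt_of_lt_of_eq h tcb4q)⟩
theorem bdb4 : Bound Rl 4 40320 := Bound.step2 (bdb3) tcb4 stb4
theorem tcb5e_0_g0 : ∀ i < 13184, (ent2 Tb5 Eb5 (selR RLb5 Ib5) Db5 (nat_lit 65535) (nat_lit 22275) (nat_lit 22275) (nat_lit 62284) (nat_lit 5) (nat_lit 524287) (nat_lit 4) (nat_lit 0)) i = 0 := allZ_sound0 tcb5e_0_0
theorem tcb5e_0_g1 : ∀ i < 26368, (ent2 Tb5 Eb5 (selR RLb5 Ib5) Db5 (nat_lit 65535) (nat_lit 22275) (nat_lit 22275) (nat_lit 62284) (nat_lit 5) (nat_lit 524287) (nat_lit 4) (nat_lit 0)) i = 0 := range_glue tcb5e_0_g0 tcb5e_0_1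
theorem tcb5e_0_g2 : ∀ i < 39552, (ent2 Tb5 Eb5 (selR RLb5 Ib5) Db5 (nat_lit 65535) (nat_lit 22275) (nat_lit 22275) (nat_lit 62284) (nat_lit 5) (nat_lit 524287) (nat_lit 4) (nat_lit 0)) i = 0 := range_glue tcb5e_0_g1 tcb5e_0_2
theorem tcb5e_0_g3 : ∀ i < 52736, (ent2 Tb5 Eb5 (selR RLb5 Ib5) Db5 (nat_lit 65535) (nat_lit 22275) (nat_lit 22275) (nat_lit 62284) (nat_lit 5) (nat_lit 524287) (nat_lit 4) (nat_lit 0)) i = 0 := range_glue tcb5e_0_g2 tcb5e_0_3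
theorem tcb5e_0 : ∀ i < 62284, (ent2 Tb5 Eb5 (selR RLb5 Ib5) Db5 (nat_lit 65535) (nat_lit 22275) (nat_lit 22275) (nat_lit 62284) (nat_lit 5) (nat_lit 524287) (nat_lit 4) (nat_lit 0)) i = 0 := range_glue tcb5e_0_g3 tcb5e_0_4
theorem tcb5e_1_g0 : ∀ i < 17536, (ent2 Tb5 Eb5 (selR RLb5 Ib5) Db5 (nat_lit 65535) (nat_lit 22275) (nat_lit 22275) (nat_lit 62284) (nat_lit 5) (nat_lit 524287) (nat_lit 4) (nat_lit 1)) i = 0 := allZ_sound0 tcb5e_1_0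
theorem tcb5e_1_g1 : ∀ i < 35072, (ent2 Tb5 Eb5 (selR RLb5 Ib5) Db5 (nat_lit 65535) (nat_lit 22275) (nat_lit 22275) (nat_lit 62284) (nat_lit 5) (nat_lit 524287) (nat_lit 4) (nat_lit 1)) i = 0 := range_glue tcb5e_1_g0 tcb5e_1_1
theorem tcb5e_1_g2 : ∀ i < 52608, (ent2 Tb5 Eb5 (selR RLb5 Ib5) Db5 (nat_lit 65535) (nat_lit 22275) (nat_lit 22275) (nat_lit 62284) (nat_lit 5) (nat_lit 524287) (nat_lit 4) (nat_lit 1)) i = 0 := range_glue tcb5e_1_g1 tcb5e_1_2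
theorem tcb5e_1 : ∀ i < 62284, (ent2 Tb5 Eb5 (selR RLb5 Ib5) Db5 (nat_lit 65535) (nat_lit 22275) (nat_lit 22275) (nat_lit 62284) (nat_lit 5) (nat_lit 524287) (nat_lit 4) (nat_lit 1)) i = 0 := range_glue tcb5e_1_g2 tcb5e_1_3
theorem tcb5e_2_g0 : ∀ i < 14528, (ent2 Tb5 Eb5 (selR RLb5 Ib5) Db5 (nat_lit 65535) (nat_lit 22275) (nat_lit 22275) (nat_lit 62284) (nat_lit 5) (nat_lit 524287) (nat_lit 4) (nat_lit 2)) i = 0 := allZ_sound0 tcb5e_2_0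
theorem tcb5e_2_g1 : ∀ i < 29056, (ent2 Tb5 Eb5 (selR RLb5 Ib5) Db5 (nat_lit 65535) (nat_lit 22275) (nat_lit 22275) (nat_lit 62284) (nat_lit 5) (nat_lit 524287) (nat_lit 4) (nat_lit 2)) i = 0 := range_glue tcb5e_2_g0 tcb5e_2_1
theorem tcb5e_2_g2 : ∀ i < 43584, (ent2 Tb5 Eb5 (selR RLb5 Ib5) Db5 (nat_lit 65535) (nat_lit 22275) (nat_lit 22275) (nat_lit 62284) (nat_lit 5) (nat_lit 524287) (nat_lit 4) (nat_lit 2)) i = 0 := range_glue tcb5e_2_g1 tcb5e_2_2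
theorem tcb5e_2_g3 : ∀ i < 58112, (ent2 Tb5 Eb5 (selR RLb5 Ib5) Db5 (nat_lit 65535) (nat_lit 22275) (nat_lit 22275) (nat_lit 62284) (nat_lit 5) (nat_lit 524287) (nat_lit 4) (nat_lit 2)) i = 0 := range_glue tcb5e_2_g2 tcb5e_2_3
theorem tcb5e_2 : ∀ i < 62284, (ent2 Tb5 Eb5 (selR RLb5 Ib5) Db5 (nat_lit 65535) (nat_lit 22275) (nat_lit 22275) (nat_lit 62284) (nat_lit 5) (nat_lit 524287) (nat_lit 4) (nat_lit 2)) i = 0 := range_glue tcb5e_2_g3 tcb5e_2_4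
theorem tcb5e_3_g0 : ∀ i < 14848, (ent2 Tb5 Eb5 (selR RLb5 Ib5) Db5 (nat_lit 65535) (nat_lit 22275) (nat_lit 22275) (nat_lit 62284) (nat_lit 5) (nat_lit 524287) (nat_lit 4) (nat_lit 3)) i = 0 := allZ_sound0 tcb5e_3_0
theorem tcb5e_3_g1 : ∀ i < 29696, (ent2 Tb5 Eb5 (selR RLb5 Ib5) Db5 (nat_lit 65535) (nat_lit 22275) (nat_lit 22275) (nat_lit 62284) (nat_lit 5) (nat_lit 524287) (nat_lit 4) (nat_lit 3)) i = 0 := range_glue tcb5e_3_g0 tcb5e_3_1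
theorem tcb5e_3_g2 : ∀ i < 44544, (ent2 Tb5 Eb5 (selR RLb5 Ib5) Db5 (nat_lit 65535) (nat_lit 22275) (nat_lit 22275) (nat_lit 62284) (nat_lit 5) (nat_lit 524287) (nat_lit 4) (nat_lit 3)) i = 0 := range_glue tcb5e_3_g1 tcb5e_3_2
theorem tcb5e_3_g3 : ∀ i < 59392, (ent2 Tb5 Eb5 (selR RLb5 Ib5) Db5 (nat_lit 65535) (nat_lit 22275) (nat_lit 22275) (nat_lit 62284) (nat_lit 5) (nat_lit 524287) (nat_lit 4) (nat_lit 3)) i = 0 := range_glue tcb5e_3_g2 tcb5e_3_3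
theorem tcb5e_3 : ∀ i < 62284, (ent2 Tb5 Eb5 (selR RLb5 Ib5) Db5 (nat_lit 65535) (nat_lit 22275) (nat_lit 22275) (nat_lit 62284) (nat_lit 5) (nat_lit 524287) (nat_lit 4) (nat_lit 3)) i = 0 := range_glue tcb5e_3_g3 tcb5e_3_4
theorem tcb5e_4_g0 : ∀ i < 19072, (ent2 Tb5 Eb5 (selR RLb5 Ib5) Db5 (nat_lit 65535) (nat_lit 22275) (nat_lit 22275) (nat_lit 62284) (nat_lit 5) (nat_lit 524287) (nat_lit 4) (nat_lit 4)) i = 0 := allZ_sound0 tcb5e_4_0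
theorem tcb5e_4_g1 : ∀ i < 38144, (ent2 Tb5 Eb5 (selR RLb5 Ib5) Db5 (nat_lit 65535) (nat_lit 22275) (nat_lit 22275) (nat_lit 62284) (nat_lit 5) (nat_lit 524287) (nat_lit 4) (nat_lit 4)) i = 0 := range_glue tcb5e_4_g0 tcb5e_4_1
theorem tcb5e_4_g2 : ∀ i < 57216, (ent2 Tb5 Eb5 (selR RLb5 Ib5) Db5 (nat_lit 65535) (nat_lit 22275) (nat_lit 22275) (nat_lit 62284) (nat_lit 5) (nat_lit 524287) (nat_lit 4) (nat_lit 4)) i = 0 := range_glue tcb5e_4_g1 tcb5e_4_2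
theorem tcb5e_4 : ∀ i < 62284, (ent2 Tb5 Eb5 (selR RLb5 Ib5) Db5 (nat_lit 65535) (nat_lit 22275) (nat_lit 22275) (nat_lit 62284) (nat_lit 5) (nat_lit 524287) (nat_lit 4) (nat_lit 4)) i = 0 := range_glue tcb5e_4_g2 tcb5e_4_3
theorem tcb5e : ∀ k < 5, ∀ i < 62284, (ent2 Tb5 Eb5 (selR RLb5 Ib5) Db5 (nat_lit 65535) (nat_lit 22275) (nat_lit 22275) (nat_lit 62284) (nat_lit 5) (nat_lit 524287) (nat_lit 4)) k i = 0 :=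
  letters_glue (letters_glue (letters_glue (letters_glue (letters_glue (letters_nil) tcb5e_0) tcb5e_1) tcb5e_2) tcb5e_3) tcb5e_4
theorem tcb5p_g0 : ∀ i < 5888, (eps2 Tb5 Eb5 Jb5 Wb5 RLb5 (nat_lit 65535) (nat_lit 22275) (nat_lit 62284) (nat_lit 5) (nat_lit 4)) i = 0 := allZ_sound0 tcb5p_0
theorem tcb5p_g1 : ∀ i < 11776, (eps2 Tb5 Eb5 Jb5 Wb5 RLb5 (nat_lit 65535) (nat_lit 22275) (nat_lit 62284) (nat_lit 5) (nat_lit 4)) i = 0 := range_glue tcb5p_g0 tcb5p_1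
theorem tcb5p_g2 : ∀ i < 17664, (eps2 Tb5 Eb5 Jb5 Wb5 RLb5 (nat_lit 65535) (nat_lit 22275) (nat_lit 62284) (nat_lit 5) (nat_lit 4)) i = 0 := range_glue tcb5p_g1 tcb5p_2
theorem tcb5p_g3 : ∀ i < 23552, (eps2 Tb5 Eb5 Jb5 Wb5 RLb5 (nat_lit 65535) (nat_lit 22275) (nat_lit 62284) (nat_lit 5) (nat_lit 4)) i = 0 := range_glue tcb5p_g2 tcb5p_3
theorem tcb5p_g4 : ∀ i < 29440, (eps2 Tb5 Eb5 Jb5 Wb5 RLb5 (nat_lit 65535) (nat_lit 22275) (nat_lit 62284) (nat_lit 5) (nat_lit 4)) i = 0 := range_glue tcb5p_g3 tcb5p_4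
theorem tcb5p_g5 : ∀ i < 35328, (eps2 Tb5 Eb5 Jb5 Wb5 RLb5 (nat_lit 65535) (nat_lit 22275) (nat_lit 62284) (nat_lit 5) (nat_lit 4)) i = 0 := range_glue tcb5p_g4 tcb5p_5
theorem tcb5p : ∀ i < 40009, (eps2 Tb5 Eb5 Jb5 Wb5 RLb5 (nat_lit 65535) (nat_lit 22275) (nat_lit 62284) (nat_lit 5) (nat_lit 4)) i = 0 := range_glue tcb5p_g5 tcb5p_6
theorem tcb5 : cb5.OK Rl 5 := ⟨tcb5n, ivc, tcb5r, tcb5e, fun i h => tcb5p i (lt_of_lt_of_eq h tcb5q)⟩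
theorem bdb5 : Bound Rl 5 898128000 := Bound.step2 (bdb4) tcb5 stb5

end H1.McT
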