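import Cfsg.Agent.H1.Am1
import Cfsg.Agent.H15.T.McL
import Cfsg.Agent.H1.McT

/-! Generated by tools/h0/tr.py. -/

set_option maxRecDepth 100000
set_option maxHeartbeats 0

namespace H1.Mc
open H16 H0.TR
open scoped Pointwise

open H1.Am

noncomputable def a_W : List (List ℕ) := [[nat_lit 2, nat_lit 3, nat_lit 1, nat_lit 2, nat_lit 1, nat_lit 2, nat_lit 1, nat_lit 2, nat_lit 0, nat_lit 2, nat_lit 0, nat_lit 2, nat_lit 0, nat_lit 3, nat_lit 2],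
  [nat_lit 2, nat_lit 1, nat_lit 3, nat_lit 2, nat_lit 1, nat_lit 2, nat_lit 0, nat_lit 2, nat_lit 1, nat_lit 2, nat_lit 3, nat_lit 1, nat_lit 2],
  [nat_lit 2, nat_lit 0, nat_lit 2, nat_lit 0, nat_lit 3, nat_lit 2, nat_lit 1, nat_lit 2, nat_lit 0, nat_lit 2, nat_lit 1, nat_lit 2, nat_lit 3, nat_lit 2, nat_lit 1, nat_lit 2],
  [nat_lit 1, nat_lit 2, nat_lit 0],
  [],
  [nat_lit 2, nat_lit 1, nat_lit 2, nat_lit 1, nat_lit 2, nat_lit 0, nat_lit 2, nat_lit 1, nat_lit 2, nat_lit 1, nat_lit 2, nat_lit 3, nat_lit 2, nat_lit 1, nat_lit 2, nat_lit 1, nat_lit 2, nat_lit 0, nat_lit 2, nat_lit 1, nat_lit 2, nat_lit 1, nat_lit 2, nat_lit 3],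
  [nat_lit 2],
  [nat_lit 3, nat_lit 2, nat_lit 0, nat_lit 2, nat_lit 3],
  [nat_lit 3, nat_lit 2, nat_lit 1, nat_lit 2, nat_lit 3],
  [nat_lit 1, nat_lit 2, nat_lit 3, nat_lit 2, nat_lit 1, nat_lit 2, nat_lit 1, nat_lit 2, nat_lit 0, nat_lit 2, nat_lit 0, nat_lit 3, nat_lit 2, nat_lit 0, nat_lit 3],
  [nat_lit 3, nat_lit 2, nat_lit 1, nat_lit 2, nat_lit 0, nat_lit 2, nat_lit 1, nat_lit 2, nat_lit 3, nat_lit 2, nat_lit 0, nat_lit 2, nat_lit 1, nat_lit 2, nat_lit 0, nat_lit 2, nat_lit 3, nat_lit 2]]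
noncomputable def a_Pd : List ℕ := [nat_lit 0x265d273333050ce24b1f547085b221a3013620e0885583091cbc681adc09e78290f2e337b6970f74499ddaa83ba5222cc739c57c9f7a430c6f95d2698cad6dbc8dab76b9f924755a2b20afb43a0564e85fa84ca9b63b7500c4533fa1c7b65b94e0fc4837d30f16c41d16d334b34f0ff501c9b8d232230feec3d30d4af684a8994af723e114686437a24b94bc2d2aea49b54f8bb3b3f51aaa5aa75df0667c36006a812099cc554b5a14916029deab175a3da874882b9ccbd799b9b3037d211669c7743d92ab7092034360813c26202d838b23d19914462a0e8e4a2492f09c04210d8c4a0620a8a0ac2c2190876171f8d0b00f208e8a42e1b980383e2b8989416068e03e44159501646270c802242a888985c16878a635259843218200c08e0a2e8480c5f1e1685e05148501208038441804001344a03,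
  nat_lit 0x2392c73330c85ef041a49e5084817000ca433a4026b3f918eaa3728f088ac38bd928f470425e30c450e016122512604c473b89f6030239916f36f90ce8dc56af10eb66b97cba99381c93e14268c19acc0441112c85cb1982e84a85d8a535f828aada5b8dd8e8d5db60c82333a08a81503a79b6f8319a08ea83da9948a57e0b44aa068ab8ca602ca69a8984bc4586f51dc28850712449703670bbd92216cc0c1e1885ac84e267f838267c53874a04f0e1d9fadd88349eed316114040d801a85caa59c3d3ab55586c909c6b0a9ab062d84136512b9597ab1600acb0793c0599e200d3add46154bf8dcf96f24482281f8e87afa498f872ee5d23062340cc386ace869a5446f29178524040a01428f5a031104c0f878f4773112c66846113960d03ebb00c5a429f8d82276af812cb578440ae3721b60305,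
  nat_lit 0xcd80ed00c305f0e7ac2990ee83b39ec3266051ca963fbf8e0ae331eca4d740416163779bc98eca65c22201759b043a117382a02e44aa2d7c390182c949209a3d6c0c7c358eeb1371f8827a414199b0377bc19309788c41e181d869d51144b844210042e9725b45365281975995a829393f0d2ac38a05344812a914aa64da88785f4f9649a5751aa4bc9823401c6b502370381e6d08d1a5c712dd7e201121892063233d54f77fb485c7c7d340a0276a9d88a6721abd56fd1f34cda6a299b15a4f3a3ed6483130b0c26050264848c5c0913c584e138982a35be47e79341593a55093750aa823a5cea4039975a244289bc5aa16186dc0387a0c06a34894118c36869f47a6214151602b3c18d4e5a4721d7a880fa41d2911d30968c4760582b026d92dd0bc6281c1ad86f39812bb0721004936f8161e00,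
  nat_lit 0x22946323322de50c251fdc0e605971be4322044128636b11066c7dba4d6d01100d96f417c34081e42b297c743a849f4a172c21cee471b88e709828e092dc38a2560d853950bc773f06482f82fb3954ae7abb910c849a3ce0fe1e9b81c521f3b4c4210b87d443f22a68961a19ac89ad904330181843b34fa826ba9930a488ae5d0424fa79324e29ad93aa53d0352a0763809220a6303d1a8c87449b4c955c01de147eaa0f8138534d52813da5cc04f6a0c1d6ec7099db6c518b09fefc7c900d2683943c38230aaf4547967b5491062886c56582b95820d64db00b6163c271622c5ac2dba5d130956f0382281a26a5c2fd8606168e872de1b8d0403659c40de76798a4764c2c9845c281391c8c24323dd78355d3c03a652d2d1a4ac5d940c684403aa0455473052cad83a4202af4a0f00af17b2480200,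
  nat_lit 0x44a231087c3a1b0c85c2a130883c1a0b0481c0a03007fbf9fafc7dbe9f2f87bbd9eaf479bc9e2f077bb9daec75ba9d2e873b99cae471b89c2e06fb79badc6db69b2d86bb59aad469b49a2d067b399acc65b2992c863b198ac461b0982c05faf97abc5dae972b85bad96ab459ac962b057ab95aac55aa952a853a994aa451a8942a04fa793a9c4da6932984ba592a9449a49229047a391a8c45a29128843a190a8441a0902803f9f8fa7c3d9e8f2783b9d8ea74399c8e270379b8da6c359a8d26833998ca6431988c2602f978ba5c2d968b2582b958aa5429948a250279389a4c259289248239188a442190882401f8f87a3c1d8e872381b8d86a34198c86230178b85a2c158a85228138984a241188842200f8783a1c0d86832180b8582a14098482210078381a0c058281208038180a04018080200,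
  nat_lit 0x1d4d6733322c5ee2429b5c01e1c1720abe360f1ca963fab11c4400ba5464638bd892f4793cde2e62524086af45251f48404bc202e471c3065096f82d9605111bcfa694b9849a995a309a2252ea30f86a6e8286a3963afcc81861b496a5363410aa2c33ae972b8598b982d35ba44bca97610018fe4020560a03d2994aa47ca8828a84f8a0ee4e290a5a8986bc012aea4980964ee1f3f51ace873ac62200983616e80790954ab7f869b2cd0ea9ca04f4e8d224088805dee236d066150388b31b0275dc3c38c513041ac16242c59f062d86c56582b15d7a2a6026ca2793c271aa21073bdea5f0abe066fc76a0882ae1fa3c7b021d89191071b8c1927622b85123686ad85abc2c951349e3418da03a3836c98880fc20f6652d1f8dcc4391808ea14381c0c624192d0cad6f329ce7409045b80401a49f600,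
  nat_lit 0x3212096bc397e076d2da22066cb340104043f1caf214ab045027da8dd2f85007d1ef44b401e2ec0b21c2af027091f22339abe029f71848646b532c10c994742e0e0287b596e056234806255db260cbd068299cc0638bd8ad35d3096ac886af9980f67b0d72b86ac2982182688066de732b8eafe4019416712cb7d442d7d29542f7720a04e8a0e9fdb898333cc6e3a289a510137ab6d1a3545a706c9177374de701608438ab4d068705c290ac6856341415a6c7385d5084429505c747015524772ea5d546431988c24a24114ce7c2d86d4e3b279e0d46e1c9ed26762bbad6642259807c5f21918bc3c239307a401f92482442c250a67d4aa25187958b846031631b548833d065fe9e4e899a0ea743f504b27b04536812d1f854b4393bdda14483883c105e039971254b2a210386421a80468b600305,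
  nat_lit 0x352051087b1606e68884df9086c0853e0106c2d940f0a85e24da0a401e6ae86294a004162f11a7164acc16a80e3d52ccc73bdc14d17a3c156441ba698cdb56c2404bb6b83a14fd11be000e56c89d04c45f8953a595c9d04ce85311864a7043eda6a383b7d30f15b241c270173349e7f50349b8725a8d9fe120ea5548f6790b6080701ab1deaa6410d1cc74ba0d86491d974f8b73b1d5706832195145c268bcd66a74ac860c12397d2442299ed28542509132dd39a79c455701150e861e060ce601c199126345984968c2d1e0fa4c2d9f9363d0c9b9685e3d0e4b0ea15204da88310d4f21b58100ac6f6f24526c21f8d0a285208f856695d270ee3a2ba01d64e363b83ef9292c5dafe0b43a028f5e83041065107980310d12066841433952be6abb022d67d0421a0514b4012cb5781844e382b3d42e4,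
  nat_lit 0x3f61710878981af781355b5085d88006a186c444afa548a1a9095f03c58d273291d4e37ca8d70e24e8b852121894106c473c31a000021c56a6f5d10ce8ad6e3f19f076b84027125eab9c80a0105964e804405de9b4c3761ccc4a901001d6585046f26c0dd8e8d482dd565577208544703be1b69e70a702aec6030deca55e07c02af829c992362cb78eab94bba54c79209f484b612265e26031a24ca4c369b078184b3349c3258168ba913d14c925e1aa3d1cc639ab1e0b4221589a2f42a10708c34999148b3212cc4683f15124882d97d905119914e0783d8ac7af5588c10e5c309dd281a3fb08dce04d1f076461f8e8b06b498d0a4676faa8943e0cb043881432cd44f31c93c1617673159476698160c21168794eeb2406cae6a7f09dfefb852a0220e8035a062276b9412bf5001818f44fb6608d1,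
  nat_lit 0x352121587838630c6d36622225b3243ebe10c09caf354ab00cfc233e5f401388011ee380259e2e606a1012af4ea51469021bc2029f7a389c26b20a68c0ad0f42e14336bb589f12153085a285eb359cbb0b05e0cc0638d820192c348b4c8184119ebc660ed72b82bc1c36542b204047f76051b8fe24245fea03d0f5440374a9480a872095d6683db78ea984bbc92aea4997954e87a8451a7c259dc5e6538128deee41821645f581f8da8c4da9cec4d451e5324223829ee8742860fa4c7019c8a9c35199106231990c2dd40248aa352db0456c35baccbab41c874a2346a89cf06c45a187cab39becd244739d1bea1021254c3c5d090a62e1bb18b8506c0ca1abf448e1a22c2cb4c16d0270993c3a09c22061c82b6ca4205a869886e6532e20ae118491cc507c39de05149c9da8203bf4183f522c5f0f6,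
  nat_lit 0x271f51053a2c1aea280b946746caa94c6308b99c2f54d06842af00c45c0f80790600f41f23de23c44bb8864456c30d68473c08649f71a5202f9002c18c77211da0e022cb49662769b59862567880ca6a5fa01649b2db7542c4689856a1d65898aaa05d80d30b8269b582b46ab248ade7e041d67e05418162c87c154a3b84a898abc722780b12643fcd0b9159246ee2499a46a90791311a8887031de8c438bcf2e838888b8ca14ab0701c299990a566e3689d083997d06231a0656c0674b312499339e99a14821018430390ccba8163969ae2d279e17a2a3d8e4a30b2b9d56e8e258c52c170a91962ec76b6dec621fbcc3ef052048a47d4a859226f2f394946043428b0a84b950fe286a2f9a00738209face1e821807c0dbf8dc18240d88e64098ea06ae7b83a1a8a54aac121e121b13a045d361f6df]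
noncomputable def a_P (k u : ℕ) : ℕ := Nat.land (Nat.shiftRight (nth (nat_lit 0) a_Pd k) (Nat.mul u (nat_lit 9))) (nat_lit 511)
noncomputable def κ : List ℕ → ℕ := H15.CS.key (tot a_P 11) 275 H15.XMcLC.B
noncomputable def p2t_W : List (List ℕ) := [[nat_lit 2, nat_lit 1, nat_lit 2, nat_lit 1, nat_lit 2, nat_lit 0, nat_lit 2, nat_lit 1, nat_lit 2, nat_lit 1, nat_lit 2, nat_lit 3, nat_lit 2, nat_lit 1, nat_lit 2, nat_lit 1, nat_lit 2, nat_lit 0, nat_lit 2, nat_lit 1, nat_lit 2, nat_lit 1, nat_lit 2, nat_lit 3],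
  [nat_lit 0, nat_lit 2, nat_lit 1, nat_lit 2, nat_lit 3, nat_lit 2, nat_lit 1, nat_lit 2, nat_lit 1, nat_lit 2, nat_lit 0, nat_lit 2, nat_lit 0, nat_lit 3, nat_lit 2, nat_lit 3],
  [nat_lit 0, nat_lit 2, nat_lit 0, nat_lit 2, nat_lit 0, nat_lit 2, nat_lit 3, nat_lit 2, nat_lit 0, nat_lit 2, nat_lit 0, nat_lit 2, nat_lit 0],
  [nat_lit 2, nat_lit 3, nat_lit 2, nat_lit 1, nat_lit 2, nat_lit 1, nat_lit 2, nat_lit 0, nat_lit 2, nat_lit 1, nat_lit 2, nat_lit 1, nat_lit 2, nat_lit 3, nat_lit 2],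
  [nat_lit 1, nat_lit 2, nat_lit 1, nat_lit 2, nat_lit 1, nat_lit 2, nat_lit 3, nat_lit 2, nat_lit 0, nat_lit 2, nat_lit 0, nat_lit 2, nat_lit 1, nat_lit 2, nat_lit 1],
  [nat_lit 1, nat_lit 2, nat_lit 0, nat_lit 2, nat_lit 3, nat_lit 2, nat_lit 0, nat_lit 2, nat_lit 0, nat_lit 2, nat_lit 1, nat_lit 2, nat_lit 1, nat_lit 3, nat_lit 2, nat_lit 3],
  [nat_lit 0, nat_lit 2, nat_lit 3, nat_lit 0, nat_lit 2, nat_lit 1, nat_lit 2, nat_lit 0, nat_lit 2, nat_lit 0, nat_lit 2, nat_lit 3, nat_lit 2, nat_lit 0, nat_lit 2, nat_lit 1, nat_lit 2]]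
noncomputable def p2t_P : ℕ → ℕ → ℕ := wdsP H15.XMcLC.P p2t_W
noncomputable def p2Pd : List ℕ := [nat_lit 0xcbaf0e4dd9f163d5837ecd1a76e664e965067128bf82f2a557ae2cdc42de04676d922e553185a6296bcdb0829d697796d29d294abb77e1c54d21cdd691daa344be149509e7be12541070018b8d3214f0818388110848c13020cf943868b0f147459b,
  nat_lit 0xdfaf0e4ddab4e3cf9b2ecd18b6e099510574f351a6b939d5e97294418f5ad5fa7497249ec94c072d28445eb1db77b561b678e184245196b57f258be4a862d1b7615c8b2cd55d346c7143c7c585023401c08085031874b0f32443071024c132048b95,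
  nat_lit 0xcfb346bc9bf061cba756edb9b1e2971ee2c7eb655b7ca50cf8ca1b5dab158d36545a2574f5bb99b210436706635beaad236166b24b0ee04e450a2509379e385e9d72ba49aa570a5c39d0260f062a7cc8e14507842020d033630b120434491267000b,
  nat_lit 0xcdb7763c3a7564c5bf068d99f5e584faacf50f11388f12eac92fd3a1b901bb45cbe9bbaead8d6617d54ea57925a9081ad89a99ccc46962c3952d4d48d056dba2d993d676683a0c54e870024c852e34f08084818a1838b0f1640d14387cc13220809b,
  nat_lit 0xc5931ebd9837e1cdab4eedb97467a8c95ae62bd4da932a6469ef1ac87749fde8ede8577aea8a64f7525889090b6557edd671391a0875515981059b47d4d4305b3565c8ae65a50a2c38e3260a893c6809d205020f1420f91004cb0224343031870d97,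
  nat_lit 0xd9ab4efcfbb6e0d78f265cd87168be82aa14cd5c228eb6eac7b4694fa10e2c6968d248af326a99d095304eea9b976f9e5962a2d2b5ec9bc066bab5469062367f6d2c99562e5e2670b9e103c1103a0c3803e04698342c8891c1461b2a105062c64914,
  nat_lit 0xdd9f4e5d593460d9b75efcd8f1615ede0438d5da535b3de56b6b95b152aa8584492ca360fef4158e1cdc7b119a14f390488f26a4a989aeba96a1f4d6d16ac2beee9514ac9ada1030318087051d0638996322401b167c1172078a051a1c9012a6888f]
noncomputable def p2P (k u : ℕ) : ℕ := Nat.land (Nat.shiftRight (nth (nat_lit 0) p2Pd k) (Nat.mul u (nat_lit 7))) (nat_lit 127)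
noncomputable def p2Ed : ℕ := nat_lit 0x883e5a0c551a75348f3b9d0e6641f0a44a0887c3a1b0c8541203007f3f5e6f2773a1cae26e365aed26733594c86230980be58ab558974b249208e4622d12843e9f0e46e36998bc53258e4622f0c8602e1208838180a038180a0288c2611067dbe1e0ec73385c0d86a34d8cbf5b2d15e993f1c0d6692e118642e118783401
noncomputable def p2E (u : ℕ) : ℕ := Nat.land (Nat.shiftRight p2Ed (Nat.mul u (nat_lit 9))) (nat_lit 511)
noncomputable def p2Id : ℕ := nat_lit 0xfefbf7aedc016cf1d007005a0002cd8015eb00360371a0000000ab50019014c0180000052005e8800140b15000004f00027149a00013253006d012e50001240480047647011804521100000000000003c00e00021801a0214100000000000000d600000000350001a460080fc00000f803dd0f003b7401c8000000380000000002dbb60000000ce00066cad400a00d1980120040000c8064000000000c400700000000000000600000000000005e0000000180000000000018c0000001700000000000156805810000000310000030800600000000800000055aa520000000a13800098025009006046890800080000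
noncomputable def p2I (u : ℕ) : ℕ := Nat.land (Nat.shiftRight p2Id (Nat.mul u (nat_lit 7))) (nat_lit 127)
noncomputable def p2B : List ℕ := [nat_lit 0, nat_lit 34, nat_lit 97]
noncomputable def p2C : List (List (List ℕ)) := [[[],
  [],
  [],
  [],
  [],
  [],
  []], [[],
  [],
  [],
  [],
  [],
  [nat_lit 0],
  [nat_lit 0]], [[],
  [],
  [nat_lit 0],
  [nat_lit 0],
  [nat_lit 1],
  [],
  []], [[],
  [],
  [],
  [],
  [nat_lit 0],
  [],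
  [nat_lit 0, nat_lit 1]], [[],
  [],
  [],
  [],
  [nat_lit 0, nat_lit 1],
  [nat_lit 3],
  [nat_lit 1, nat_lit 3]], [[],
  [],
  [],
  [],
  [],
  [],
  [nat_lit 0, nat_lit 1, nat_lit 2]], [[],
  [],
  [],
  [],
  [],
  [],
  [nat_lit 2]]]
noncomputable def p2e : List (List ℕ) := [[],
  [nat_lit 0, nat_lit 3],
  [],
  [],
  [],
  [nat_lit 0, nat_lit 3],
  [],
  [nat_lit 0, nat_lit 3],
  [],
  [],
  [],
  [],
  [],
  [],
  [],
  [],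
  [],
  [],
  [nat_lit 2, nat_lit 4],
  [nat_lit 2, nat_lit 4],
  [nat_lit 1, nat_lit 6],
  [nat_lit 2, nat_lit 4],
  [nat_lit 1, nat_lit 2, nat_lit 4],
  [nat_lit 0, nat_lit 1],
  [nat_lit 2, nat_lit 5]]
noncomputable def p2l0Dd : ℕ := nat_lit 0xed75b83bdbb37a8927873d58eae552a12e954a244c65f2e9309431180b434160c05c2800
noncomputable def p2l0D (u : ℕ) : ℕ := Nat.land (Nat.shiftRight p2l0Dd (Nat.mul u (nat_lit 9))) (nat_lit 511)
noncomputable def p2l0Pd : ℕ := nat_lit 0x39113e25e56db54664261df78eb85f82e3597940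
noncomputable def p2l0P (u : ℕ) : ℕ := Nat.land (Nat.shiftRight p2l0Pd (Nat.mul u (nat_lit 5))) (nat_lit 31)
noncomputable def p2l0Qd : ℕ := nat_lit 0x4097b6d64c75894e0ca7caaf33075dfc31e7a620
noncomputable def p2l0Q (u : ℕ) : ℕ := Nat.land (Nat.shiftRight p2l0Qd (Nat.mul u (nat_lit 5))) (nat_lit 31)
noncomputable def p2l0 : Lev := ⟨32, 25, p2l0D, p2l0P, p2l0Q⟩
noncomputable def p2l1Dd : ℕ := nat_lit 0x952040
noncomputable def p2l1D (u : ℕ) : ℕ := Nat.land (Nat.shiftRight p2l1Dd (Nat.mul u (nat_lit 6))) (nat_lit 63)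
noncomputable def p2l1Pd : ℕ := nat_lit 0xcdd61
noncomputable def p2l1P (u : ℕ) : ℕ := Nat.land (Nat.shiftRight p2l1Pd (Nat.mul u (nat_lit 5))) (nat_lit 31)
noncomputable def p2l1Qd : ℕ := nat_lit 0xc800000400000
noncomputable def p2l1Q (u : ℕ) : ℕ := Nat.land (Nat.shiftRight p2l1Qd (Nat.mul u (nat_lit 2))) (nat_lit 3)
noncomputable def p2l1 : Lev := ⟨4, 19, p2l1D, p2l1P, p2l1Q⟩
noncomputable def covr_W : List (List ℕ) := [[nat_lit 2, nat_lit 1, nat_lit 2, nat_lit 1, nat_lit 2, nat_lit 0, nat_lit 2, nat_lit 1, nat_lit 2, nat_lit 1, nat_lit 2, nat_lit 3, nat_lit 2, nat_lit 1, nat_lit 2, nat_lit 1, nat_lit 2, nat_lit 0, nat_lit 2, nat_lit 1, nat_lit 2, nat_lit 1, nat_lit 2, nat_lit 3],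
  [nat_lit 2]]
noncomputable def covr_P : ℕ → ℕ → ℕ := wdsP H15.XMcLC.P covr_W
noncomputable def covT0 : CT := (.split (.more (.split (.more (.split (.more (.split (.more (.split (.more (.split (.more (.split (.more .one (.more (.leaf (nat_lit 0) []) .one))) (.more (.fuse [nat_lit 5] [] (.leaf (nat_lit 1) [nat_lit 1, nat_lit 2, nat_lit 0, nat_lit 2, nat_lit 1, nat_lit 3, nat_lit 2, nat_lit 0, nat_lit 2, nat_lit 0, nat_lit 3, nat_lit 2, nat_lit 0])) .one))) (.more (.fuse [nat_lit 4] [] (.fuse [nat_lit 3] [] (.prune (nat_lit 0) (nat_lit 1) []))) .one))) (.more (.split (.more (.fuse [nat_lit 6] [nat_lit 0] (.fuse [nat_lit 2] [] (.leaf (nat_lit 1) [nat_lit 1, nat_lit 2, nat_lit 0, nat_lit 2, nat_lit 1, nat_lit 3, nat_lit 2, nat_lit 1, nat_lit 2, nat_lit 0, nat_lit 2, nat_lit 1, nat_lit 2, nat_lit 1]))) (.more (.fuse [nat_lit 4] [nat_lit 0] (.fuse [nat_lit 2] [] (.leaf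 (nat_lit 1) [nat_lit 2, nat_lit 1, nat_lit 3, nat_lit 2, nat_lit 1, nat_lit 2, nat_lit 1, nat_lit 3, nat_lit 2]))) .one))) .one))) (.more (.fuse [nat_lit 5] [nat_lit 0] (.split (.more (.fuse [nat_lit 2] [] (.prune (nat_lit 1) (nat_lit 1) [nat_lit 0])) (.more (.fuse [nat_lit 2] [] (.fuse [nat_lit 5, nat_lit 6] [] (.leaf (nat_lit 1) [nat_lit 0, nat_lit 2, nat_lit 0, nat_lit 2, nat_lit 1]))) .one)))) .one))) (.more (.split (.more (.fuse [nat_lit 4] [] (.fuse [nat_lit 6] [nat_lit 1] (.split (.more (.fuse [nat_lit 1] [] (.leaf (nat_lit 1) [nat_lit 1, nat_lit 2, nat_lit 0, nat_lit 2, nat_lit 1, nat_lit 2, nat_lit 1, nat_lit 2, nat_lit 0, nat_lit 2, nat_lit 1, nat_lit 3, nat_lit 2, nat_lit 1, nat_lit 2])) (.more (.fuse [nat_lit 1] [] (.prune (nat_lit 0) (nat_lit 1) [])) .one))))) (.more (.fuse [nat_lit 4] [nat_lit 0] (.prune (nat_lit 3) (nat_lit 1) [nat_lit 0, nat_lit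 1])) .one))) .one))) (.more (.split (.more (.split (.more (.fuse [nat_lit 4] [nat_lit 0] (.fuse [nat_lit 5] [nat_lit 0, nat_lit 1] (.prune (nat_lit 2) (nat_lit 1) []))) (.more (.fuse [nat_lit 4] [] (.prune (nat_lit 3) (nat_lit 1) [nat_lit 0, nat_lit 1, nat_lit 2])) .one))) (.more (.split (.more (.split (.more (.fuse [nat_lit 5] [nat_lit 1] (.fuse [nat_lit 3] [nat_lit 0] (.prune (nat_lit 1) (nat_lit 1) []))) (.more (.fuse [nat_lit 5] [nat_lit 0, nat_lit 1] (.fuse [nat_lit 3] [nat_lit 0] (.fuse [nat_lit 2] [] (.prune (nat_lit 0) (nat_lit 1) [])))) .one))) (.more (.fuse [nat_lit 5] [nat_lit 2] (.split (.more (.fuse [nat_lit 2] [] (.fuse [nat_lit 4] [] (.leaf (nat_lit 1) [nat_lit 2, nat_lit 1, nat_lit 3, nat_lit 2, nat_lit 0, nat_lit 2, nat_lit 0, nat_lit 2, nat_lit 3, nat_lit 2]))) (.more (.fuse [nat_lit 2] [] (.prune (nat_lit 1) (nat_lit 1) [nat_lit 0])) .one))))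 .one))) .one))) .one)))
noncomputable def x_W : List (List ℕ) := [[nat_lit 2]]
noncomputable def x_P : ℕ → ℕ → ℕ := wdsP H15.XMcLC.P x_W
noncomputable def th_W : List (List ℕ) := [[nat_lit 2, nat_lit 1, nat_lit 2, nat_lit 0, nat_lit 3, nat_lit 2, nat_lit 1, nat_lit 2, nat_lit 0, nat_lit 2, nat_lit 1, nat_lit 3, nat_lit 2, nat_lit 3, nat_lit 0, nat_lit 2],
  [nat_lit 1, nat_lit 2, nat_lit 0, nat_lit 3, nat_lit 2, nat_lit 1, nat_lit 2, nat_lit 0, nat_lit 2, nat_lit 1, nat_lit 2, nat_lit 3, nat_lit 2, nat_lit 0],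
  [nat_lit 0, nat_lit 2, nat_lit 0, nat_lit 2, nat_lit 0, nat_lit 2, nat_lit 3, nat_lit 2, nat_lit 1, nat_lit 2, nat_lit 1, nat_lit 2, nat_lit 1],
  [nat_lit 2, nat_lit 1, nat_lit 2, nat_lit 0, nat_lit 2, nat_lit 3, nat_lit 2, nat_lit 1, nat_lit 2, nat_lit 0, nat_lit 2],
  [nat_lit 3, nat_lit 0, nat_lit 2, nat_lit 0, nat_lit 2, nat_lit 1, nat_lit 2, nat_lit 0, nat_lit 3, nat_lit 2, nat_lit 0, nat_lit 2, nat_lit 1, nat_lit 3, nat_lit 2, nat_lit 0, nat_lit 2],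
  [nat_lit 0, nat_lit 2, nat_lit 3, nat_lit 2, nat_lit 1, nat_lit 2, nat_lit 0, nat_lit 2, nat_lit 3, nat_lit 2, nat_lit 1],
  [nat_lit 2, nat_lit 0, nat_lit 2, nat_lit 1, nat_lit 2, nat_lit 3, nat_lit 2, nat_lit 0, nat_lit 2, nat_lit 1, nat_lit 2],
  [nat_lit 1, nat_lit 2, nat_lit 1, nat_lit 2, nat_lit 1],
  [nat_lit 0],
  [nat_lit 1],
  [nat_lit 2],
  [nat_lit 3]]
noncomputable def th_P : ℕ → ℕ → ℕ := wdsP H15.XMcLC.P th_W
noncomputable def tl0Dd : ℕ := nat_lit 0x3ce0d559bdb1a5bcb0a4986781774f756a521e1d120e1b372b13232d172c0b0a090800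
noncomputable def tl0D (u : ℕ) : ℕ := Nat.land (Nat.shiftRight tl0Dd (Nat.mul u (nat_lit 8))) (nat_lit 255)
noncomputable def tl0Pd : ℕ := nat_lit 0xed7204288ddc65849a905ac75337d2af60fb91a2412dae07e8d512e87a9f5280d86f182a61e800
noncomputable def tl0P (u : ℕ) : ℕ := Nat.land (Nat.shiftRight tl0Pd (Nat.mul u (nat_lit 9))) (nat_lit 511)
noncomputable def tl0Qd : ℕ := nat_lit 0xc000000000000000000001400100010000000000000000001274000058000000000000000000044000000000000060000014000000000000a84e0000000000000000000000000171da00b0002000000000020005406c00000003000000000000000000000000000000000000000000000000000000000000000000000000003c001c0000000007c00000000000000000000004003402408800007800000000000006400000000000000000004c0000000000000000000000000000000000000020180000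
noncomputable def tl0Q (u : ℕ) : ℕ := Nat.land (Nat.shiftRight tl0Qd (Nat.mul u (nat_lit 6))) (nat_lit 63)
noncomputable def tl0 : Lev := ⟨35, 12, tl0D, tl0P, tl0Q⟩
noncomputable def tl1Dd : ℕ := nat_lit 0x8746455f3b371a231d271f0c0a0d0b0f0700
noncomputable def tl1D (u : ℕ) : ℕ := Nat.land (Nat.shiftRight tl1Dd (Nat.mul u (nat_lit 8))) (nat_lit 255)
noncomputable def tl1Pd : ℕ := nat_lit 0x8b90fa99bec74fa5548f671a4d44032c3c57505
noncomputable def tl1P (u : ℕ) : ℕ := Nat.land (Nat.shiftRight tl1Pd (Nat.mul u (nat_lit 9))) (nat_lit 511)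
noncomputable def tl1Qd : ℕ := nat_lit 0x200000040000000000000000380006800000000000000000000000000006000000000000000060000000000000000000000038090140058000000000014030000000000000000000000000000000000000000000000000000000000000000000000000300000000000000000000000000000000000000000000000000000000000000000000007800000000000000000000000000000001120000
noncomputable def tl1Q (u : ℕ) : ℕ := Nat.land (Nat.shiftRight tl1Qd (Nat.mul u (nat_lit 5))) (nat_lit 31)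
noncomputable def tl1 : Lev := ⟨18, 8, tl1D, tl1P, tl1Q⟩
noncomputable def tl2Dd : ℕ := nat_lit 0xd650
noncomputable def tl2D (u : ℕ) : ℕ := Nat.land (Nat.shiftRight tl2Dd (Nat.mul u (nat_lit 4))) (nat_lit 15)
noncomputable def tl2Pd : ℕ := nat_lit 0xb9c7f61f
noncomputable def tl2P (u : ℕ) : ℕ := Nat.land (Nat.shiftRight tl2Pd (Nat.mul u (nat_lit 8))) (nat_lit 255)
noncomputable def tl2Qd : ℕ := nat_lit 0x1000000000000000000000008000000c00000000000000000000000000000000000000000000000000000000000000000000000000000000000000000000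
noncomputable def tl2Q (u : ℕ) : ℕ := Nat.land (Nat.shiftRight tl2Qd (Nat.mul u (nat_lit 2))) (nat_lit 3)
noncomputable def tl2 : Lev := ⟨4, 7, tl2D, tl2P, tl2Q⟩
noncomputable def tl3Dd : ℕ := nat_lit 0xc98
noncomputable def tl3D (u : ℕ) : ℕ := Nat.land (Nat.shiftRight tl3Dd (Nat.mul u (nat_lit 3))) (nat_lit 7)
noncomputable def tl3Pd : ℕ := nat_lit 0x40ae5a1b
noncomputable def tl3P (u : ℕ) : ℕ := Nat.land (Nat.shiftRight tl3Pd (Nat.mul u (nat_lit 8))) (nat_lit 255)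
noncomputable def tl3Qd : ℕ := nat_lit 0x2000000000000000000000000000000000000000001000000000000300000000000000000000000000000000
noncomputable def tl3Q (u : ℕ) : ℕ := Nat.land (Nat.shiftRight tl3Qd (Nat.mul u (nat_lit 2))) (nat_lit 3)
noncomputable def tl3 : Lev := ⟨4, 4, tl3D, tl3P, tl3Q⟩
noncomputable def tl4Dd : ℕ := nat_lit 2
noncomputable def tl4D (u : ℕ) : ℕ := Nat.land (Nat.shiftRight tl4Dd (Nat.mul u (nat_lit 1))) (nat_lit 1)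
noncomputable def tl4Pd : ℕ := nat_lit 0x3f89
noncomputable def tl4P (u : ℕ) : ℕ := Nat.land (Nat.shiftRight tl4Pd (Nat.mul u (nat_lit 7))) (nat_lit 127)
noncomputable def tl4Qd : ℕ := nat_lit 0x80000000000000000000000000000000
noncomputable def tl4Q (u : ℕ) : ℕ := Nat.land (Nat.shiftRight tl4Qd (Nat.mul u (nat_lit 1))) (nat_lit 1)
noncomputable def tl4 : Lev := ⟨2, 2, tl4D, tl4P, tl4Q⟩
noncomputable def tl5Dd : ℕ := nat_lit 0
noncomputable def tl5D (u : ℕ) : ℕ := Nat.land (Nat.shiftRight tl5Dd (Nat.mul u (nat_lit 1))) (nat_lit 1)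
noncomputable def tl5Pd : ℕ := nat_lit 0x13510
noncomputable def tl5P (u : ℕ) : ℕ := Nat.land (Nat.shiftRight tl5Pd (Nat.mul u (nat_lit 9))) (nat_lit 511)
noncomputable def tl5Qd : ℕ := nat_lit 0x400000000000000000000000000000000000000
noncomputable def tl5Q (u : ℕ) : ℕ := Nat.land (Nat.shiftRight tl5Qd (Nat.mul u (nat_lit 1))) (nat_lit 1)
noncomputable def tl5 : Lev := ⟨2, 1, tl5D, tl5P, tl5Q⟩
noncomputable def ce_W : List (List ℕ) := [[nat_lit 0, nat_lit 2, nat_lit 0, nat_lit 2, nat_lit 3, nat_lit 2, nat_lit 0, nat_lit 2, nat_lit 1, nat_lit 2, nat_lit 3, nat_lit 2, nat_lit 1, nat_lit 2, nat_lit 1],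
  [nat_lit 1, nat_lit 2, nat_lit 3, nat_lit 2, nat_lit 0, nat_lit 2, nat_lit 1, nat_lit 2, nat_lit 3, nat_lit 2, nat_lit 0],
  [nat_lit 1, nat_lit 2, nat_lit 1, nat_lit 2, nat_lit 3, nat_lit 2, nat_lit 1, nat_lit 2, nat_lit 0, nat_lit 2, nat_lit 3, nat_lit 2, nat_lit 0, nat_lit 2, nat_lit 0],
  [nat_lit 1, nat_lit 2, nat_lit 0, nat_lit 2, nat_lit 1, nat_lit 2, nat_lit 0, nat_lit 2],
  [nat_lit 3, nat_lit 0, nat_lit 2, nat_lit 0, nat_lit 2, nat_lit 1, nat_lit 3, nat_lit 2, nat_lit 0, nat_lit 2, nat_lit 0, nat_lit 3, nat_lit 2]]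
noncomputable def ce_P : ℕ → ℕ → ℕ := wdsP H15.XMcLC.P ce_W
noncomputable def cc4Dd : ℕ := nat_lit 0
noncomputable def cc4D (u : ℕ) : ℕ := Nat.land (Nat.shiftRight cc4Dd (Nat.mul u (nat_lit 1))) (nat_lit 1)
noncomputable def cc4Pd : ℕ := nat_lit 0x3f89
noncomputable def cc4P (u : ℕ) : ℕ := Nat.land (Nat.shiftRight cc4Pd (Nat.mul u (nat_lit 7))) (nat_lit 127)
noncomputable def cc4Qd : ℕ := nat_lit 0x80000000000000000000000000000000
noncomputable def cc4Q (u : ℕ) : ℕ := Nat.land (Nat.shiftRight cc4Qd (Nat.mul u (nat_lit 1))) (nat_lit 1)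
noncomputable def cc4 : Lev := ⟨2, 1, cc4D, cc4P, cc4Q⟩
noncomputable def tn0Fd : ℕ := nat_lit 0
noncomputable def tn0F (u : ℕ) : ℕ := Nat.land (Nat.shiftRight tn0Fd (Nat.mul u (nat_lit 1))) (nat_lit 1)
noncomputable def tn0 : Nd := ⟨tn0F, (nat_lit 2), (nat_lit 1), [], [((nat_lit 0), [])], []⟩
noncomputable def cc3Dd : ℕ := nat_lit 2
noncomputable def cc3D (u : ℕ) : ℕ := Nat.land (Nat.shiftRight cc3Dd (Nat.mul u (nat_lit 1))) (nat_lit 1)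
noncomputable def cc3Pd : ℕ := nat_lit 0x2d1b
noncomputable def cc3P (u : ℕ) : ℕ := Nat.land (Nat.shiftRight cc3Pd (Nat.mul u (nat_lit 7))) (nat_lit 127)
noncomputable def cc3Qd : ℕ := nat_lit 0x40000000000000000000000
noncomputable def cc3Q (u : ℕ) : ℕ := Nat.land (Nat.shiftRight cc3Qd (Nat.mul u (nat_lit 1))) (nat_lit 1)
noncomputable def cc3 : Lev := ⟨2, 2, cc3D, cc3P, cc3Q⟩
noncomputable def tn1Fd : ℕ := nat_lit 0xc
noncomputable def tn1F (u : ℕ) : ℕ := Nat.land (Nat.shiftRight tn1Fd (Nat.mul u (nat_lit 1))) (nat_lit 1)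
noncomputable def tn1 : Nd := ⟨tn1F, (nat_lit 2), (nat_lit 2), [[nat_lit 0]], [((nat_lit 0), [])], []⟩
noncomputable def cc2Dd : ℕ := nat_lit 8
noncomputable def cc2D (u : ℕ) : ℕ := Nat.land (Nat.shiftRight cc2Dd (Nat.mul u (nat_lit 2))) (nat_lit 3)
noncomputable def cc2Pd : ℕ := nat_lit 0xf61f
noncomputable def cc2P (u : ℕ) : ℕ := Nat.land (Nat.shiftRight cc2Pd (Nat.mul u (nat_lit 8))) (nat_lit 255)
noncomputable def cc2Qd : ℕ := nat_lit 0x40000000000000000000000000000000000000000000000000000000000000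
noncomputable def cc2Q (u : ℕ) : ℕ := Nat.land (Nat.shiftRight cc2Qd (Nat.mul u (nat_lit 1))) (nat_lit 1)
noncomputable def cc2 : Lev := ⟨2, 3, cc2D, cc2P, cc2Q⟩
noncomputable def tn2Fd : ℕ := nat_lit 0xc
noncomputable def tn2F (u : ℕ) : ℕ := Nat.land (Nat.shiftRight tn2Fd (Nat.mul u (nat_lit 1))) (nat_lit 1)
noncomputable def tn2 : Nd := ⟨tn2F, (nat_lit 3), (nat_lit 3), [[nat_lit 0]], [((nat_lit 0), [])], []⟩
noncomputable def cc0Dd : ℕ := nat_lit 0xc77aa4f76d97244498e983454b921c2c6890c10180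
noncomputable def cc0D (u : ℕ) : ℕ := Nat.land (Nat.shiftRight cc0Dd (Nat.mul u (nat_lit 7))) (nat_lit 127)
noncomputable def cc0Pd : ℕ := nat_lit 0x1e905ec1f4fb9186374aa4d44a501b44770528ae9482d6f9614c00
noncomputable def cc0P (u : ℕ) : ℕ := Nat.land (Nat.shiftRight cc0Pd (Nat.mul u (nat_lit 9))) (nat_lit 511)
noncomputable def cc0Qd : ℕ := nat_lit 0x100000000000000000054000000000000000000001200000180000000000000001400000000000000008800000000018000000000000000000000000585034009800000000001e070000000000000000000000000000000000000000000000000000000000000000000000000200000000e0000000000000000002c0002e048000800000000000080000000000000000a000000000000000000000000000000000058000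
noncomputable def cc0Q (u : ℕ) : ℕ := Nat.land (Nat.shiftRight cc0Qd (Nat.mul u (nat_lit 5))) (nat_lit 31)
noncomputable def cc0 : Lev := ⟨24, 5, cc0D, cc0P, cc0Q⟩
noncomputable def tn3Fd : ℕ := nat_lit 0x32100f016
noncomputable def tn3F (u : ℕ) : ℕ := Nat.land (Nat.shiftRight tn3Fd (Nat.mul u (nat_lit 1))) (nat_lit 1)
noncomputable def tn3 : Nd := ⟨tn3F, (nat_lit 5), (nat_lit 5), [[nat_lit 0]], [((nat_lit 0), [])], []⟩
noncomputable def d_W : Wl := [[nat_lit 5, nat_lit 8],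
  [nat_lit 10, nat_lit 8],
  [nat_lit 6, nat_lit 10, nat_lit 7, nat_lit 9, nat_lit 7],
  [nat_lit 5, nat_lit 6, nat_lit 7, nat_lit 9, nat_lit 7],
  [nat_lit 5, nat_lit 6, nat_lit 10, nat_lit 8],
  [nat_lit 9, nat_lit 10, nat_lit 8, nat_lit 9],
  [nat_lit 6, nat_lit 8],
  [nat_lit 7, nat_lit 9, nat_lit 7],
  [nat_lit 6, nat_lit 9, nat_lit 8],
  [nat_lit 5, nat_lit 10, nat_lit 8, nat_lit 9],
  [nat_lit 6, nat_lit 10, nat_lit 8, nat_lit 9],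
  [nat_lit 10, nat_lit 9, nat_lit 8],
  [nat_lit 5, nat_lit 9, nat_lit 8],
  [nat_lit 6, nat_lit 9, nat_lit 10, nat_lit 8],
  [nat_lit 5, nat_lit 6, nat_lit 8, nat_lit 9],
  [nat_lit 8, nat_lit 9],
  [nat_lit 8, nat_lit 9, nat_lit 8, nat_lit 10],
  [nat_lit 5, nat_lit 9, nat_lit 7, nat_lit 10],
  [nat_lit 6, nat_lit 9, nat_lit 7, nat_lit 10, nat_lit 9],
  [nat_lit 6, nat_lit 8, nat_lit 10, nat_lit 9, nat_lit 8],
  [nat_lit 6, nat_lit 9, nat_lit 7, nat_lit 10],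
  [nat_lit 10, nat_lit 9, nat_lit 7, nat_lit 10],
  [nat_lit 6, nat_lit 9, nat_lit 8, nat_lit 10, nat_lit 8],
  [nat_lit 8, nat_lit 9, nat_lit 10, nat_lit 8],
  [nat_lit 8, nat_lit 9, nat_lit 10, nat_lit 7],
  [nat_lit 5, nat_lit 9, nat_lit 7, nat_lit 10, nat_lit 8],
  [nat_lit 7, nat_lit 10, nat_lit 7, nat_lit 9, nat_lit 7],
  [nat_lit 5, nat_lit 9, nat_lit 8, nat_lit 10, nat_lit 7],
  [nat_lit 7, nat_lit 10, nat_lit 8, nat_lit 9],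
  [nat_lit 6, nat_lit 8, nat_lit 10, nat_lit 9, nat_lit 7],
  [nat_lit 8, nat_lit 9, nat_lit 8, nat_lit 10, nat_lit 8],
  [nat_lit 5, nat_lit 8, nat_lit 10, nat_lit 7, nat_lit 9],
  [nat_lit 6, nat_lit 7, nat_lit 9, nat_lit 8],
  [],
  [nat_lit 5, nat_lit 6],
  [nat_lit 7, nat_lit 9, nat_lit 8, nat_lit 10],
  [nat_lit 6, nat_lit 10],
  [nat_lit 10, nat_lit 7, nat_lit 9, nat_lit 8],
  [nat_lit 5, nat_lit 7, nat_lit 9, nat_lit 8],
  [nat_lit 5, nat_lit 10],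
  [nat_lit 6, nat_lit 9],
  [nat_lit 10, nat_lit 9],
  [nat_lit 6, nat_lit 9, nat_lit 10],
  [nat_lit 5, nat_lit 9],
  [nat_lit 8, nat_lit 9, nat_lit 7, nat_lit 10],
  [nat_lit 5, nat_lit 6, nat_lit 8, nat_lit 9, nat_lit 7],
  [nat_lit 5, nat_lit 10, nat_lit 8, nat_lit 9, nat_lit 7],
  [nat_lit 8, nat_lit 9, nat_lit 7],
  [nat_lit 7, nat_lit 9, nat_lit 10],
  [nat_lit 8, nat_lit 10, nat_lit 8],
  [nat_lit 6, nat_lit 10, nat_lit 7, nat_lit 9, nat_lit 10],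
  [nat_lit 6, nat_lit 7, nat_lit 10, nat_lit 9],
  [nat_lit 6, nat_lit 7, nat_lit 10],
  [nat_lit 8, nat_lit 10, nat_lit 8, nat_lit 9],
  [nat_lit 5, nat_lit 6, nat_lit 8, nat_lit 10, nat_lit 8],
  [nat_lit 5, nat_lit 7, nat_lit 10],
  [nat_lit 6, nat_lit 10, nat_lit 8, nat_lit 9, nat_lit 10],
  [nat_lit 8, nat_lit 9, nat_lit 10],
  [nat_lit 6, nat_lit 8, nat_lit 10, nat_lit 9],
  [nat_lit 7, nat_lit 10, nat_lit 7, nat_lit 9],
  [nat_lit 6, nat_lit 9, nat_lit 7, nat_lit 10, nat_lit 7],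
  [nat_lit 5, nat_lit 9, nat_lit 8, nat_lit 10],
  [nat_lit 10, nat_lit 9, nat_lit 8, nat_lit 10],
  [nat_lit 6, nat_lit 9, nat_lit 8, nat_lit 10],
  [nat_lit 9, nat_lit 8, nat_lit 10, nat_lit 7],
  [nat_lit 5, nat_lit 7, nat_lit 10, nat_lit 8, nat_lit 9],
  [nat_lit 9, nat_lit 7, nat_lit 10, nat_lit 8],
  [nat_lit 8, nat_lit 10, nat_lit 7, nat_lit 9],
  [nat_lit 8, nat_lit 10, nat_lit 9, nat_lit 7],
  [nat_lit 8, nat_lit 10, nat_lit 9, nat_lit 7, nat_lit 10],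
  [nat_lit 6, nat_lit 8, nat_lit 9, nat_lit 10, nat_lit 7],
  [nat_lit 7, nat_lit 9, nat_lit 10, nat_lit 8, nat_lit 9],
  [nat_lit 6, nat_lit 10, nat_lit 9, nat_lit 8, nat_lit 10],
  [nat_lit 9, nat_lit 8, nat_lit 10],
  [nat_lit 8, nat_lit 10, nat_lit 9],
  [nat_lit 6, nat_lit 7, nat_lit 10, nat_lit 7, nat_lit 9],
  [nat_lit 5, nat_lit 6, nat_lit 9, nat_lit 8, nat_lit 10],
  [nat_lit 6, nat_lit 8, nat_lit 9, nat_lit 10],
  [nat_lit 9, nat_lit 7, nat_lit 10, nat_lit 7],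
  [nat_lit 10, nat_lit 8, nat_lit 9, nat_lit 10],
  [nat_lit 6, nat_lit 8, nat_lit 9],
  [nat_lit 5, nat_lit 6, nat_lit 10, nat_lit 8, nat_lit 9],
  [nat_lit 6, nat_lit 10, nat_lit 9, nat_lit 8],
  [nat_lit 10, nat_lit 8, nat_lit 9],
  [nat_lit 5, nat_lit 8, nat_lit 9],
  [nat_lit 9, nat_lit 8],
  [nat_lit 5, nat_lit 6, nat_lit 9, nat_lit 8],
  [nat_lit 9, nat_lit 10, nat_lit 8],
  [nat_lit 6, nat_lit 10, nat_lit 9, nat_lit 7, nat_lit 10],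
  [nat_lit 8, nat_lit 10, nat_lit 9, nat_lit 8],
  [nat_lit 9, nat_lit 7, nat_lit 10, nat_lit 9],
  [nat_lit 9, nat_lit 7, nat_lit 10],
  [nat_lit 6, nat_lit 8, nat_lit 9, nat_lit 8, nat_lit 10],
  [nat_lit 6, nat_lit 8, nat_lit 9, nat_lit 10, nat_lit 8],
  [nat_lit 9, nat_lit 8, nat_lit 10, nat_lit 8],
  [nat_lit 5, nat_lit 6, nat_lit 9, nat_lit 7, nat_lit 10],
  [nat_lit 5, nat_lit 6, nat_lit 8, nat_lit 10],
  [nat_lit 5, nat_lit 7, nat_lit 10, nat_lit 7],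
  [nat_lit 7, nat_lit 9, nat_lit 10, nat_lit 7],
  [nat_lit 9, nat_lit 8, nat_lit 10, nat_lit 9],
  [nat_lit 8, nat_lit 10],
  [nat_lit 6, nat_lit 7, nat_lit 9, nat_lit 7, nat_lit 10],
  [nat_lit 6, nat_lit 7, nat_lit 10, nat_lit 9, nat_lit 7],
  [nat_lit 6, nat_lit 7, nat_lit 10, nat_lit 7],
  [nat_lit 6, nat_lit 8, nat_lit 9, nat_lit 7],
  [nat_lit 9, nat_lit 10],
  [nat_lit 6, nat_lit 10, nat_lit 9],
  [nat_lit 5, nat_lit 8, nat_lit 9, nat_lit 7, nat_lit 10],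
  [nat_lit 5, nat_lit 8, nat_lit 9, nat_lit 7],
  [nat_lit 10, nat_lit 8, nat_lit 9, nat_lit 7],
  [nat_lit 5, nat_lit 6, nat_lit 9],
  [nat_lit 9],
  [nat_lit 6, nat_lit 8, nat_lit 10],
  [nat_lit 7, nat_lit 10, nat_lit 7],
  [nat_lit 7, nat_lit 10, nat_lit 9, nat_lit 7],
  [nat_lit 7, nat_lit 9, nat_lit 7, nat_lit 10],
  [nat_lit 6, nat_lit 7, nat_lit 9, nat_lit 10, nat_lit 7],
  [nat_lit 5, nat_lit 6, nat_lit 7, nat_lit 10, nat_lit 7],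
  [nat_lit 6, nat_lit 9, nat_lit 8, nat_lit 10, nat_lit 9],
  [nat_lit 5, nat_lit 8, nat_lit 10],
  [nat_lit 6, nat_lit 8, nat_lit 9, nat_lit 8],
  [nat_lit 9, nat_lit 10, nat_lit 7],
  [nat_lit 10, nat_lit 8, nat_lit 9, nat_lit 8],
  [nat_lit 6, nat_lit 9, nat_lit 10, nat_lit 7, nat_lit 9],
  [nat_lit 6, nat_lit 10, nat_lit 9, nat_lit 7],
  [nat_lit 5, nat_lit 8, nat_lit 9, nat_lit 8],
  [nat_lit 5, nat_lit 6, nat_lit 9, nat_lit 7],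
  [nat_lit 9, nat_lit 7],
  [nat_lit 5, nat_lit 8, nat_lit 10, nat_lit 7],
  [nat_lit 8, nat_lit 9, nat_lit 10, nat_lit 7, nat_lit 9],
  [nat_lit 7, nat_lit 10, nat_lit 8],
  [nat_lit 7, nat_lit 10, nat_lit 9, nat_lit 8],
  [nat_lit 7, nat_lit 9, nat_lit 7, nat_lit 10, nat_lit 7],
  [nat_lit 5, nat_lit 6, nat_lit 7, nat_lit 10, nat_lit 8],
  [nat_lit 6, nat_lit 7, nat_lit 9, nat_lit 10, nat_lit 8],
  [nat_lit 6, nat_lit 8, nat_lit 10, nat_lit 7],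
  [nat_lit 8, nat_lit 10, nat_lit 8, nat_lit 9, nat_lit 8],
  [nat_lit 6, nat_lit 7, nat_lit 10, nat_lit 9, nat_lit 8],
  [nat_lit 7, nat_lit 10, nat_lit 9, nat_lit 8, nat_lit 10],
  [nat_lit 8, nat_lit 10, nat_lit 7],
  [nat_lit 6, nat_lit 7, nat_lit 10, nat_lit 8],
  [nat_lit 5, nat_lit 6, nat_lit 8, nat_lit 10, nat_lit 7],
  [nat_lit 7, nat_lit 9, nat_lit 10, nat_lit 8],
  [nat_lit 5, nat_lit 7, nat_lit 10, nat_lit 8],
  [nat_lit 8],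
  [nat_lit 6, nat_lit 7, nat_lit 9, nat_lit 7],
  [nat_lit 5, nat_lit 6, nat_lit 8],
  [nat_lit 10, nat_lit 7, nat_lit 9, nat_lit 7],
  [nat_lit 5, nat_lit 7, nat_lit 9, nat_lit 7],
  [nat_lit 6, nat_lit 10, nat_lit 8],
  [nat_lit 6, nat_lit 9, nat_lit 10, nat_lit 8, nat_lit 9],
  [nat_lit 5, nat_lit 10, nat_lit 8],
  [nat_lit 5, nat_lit 6, nat_lit 10],
  [nat_lit 5],
  [nat_lit 5, nat_lit 7, nat_lit 9, nat_lit 8, nat_lit 10],
  [nat_lit 10],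
  [nat_lit 5, nat_lit 10, nat_lit 7, nat_lit 9, nat_lit 8],
  [nat_lit 7, nat_lit 9, nat_lit 8],
  [nat_lit 5, nat_lit 6, nat_lit 7, nat_lit 9, nat_lit 8],
  [nat_lit 6],
  [nat_lit 5, nat_lit 6, nat_lit 7, nat_lit 10],
  [nat_lit 10, nat_lit 7, nat_lit 9, nat_lit 10],
  [nat_lit 6, nat_lit 8, nat_lit 10, nat_lit 8, nat_lit 9],
  [nat_lit 7, nat_lit 10, nat_lit 9],
  [nat_lit 7, nat_lit 10],
  [nat_lit 6, nat_lit 7, nat_lit 9, nat_lit 10],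
  [nat_lit 6, nat_lit 8, nat_lit 10, nat_lit 8],
  [nat_lit 5, nat_lit 8, nat_lit 10, nat_lit 8],
  [nat_lit 5, nat_lit 7],
  [nat_lit 6, nat_lit 10, nat_lit 7, nat_lit 9],
  [nat_lit 10, nat_lit 7],
  [nat_lit 5, nat_lit 6, nat_lit 10, nat_lit 7],
  [nat_lit 5, nat_lit 6, nat_lit 7, nat_lit 9],
  [nat_lit 5, nat_lit 10, nat_lit 7, nat_lit 9],
  [nat_lit 7, nat_lit 9],
  [nat_lit 6, nat_lit 7],
  [nat_lit 6, nat_lit 9, nat_lit 7],
  [nat_lit 9, nat_lit 10, nat_lit 7, nat_lit 9],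
  [nat_lit 5, nat_lit 9, nat_lit 7],
  [nat_lit 10, nat_lit 9, nat_lit 7],
  [nat_lit 6, nat_lit 10, nat_lit 8, nat_lit 9, nat_lit 8],
  [nat_lit 6, nat_lit 9, nat_lit 10, nat_lit 7],
  [nat_lit 8, nat_lit 9, nat_lit 8],
  [nat_lit 5, nat_lit 6, nat_lit 8, nat_lit 9, nat_lit 8],
  [nat_lit 7],
  [nat_lit 5, nat_lit 10, nat_lit 7],
  [nat_lit 5, nat_lit 6, nat_lit 10, nat_lit 7, nat_lit 9],
  [nat_lit 5, nat_lit 6, nat_lit 7],
  [nat_lit 6, nat_lit 7, nat_lit 9],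
  [nat_lit 10, nat_lit 7, nat_lit 9],
  [nat_lit 5, nat_lit 7, nat_lit 9],
  [nat_lit 6, nat_lit 10, nat_lit 7]]
noncomputable def s1_L : List (List ℕ × ℕ) := [([nat_lit 8, nat_lit 10], (nat_lit 0)), ([nat_lit 9, nat_lit 8, nat_lit 10], (nat_lit 0)), ([nat_lit 9], (nat_lit 0)), ([nat_lit 7, nat_lit 9], (nat_lit 0)), ([nat_lit 10, nat_lit 7, nat_lit 9], (nat_lit 1)), ([nat_lit 10], (nat_lit 1)), ([nat_lit 7, nat_lit 9, nat_lit 10], (nat_lit 0)), ([nat_lit 10, nat_lit 8, nat_lit 9], (nat_lit 0)), ([nat_lit 8, nat_lit 9, nat_lit 8, nat_lit 10], (nat_lit 0)), ([nat_lit 10, nat_lit 7, nat_lit 9], (nat_lit 0)), ([nat_lit 8, nat_lit 10, nat_lit 8, nat_lit 9], (nat_lit 0)), ([nat_lit 8, nat_lit 9, nat_lit 10], (nat_lit 0)), ([nat_lit 8, nat_lit 9], (nat_lit 0)), ([nat_lit 9, nat_lit 8, nat_lit 10], (nat_lit 1)), ([nat_lit 10, nat_lit 9], (nat_lit 1)), ([nat_lit 8, nat_lit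 10, nat_lit 8, nat_lit 9], (nat_lit 1)), ([nat_lit 9, nat_lit 7, nat_lit 10], (nat_lit 0)), ([nat_lit 7, nat_lit 10], (nat_lit 0)), ([nat_lit 10, nat_lit 9], (nat_lit 0)), ([nat_lit 10], (nat_lit 0)), ([nat_lit 7, nat_lit 9], (nat_lit 1)), ([], (nat_lit 0)), ([nat_lit 10, nat_lit 8, nat_lit 9], (nat_lit 1)), ([nat_lit 8, nat_lit 10], (nat_lit 1)), ([nat_lit 8, nat_lit 9, nat_lit 10], (nat_lit 1)), ([nat_lit 8, nat_lit 9, nat_lit 8, nat_lit 10], (nat_lit 1)), ([nat_lit 7, nat_lit 10], (nat_lit 1)), ([nat_lit 8, nat_lit 9], (nat_lit 1)), ([nat_lit 9, nat_lit 7, nat_lit 10], (nat_lit 1)), ([nat_lit 7, nat_lit 9, nat_lit 10], (nat_lit 1)), ([nat_lit 9], (nat_lit 1)), ([], (nat_lit 1))]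
noncomputable def s20_L : List (List ℕ × ℕ) := [([], (nat_lit 0)), ([nat_lit 7], (nat_lit 0)), ([nat_lit 7], (nat_lit 1)), ([nat_lit 8], (nat_lit 1)), ([], (nat_lit 1)), ([nat_lit 8], (nat_lit 0))]
noncomputable def s300_L : List (List ℕ × ℕ) := [([], (nat_lit 0))]
noncomputable def s301_L : List (List ℕ × ℕ) := []
noncomputable def s21_L : List (List ℕ × ℕ) := [([], (nat_lit 0)), ([nat_lit 7], (nat_lit 0)), ([nat_lit 7], (nat_lit 1)), ([nat_lit 8], (nat_lit 1)), ([], (nat_lit 1)), ([nat_lit 8], (nat_lit 0))]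
noncomputable def s310_L : List (List ℕ × ℕ) := []
noncomputable def s311_L : List (List ℕ × ℕ) := [([], (nat_lit 0))]
noncomputable def w110_P : Wl := [[],
  [nat_lit 5],
  [nat_lit 6],
  [nat_lit 5, nat_lit 6],
  [nat_lit 7],
  [nat_lit 8],
  [nat_lit 9],
  [nat_lit 8, nat_lit 9, nat_lit 7],
  [nat_lit 7, nat_lit 9, nat_lit 8],
  [nat_lit 10],
  [nat_lit 8, nat_lit 10, nat_lit 7],
  [nat_lit 7, nat_lit 10, nat_lit 8]]
noncomputable def w110_T : Wl := [[nat_lit 0, nat_lit 1, nat_lit 3, nat_lit 2, nat_lit 5, nat_lit 4, nat_lit 6, nat_lit 8, nat_lit 7, nat_lit 9, nat_lit 11, nat_lit 10],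
  [],
  [],
  [],
  [nat_lit 0, nat_lit 2, nat_lit 1, nat_lit 3, nat_lit 4, nat_lit 5, nat_lit 9, nat_lit 10, nat_lit 11, nat_lit 7, nat_lit 8, nat_lit 6]]
noncomputable def w110_J4 : Wl := [[],
  [nat_lit 3],
  [nat_lit 4],
  [nat_lit 3, nat_lit 4],
  [nat_lit 2],
  [nat_lit 2, nat_lit 2],
  [nat_lit 1],
  [nat_lit 2, nat_lit 2, nat_lit 1, nat_lit 2],
  [nat_lit 2, nat_lit 1, nat_lit 2, nat_lit 2],
  [nat_lit 0],
  [nat_lit 2, nat_lit 2, nat_lit 0, nat_lit 2],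
  [nat_lit 2, nat_lit 0, nat_lit 2, nat_lit 2]]
noncomputable def c0_P : Wl := [[],
  [nat_lit 5],
  [nat_lit 6],
  [nat_lit 5, nat_lit 6],
  [nat_lit 7],
  [nat_lit 8],
  [nat_lit 9],
  [nat_lit 8, nat_lit 9, nat_lit 7],
  [nat_lit 7, nat_lit 9, nat_lit 8],
  [nat_lit 10],
  [nat_lit 8, nat_lit 10, nat_lit 7],
  [nat_lit 7, nat_lit 10, nat_lit 8]]
noncomputable def c0_T : Wl := [[nat_lit 0, nat_lit 1, nat_lit 3, nat_lit 2, nat_lit 5, nat_lit 4, nat_lit 6, nat_lit 8, nat_lit 7, nat_lit 9, nat_lit 11, nat_lit 10],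
  [],
  [],
  [],
  [nat_lit 0, nat_lit 2, nat_lit 1, nat_lit 3, nat_lit 5, nat_lit 4, nat_lit 7, nat_lit 6, nat_lit 8, nat_lit 9, nat_lit 11, nat_lit 10]]
noncomputable def c0_J4 : Wl := [[],
  [nat_lit 3],
  [nat_lit 4],
  [nat_lit 3, nat_lit 4],
  [nat_lit 2],
  [nat_lit 2, nat_lit 2],
  [nat_lit 1],
  [nat_lit 2, nat_lit 2, nat_lit 1, nat_lit 2],
  [nat_lit 2, nat_lit 1, nat_lit 2, nat_lit 2],
  [nat_lit 0],
  [nat_lit 2, nat_lit 2, nat_lit 0, nat_lit 2],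
  [nat_lit 2, nat_lit 0, nat_lit 2, nat_lit 2]]
noncomputable def r0_L : List (List ℕ × ℕ) := [([nat_lit 0, nat_lit 4], (nat_lit 3))]
noncomputable def r0_R : Wl := [[nat_lit 0, nat_lit 4, nat_lit 0, nat_lit 4, nat_lit 0, nat_lit 4]]
noncomputable def e0_P : Wl := [[],
  [nat_lit 5],
  [nat_lit 6],
  [nat_lit 5, nat_lit 6],
  [nat_lit 9],
  [nat_lit 5, nat_lit 9],
  [nat_lit 6, nat_lit 9],
  [nat_lit 5, nat_lit 6, nat_lit 9],
  [nat_lit 8, nat_lit 9, nat_lit 7],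
  [nat_lit 5, nat_lit 8, nat_lit 9, nat_lit 7],
  [nat_lit 6, nat_lit 8, nat_lit 9, nat_lit 7],
  [nat_lit 5, nat_lit 6, nat_lit 8, nat_lit 9, nat_lit 7],
  [nat_lit 9, nat_lit 8, nat_lit 9, nat_lit 7],
  [nat_lit 5, nat_lit 9, nat_lit 8, nat_lit 9, nat_lit 7],
  [nat_lit 6, nat_lit 9, nat_lit 8, nat_lit 9, nat_lit 7],
  [nat_lit 5, nat_lit 6, nat_lit 9, nat_lit 8, nat_lit 9, nat_lit 7]]
noncomputable def e0_T : Wl := [[nat_lit 0, nat_lit 1, nat_lit 3, nat_lit 2, nat_lit 4, nat_lit 5, nat_lit 7, nat_lit 6, nat_lit 12, nat_lit 13, nat_lit 15, nat_lit 14, nat_lit 8, nat_lit 9, nat_lit 11, nat_lit 10],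
  [nat_lit 0, nat_lit 1, nat_lit 3, nat_lit 2, nat_lit 8, nat_lit 9, nat_lit 11, nat_lit 10, nat_lit 4, nat_lit 5, nat_lit 7, nat_lit 6, nat_lit 12, nat_lit 13, nat_lit 15, nat_lit 14],
  [nat_lit 0, nat_lit 1, nat_lit 4, nat_lit 5, nat_lit 2, nat_lit 3, nat_lit 6, nat_lit 7, nat_lit 9, nat_lit 8, nat_lit 13, nat_lit 12, nat_lit 11, nat_lit 10, nat_lit 15, nat_lit 14],
  [],
  [nat_lit 0, nat_lit 2, nat_lit 1, nat_lit 3, nat_lit 8, nat_lit 10, nat_lit 9, nat_lit 11, nat_lit 4, nat_lit 6, nat_lit 5, nat_lit 7, nat_lit 12, nat_lit 14, nat_lit 13, nat_lit 15]]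
noncomputable def e0_J4 : Wl := [[],
  [nat_lit 3],
  [nat_lit 4],
  [nat_lit 3, nat_lit 4],
  [nat_lit 1],
  [nat_lit 1, nat_lit 3],
  [nat_lit 1, nat_lit 4],
  [nat_lit 1, nat_lit 3, nat_lit 4],
  [nat_lit 2, nat_lit 2, nat_lit 1, nat_lit 2],
  [nat_lit 2, nat_lit 2, nat_lit 1, nat_lit 2, nat_lit 3],
  [nat_lit 2, nat_lit 2, nat_lit 1, nat_lit 2, nat_lit 4],
  [nat_lit 2, nat_lit 2, nat_lit 1, nat_lit 2, nat_lit 3, nat_lit 4],
  [nat_lit 2, nat_lit 1, nat_lit 2, nat_lit 2],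
  [nat_lit 2, nat_lit 1, nat_lit 2, nat_lit 2, nat_lit 3],
  [nat_lit 2, nat_lit 1, nat_lit 2, nat_lit 2, nat_lit 4],
  [nat_lit 0, nat_lit 2, nat_lit 1, nat_lit 2, nat_lit 2, nat_lit 0]]
noncomputable def r1_L : List (List ℕ × ℕ) := [([nat_lit 2, nat_lit 4], (nat_lit 6)), ([nat_lit 0, nat_lit 2, nat_lit 4], (nat_lit 5)), ([nat_lit 0, nat_lit 2, nat_lit 4, nat_lit 2, nat_lit 0, nat_lit 4], (nat_lit 3)), ([nat_lit 0, nat_lit 4, nat_lit 2, nat_lit 4, nat_lit 2, nat_lit 4], (nat_lit 3)), ([nat_lit 0, nat_lit 1, nat_lit 2, nat_lit 4], (nat_lit 5)), ([nat_lit 1, nat_lit 2, nat_lit 1, nat_lit 4], (nat_lit 5)), ([nat_lit 1, nat_lit 2, nat_lit 4, nat_lit 2], (nat_lit 5)), ([nat_lit 1, nat_lit 4, nat_lit 2, nat_lit 4], (nat_lit 5)), ([nat_lit 0, nat_lit 1, nat_lit 0, nat_lit 2, nat_lit 0, nat_lit 2, nat_lit 4], (nat_lit 3)), ([nat_lit 0, nat_lit 1, nat_lit 0, nat_lit 2,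 nat_lit 4, nat_lit 2, nat_lit 4], (nat_lit 3)), ([nat_lit 0, nat_lit 1, nat_lit 2, nat_lit 0, nat_lit 2, nat_lit 0, nat_lit 4], (nat_lit 3)), ([nat_lit 0, nat_lit 1, nat_lit 2, nat_lit 0, nat_lit 2, nat_lit 4, nat_lit 1], (nat_lit 3))]
noncomputable def r1_R : Wl := [[nat_lit 2, nat_lit 4, nat_lit 2, nat_lit 4, nat_lit 2, nat_lit 4, nat_lit 2, nat_lit 4, nat_lit 2, nat_lit 4, nat_lit 2, nat_lit 4],
  [nat_lit 0, nat_lit 2, nat_lit 4, nat_lit 0, nat_lit 2, nat_lit 4, nat_lit 0, nat_lit 2, nat_lit 4, nat_lit 0, nat_lit 2, nat_lit 4, nat_lit 0, nat_lit 2, nat_lit 4],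
  [nat_lit 0, nat_lit 2, nat_lit 4, nat_lit 2, nat_lit 0, nat_lit 4, nat_lit 0, nat_lit 2, nat_lit 4, nat_lit 2, nat_lit 0, nat_lit 4, nat_lit 0, nat_lit 2, nat_lit 4, nat_lit 2, nat_lit 0, nat_lit 4],
  [nat_lit 0, nat_lit 4, nat_lit 2, nat_lit 4, nat_lit 2, nat_lit 4, nat_lit 0, nat_lit 4, nat_lit 2, nat_lit 4, nat_lit 2, nat_lit 4, nat_lit 0, nat_lit 4, nat_lit 2, nat_lit 4, nat_lit 2, nat_lit 4],
  [nat_lit 0, nat_lit 1, nat_lit 2, nat_lit 4, nat_lit 0, nat_lit 1, nat_lit 2, nat_lit 4, nat_lit 0, nat_lit 1, nat_lit 2, nat_lit 4, nat_lit 0, nat_lit 1, nat_lit 2, nat_lit 4, nat_lit 0, nat_lit 1, nat_lit 2, nat_lit 4],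
  [nat_lit 1, nat_lit 2, nat_lit 1, nat_lit 4, nat_lit 1, nat_lit 2, nat_lit 1, nat_lit 4, nat_lit 1, nat_lit 2, nat_lit 1, nat_lit 4, nat_lit 1, nat_lit 2, nat_lit 1, nat_lit 4, nat_lit 1, nat_lit 2, nat_lit 1, nat_lit 4],
  [nat_lit 1, nat_lit 2, nat_lit 4, nat_lit 2, nat_lit 1, nat_lit 2, nat_lit 4, nat_lit 2, nat_lit 1, nat_lit 2, nat_lit 4, nat_lit 2, nat_lit 1, nat_lit 2, nat_lit 4, nat_lit 2, nat_lit 1, nat_lit 2, nat_lit 4, nat_lit 2],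
  [nat_lit 1, nat_lit 4, nat_lit 2, nat_lit 4, nat_lit 1, nat_lit 4, nat_lit 2, nat_lit 4, nat_lit 1, nat_lit 4, nat_lit 2, nat_lit 4, nat_lit 1, nat_lit 4, nat_lit 2, nat_lit 4, nat_lit 1, nat_lit 4, nat_lit 2, nat_lit 4],
  [nat_lit 0, nat_lit 1, nat_lit 0, nat_lit 2, nat_lit 0, nat_lit 2, nat_lit 4, nat_lit 0, nat_lit 1, nat_lit 0, nat_lit 2, nat_lit 0, nat_lit 2, nat_lit 4, nat_lit 0, nat_lit 1, nat_lit 0, nat_lit 2, nat_lit 0, nat_lit 2, nat_lit 4],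
  [nat_lit 0, nat_lit 1, nat_lit 0, nat_lit 2, nat_lit 4, nat_lit 2, nat_lit 4, nat_lit 0, nat_lit 1, nat_lit 0, nat_lit 2, nat_lit 4, nat_lit 2, nat_lit 4, nat_lit 0, nat_lit 1, nat_lit 0, nat_lit 2, nat_lit 4, nat_lit 2, nat_lit 4],
  [nat_lit 0, nat_lit 1, nat_lit 2, nat_lit 0, nat_lit 2, nat_lit 0, nat_lit 4, nat_lit 0, nat_lit 1, nat_lit 2, nat_lit 0, nat_lit 2, nat_lit 0, nat_lit 4, nat_lit 0, nat_lit 1, nat_lit 2, nat_lit 0, nat_lit 2, nat_lit 0, nat_lit 4],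
  [nat_lit 0, nat_lit 1, nat_lit 2, nat_lit 0, nat_lit 2, nat_lit 4, nat_lit 1, nat_lit 0, nat_lit 1, nat_lit 2, nat_lit 0, nat_lit 2, nat_lit 4, nat_lit 1, nat_lit 0, nat_lit 1, nat_lit 2, nat_lit 0, nat_lit 2, nat_lit 4, nat_lit 1]]
noncomputable def e1_P : Wl := [[],
  [nat_lit 5],
  [nat_lit 6],
  [nat_lit 5, nat_lit 6],
  [nat_lit 10],
  [nat_lit 5, nat_lit 10],
  [nat_lit 6, nat_lit 10],
  [nat_lit 5, nat_lit 6, nat_lit 10],
  [nat_lit 8, nat_lit 10, nat_lit 7],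
  [nat_lit 5, nat_lit 8, nat_lit 10, nat_lit 7],
  [nat_lit 6, nat_lit 8, nat_lit 10, nat_lit 7],
  [nat_lit 5, nat_lit 6, nat_lit 8, nat_lit 10, nat_lit 7],
  [nat_lit 10, nat_lit 8, nat_lit 10, nat_lit 7],
  [nat_lit 5, nat_lit 10, nat_lit 8, nat_lit 10, nat_lit 7],
  [nat_lit 6, nat_lit 10, nat_lit 8, nat_lit 10, nat_lit 7],
  [nat_lit 5, nat_lit 6, nat_lit 10, nat_lit 8, nat_lit 10, nat_lit 7]]
noncomputable def e1_T : Wl := [[nat_lit 0, nat_lit 1, nat_lit 3, nat_lit 2, nat_lit 4, nat_lit 5, nat_lit 7, nat_lit 6, nat_lit 12, nat_lit 13, nat_lit 15, nat_lit 14, nat_lit 8, nat_lit 9, nat_lit 11, nat_lit 10],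
  [nat_lit 0, nat_lit 1, nat_lit 3, nat_lit 2, nat_lit 8, nat_lit 9, nat_lit 11, nat_lit 10, nat_lit 4, nat_lit 5, nat_lit 7, nat_lit 6, nat_lit 12, nat_lit 13, nat_lit 15, nat_lit 14],
  [],
  [nat_lit 0, nat_lit 1, nat_lit 5, nat_lit 4, nat_lit 3, nat_lit 2, nat_lit 6, nat_lit 7, nat_lit 9, nat_lit 8, nat_lit 12, nat_lit 13, nat_lit 10, nat_lit 11, nat_lit 15, nat_lit 14],
  [nat_lit 0, nat_lit 2, nat_lit 1, nat_lit 3, nat_lit 4, nat_lit 6, nat_lit 5, nat_lit 7, nat_lit 12, nat_lit 14, nat_lit 13, nat_lit 15, nat_lit 8, nat_lit 10, nat_lit 9, nat_lit 11]]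
noncomputable def e1_J4 : Wl := [[],
  [nat_lit 3],
  [nat_lit 4],
  [nat_lit 3, nat_lit 4],
  [nat_lit 0],
  [nat_lit 0, nat_lit 3],
  [nat_lit 0, nat_lit 4],
  [nat_lit 0, nat_lit 3, nat_lit 4],
  [nat_lit 2, nat_lit 2, nat_lit 0, nat_lit 2],
  [nat_lit 2, nat_lit 2, nat_lit 0, nat_lit 2, nat_lit 3],
  [nat_lit 2, nat_lit 2, nat_lit 0, nat_lit 2, nat_lit 4],
  [nat_lit 1, nat_lit 2, nat_lit 2, nat_lit 0, nat_lit 2, nat_lit 1],
  [nat_lit 2, nat_lit 0, nat_lit 2, nat_lit 2],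
  [nat_lit 2, nat_lit 0, nat_lit 2, nat_lit 2, nat_lit 3],
  [nat_lit 2, nat_lit 0, nat_lit 2, nat_lit 2, nat_lit 4],
  [nat_lit 2, nat_lit 0, nat_lit 2, nat_lit 2, nat_lit 3, nat_lit 4]]
noncomputable def r2_L : List (List ℕ × ℕ) := [([nat_lit 1, nat_lit 3, nat_lit 4], (nat_lit 5)), ([nat_lit 1, nat_lit 3, nat_lit 1, nat_lit 3, nat_lit 4, nat_lit 3], (nat_lit 3)), ([nat_lit 0, nat_lit 1, nat_lit 3, nat_lit 4], (nat_lit 5)), ([nat_lit 1, nat_lit 3, nat_lit 1, nat_lit 4], (nat_lit 5)), ([nat_lit 1, nat_lit 3, nat_lit 4, nat_lit 3], (nat_lit 5)), ([nat_lit 1, nat_lit 4, nat_lit 3, nat_lit 4], (nat_lit 5)), ([nat_lit 0, nat_lit 1, nat_lit 0, nat_lit 3, nat_lit 0, nat_lit 3, nat_lit 4], (nat_lit 3)), ([nat_lit 0, nat_lit 1, nat_lit 3, nat_lit 0, nat_lit 3, nat_lit 0, nat_lit 4], (nat_lit 3)), ([nat_lit 0, nat_lit 1, nat_lit 3, nat_lit 0, nat_lit 3, nat_lit 4, nat_lit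 1], (nat_lit 3)), ([nat_lit 0, nat_lit 1, nat_lit 4, nat_lit 1, nat_lit 3, nat_lit 0, nat_lit 3], (nat_lit 3)), ([nat_lit 0, nat_lit 3, nat_lit 0, nat_lit 3, nat_lit 4, nat_lit 1, nat_lit 4], (nat_lit 3)), ([nat_lit 0, nat_lit 3, nat_lit 1, nat_lit 4, nat_lit 0, nat_lit 4, nat_lit 3], (nat_lit 3))]
noncomputable def r2_R : Wl := [[nat_lit 1, nat_lit 3, nat_lit 4, nat_lit 1, nat_lit 3, nat_lit 4, nat_lit 1, nat_lit 3, nat_lit 4, nat_lit 1, nat_lit 3, nat_lit 4, nat_lit 1, nat_lit 3, nat_lit 4],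
  [nat_lit 1, nat_lit 3, nat_lit 1, nat_lit 3, nat_lit 4, nat_lit 3, nat_lit 1, nat_lit 3, nat_lit 1, nat_lit 3, nat_lit 4, nat_lit 3, nat_lit 1, nat_lit 3, nat_lit 1, nat_lit 3, nat_lit 4, nat_lit 3],
  [nat_lit 0, nat_lit 1, nat_lit 3, nat_lit 4, nat_lit 0, nat_lit 1, nat_lit 3, nat_lit 4, nat_lit 0, nat_lit 1, nat_lit 3, nat_lit 4, nat_lit 0, nat_lit 1, nat_lit 3, nat_lit 4, nat_lit 0, nat_lit 1, nat_lit 3, nat_lit 4],
  [nat_lit 1, nat_lit 3, nat_lit 1, nat_lit 4, nat_lit 1, nat_lit 3, nat_lit 1, nat_lit 4, nat_lit 1, nat_lit 3, nat_lit 1, nat_lit 4, nat_lit 1, nat_lit 3, nat_lit 1, nat_lit 4, nat_lit 1, nat_lit 3, nat_lit 1, nat_lit 4],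
  [nat_lit 1, nat_lit 3, nat_lit 4, nat_lit 3, nat_lit 1, nat_lit 3, nat_lit 4, nat_lit 3, nat_lit 1, nat_lit 3, nat_lit 4, nat_lit 3, nat_lit 1, nat_lit 3, nat_lit 4, nat_lit 3, nat_lit 1, nat_lit 3, nat_lit 4, nat_lit 3],
  [nat_lit 1, nat_lit 4, nat_lit 3, nat_lit 4, nat_lit 1, nat_lit 4, nat_lit 3, nat_lit 4, nat_lit 1, nat_lit 4, nat_lit 3, nat_lit 4, nat_lit 1, nat_lit 4, nat_lit 3, nat_lit 4, nat_lit 1, nat_lit 4, nat_lit 3, nat_lit 4],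
  [nat_lit 0, nat_lit 1, nat_lit 0, nat_lit 3, nat_lit 0, nat_lit 3, nat_lit 4, nat_lit 0, nat_lit 1, nat_lit 0, nat_lit 3, nat_lit 0, nat_lit 3, nat_lit 4, nat_lit 0, nat_lit 1, nat_lit 0, nat_lit 3, nat_lit 0, nat_lit 3, nat_lit 4],
  [nat_lit 0, nat_lit 1, nat_lit 3, nat_lit 0, nat_lit 3, nat_lit 0, nat_lit 4, nat_lit 0, nat_lit 1, nat_lit 3, nat_lit 0, nat_lit 3, nat_lit 0, nat_lit 4, nat_lit 0, nat_lit 1, nat_lit 3, nat_lit 0, nat_lit 3, nat_lit 0, nat_lit 4],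
  [nat_lit 0, nat_lit 1, nat_lit 3, nat_lit 0, nat_lit 3, nat_lit 4, nat_lit 1, nat_lit 0, nat_lit 1, nat_lit 3, nat_lit 0, nat_lit 3, nat_lit 4, nat_lit 1, nat_lit 0, nat_lit 1, nat_lit 3, nat_lit 0, nat_lit 3, nat_lit 4, nat_lit 1],
  [nat_lit 0, nat_lit 1, nat_lit 4, nat_lit 1, nat_lit 3, nat_lit 0, nat_lit 3, nat_lit 0, nat_lit 1, nat_lit 4, nat_lit 1, nat_lit 3, nat_lit 0, nat_lit 3, nat_lit 0, nat_lit 1, nat_lit 4, nat_lit 1, nat_lit 3, nat_lit 0, nat_lit 3],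
  [nat_lit 0, nat_lit 3, nat_lit 0, nat_lit 3, nat_lit 4, nat_lit 1, nat_lit 4, nat_lit 0, nat_lit 3, nat_lit 0, nat_lit 3, nat_lit 4, nat_lit 1, nat_lit 4, nat_lit 0, nat_lit 3, nat_lit 0, nat_lit 3, nat_lit 4, nat_lit 1, nat_lit 4],
  [nat_lit 0, nat_lit 3, nat_lit 1, nat_lit 4, nat_lit 0, nat_lit 4, nat_lit 3, nat_lit 0, nat_lit 3, nat_lit 1, nat_lit 4, nat_lit 0, nat_lit 4, nat_lit 3, nat_lit 0, nat_lit 3, nat_lit 1, nat_lit 4, nat_lit 0, nat_lit 4, nat_lit 3]]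
noncomputable def ra0_R : Wl := [[nat_lit 0, nat_lit 0],
  [nat_lit 1, nat_lit 1],
  [nat_lit 2, nat_lit 2],
  [nat_lit 3, nat_lit 3]]
noncomputable def ra_R : Wl := [[nat_lit 0, nat_lit 1, nat_lit 0, nat_lit 1, nat_lit 0, nat_lit 1],
  [nat_lit 1, nat_lit 2, nat_lit 1, nat_lit 2, nat_lit 1, nat_lit 2],
  [nat_lit 1, nat_lit 3, nat_lit 1, nat_lit 3, nat_lit 1, nat_lit 3],
  [nat_lit 0, nat_lit 2, nat_lit 0, nat_lit 2, nat_lit 0, nat_lit 2, nat_lit 0, nat_lit 2],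
  [nat_lit 0, nat_lit 3, nat_lit 0, nat_lit 3, nat_lit 0, nat_lit 3, nat_lit 0, nat_lit 3],
  [nat_lit 2, nat_lit 3, nat_lit 2, nat_lit 3, nat_lit 2, nat_lit 3, nat_lit 2, nat_lit 3],
  [nat_lit 0, nat_lit 2, nat_lit 3, nat_lit 2, nat_lit 3, nat_lit 0, nat_lit 2, nat_lit 3, nat_lit 2, nat_lit 3],
  [nat_lit 1, nat_lit 2, nat_lit 1, nat_lit 3, nat_lit 2, nat_lit 1, nat_lit 3, nat_lit 1, nat_lit 2, nat_lit 3],
  [nat_lit 1, nat_lit 2, nat_lit 3, nat_lit 2, nat_lit 3, nat_lit 1, nat_lit 2, nat_lit 3, nat_lit 2, nat_lit 3],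
  [nat_lit 0, nat_lit 2, nat_lit 0, nat_lit 3, nat_lit 2, nat_lit 3, nat_lit 0, nat_lit 2, nat_lit 0, nat_lit 3, nat_lit 2, nat_lit 3],
  [nat_lit 0, nat_lit 2, nat_lit 1, nat_lit 3, nat_lit 1, nat_lit 2, nat_lit 0, nat_lit 2, nat_lit 3, nat_lit 1, nat_lit 2, nat_lit 3],
  [nat_lit 0, nat_lit 2, nat_lit 3, nat_lit 0, nat_lit 2, nat_lit 3, nat_lit 0, nat_lit 2, nat_lit 3, nat_lit 0, nat_lit 3, nat_lit 2],
  [nat_lit 0, nat_lit 2, nat_lit 3, nat_lit 2, nat_lit 0, nat_lit 3, nat_lit 0, nat_lit 2, nat_lit 3, nat_lit 2, nat_lit 0, nat_lit 3],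
  [nat_lit 0, nat_lit 1, nat_lit 0, nat_lit 2, nat_lit 0, nat_lit 1, nat_lit 2, nat_lit 1, nat_lit 0, nat_lit 2, nat_lit 0, nat_lit 1, nat_lit 2, nat_lit 0, nat_lit 2]]
noncomputable def rb_L : List (List ℕ × List ℕ × List ℕ) := [([nat_lit 0, nat_lit 1], [nat_lit 0, nat_lit 1], [nat_lit 2]), ([nat_lit 2, nat_lit 0, nat_lit 2], [nat_lit 2, nat_lit 0, nat_lit 2], [nat_lit 0]), ([nat_lit 2, nat_lit 3, nat_lit 0, nat_lit 2, nat_lit 3], [nat_lit 3, nat_lit 2, nat_lit 3, nat_lit 2], [nat_lit 4]), ([nat_lit 0, nat_lit 1, nat_lit 2, nat_lit 0, nat_lit 2], [nat_lit 2, nat_lit 0, nat_lit 2, nat_lit 0, nat_lit 1], [nat_lit 2, nat_lit 0]), ([nat_lit 0, nat_lit 2, nat_lit 0, nat_lit 2, nat_lit 1], [nat_lit 0, nat_lit 1, nat_lit 2, nat_lit 0, nat_lit 2], [nat_lit 0, nat_lit 2]), ([nat_lit 2, nat_lit 3, nat_lit 0, nat_lit 3, nat_lit 2], [nat_lit 2, nat_lit 3, nat_lit 0, nat_lit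 3, nat_lit 2], [nat_lit 3, nat_lit 4]), ([nat_lit 1, nat_lit 2, nat_lit 3, nat_lit 0, nat_lit 2, nat_lit 0, nat_lit 3, nat_lit 1], [nat_lit 3, nat_lit 0, nat_lit 3], [nat_lit 2, nat_lit 2, nat_lit 1, nat_lit 2, nat_lit 4]), ([nat_lit 1, nat_lit 3, nat_lit 0, nat_lit 3, nat_lit 1], [nat_lit 3, nat_lit 2, nat_lit 0, nat_lit 2, nat_lit 0, nat_lit 3], [nat_lit 2, nat_lit 2, nat_lit 1, nat_lit 2, nat_lit 3])]
noncomputable def rb_R : Wl := [[nat_lit 4, nat_lit 0, nat_lit 1, nat_lit 4, nat_lit 0, nat_lit 1],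
  [nat_lit 4, nat_lit 2, nat_lit 0, nat_lit 2, nat_lit 4, nat_lit 2, nat_lit 0, nat_lit 2],
  [nat_lit 4, nat_lit 2, nat_lit 3, nat_lit 0, nat_lit 2, nat_lit 3, nat_lit 4, nat_lit 3, nat_lit 2, nat_lit 3, nat_lit 2],
  [nat_lit 4, nat_lit 0, nat_lit 1, nat_lit 2, nat_lit 0, nat_lit 2, nat_lit 4, nat_lit 2, nat_lit 0, nat_lit 2, nat_lit 0, nat_lit 1],
  [nat_lit 4, nat_lit 0, nat_lit 2, nat_lit 0, nat_lit 2, nat_lit 1, nat_lit 4, nat_lit 0, nat_lit 1, nat_lit 2, nat_lit 0, nat_lit 2],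
  [nat_lit 4, nat_lit 2, nat_lit 3, nat_lit 0, nat_lit 3, nat_lit 2, nat_lit 4, nat_lit 2, nat_lit 3, nat_lit 0, nat_lit 3, nat_lit 2],
  [nat_lit 4, nat_lit 1, nat_lit 2, nat_lit 3, nat_lit 0, nat_lit 2, nat_lit 0, nat_lit 3, nat_lit 1, nat_lit 4, nat_lit 3, nat_lit 0, nat_lit 3],
  [nat_lit 4, nat_lit 1, nat_lit 3, nat_lit 0, nat_lit 3, nat_lit 1, nat_lit 4, nat_lit 3, nat_lit 2, nat_lit 0, nat_lit 2, nat_lit 0, nat_lit 3]]
noncomputable def WM : Wl := [[nat_lit 0, nat_lit 5, nat_lit 4, nat_lit 2, nat_lit 0, nat_lit 1, nat_lit 2, nat_lit 0, nat_lit 3, nat_lit 2, nat_lit 0, nat_lit 1, nat_lit 2, nat_lit 3, nat_lit 1, nat_lit 4, nat_lit 3, nat_lit 1, nat_lit 5, nat_lit 4],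
  [nat_lit 0, nat_lit 2, nat_lit 0, nat_lit 1, nat_lit 0, nat_lit 1, nat_lit 3, nat_lit 2, nat_lit 0, nat_lit 1, nat_lit 2, nat_lit 3, nat_lit 2, nat_lit 4, nat_lit 3, nat_lit 1, nat_lit 5, nat_lit 0, nat_lit 2, nat_lit 4, nat_lit 1, nat_lit 2],
  [nat_lit 0, nat_lit 1, nat_lit 3, nat_lit 1, nat_lit 2, nat_lit 0, nat_lit 1, nat_lit 2, nat_lit 3, nat_lit 4, nat_lit 3, nat_lit 2, nat_lit 1, nat_lit 0, nat_lit 2, nat_lit 3, nat_lit 1, nat_lit 0, nat_lit 3],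
  [nat_lit 0, nat_lit 5, nat_lit 3, nat_lit 1, nat_lit 2, nat_lit 4, nat_lit 5, nat_lit 2, nat_lit 4, nat_lit 1, nat_lit 3, nat_lit 5, nat_lit 0],
  [nat_lit 1, nat_lit 2, nat_lit 0, nat_lit 1, nat_lit 3, nat_lit 1, nat_lit 2, nat_lit 0, nat_lit 4, nat_lit 3, nat_lit 2, nat_lit 0, nat_lit 1, nat_lit 3, nat_lit 4, nat_lit 5, nat_lit 2, nat_lit 1, nat_lit 4, nat_lit 3]]
noncomputable def VM : Wl := [[nat_lit 0, nat_lit 1, nat_lit 3, nat_lit 1, nat_lit 2, nat_lit 4, nat_lit 1, nat_lit 3, nat_lit 2, nat_lit 1, nat_lit 4, nat_lit 3, nat_lit 2, nat_lit 0, nat_lit 1, nat_lit 2, nat_lit 3, nat_lit 4, nat_lit 1, nat_lit 0, nat_lit 2, nat_lit 1, nat_lit 3, nat_lit 1, nat_lit 4, nat_lit 2, nat_lit 0, nat_lit 1, nat_lit 3, nat_lit 0, nat_lit 4, nat_lit 0],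
  [nat_lit 0, nat_lit 2, nat_lit 4, nat_lit 3, nat_lit 0, nat_lit 4, nat_lit 2, nat_lit 3, nat_lit 1, nat_lit 0, nat_lit 3, nat_lit 2, nat_lit 4, nat_lit 0, nat_lit 3, nat_lit 2, nat_lit 4, nat_lit 3, nat_lit 2, nat_lit 4, nat_lit 0, nat_lit 3, nat_lit 2, nat_lit 4, nat_lit 3, nat_lit 0, nat_lit 1, nat_lit 2, nat_lit 1, nat_lit 0, nat_lit 1, nat_lit 4, nat_lit 3, nat_lit 4],
  [nat_lit 1, nat_lit 3, nat_lit 0, nat_lit 3, nat_lit 0, nat_lit 4, nat_lit 0, nat_lit 2, nat_lit 1, nat_lit 3, nat_lit 1, nat_lit 2, nat_lit 1, nat_lit 4, nat_lit 2, nat_lit 4, nat_lit 3, nat_lit 1, nat_lit 0, nat_lit 3, nat_lit 4, nat_lit 0, nat_lit 2, nat_lit 4, nat_lit 2, nat_lit 4],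
  [nat_lit 3, nat_lit 2, nat_lit 1, nat_lit 4, nat_lit 1, nat_lit 2, nat_lit 0, nat_lit 4, nat_lit 2, nat_lit 0, nat_lit 3, nat_lit 0, nat_lit 4, nat_lit 0, nat_lit 2, nat_lit 1, nat_lit 3, nat_lit 1, nat_lit 4, nat_lit 0, nat_lit 1, nat_lit 3, nat_lit 2, nat_lit 1, nat_lit 0, nat_lit 4, nat_lit 0, nat_lit 3, nat_lit 2],
  [nat_lit 4, nat_lit 3, nat_lit 2, nat_lit 4, nat_lit 3, nat_lit 2, nat_lit 4, nat_lit 1, nat_lit 3, nat_lit 2, nat_lit 0, nat_lit 3, nat_lit 2, nat_lit 1, nat_lit 3, nat_lit 4, nat_lit 0, nat_lit 2, nat_lit 3, nat_lit 4, nat_lit 3, nat_lit 2, nat_lit 4],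
  [nat_lit 0, nat_lit 4, nat_lit 3, nat_lit 2, nat_lit 1, nat_lit 4, nat_lit 1, nat_lit 2, nat_lit 0, nat_lit 4, nat_lit 2, nat_lit 3, nat_lit 1, nat_lit 0, nat_lit 2, nat_lit 0, nat_lit 1, nat_lit 3, nat_lit 1, nat_lit 0, nat_lit 2, nat_lit 4, nat_lit 1, nat_lit 3, nat_lit 4, nat_lit 0, nat_lit 2, nat_lit 3, nat_lit 4, nat_lit 2, nat_lit 0, nat_lit 3, nat_lit 1, nat_lit 4, nat_lit 2, nat_lit 1]]

theorem a_lt : allL (ltAll 4) a_W = true := by decide +kernel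
theorem a_m_a : allZ2 (matEnt (wdsP H15.XMcLC.P a_W) a_P) (nat_lit 11) (nat_lit 275) = true := by decide +kernel
theorem p2t_lt : allL (ltAll 4) p2t_W = true := by decide +kernel
theorem p2_r_a : allZ2 (resEnt p2t_P p2P p2E p2I (nat_lit 275) (nat_lit 112)) (nat_lit 7) (nat_lit 112) = true := by decide +kernel
theorem p2_b : neL H15.XMcLC.B (p2B.map p2E) = 0 ∧ ltAll 112 p2B = 0 := by decide +kernel
theorem p2_p : allZ2 (pcEnt p2P (nat_lit 2) p2B p2C) 7 7 = true := by decide +kernel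
theorem p2_e : allL (ltAll 7) p2e = true := by decide +kernel
theorem p2l0_e_0 : allZ (dent p2l0 (wdsP p2P p2e) (nat_lit 112)) (nat_lit 0) (nat_lit 31) = true := by decide +kernel
theorem p2l0_h : 0 < p2l0.n ∧ 0 < p2l0.K ∧ p2l0.Pt 0 < 112 ∧ p2l0.Q (p2l0.Pt 0) = 0 := by decide +kernel
theorem p2l1_e_0 : allZ (dent p2l1 (wdsP p2P p2e) (nat_lit 112)) (nat_lit 0) (nat_lit 3) = true := by decide +kernel
theorem p2l1_h : 0 < p2l1.n ∧ 0 < p2l1.K ∧ p2l1.Pt 0 < 112 ∧ p2l1.Q (p2l1.Pt 0) = 0 := by decide +kernel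
theorem p2_f1 : (Nat.ble p2l1.K 25 && Nat.ble (topK []) p2l1.K && fixLetters (wdsP p2P p2e) (topK []) (p2l1.Pt 0)) = true := by decide +kernel
theorem p2_f0 : (Nat.ble p2l0.K 25 && Nat.ble (topK [p2l1]) p2l0.K && fixLetters (wdsP p2P p2e) (topK [p2l1]) (p2l0.Pt 0)) = true := by decide +kernel
theorem p2_c : chainCard [p2l0, p2l1] = 2 ^ 7 ∧ ¬ 2 ^ (7 + 1) ∣ 40320 := by decide +kernel
theorem covr_lt : allL (ltAll 4) covr_W = true := by decide +kernel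
theorem cov_c0 : (Nat.ble 7 7 && Nat.beq (ltAll 7 []) 0 && Nat.beq (covT0.chk H15.XMcLC.P p2P covr_P p2E 4 7 2 2 2 p2B 7 [] 0) 0) = true := by decide +kernel
theorem x_lt : allL (ltAll 4) x_W = true := by decide +kernel
theorem th_lt : allL (ltAll 4) th_W = true := by decide +kernel
theorem tl0_e_0 : allZ (dent tl0 th_P (nat_lit 275)) (nat_lit 0) (nat_lit 34) = true := by decide +kernel
theorem tl0_h : 0 < tl0.n ∧ 0 < tl0.K ∧ tl0.Pt 0 < 275 ∧ tl0.Q (tl0.Pt 0) = 0 := by decide +kernel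
theorem tl1_e_0 : allZ (dent tl1 th_P (nat_lit 275)) (nat_lit 0) (nat_lit 17) = true := by decide +kernel
theorem tl1_h : 0 < tl1.n ∧ 0 < tl1.K ∧ tl1.Pt 0 < 275 ∧ tl1.Q (tl1.Pt 0) = 0 := by decide +kernel
theorem tl2_e_0 : allZ (dent tl2 th_P (nat_lit 275)) (nat_lit 0) (nat_lit 3) = true := by decide +kernel
theorem tl2_h : 0 < tl2.n ∧ 0 < tl2.K ∧ tl2.Pt 0 < 275 ∧ tl2.Q (tl2.Pt 0) = 0 := by decide +kernel
theorem tl3_e_0 : allZ (dent tl3 th_P (nat_lit 275)) (nat_lit 0) (nat_lit 3) = true := by decide +kernel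
theorem tl3_h : 0 < tl3.n ∧ 0 < tl3.K ∧ tl3.Pt 0 < 275 ∧ tl3.Q (tl3.Pt 0) = 0 := by decide +kernel
theorem tl4_e_0 : allZ (dent tl4 th_P (nat_lit 275)) (nat_lit 0) (nat_lit 1) = true := by decide +kernel
theorem tl4_h : 0 < tl4.n ∧ 0 < tl4.K ∧ tl4.Pt 0 < 275 ∧ tl4.Q (tl4.Pt 0) = 0 := by decide +kernel
theorem tl5_e_0 : allZ (dent tl5 th_P (nat_lit 275)) (nat_lit 0) (nat_lit 1) = true := by decide +kernel
theorem tl5_h : 0 < tl5.n ∧ 0 < tl5.K ∧ tl5.Pt 0 < 275 ∧ tl5.Q (tl5.Pt 0) = 0 := by decide +kernel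
theorem t_f5 : (Nat.ble tl5.K 12 && Nat.ble (topK []) tl5.K && fixLetters th_P (topK []) (tl5.Pt 0)) = true := by decide +kernel
theorem t_f4 : (Nat.ble tl4.K 12 && Nat.ble (topK [tl5]) tl4.K && fixLetters th_P (topK [tl5]) (tl4.Pt 0)) = true := by decide +kernel
theorem t_f3 : (Nat.ble tl3.K 12 && Nat.ble (topK [tl4, tl5]) tl3.K && fixLetters th_P (topK [tl4, tl5]) (tl3.Pt 0)) = true := by decide +kernel
theorem t_f2 : (Nat.ble tl2.K 12 && Nat.ble (topK [tl3, tl4, tl5]) tl2.K && fixLetters th_P (topK [tl3, tl4, tl5]) (tl2.Pt 0)) = true := by decide +kernel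
theorem t_f1 : (Nat.ble tl1.K 12 && Nat.ble (topK [tl2, tl3, tl4, tl5]) tl1.K && fixLetters th_P (topK [tl2, tl3, tl4, tl5]) (tl1.Pt 0)) = true := by decide +kernel
theorem t_f0 : (Nat.ble tl0.K 12 && Nat.ble (topK [tl1, tl2, tl3, tl4, tl5]) tl0.K && fixLetters th_P (topK [tl1, tl2, tl3, tl4, tl5]) (tl0.Pt 0)) = true := by decide +kernel
theorem t_c : chainCard [tl0, tl1, tl2, tl3, tl4, tl5] = 40320 := by decide +kernel
theorem ce_lt : allL (ltAll 4) ce_W = true := by decide +kernel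
theorem c_f5 : (Nat.ble tl5.K 12 && Nat.blt (nat_lit 9) 275 && fixLetters th_P tl5.K (nat_lit 9) && Nat.beq (ltAll 1 [nat_lit 0]) 0 && Nat.beq (apW x_P [nat_lit 0] (nat_lit 9)) (tl5.Pt 0)) = true := by decide +kernel
theorem cc4_e_0 : allZ (dent cc4 ce_P (nat_lit 275)) (nat_lit 0) (nat_lit 1) = true := by decide +kernel
theorem cc4_h : 0 < cc4.n ∧ 0 < cc4.K ∧ cc4.Pt 0 < 275 ∧ cc4.Q (cc4.Pt 0) = 0 := by decide +kernel
theorem tn0_0 : (Nat.ble tl4.K 12 && Nat.beq (ltAll 275 [tl3.Pt 0, tl2.Pt 0, tl1.Pt 0, tl0.Pt 0]) 0 && kChk ce_P x_P tn0.Kn 1 H15.XMcLC.B [tl3.Pt 0, tl2.Pt 0, tl1.Pt 0, tl0.Pt 0] && allL (ltAll 1) tn0.pre && planOK th_P x_P 1 (tl4.Pt 0) tn0.plan [tl4, tl5]) = true := by decide +kernel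
theorem tn0_1_0 : allZ (tn0.ent H15.XMcLC.P th_P x_P x_P ce_P (nat_lit 4) (nat_lit 1) H15.XMcLC.B tl4 [tl5] (memO cc4)) (nat_lit 0) (nat_lit 2) = true := by decide +kernel
theorem c_f4 : (Nat.ble cc4.K 5 && Nat.ble (topK []) cc4.K && Nat.beq (cc4.Pt 0) (tl4.Pt 0) && Nat.beq (ltAll 275 [tl3.Pt 0, tl2.Pt 0, tl1.Pt 0, tl0.Pt 0]) 0 && kChk ce_P x_P cc4.K 1 H15.XMcLC.B [tl3.Pt 0, tl2.Pt 0, tl1.Pt 0, tl0.Pt 0]) = true := by decide +kernel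
theorem cc3_e_0 : allZ (dent cc3 ce_P (nat_lit 275)) (nat_lit 0) (nat_lit 1) = true := by decide +kernel
theorem cc3_h : 0 < cc3.n ∧ 0 < cc3.K ∧ cc3.Pt 0 < 275 ∧ cc3.Q (cc3.Pt 0) = 0 := by decide +kernel
theorem tn1_0 : (Nat.ble tl3.K 12 && Nat.beq (ltAll 275 [tl2.Pt 0, tl1.Pt 0, tl0.Pt 0]) 0 && kChk ce_P x_P tn1.Kn 1 H15.XMcLC.B [tl2.Pt 0, tl1.Pt 0, tl0.Pt 0] && allL (ltAll 1) tn1.pre && planOK th_P x_P 1 (tl3.Pt 0) tn1.plan [tl3, tl4, tl5]) = true := by decide +kernel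
theorem tn1_1_0 : allZ (tn1.ent H15.XMcLC.P th_P x_P x_P ce_P (nat_lit 4) (nat_lit 1) H15.XMcLC.B tl3 [tl4, tl5] (memO cc3)) (nat_lit 0) (nat_lit 4) = true := by decide +kernel
theorem c_f3 : (Nat.ble cc3.K 5 && Nat.ble (topK [cc4]) cc3.K && Nat.beq (cc3.Pt 0) (tl3.Pt 0) && Nat.beq (ltAll 275 [tl2.Pt 0, tl1.Pt 0, tl0.Pt 0]) 0 && kChk ce_P x_P cc3.K 1 H15.XMcLC.B [tl2.Pt 0, tl1.Pt 0, tl0.Pt 0]) = true := by decide +kernel
theorem cc2_e_0 : allZ (dent cc2 ce_P (nat_lit 275)) (nat_lit 0) (nat_lit 1) = true := by decide +kernel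
theorem cc2_h : 0 < cc2.n ∧ 0 < cc2.K ∧ cc2.Pt 0 < 275 ∧ cc2.Q (cc2.Pt 0) = 0 := by decide +kernel
theorem tn2_0 : (Nat.ble tl2.K 12 && Nat.beq (ltAll 275 [tl1.Pt 0, tl0.Pt 0]) 0 && kChk ce_P x_P tn2.Kn 1 H15.XMcLC.B [tl1.Pt 0, tl0.Pt 0] && allL (ltAll 1) tn2.pre && planOK th_P x_P 1 (tl2.Pt 0) tn2.plan [tl2, tl3, tl4, tl5]) = true := by decide +kernel
theorem tn2_1_0 : allZ (tn2.ent H15.XMcLC.P th_P x_P x_P ce_P (nat_lit 4) (nat_lit 1) H15.XMcLC.B tl2 [tl3, tl4, tl5] (memO cc2)) (nat_lit 0) (nat_lit 4) = true := by decide +kernel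
theorem c_f2 : (Nat.ble cc2.K 5 && Nat.ble (topK [cc3, cc4]) cc2.K && Nat.beq (cc2.Pt 0) (tl2.Pt 0) && Nat.beq (ltAll 275 [tl1.Pt 0, tl0.Pt 0]) 0 && kChk ce_P x_P cc2.K 1 H15.XMcLC.B [tl1.Pt 0, tl0.Pt 0]) = true := by decide +kernel
theorem c_f1 : (Nat.ble tl1.K 12 && Nat.blt (nat_lit 0) 275 && fixLetters th_P tl1.K (nat_lit 0) && Nat.beq (ltAll 1 [nat_lit 0]) 0 && Nat.beq (apW x_P [nat_lit 0] (nat_lit 0)) (tl1.Pt 0)) = true := by decide +kernel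
theorem cc0_e_0 : allZ (dent cc0 ce_P (nat_lit 275)) (nat_lit 0) (nat_lit 23) = true := by decide +kernel
theorem cc0_h : 0 < cc0.n ∧ 0 < cc0.K ∧ cc0.Pt 0 < 275 ∧ cc0.Q (cc0.Pt 0) = 0 := by decide +kernel
theorem tn3_0 : (Nat.ble tl0.K 12 && Nat.beq (ltAll 275 []) 0 && kChk ce_P x_P tn3.Kn 1 H15.XMcLC.B [] && allL (ltAll 1) tn3.pre && planOK th_P x_P 1 (tl0.Pt 0) tn3.plan [tl0, tl1, tl2, tl3, tl4, tl5]) = true := by decide +kernel
theorem tn3_1_0 : allZ (tn3.ent H15.XMcLC.P th_P x_P x_P ce_P (nat_lit 4) (nat_lit 1) H15.XMcLC.B tl0 [tl1, tl2, tl3, tl4, tl5] (memO cc0)) (nat_lit 0) (nat_lit 35) = true := by decide +kernel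
theorem c_f0 : (Nat.ble cc0.K 5 && Nat.ble (topK [cc2, cc3, cc4]) cc0.K && Nat.beq (cc0.Pt 0) (tl0.Pt 0) && Nat.beq (ltAll 275 []) 0 && kChk ce_P x_P cc0.K 1 H15.XMcLC.B []) = true := by decide +kernel
theorem c_c : chainCard [cc0, cc2, cc3, cc4] = 192 ∧ topK [cc0, cc2, cc3, cc4] = 5 := by decide +kernel
theorem x_e : nth [] x_W 0 = nth [] a_W 6 ∧ eqL H15.XMcLC.P 4 H15.XMcLC.B (nth [] covr_W 0) (nth [] a_W 5) = 0 ∧ eqL H15.XMcLC.P 4 H15.XMcLC.B (nth [] covr_W 1) (nth [] a_W 6) = 0 ∧ H15.CS.comL H15.XMcLC.P 4 H15.XMcLC.B (nth [] a_W 5) = true := by decide +kernel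
theorem gen4 : allZ (fun k => Nat.add (ltAll 4 (nth [] [[nat_lit 2, nat_lit 0, nat_lit 3, nat_lit 1, nat_lit 0, nat_lit 3, nat_lit 1, nat_lit 2, nat_lit 3],
  [nat_lit 3, nat_lit 2, nat_lit 1, nat_lit 3, nat_lit 0, nat_lit 1, nat_lit 3, nat_lit 0, nat_lit 2],
  [nat_lit 2, nat_lit 3, nat_lit 0, nat_lit 2, nat_lit 3],
  [nat_lit 2, nat_lit 3, nat_lit 1, nat_lit 0, nat_lit 2, nat_lit 0, nat_lit 1, nat_lit 2, nat_lit 3]] k)) (sumL (fun β => Nat.xor (H15.XMcLC.P k β) (apW a_P (nth [] [[nat_lit 2, nat_lit 0, nat_lit 3, nat_lit 1, nat_lit 0, nat_lit 3, nat_lit 1, nat_lit 2, nat_lit 3],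
  [nat_lit 3, nat_lit 2, nat_lit 1, nat_lit 3, nat_lit 0, nat_lit 1, nat_lit 3, nat_lit 0, nat_lit 2],
  [nat_lit 2, nat_lit 3, nat_lit 0, nat_lit 2, nat_lit 3],
  [nat_lit 2, nat_lit 3, nat_lit 1, nat_lit 0, nat_lit 2, nat_lit 0, nat_lit 1, nat_lit 2, nat_lit 3]] k) β)) H15.XMcLC.B)) 0 4 = true := by decide +kernel
theorem d_a : d_W.length = 192 ∧ incr κ d_W 0 = true := by decide +kernel
theorem d_b : allB (fun W => allB (fun Z => cjK κ W Z Z) [[nat_lit 5],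
  [nat_lit 6]]) d_W = true := by decide +kernel
theorem m1 : List.map (fl [[nat_lit 6],
  [nat_lit 5]]) [[nat_lit 1],
  [nat_lit 0]] = [[nat_lit 5],
  [nat_lit 6]] ∧ allB (fun R => cjK κ [nat_lit 7] (fl [[nat_lit 5],
  [nat_lit 6]] R) (fl [[nat_lit 5],
  [nat_lit 6]] R)) [[nat_lit 1],
  [nat_lit 0]] = true := by decide +kernel
theorem s1 : dead κ ([nat_lit 7] :: [[nat_lit 5],
  [nat_lit 6]]) [[nat_lit 0, nat_lit 0, nat_lit 0]] [[nat_lit 0]] = false ∧ stepK κ [[nat_lit 6],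
  [nat_lit 5]] [[nat_lit 0, nat_lit 0, nat_lit 0]] [[nat_lit 0]] [[nat_lit 8],
  [nat_lit 7]] d_W s1_L = true := by decide +kernel
theorem m20 : List.map (fl [[nat_lit 8],
  [nat_lit 6],
  [nat_lit 5]]) [[nat_lit 2],
  [nat_lit 1]] = [[nat_lit 5],
  [nat_lit 6]] ∧ allB (fun R => cjK κ [nat_lit 9] (fl [[nat_lit 7],
  [nat_lit 5],
  [nat_lit 6]] R) (fl [[nat_lit 7],
  [nat_lit 5],
  [nat_lit 6]] R)) [[nat_lit 2],
  [nat_lit 1]] = true := by decide +kernel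
theorem s20 : dead κ ([nat_lit 9] :: [[nat_lit 7],
  [nat_lit 5],
  [nat_lit 6]]) [[nat_lit 0, nat_lit 0],
  [nat_lit 0, nat_lit 1, nat_lit 0, nat_lit 1, nat_lit 0, nat_lit 1]] [[nat_lit 0]] = false ∧ stepK κ [[nat_lit 8],
  [nat_lit 6],
  [nat_lit 5]] [[nat_lit 0, nat_lit 0],
  [nat_lit 0, nat_lit 1, nat_lit 0, nat_lit 1, nat_lit 0, nat_lit 1]] [[nat_lit 0]] [[nat_lit 8, nat_lit 9, nat_lit 7],
  [nat_lit 10]] d_W s20_L = true := by decide +kernel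
theorem m300 : List.map (fl [[nat_lit 8, nat_lit 9, nat_lit 7],
  [nat_lit 8],
  [nat_lit 6],
  [nat_lit 5]]) [[nat_lit 3],
  [nat_lit 2]] = [[nat_lit 5],
  [nat_lit 6]] ∧ allB (fun R => cjK κ [nat_lit 10] (fl [[nat_lit 9],
  [nat_lit 7],
  [nat_lit 5],
  [nat_lit 6]] R) (fl [[nat_lit 9],
  [nat_lit 7],
  [nat_lit 5],
  [nat_lit 6]] R)) [[nat_lit 3],
  [nat_lit 2]] = true := by decide +kernel
theorem s300 : dead κ ([nat_lit 10] :: [[nat_lit 9],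
  [nat_lit 7],
  [nat_lit 5],
  [nat_lit 6]]) [[nat_lit 0, nat_lit 0],
  [nat_lit 0, nat_lit 2, nat_lit 0, nat_lit 2, nat_lit 0, nat_lit 2],
  [nat_lit 0, nat_lit 1, nat_lit 0, nat_lit 3, nat_lit 1]] [] = false ∧ stepK κ [[nat_lit 8, nat_lit 9, nat_lit 7],
  [nat_lit 8],
  [nat_lit 6],
  [nat_lit 5]] [[nat_lit 0, nat_lit 0],
  [nat_lit 0, nat_lit 2, nat_lit 0, nat_lit 2, nat_lit 0, nat_lit 2],
  [nat_lit 0, nat_lit 1, nat_lit 0, nat_lit 3, nat_lit 1]] [] [[nat_lit 10]] d_W s300_L = true := by decide +kernel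
theorem m301 : List.map (fl [[nat_lit 10],
  [nat_lit 8],
  [nat_lit 6],
  [nat_lit 5]]) [[nat_lit 3],
  [nat_lit 2]] = [[nat_lit 5],
  [nat_lit 6]] ∧ allB (fun R => cjK κ [nat_lit 10] (fl [[nat_lit 9],
  [nat_lit 7],
  [nat_lit 5],
  [nat_lit 6]] R) (fl [[nat_lit 9],
  [nat_lit 7],
  [nat_lit 5],
  [nat_lit 6]] R)) [[nat_lit 3],
  [nat_lit 2]] = true := by decide +kernel
theorem s301 : dead κ ([nat_lit 10] :: [[nat_lit 9],
  [nat_lit 7],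
  [nat_lit 5],
  [nat_lit 6]]) [[nat_lit 0, nat_lit 0],
  [nat_lit 0, nat_lit 2, nat_lit 0, nat_lit 2, nat_lit 0, nat_lit 2],
  [nat_lit 0, nat_lit 1, nat_lit 0, nat_lit 3, nat_lit 1],
  [nat_lit 2, nat_lit 0, nat_lit 1, nat_lit 2, nat_lit 0, nat_lit 4, nat_lit 2, nat_lit 2, nat_lit 1, nat_lit 2, nat_lit 2, nat_lit 0]] [] = false ∧ stepK κ [[nat_lit 10],
  [nat_lit 8],
  [nat_lit 6],
  [nat_lit 5]] [[nat_lit 0, nat_lit 0],
  [nat_lit 0, nat_lit 2, nat_lit 0, nat_lit 2, nat_lit 0, nat_lit 2],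
  [nat_lit 0, nat_lit 1, nat_lit 0, nat_lit 3, nat_lit 1],
  [nat_lit 2, nat_lit 0, nat_lit 1, nat_lit 2, nat_lit 0, nat_lit 4, nat_lit 2, nat_lit 2, nat_lit 1, nat_lit 2, nat_lit 2, nat_lit 0]] [] [] d_W s301_L = true := by decide +kernel
theorem m21 : List.map (fl [[nat_lit 7],
  [nat_lit 6],
  [nat_lit 5]]) [[nat_lit 2],
  [nat_lit 1]] = [[nat_lit 5],
  [nat_lit 6]] ∧ allB (fun R => cjK κ [nat_lit 9] (fl [[nat_lit 7],
  [nat_lit 5],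
  [nat_lit 6]] R) (fl [[nat_lit 7],
  [nat_lit 5],
  [nat_lit 6]] R)) [[nat_lit 2],
  [nat_lit 1]] = true := by decide +kernel
theorem s21 : dead κ ([nat_lit 9] :: [[nat_lit 7],
  [nat_lit 5],
  [nat_lit 6]]) [[nat_lit 0, nat_lit 0],
  [nat_lit 0, nat_lit 1, nat_lit 0, nat_lit 1, nat_lit 0, nat_lit 1]] [[nat_lit 0]] = false ∧ stepK κ [[nat_lit 7],
  [nat_lit 6],
  [nat_lit 5]] [[nat_lit 0, nat_lit 0],
  [nat_lit 0, nat_lit 1, nat_lit 0, nat_lit 1, nat_lit 0, nat_lit 1]] [[nat_lit 0]] [[nat_lit 8, nat_lit 9, nat_lit 7],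
  [nat_lit 10]] d_W s21_L = true := by decide +kernel
theorem m310 : List.map (fl [[nat_lit 8, nat_lit 9, nat_lit 7],
  [nat_lit 7],
  [nat_lit 6],
  [nat_lit 5]]) [[nat_lit 3],
  [nat_lit 2]] = [[nat_lit 5],
  [nat_lit 6]] ∧ allB (fun R => cjK κ [nat_lit 10] (fl [[nat_lit 9],
  [nat_lit 7],
  [nat_lit 5],
  [nat_lit 6]] R) (fl [[nat_lit 9],
  [nat_lit 7],
  [nat_lit 5],
  [nat_lit 6]] R)) [[nat_lit 3],
  [nat_lit 2]] = true := by decide +kernel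
theorem s310 : dead κ ([nat_lit 10] :: [[nat_lit 9],
  [nat_lit 7],
  [nat_lit 5],
  [nat_lit 6]]) [[nat_lit 0, nat_lit 0],
  [nat_lit 0, nat_lit 2, nat_lit 0, nat_lit 2, nat_lit 0, nat_lit 2],
  [nat_lit 0, nat_lit 1, nat_lit 0, nat_lit 3, nat_lit 1],
  [nat_lit 2, nat_lit 0, nat_lit 1, nat_lit 2, nat_lit 0, nat_lit 4, nat_lit 2, nat_lit 2, nat_lit 1, nat_lit 2, nat_lit 2, nat_lit 0]] [] = false ∧ stepK κ [[nat_lit 8, nat_lit 9, nat_lit 7],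
  [nat_lit 7],
  [nat_lit 6],
  [nat_lit 5]] [[nat_lit 0, nat_lit 0],
  [nat_lit 0, nat_lit 2, nat_lit 0, nat_lit 2, nat_lit 0, nat_lit 2],
  [nat_lit 0, nat_lit 1, nat_lit 0, nat_lit 3, nat_lit 1],
  [nat_lit 2, nat_lit 0, nat_lit 1, nat_lit 2, nat_lit 0, nat_lit 4, nat_lit 2, nat_lit 2, nat_lit 1, nat_lit 2, nat_lit 2, nat_lit 0]] [] [] d_W s310_L = true := by decide +kernel
theorem m311 : List.map (fl [[nat_lit 10],
  [nat_lit 7],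
  [nat_lit 6],
  [nat_lit 5]]) [[nat_lit 3],
  [nat_lit 2]] = [[nat_lit 5],
  [nat_lit 6]] ∧ allB (fun R => cjK κ [nat_lit 10] (fl [[nat_lit 9],
  [nat_lit 7],
  [nat_lit 5],
  [nat_lit 6]] R) (fl [[nat_lit 9],
  [nat_lit 7],
  [nat_lit 5],
  [nat_lit 6]] R)) [[nat_lit 3],
  [nat_lit 2]] = true := by decide +kernel
theorem s311 : dead κ ([nat_lit 10] :: [[nat_lit 9],
  [nat_lit 7],
  [nat_lit 5],
  [nat_lit 6]]) [[nat_lit 0, nat_lit 0],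
  [nat_lit 0, nat_lit 2, nat_lit 0, nat_lit 2, nat_lit 0, nat_lit 2],
  [nat_lit 0, nat_lit 1, nat_lit 0, nat_lit 3, nat_lit 1]] [] = false ∧ stepK κ [[nat_lit 10],
  [nat_lit 7],
  [nat_lit 6],
  [nat_lit 5]] [[nat_lit 0, nat_lit 0],
  [nat_lit 0, nat_lit 2, nat_lit 0, nat_lit 2, nat_lit 0, nat_lit 2],
  [nat_lit 0, nat_lit 1, nat_lit 0, nat_lit 3, nat_lit 1]] [] [[nat_lit 8, nat_lit 9, nat_lit 7]] d_W s311_L = true := by decide +kernel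
theorem w110_4 : allB (fun i => Nat.blt (tb w110_T 4 i) 12 && eqK κ (nth [] w110_P i) (fl [[nat_lit 10],
  [nat_lit 9],
  [nat_lit 7],
  [nat_lit 5],
  [nat_lit 6]] (nth [] w110_J4 i)) &&
    eqK κ (nth [] w110_P (tb w110_T 4 i)) (fl [[nat_lit 8, nat_lit 9, nat_lit 7],
  [nat_lit 10],
  [nat_lit 7],
  [nat_lit 6],
  [nat_lit 5]] (nth [] w110_J4 i))) (List.range 12) = true := by decide +kernel
theorem w110_0 : allB (fun i => Nat.blt (tb w110_T 0 i) 12 && cjK κ [0] (nth [] w110_P i) (nth [] w110_P (tb w110_T 0 i))) (List.range 12) = true := by decide +kernel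
theorem w110z : allB (mem [nat_lit 4, nat_lit 0]) [nat_lit 0, nat_lit 4, nat_lit 0, nat_lit 4, nat_lit 0, nat_lit 4] = true ∧ ltAll 12 [nat_lit 1, nat_lit 2] = 0 ∧ List.map (nth [] w110_P) [nat_lit 1, nat_lit 2] = [[nat_lit 5],
  [nat_lit 6]] ∧
    List.map (fun i => nth [] w110_P (H16.apW (tb w110_T) [nat_lit 0, nat_lit 4, nat_lit 0, nat_lit 4, nat_lit 0, nat_lit 4] i)) [nat_lit 1, nat_lit 2] = [[nat_lit 5],
  [nat_lit 6]] := by decide +kernel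
theorem w110x : allB (mem [nat_lit 4, nat_lit 0]) [nat_lit 0, nat_lit 4, nat_lit 0, nat_lit 4, nat_lit 0, nat_lit 4] = true ∧ ltAll 12 [nat_lit 6] = 0 ∧ List.map (nth [] w110_P) [nat_lit 6] = [[nat_lit 9]] ∧
    List.map (fun i => nth [] w110_P (H16.apW (tb w110_T) [nat_lit 0, nat_lit 4, nat_lit 0, nat_lit 4, nat_lit 0, nat_lit 4] i)) [nat_lit 6] = [[nat_lit 7, nat_lit 10, nat_lit 8]] := by decide +kernel
theorem w110f : allB (fun W => !cjAll κ W [[nat_lit 9]] [[nat_lit 7, nat_lit 10, nat_lit 8]] || anyB (eqK κ W) []) d_W = true := by decide +kernel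
theorem zd : allB (fun W => !cjAll κ W [[nat_lit 7],
  [nat_lit 9],
  [nat_lit 10]] [[nat_lit 7],
  [nat_lit 9],
  [nat_lit 10]] || anyB (eqK κ W) [[],
  [nat_lit 5],
  [nat_lit 6],
  [nat_lit 5, nat_lit 6]]) d_W = true := by decide +kernel
theorem c0_4 : allB (fun i => Nat.blt (tb c0_T 4 i) 12 && eqK κ (nth [] c0_P i) (fl [[nat_lit 10],
  [nat_lit 9],
  [nat_lit 7],
  [nat_lit 5],
  [nat_lit 6]] (nth [] c0_J4 i)) &&
    eqK κ (nth [] c0_P (tb c0_T 4 i)) (fl [[nat_lit 10],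
  [nat_lit 8, nat_lit 9, nat_lit 7],
  [nat_lit 8],
  [nat_lit 6],
  [nat_lit 5]] (nth [] c0_J4 i))) (List.range 12) = true := by decide +kernel
theorem c0_0 : allB (fun i => Nat.blt (tb c0_T 0 i) 12 && cjK κ [0] (nth [] c0_P i) (nth [] c0_P (tb c0_T 0 i))) (List.range 12) = true := by decide +kernel
theorem c0i : ltAll 12 [nat_lit 1, nat_lit 2, nat_lit 4, nat_lit 6, nat_lit 9] = 0 ∧ ltAll 12 [nat_lit 0, nat_lit 1, nat_lit 2, nat_lit 3] = 0 ∧ List.map (nth [] c0_P) [nat_lit 1, nat_lit 2, nat_lit 4, nat_lit 6, nat_lit 9] = [[nat_lit 5],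
  [nat_lit 6],
  [nat_lit 7],
  [nat_lit 9],
  [nat_lit 10]] ∧ List.map (nth [] c0_P) [nat_lit 0, nat_lit 1, nat_lit 2, nat_lit 3] = [[],
  [nat_lit 5],
  [nat_lit 6],
  [nat_lit 5, nat_lit 6]] := by decide +kernel
theorem sq : powK κ c0_P c0_T [nat_lit 4, nat_lit 0] [nat_lit 1, nat_lit 2, nat_lit 4, nat_lit 6, nat_lit 9] [nat_lit 0, nat_lit 1, nat_lit 2, nat_lit 3] [[],
  [nat_lit 5, nat_lit 6]] [nat_lit 4] 2 = true := by decide +kernel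
theorem r0 : r0_L.map (fun p => rep p.1 p.2) = r0_R ∧ allB (fun p => powK κ c0_P c0_T [nat_lit 4, nat_lit 0] [nat_lit 1, nat_lit 2, nat_lit 4, nat_lit 6, nat_lit 9] [nat_lit 0, nat_lit 1, nat_lit 2, nat_lit 3] [[]] p.1 p.2) r0_L = true := by decide +kernel
theorem fx : List.length [[nat_lit 10],
  [nat_lit 8, nat_lit 9, nat_lit 7],
  [nat_lit 8],
  [nat_lit 6],
  [nat_lit 5]] = List.length [[nat_lit 10],
  [nat_lit 8, nat_lit 9, nat_lit 7],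
  [nat_lit 8],
  [nat_lit 6],
  [nat_lit 5]] ∧ cjAll κ [5] [[nat_lit 10],
  [nat_lit 8, nat_lit 9, nat_lit 7],
  [nat_lit 8],
  [nat_lit 6],
  [nat_lit 5]] [[nat_lit 10],
  [nat_lit 8, nat_lit 9, nat_lit 7],
  [nat_lit 8],
  [nat_lit 6],
  [nat_lit 5]] = true := by decide +kernel
theorem ee : eqK κ [nat_lit 5, nat_lit 6, nat_lit 6, nat_lit 5] [] = true ∧ eqK κ [nat_lit 0, nat_lit 0] [] = true ∧ eqK κ [nat_lit 2, nat_lit 2] [] = true ∧ eqK κ [nat_lit 2, nat_lit 0, nat_lit 2, nat_lit 0, nat_lit 2, nat_lit 0, nat_lit 2, nat_lit 0] [] = true ∧ eqK κ [nat_lit 2, nat_lit 0, nat_lit 2, nat_lit 0] [] = false ∧ eqK κ [nat_lit 0] [] = false ∧ eqK κ [nat_lit 5] [] = false := by decide +kernel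
theorem ze0 : allB (fun W => !cjAll κ W [[nat_lit 9],
  [nat_lit 8, nat_lit 9, nat_lit 7]] [[nat_lit 9],
  [nat_lit 8, nat_lit 9, nat_lit 7]] || anyB (eqK κ W) [[],
  [nat_lit 5],
  [nat_lit 6],
  [nat_lit 5, nat_lit 6],
  [nat_lit 9],
  [nat_lit 5, nat_lit 9],
  [nat_lit 6, nat_lit 9],
  [nat_lit 5, nat_lit 6, nat_lit 9],
  [nat_lit 8, nat_lit 9, nat_lit 7],
  [nat_lit 5, nat_lit 8, nat_lit 9, nat_lit 7],
  [nat_lit 6, nat_lit 8, nat_lit 9, nat_lit 7],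
  [nat_lit 5, nat_lit 6, nat_lit 8, nat_lit 9, nat_lit 7],
  [nat_lit 9, nat_lit 8, nat_lit 9, nat_lit 7],
  [nat_lit 5, nat_lit 9, nat_lit 8, nat_lit 9, nat_lit 7],
  [nat_lit 6, nat_lit 9, nat_lit 8, nat_lit 9, nat_lit 7],
  [nat_lit 5, nat_lit 6, nat_lit 9, nat_lit 8, nat_lit 9, nat_lit 7]]) d_W = true := by decide +kernel
theorem e0_4 : allB (fun i => Nat.blt (tb e0_T 4 i) 16 && eqK κ (nth [] e0_P i) (fl [[nat_lit 10],
  [nat_lit 9],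
  [nat_lit 7],
  [nat_lit 5],
  [nat_lit 6]] (nth [] e0_J4 i)) &&
    eqK κ (nth [] e0_P (tb e0_T 4 i)) (fl [[nat_lit 10],
  [nat_lit 8, nat_lit 9, nat_lit 7],
  [nat_lit 8],
  [nat_lit 6],
  [nat_lit 5]] (nth [] e0_J4 i))) (List.range 16) = true := by decide +kernel
theorem e0_0 : allB (fun i => Nat.blt (tb e0_T 0 i) 16 && cjK κ [0] (nth [] e0_P i) (nth [] e0_P (tb e0_T 0 i))) (List.range 16) = true := by decide +kernel
theorem e0_1 : allB (fun i => Nat.blt (tb e0_T 1 i) 16 && cjK κ [1] (nth [] e0_P i) (nth [] e0_P (tb e0_T 1 i))) (List.range 16) = true := by decide +kernel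
theorem e0_2 : allB (fun i => Nat.blt (tb e0_T 2 i) 16 && cjK κ [2] (nth [] e0_P i) (nth [] e0_P (tb e0_T 2 i))) (List.range 16) = true := by decide +kernel
theorem e0i : ltAll 16 [nat_lit 1, nat_lit 2, nat_lit 4, nat_lit 8] = 0 ∧ ltAll 16 [nat_lit 0, nat_lit 1, nat_lit 2, nat_lit 3, nat_lit 4, nat_lit 5, nat_lit 6, nat_lit 7, nat_lit 8, nat_lit 9, nat_lit 10, nat_lit 11, nat_lit 12, nat_lit 13, nat_lit 14, nat_lit 15] = 0 ∧ List.map (nth [] e0_P) [nat_lit 1, nat_lit 2, nat_lit 4, nat_lit 8] = [[nat_lit 5],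
  [nat_lit 6],
  [nat_lit 9],
  [nat_lit 8, nat_lit 9, nat_lit 7]] ∧ List.map (nth [] e0_P) [nat_lit 0, nat_lit 1, nat_lit 2, nat_lit 3, nat_lit 4, nat_lit 5, nat_lit 6, nat_lit 7, nat_lit 8, nat_lit 9, nat_lit 10, nat_lit 11, nat_lit 12, nat_lit 13, nat_lit 14, nat_lit 15] = [[],
  [nat_lit 5],
  [nat_lit 6],
  [nat_lit 5, nat_lit 6],
  [nat_lit 9],
  [nat_lit 5, nat_lit 9],
  [nat_lit 6, nat_lit 9],
  [nat_lit 5, nat_lit 6, nat_lit 9],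
  [nat_lit 8, nat_lit 9, nat_lit 7],
  [nat_lit 5, nat_lit 8, nat_lit 9, nat_lit 7],
  [nat_lit 6, nat_lit 8, nat_lit 9, nat_lit 7],
  [nat_lit 5, nat_lit 6, nat_lit 8, nat_lit 9, nat_lit 7],
  [nat_lit 9, nat_lit 8, nat_lit 9, nat_lit 7],
  [nat_lit 5, nat_lit 9, nat_lit 8, nat_lit 9, nat_lit 7],
  [nat_lit 6, nat_lit 9, nat_lit 8, nat_lit 9, nat_lit 7],
  [nat_lit 5, nat_lit 6, nat_lit 9, nat_lit 8, nat_lit 9, nat_lit 7]] := by decide +kernel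
theorem r1 : r1_L.map (fun p => rep p.1 p.2) = r1_R ∧ allB (fun p => powK κ e0_P e0_T [nat_lit 4, nat_lit 0, nat_lit 1, nat_lit 2] [nat_lit 1, nat_lit 2, nat_lit 4, nat_lit 8] [nat_lit 0, nat_lit 1, nat_lit 2, nat_lit 3, nat_lit 4, nat_lit 5, nat_lit 6, nat_lit 7, nat_lit 8, nat_lit 9, nat_lit 10, nat_lit 11, nat_lit 12, nat_lit 13, nat_lit 14, nat_lit 15] [[]] p.1 p.2) r1_L = true := by decide +kernel
theorem ze1 : allB (fun W => !cjAll κ W [[nat_lit 10],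
  [nat_lit 8, nat_lit 10, nat_lit 7]] [[nat_lit 10],
  [nat_lit 8, nat_lit 10, nat_lit 7]] || anyB (eqK κ W) [[],
  [nat_lit 5],
  [nat_lit 6],
  [nat_lit 5, nat_lit 6],
  [nat_lit 10],
  [nat_lit 5, nat_lit 10],
  [nat_lit 6, nat_lit 10],
  [nat_lit 5, nat_lit 6, nat_lit 10],
  [nat_lit 8, nat_lit 10, nat_lit 7],
  [nat_lit 5, nat_lit 8, nat_lit 10, nat_lit 7],
  [nat_lit 6, nat_lit 8, nat_lit 10, nat_lit 7],
  [nat_lit 5, nat_lit 6, nat_lit 8, nat_lit 10, nat_lit 7],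
  [nat_lit 10, nat_lit 8, nat_lit 10, nat_lit 7],
  [nat_lit 5, nat_lit 10, nat_lit 8, nat_lit 10, nat_lit 7],
  [nat_lit 6, nat_lit 10, nat_lit 8, nat_lit 10, nat_lit 7],
  [nat_lit 5, nat_lit 6, nat_lit 10, nat_lit 8, nat_lit 10, nat_lit 7]]) d_W = true := by decide +kernel
theorem e1_4 : allB (fun i => Nat.blt (tb e1_T 4 i) 16 && eqK κ (nth [] e1_P i) (fl [[nat_lit 10],
  [nat_lit 9],
  [nat_lit 7],
  [nat_lit 5],
  [nat_lit 6]] (nth [] e1_J4 i)) &&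
    eqK κ (nth [] e1_P (tb e1_T 4 i)) (fl [[nat_lit 10],
  [nat_lit 8, nat_lit 9, nat_lit 7],
  [nat_lit 8],
  [nat_lit 6],
  [nat_lit 5]] (nth [] e1_J4 i))) (List.range 16) = true := by decide +kernel
theorem e1_0 : allB (fun i => Nat.blt (tb e1_T 0 i) 16 && cjK κ [0] (nth [] e1_P i) (nth [] e1_P (tb e1_T 0 i))) (List.range 16) = true := by decide +kernel
theorem e1_1 : allB (fun i => Nat.blt (tb e1_T 1 i) 16 && cjK κ [1] (nth [] e1_P i) (nth [] e1_P (tb e1_T 1 i))) (List.range 16) = true := by decide +kernel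
theorem e1_3 : allB (fun i => Nat.blt (tb e1_T 3 i) 16 && cjK κ [3] (nth [] e1_P i) (nth [] e1_P (tb e1_T 3 i))) (List.range 16) = true := by decide +kernel
theorem e1i : ltAll 16 [nat_lit 1, nat_lit 2, nat_lit 4, nat_lit 8] = 0 ∧ ltAll 16 [nat_lit 0, nat_lit 1, nat_lit 2, nat_lit 3, nat_lit 4, nat_lit 5, nat_lit 6, nat_lit 7, nat_lit 8, nat_lit 9, nat_lit 10, nat_lit 11, nat_lit 12, nat_lit 13, nat_lit 14, nat_lit 15] = 0 ∧ List.map (nth [] e1_P) [nat_lit 1, nat_lit 2, nat_lit 4, nat_lit 8] = [[nat_lit 5],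
  [nat_lit 6],
  [nat_lit 10],
  [nat_lit 8, nat_lit 10, nat_lit 7]] ∧ List.map (nth [] e1_P) [nat_lit 0, nat_lit 1, nat_lit 2, nat_lit 3, nat_lit 4, nat_lit 5, nat_lit 6, nat_lit 7, nat_lit 8, nat_lit 9, nat_lit 10, nat_lit 11, nat_lit 12, nat_lit 13, nat_lit 14, nat_lit 15] = [[],
  [nat_lit 5],
  [nat_lit 6],
  [nat_lit 5, nat_lit 6],
  [nat_lit 10],
  [nat_lit 5, nat_lit 10],
  [nat_lit 6, nat_lit 10],
  [nat_lit 5, nat_lit 6, nat_lit 10],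
  [nat_lit 8, nat_lit 10, nat_lit 7],
  [nat_lit 5, nat_lit 8, nat_lit 10, nat_lit 7],
  [nat_lit 6, nat_lit 8, nat_lit 10, nat_lit 7],
  [nat_lit 5, nat_lit 6, nat_lit 8, nat_lit 10, nat_lit 7],
  [nat_lit 10, nat_lit 8, nat_lit 10, nat_lit 7],
  [nat_lit 5, nat_lit 10, nat_lit 8, nat_lit 10, nat_lit 7],
  [nat_lit 6, nat_lit 10, nat_lit 8, nat_lit 10, nat_lit 7],
  [nat_lit 5, nat_lit 6, nat_lit 10, nat_lit 8, nat_lit 10, nat_lit 7]] := by decide +kernel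
theorem r2 : r2_L.map (fun p => rep p.1 p.2) = r2_R ∧ allB (fun p => powK κ e1_P e1_T [nat_lit 4, nat_lit 0, nat_lit 1, nat_lit 3] [nat_lit 1, nat_lit 2, nat_lit 4, nat_lit 8] [nat_lit 0, nat_lit 1, nat_lit 2, nat_lit 3, nat_lit 4, nat_lit 5, nat_lit 6, nat_lit 7, nat_lit 8, nat_lit 9, nat_lit 10, nat_lit 11, nat_lit 12, nat_lit 13, nat_lit 14, nat_lit 15] [[]] p.1 p.2) r2_L = true := by decide +kernel
theorem ra0 : allB (fun r => !mem r 4 && eqK κ r []) ra0_R = true := by decide +kernel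
theorem ra : allB (fun r => !mem r 4 && eqK κ r []) ra_R = true := by decide +kernel
theorem rb : rb_L.map (fun p => 4 :: app p.1 (4 :: p.2.1)) = rb_R ∧ allB (fun p => !mem p.1 4 && !mem p.2.1 4 &&
    eqK κ p.1 (fl [[nat_lit 10],
  [nat_lit 9],
  [nat_lit 7],
  [nat_lit 5],
  [nat_lit 6]] p.2.2) && eqK κ (app (fl [[nat_lit 10],
  [nat_lit 8, nat_lit 9, nat_lit 7],
  [nat_lit 8],
  [nat_lit 6],
  [nat_lit 5]] p.2.2) p.2.1) []) rb_L = true := by decide +kernel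
theorem rl_eq : H1.McT.Rl = ra0_R ++ [[4, 4]] ++ ra_R ++ rb_R ++ r0_R ++ r1_R ++ r2_R := by decide +kernel
theorem WM_a : allL (ltAll 6) WM = true := by decide +kernel
theorem WM_b : allL (fixL (wdsP H15.McL.P WM) 5 H15.McL.B) H1.McT.Rl = true := by decide +kernel
theorem WM_c : allZ (fun k => ltAll 5 (nth [] VM k) + eqL H15.McL.P 6 H15.McL.B (fl WM (nth [] VM k)) [k]) 0 6 = true := by decide +kernel

theorem a_m : ∀ k < 11, ∀ i < 275, (matEnt (wdsP H15.XMcLC.P a_W) a_P) k i = 0 := allZ2_sound a_m_a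
theorem a_act {G Ω : Type*} [Group G] [MulAction G Ω] {g : ℕ → G} {pt : ℕ → Ω}
    (M : Md g pt H15.XMcLC.P 275 4 H15.XMcLC.B 40320) : Act (wds g a_W) pt a_P 275 11 :=
  act_mat (M.wact a_lt) a_m
theorem p2t_act {G Ω : Type*} [Group G] [MulAction G Ω] {g : ℕ → G} {pt : ℕ → Ω}
    (M : Md g pt H15.XMcLC.P 275 4 H15.XMcLC.B 40320) : Act (wds g p2t_W) pt p2t_P 275 7 :=
  M.wact p2t_lt
theorem p2_r : ∀ k < 7, ∀ i < 112, (resEnt p2t_P p2P p2E p2I (nat_lit 275) (nat_lit 112)) k i = 0 := allZ2_sound p2_r_a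
theorem p2_sm {G Ω : Type*} [Group G] [MulAction G Ω] {g : ℕ → G} {pt : ℕ → Ω}
    (M : Md g pt H15.XMcLC.P 275 4 H15.XMcLC.B 40320) : Sm (wds g p2t_W) (fun i => pt (p2E i)) p2P 112 7 p2B ∧ ∀ i < 112, p2E i < 275 :=
  M.res (p2t_act M) (by decide) p2_r p2_b
theorem p2l0_e : ∀ i < 31, (dent p2l0 (wdsP p2P p2e) (nat_lit 112)) i = 0 := allZ_sound0 p2l0_e_0
theorem p2l0_ok : DOK p2l0 (wdsP p2P p2e) 112 := ⟨p2l0_h, p2l0_e⟩
theorem p2l1_e : ∀ i < 3, (dent p2l1 (wdsP p2P p2e) (nat_lit 112)) i = 0 := allZ_sound0 p2l1_e_0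
theorem p2l1_ok : DOK p2l1 (wdsP p2P p2e) 112 := ⟨p2l1_h, p2l1_e⟩
theorem p2_low {G Ω : Type*} [Group G] [MulAction G Ω] {g : ℕ → G} {pt : ℕ → Ω}
    (M : Md g pt H15.XMcLC.P 275 4 H15.XMcLC.B 40320) : SLow (gi (wds (wds g p2t_W) p2e)) (fun i => pt (p2E i)) 112 [p2l0, p2l1] :=
  ((SLow.nil).cons p2l1_ok ((p2_sm M).1.act.wds p2_e 25) p2_f1).cons p2l0_ok ((p2_sm M).1.act.wds p2_e 25) p2_f0
theorem p2_pc {G Ω : Type*} [Group G] [MulAction G Ω] {g : ℕ → G} {pt : ℕ → Ω}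
    (M : Md g pt H15.XMcLC.P 275 4 H15.XMcLC.B 40320) : PC (wds g p2t_W) 7 2 :=
  have := M.fin
  ((p2_sm M).1.pc0 (by decide) p2_p).pc (p2_low M) (p2_sm M).1.inj
    (fun k => evA_mem_gen _ (nth_lt p2_e k)) M.card ⟨by decide, p2_c⟩
theorem covr_act {G Ω : Type*} [Group G] [MulAction G Ω] {g : ℕ → G} {pt : ℕ → Ω}
    (M : Md g pt H15.XMcLC.P 275 4 H15.XMcLC.B 40320) : Act (wds g covr_W) pt covr_P 275 2 :=
  M.wact covr_lt
theorem cov_0 {G Ω : Type*} [Group G] [MulAction G Ω] {g : ℕ → G} {pt : ℕ → Ω}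
    (M : Md g pt H15.XMcLC.P 275 4 H15.XMcLC.B 40320) : Cov (wds g p2t_W) (wds g covr_W) 2 2 7 (evA (wds g p2t_W) []) :=
  have := M.fin
  covT0.cov M (p2_sm M).1 (p2_sm M).2 (covr_act M) (p2_pc M) _ _ cov_c0
theorem cov {G Ω : Type*} [Group G] [MulAction G Ω] {g : ℕ → G} {pt : ℕ → Ω}
    (M : Md g pt H15.XMcLC.P 275 4 H15.XMcLC.B 40320) {y : G} {e : ℕ} (hy : y ^ 2 ^ e = 1) (hq : y ^ 2 = 1) : Good (wds g covr_W) 2 y :=
  have := M.fin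
  Cov.all (p2_pc M) (cov_0 M) hy hq
theorem x_act {G Ω : Type*} [Group G] [MulAction G Ω] {g : ℕ → G} {pt : ℕ → Ω}
    (M : Md g pt H15.XMcLC.P 275 4 H15.XMcLC.B 40320) : Act (wds g x_W) pt x_P 275 1 :=
  M.wact x_lt
theorem th_act {G Ω : Type*} [Group G] [MulAction G Ω] {g : ℕ → G} {pt : ℕ → Ω}
    (M : Md g pt H15.XMcLC.P 275 4 H15.XMcLC.B 40320) : Act (wds g th_W) pt th_P 275 12 :=
  M.wact th_lt
theorem tl0_e : ∀ i < 34, (dent tl0 th_P (nat_lit 275)) i = 0 := allZ_sound0 tl0_e_0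
theorem tl0_ok : DOK tl0 th_P 275 := ⟨tl0_h, tl0_e⟩
theorem tl1_e : ∀ i < 17, (dent tl1 th_P (nat_lit 275)) i = 0 := allZ_sound0 tl1_e_0
theorem tl1_ok : DOK tl1 th_P 275 := ⟨tl1_h, tl1_e⟩
theorem tl2_e : ∀ i < 3, (dent tl2 th_P (nat_lit 275)) i = 0 := allZ_sound0 tl2_e_0
theorem tl2_ok : DOK tl2 th_P 275 := ⟨tl2_h, tl2_e⟩
theorem tl3_e : ∀ i < 3, (dent tl3 th_P (nat_lit 275)) i = 0 := allZ_sound0 tl3_e_0
theorem tl3_ok : DOK tl3 th_P 275 := ⟨tl3_h, tl3_e⟩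
theorem tl4_e : ∀ i < 1, (dent tl4 th_P (nat_lit 275)) i = 0 := allZ_sound0 tl4_e_0
theorem tl4_ok : DOK tl4 th_P 275 := ⟨tl4_h, tl4_e⟩
theorem tl5_e : ∀ i < 1, (dent tl5 th_P (nat_lit 275)) i = 0 := allZ_sound0 tl5_e_0
theorem tl5_ok : DOK tl5 th_P 275 := ⟨tl5_h, tl5_e⟩
theorem t_low {G Ω : Type*} [Group G] [MulAction G Ω] {g : ℕ → G} {pt : ℕ → Ω}
    (M : Md g pt H15.XMcLC.P 275 4 H15.XMcLC.B 40320) : SLow (gi (wds g th_W)) pt 275 [tl0, tl1, tl2, tl3, tl4, tl5] :=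
  ((((((SLow.nil).cons tl5_ok (th_act M) t_f5).cons tl4_ok (th_act M) t_f4).cons tl3_ok (th_act M) t_f3).cons tl2_ok (th_act M) t_f2).cons tl1_ok (th_act M) t_f1).cons tl0_ok (th_act M) t_f0
theorem t_S0 {G Ω : Type*} [Group G] [MulAction G Ω] {g : ℕ → G} {pt : ℕ → Ω}
    (M : Md g pt H15.XMcLC.P 275 4 H15.XMcLC.B 40320) : Stage ⊤ (wds g th_W) pt 275 [tl0, tl1, tl2, tl3, tl4, tl5] [] :=
  M.stage (t_low M) t_c
theorem t_S1 {G Ω : Type*} [Group G] [MulAction G Ω] {g : ℕ → G} {pt : ℕ → Ω}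
    (M : Md g pt H15.XMcLC.P 275 4 H15.XMcLC.B 40320) : Stage ⊤ (wds g th_W) pt 275 [tl1, tl2, tl3, tl4, tl5] [tl0.Pt 0] :=
  (t_S0 M).next
theorem t_S2 {G Ω : Type*} [Group G] [MulAction G Ω] {g : ℕ → G} {pt : ℕ → Ω}
    (M : Md g pt H15.XMcLC.P 275 4 H15.XMcLC.B 40320) : Stage ⊤ (wds g th_W) pt 275 [tl2, tl3, tl4, tl5] [tl1.Pt 0, tl0.Pt 0] :=
  (t_S1 M).next
theorem t_S3 {G Ω : Type*} [Group G] [MulAction G Ω] {g : ℕ → G} {pt : ℕ → Ω}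
    (M : Md g pt H15.XMcLC.P 275 4 H15.XMcLC.B 40320) : Stage ⊤ (wds g th_W) pt 275 [tl3, tl4, tl5] [tl2.Pt 0, tl1.Pt 0, tl0.Pt 0] :=
  (t_S2 M).next
theorem t_S4 {G Ω : Type*} [Group G] [MulAction G Ω] {g : ℕ → G} {pt : ℕ → Ω}
    (M : Md g pt H15.XMcLC.P 275 4 H15.XMcLC.B 40320) : Stage ⊤ (wds g th_W) pt 275 [tl4, tl5] [tl3.Pt 0, tl2.Pt 0, tl1.Pt 0, tl0.Pt 0] :=
  (t_S3 M).next
theorem t_S5 {G Ω : Type*} [Group G] [MulAction G Ω] {g : ℕ → G} {pt : ℕ → Ω}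
    (M : Md g pt H15.XMcLC.P 275 4 H15.XMcLC.B 40320) : Stage ⊤ (wds g th_W) pt 275 [tl5] [tl4.Pt 0, tl3.Pt 0, tl2.Pt 0, tl1.Pt 0, tl0.Pt 0] :=
  (t_S4 M).next
theorem t_S6 {G Ω : Type*} [Group G] [MulAction G Ω] {g : ℕ → G} {pt : ℕ → Ω}
    (M : Md g pt H15.XMcLC.P 275 4 H15.XMcLC.B 40320) : Stage ⊤ (wds g th_W) pt 275 [] [tl5.Pt 0, tl4.Pt 0, tl3.Pt 0, tl2.Pt 0, tl1.Pt 0, tl0.Pt 0] :=
  (t_S5 M).next
theorem ce_act {G Ω : Type*} [Group G] [MulAction G Ω] {g : ℕ → G} {pt : ℕ → Ω}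
    (M : Md g pt H15.XMcLC.P 275 4 H15.XMcLC.B 40320) : Act (wds g ce_W) pt ce_P 275 5 :=
  M.wact ce_lt
theorem cc4_e : ∀ i < 1, (dent cc4 ce_P (nat_lit 275)) i = 0 := allZ_sound0 cc4_e_0
theorem cc4_ok : DOK cc4 ce_P 275 := ⟨cc4_h, cc4_e⟩
theorem tn0_1 : ∀ i < 2, (tn0.ent H15.XMcLC.P th_P x_P x_P ce_P (nat_lit 4) (nat_lit 1) H15.XMcLC.B tl4 [tl5] (memO cc4)) i = 0 := allZ_sound0 tn0_1_0
theorem tn0_t {G Ω : Type*} [Group G] [MulAction G Ω] {g : ℕ → G} {pt : ℕ → Ω}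
    (M : Md g pt H15.XMcLC.P 275 4 H15.XMcLC.B 40320) : TrO (gen (wds g th_W) tl4.K) (wds g x_W) (wds g x_W) 1 pt 275 (tl4.Pt 0) (memO cc4) :=
  node M (t_S4 M) (th_act M) (x_act M) (x_act M) tn0 ((ce_act M).mono (by decide)) (fun _ _ => trivial) tn0_0 tn0_1 (List.forall_mem_nil _)
theorem cc3_e : ∀ i < 1, (dent cc3 ce_P (nat_lit 275)) i = 0 := allZ_sound0 cc3_e_0
theorem cc3_ok : DOK cc3 ce_P 275 := ⟨cc3_h, cc3_e⟩
theorem tn1_1 : ∀ i < 4, (tn1.ent H15.XMcLC.P th_P x_P x_P ce_P (nat_lit 4) (nat_lit 1) H15.XMcLC.B tl3 [tl4, tl5] (memO cc3)) i = 0 := allZ_sound0 tn1_1_0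
theorem tn1_t {G Ω : Type*} [Group G] [MulAction G Ω] {g : ℕ → G} {pt : ℕ → Ω}
    (M : Md g pt H15.XMcLC.P 275 4 H15.XMcLC.B 40320) : TrO (gen (wds g th_W) tl3.K) (wds g x_W) (wds g x_W) 1 pt 275 (tl3.Pt 0) (memO cc3) :=
  node M (t_S3 M) (th_act M) (x_act M) (x_act M) tn1 ((ce_act M).mono (by decide)) (fun _ _ => trivial) tn1_0 tn1_1 (List.forall_mem_nil _)
theorem cc2_e : ∀ i < 1, (dent cc2 ce_P (nat_lit 275)) i = 0 := allZ_sound0 cc2_e_0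
theorem cc2_ok : DOK cc2 ce_P 275 := ⟨cc2_h, cc2_e⟩
theorem tn2_1 : ∀ i < 4, (tn2.ent H15.XMcLC.P th_P x_P x_P ce_P (nat_lit 4) (nat_lit 1) H15.XMcLC.B tl2 [tl3, tl4, tl5] (memO cc2)) i = 0 := allZ_sound0 tn2_1_0
theorem tn2_t {G Ω : Type*} [Group G] [MulAction G Ω] {g : ℕ → G} {pt : ℕ → Ω}
    (M : Md g pt H15.XMcLC.P 275 4 H15.XMcLC.B 40320) : TrO (gen (wds g th_W) tl2.K) (wds g x_W) (wds g x_W) 1 pt 275 (tl2.Pt 0) (memO cc2) :=
  node M (t_S2 M) (th_act M) (x_act M) (x_act M) tn2 ((ce_act M).mono (by decide)) (fun _ _ => trivial) tn2_0 tn2_1 (List.forall_mem_nil _)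
theorem cc0_e : ∀ i < 23, (dent cc0 ce_P (nat_lit 275)) i = 0 := allZ_sound0 cc0_e_0
theorem cc0_ok : DOK cc0 ce_P 275 := ⟨cc0_h, cc0_e⟩
theorem tn3_1 : ∀ i < 35, (tn3.ent H15.XMcLC.P th_P x_P x_P ce_P (nat_lit 4) (nat_lit 1) H15.XMcLC.B tl0 [tl1, tl2, tl3, tl4, tl5] (memO cc0)) i = 0 := allZ_sound0 tn3_1_0
theorem tn3_t {G Ω : Type*} [Group G] [MulAction G Ω] {g : ℕ → G} {pt : ℕ → Ω}
    (M : Md g pt H15.XMcLC.P 275 4 H15.XMcLC.B 40320) : TrO (gen (wds g th_W) tl0.K) (wds g x_W) (wds g x_W) 1 pt 275 (tl0.Pt 0) (memO cc0) :=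
  node M (t_S0 M) (th_act M) (x_act M) (x_act M) tn3 ((ce_act M).mono (by decide)) (fun _ _ => trivial) tn3_0 tn3_1 (List.forall_mem_nil _)
theorem c {G Ω : Type*} [Group G] [MulAction G Ω] {g : ℕ → G} {pt : ℕ → Ω}
    (M : Md g pt H15.XMcLC.P 275 4 H15.XMcLC.B 40320) : Cen ⊤ (wds g x_W) 1 (wds g ce_W) pt 275 [cc0, cc2, cc3, cc4] :=
  (t_S0 M).top ▸ Cen.lev M (t_S0 M) (Cen.triv (t_S1 M) (Cen.lev M (t_S2 M) (Cen.lev M (t_S3 M) (Cen.lev M (t_S4 M) (Cen.triv (t_S5 M) (Cen.bot) (forced (t_S5 M) (th_act M) (x_act M) _ _ c_f5)) (tn0_t M) (x_act M) (ce_act M) (fun _ _ => trivial) cc4_ok c_f4) (tn1_t M) (x_act M) (ce_act M) (fun _ _ => trivial) cc3_ok c_f3) (tn2_t M) (x_act M) (ce_act M) (fun _ _ => trivial) cc2_ok c_f2) (forced (t_S1 M) (th_act M) (x_act M) _ _ c_f1)) (tn3_t M) (x_act M) (ce_act M) (fun _ _ => trivial) cc0_ok c_f0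
theorem c_card {G Ω : Type*} [Group G] [MulAction G Ω] {g : ℕ → G} {pt : ℕ → Ω}
    (M : Md g pt H15.XMcLC.P 275 4 H15.XMcLC.B 40320) : Nat.card (Subgroup.centralizer {(wds g x_W) 0}) = 192 :=
  (c M).card_cent1 M.inj c_c.1
theorem c_eq {G Ω : Type*} [Group G] [MulAction G Ω] {g : ℕ → G} {pt : ℕ → Ω}
    (M : Md g pt H15.XMcLC.P 275 4 H15.XMcLC.B 40320) : Subgroup.centralizer (gen (wds g x_W) 1) = gen (wds g ce_W) 5 ∧ Nat.card (gen (wds g ce_W) 5) = 192 :=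
  c_c.1 ▸ c_c.2 ▸ ⟨(c M).cent, (c M).card M.inj⟩

end H1.Mc
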