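import Cfsg.Agent.H1.Am7
import Cfsg.Agent.H1.McD

/-! Generated by tools/h0/tr.py. -/

set_option maxRecDepth 100000
set_option maxHeartbeats 0

namespace H1.Lm
open H16 H0.TR
open scoped Pointwise

open H1.Am

noncomputable def Lw : Wl := [[nat_lit 0],
  [nat_lit 1],
  [nat_lit 2],
  [nat_lit 3],
  [nat_lit 4],
  [nat_lit 5],
  [nat_lit 6],
  [nat_lit 3, nat_lit 4, nat_lit 1, nat_lit 4, nat_lit 3, nat_lit 4, nat_lit 2, nat_lit 0, nat_lit 4, nat_lit 2, nat_lit 4, nat_lit 3, nat_lit 4, nat_lit 1, nat_lit 4, nat_lit 3],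
  [nat_lit 1, nat_lit 3, nat_lit 1, nat_lit 0, nat_lit 2, nat_lit 0, nat_lit 3, nat_lit 0, nat_lit 2, nat_lit 1, nat_lit 0, nat_lit 2],
  [nat_lit 3, nat_lit 1, nat_lit 0, nat_lit 2, nat_lit 0, nat_lit 3, nat_lit 0, nat_lit 2, nat_lit 1, nat_lit 0, nat_lit 2, nat_lit 1],
  [nat_lit 2, nat_lit 3, nat_lit 2, nat_lit 3],
  [nat_lit 0, nat_lit 2, nat_lit 3, nat_lit 0, nat_lit 2, nat_lit 3],
  [nat_lit 2, nat_lit 0, nat_lit 3, nat_lit 0, nat_lit 2, nat_lit 0, nat_lit 3],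
  [nat_lit 0, nat_lit 2, nat_lit 0, nat_lit 3, nat_lit 2, nat_lit 0, nat_lit 3],
  [nat_lit 3, nat_lit 0, nat_lit 2, nat_lit 0, nat_lit 3, nat_lit 0, nat_lit 2],
  [nat_lit 2, nat_lit 0, nat_lit 1, nat_lit 2, nat_lit 0, nat_lit 3, nat_lit 0, nat_lit 2, nat_lit 0, nat_lit 1, nat_lit 3, nat_lit 1],
  [nat_lit 3, nat_lit 0, nat_lit 2, nat_lit 0, nat_lit 3, nat_lit 0, nat_lit 2, nat_lit 3, nat_lit 4, nat_lit 1, nat_lit 4, nat_lit 3, nat_lit 4, nat_lit 2, nat_lit 0, nat_lit 4, nat_lit 2, nat_lit 4, nat_lit 3, nat_lit 4, nat_lit 1, nat_lit 4, nat_lit 3, nat_lit 2, nat_lit 0, nat_lit 3, nat_lit 0, nat_lit 2, nat_lit 0, nat_lit 3],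
  [nat_lit 2, nat_lit 3, nat_lit 0, nat_lit 2, nat_lit 3]]
noncomputable def m_Pd : List ℕ := [nat_lit 0x265d273333050ce24b1f547085b221a3013620e0885583091cbc681adc09e78290f2e337b6970f74499ddaa83ba5222cc739c57c9f7a430c6f95d2698cad6dbc8dab76b9f924755a2b20afb43a0564e85fa84ca9b63b7500c4533fa1c7b65b94e0fc4837d30f16c41d16d334b34f0ff501c9b8d232230feec3d30d4af684a8994af723e114686437a24b94bc2d2aea49b54f8bb3b3f51aaa5aa75df0667c36006a812099cc554b5a14916029deab175a3da874882b9ccbd799b9b3037d211669c7743d92ab7092034360813c26202d838b23d19914462a0e8e4a2492f09c04210d8c4a0620a8a0ac2c2190876171f8d0b00f208e8a42e1b980383e2b8989416068e03e44159501646270c802242a888985c16878a635259843218200c08e0a2e8480c5f1e1685e05148501208038441804001344a03,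
  nat_lit 0x2392c73330c85ef041a49e5084817000ca433a4026b3f918eaa3728f088ac38bd928f470425e30c450e016122512604c473b89f6030239916f36f90ce8dc56af10eb66b97cba99381c93e14268c19acc0441112c85cb1982e84a85d8a535f828aada5b8dd8e8d5db60c82333a08a81503a79b6f8319a08ea83da9948a57e0b44aa068ab8ca602ca69a8984bc4586f51dc28850712449703670bbd92216cc0c1e1885ac84e267f838267c53874a04f0e1d9fadd88349eed316114040d801a85caa59c3d3ab55586c909c6b0a9ab062d84136512b9597ab1600acb0793c0599e200d3add46154bf8dcf96f24482281f8e87afa498f872ee5d23062340cc386ace869a5446f29178524040a01428f5a031104c0f878f4773112c66846113960d03ebb00c5a429f8d82276af812cb578440ae3721b60305,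
  nat_lit 0xcd80ed00c305f0e7ac2990ee83b39ec3266051ca963fbf8e0ae331eca4d740416163779bc98eca65c22201759b043a117382a02e44aa2d7c390182c949209a3d6c0c7c358eeb1371f8827a414199b0377bc19309788c41e181d869d51144b844210042e9725b45365281975995a829393f0d2ac38a05344812a914aa64da88785f4f9649a5751aa4bc9823401c6b502370381e6d08d1a5c712dd7e201121892063233d54f77fb485c7c7d340a0276a9d88a6721abd56fd1f34cda6a299b15a4f3a3ed6483130b0c26050264848c5c0913c584e138982a35be47e79341593a55093750aa823a5cea4039975a244289bc5aa16186dc0387a0c06a34894118c36869f47a6214151602b3c18d4e5a4721d7a880fa41d2911d30968c4760582b026d92dd0bc6281c1ad86f39812bb0721004936f8161e00,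
  nat_lit 0x22946323322de50c251fdc0e605971be4322044128636b11066c7dba4d6d01100d96f417c34081e42b297c743a849f4a172c21cee471b88e709828e092dc38a2560d853950bc773f06482f82fb3954ae7abb910c849a3ce0fe1e9b81c521f3b4c4210b87d443f22a68961a19ac89ad904330181843b34fa826ba9930a488ae5d0424fa79324e29ad93aa53d0352a0763809220a6303d1a8c87449b4c955c01de147eaa0f8138534d52813da5cc04f6a0c1d6ec7099db6c518b09fefc7c900d2683943c38230aaf4547967b5491062886c56582b95820d64db00b6163c271622c5ac2dba5d130956f0382281a26a5c2fd8606168e872de1b8d0403659c40de76798a4764c2c9845c281391c8c24323dd78355d3c03a652d2d1a4ac5d940c684403aa0455473052cad83a4202af4a0f00af17b2480200,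
  nat_lit 0x36deee7878dc1b0b862cce3086607028d181b9815004d05d5af04f83c58a588ab9eaf479a591afc6484c16441094178d88840994010236956a8628558cd489388d4e8330ec5cdc33a9208250c128cb0717b95de7b63b75bebb318b5821d4300c70e96209930b85b2dd6a5d852248a471e3d9fa72709f086e053991f0d241918006b7da793a4229bfd32b94bbc91676071c06c90249d5e2604aa09643043afc0e0251a28b8323f97caaaa64164485413a511c7439ab212920913c9a0850364466869b5d9aa6618f4b08c3f17968812d968f4610c8a8fa784d8e496ea37130da4e28b391e1a5828962ec54a70201f1f8f8c4af6b0d0a4bd872442c3a19a00408865b5584f91595852283bae9a07934831d6312001981060d920aecf7f0d5bd05771bc22417d24e1a2276c04126c428780ae35f211c8a1,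
  nat_lit 0x44a231087c3a1b0c85c2a130883c1a0b0481c0a03007fbf9fafc7dbe9f2f87bbd9eaf479bc9e2f077bb9daec75ba9d2e873b99cae471b89c2e06fb79badc6db69b2d86bb59aad469b49a2d067b399acc65b2992c863b198ac461b0982c05faf97abc5dae972b85bad96ab459ac962b057ab95aac55aa952a853a994aa451a8942a04fa793a9c4da6932984ba592a9449a49229047a391a8c45a29128843a190a8441a0902803f9f8fa7c3d9e8f2783b9d8ea74399c8e270379b8da6c359a8d26833998ca6431988c2602f978ba5c2d968b2582b958aa5429948a250279389a4c259289248239188a442190882401f8f87a3c1d8e872381b8d86a34198c86230178b85a2c158a85228138984a241188842200f8783a1c0d86832180b8582a14098482210078381a0c058281208038180a04018080200,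
  nat_lit 0x44a231087c3a1b0c85c2a130883c1a0b0481c0a03007fbf9fafc7dbe9f2f87bbd9eaf479bc9e2f077bb9daec75ba9d2e873b99cae471b89c2e06fb79badc6db69b2d86bb59aad469b49a2d067b399acc65b2992c863b198ac461b0982c05faf97abc5dae972b85bad96ab459ac962b057ab95aac55aa952a853a994aa451a8942a04fa793a9c4da6932984ba592a9449a49229047a391a8c45a29128843a190a8441a0902803f9f8fa7c3d9e8f2783b9d8ea74399c8e270379b8da6c359a8d26833998ca6431988c2602f978ba5c2d968b2582b958aa5429948a250279389a4c259289248239188a442190882401f8f87a3c1d8e872381b8d86a34198c86230178b85a2c158a85228138984a241188842200f8783a1c0d86832180b8582a14098482210078381a0c058281208038180a04018080200]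
noncomputable def m_P (k u : ℕ) : ℕ := Nat.land (Nat.shiftRight (nth (nat_lit 0) m_Pd k) (Nat.mul u (nat_lit 9))) (nat_lit 511)
noncomputable def a_Pd : List ℕ := [nat_lit 0x265d273333050ce24b1f547085b221a3013620e0885583091cbc681adc09e78290f2e337b6970f74499ddaa83ba5222cc739c57c9f7a430c6f95d2698cad6dbc8dab76b9f924755a2b20afb43a0564e85fa84ca9b63b7500c4533fa1c7b65b94e0fc4837d30f16c41d16d334b34f0ff501c9b8d232230feec3d30d4af684a8994af723e114686437a24b94bc2d2aea49b54f8bb3b3f51aaa5aa75df0667c36006a812099cc554b5a14916029deab175a3da874882b9ccbd799b9b3037d211669c7743d92ab7092034360813c26202d838b23d19914462a0e8e4a2492f09c04210d8c4a0620a8a0ac2c2190876171f8d0b00f208e8a42e1b980383e2b8989416068e03e44159501646270c802242a888985c16878a635259843218200c08e0a2e8480c5f1e1685e05148501208038441804001344a03,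
  nat_lit 0x2392c73330c85ef041a49e5084817000ca433a4026b3f918eaa3728f088ac38bd928f470425e30c450e016122512604c473b89f6030239916f36f90ce8dc56af10eb66b97cba99381c93e14268c19acc0441112c85cb1982e84a85d8a535f828aada5b8dd8e8d5db60c82333a08a81503a79b6f8319a08ea83da9948a57e0b44aa068ab8ca602ca69a8984bc4586f51dc28850712449703670bbd92216cc0c1e1885ac84e267f838267c53874a04f0e1d9fadd88349eed316114040d801a85caa59c3d3ab55586c909c6b0a9ab062d84136512b9597ab1600acb0793c0599e200d3add46154bf8dcf96f24482281f8e87afa498f872ee5d23062340cc386ace869a5446f29178524040a01428f5a031104c0f878f4773112c66846113960d03ebb00c5a429f8d82276af812cb578440ae3721b60305,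
  nat_lit 0xcd80ed00c305f0e7ac2990ee83b39ec3266051ca963fbf8e0ae331eca4d740416163779bc98eca65c22201759b043a117382a02e44aa2d7c390182c949209a3d6c0c7c358eeb1371f8827a414199b0377bc19309788c41e181d869d51144b844210042e9725b45365281975995a829393f0d2ac38a05344812a914aa64da88785f4f9649a5751aa4bc9823401c6b502370381e6d08d1a5c712dd7e201121892063233d54f77fb485c7c7d340a0276a9d88a6721abd56fd1f34cda6a299b15a4f3a3ed6483130b0c26050264848c5c0913c584e138982a35be47e79341593a55093750aa823a5cea4039975a244289bc5aa16186dc0387a0c06a34894118c36869f47a6214151602b3c18d4e5a4721d7a880fa41d2911d30968c4760582b026d92dd0bc6281c1ad86f39812bb0721004936f8161e00,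
  nat_lit 0x22946323322de50c251fdc0e605971be4322044128636b11066c7dba4d6d01100d96f417c34081e42b297c743a849f4a172c21cee471b88e709828e092dc38a2560d853950bc773f06482f82fb3954ae7abb910c849a3ce0fe1e9b81c521f3b4c4210b87d443f22a68961a19ac89ad904330181843b34fa826ba9930a488ae5d0424fa79324e29ad93aa53d0352a0763809220a6303d1a8c87449b4c955c01de147eaa0f8138534d52813da5cc04f6a0c1d6ec7099db6c518b09fefc7c900d2683943c38230aaf4547967b5491062886c56582b95820d64db00b6163c271622c5ac2dba5d130956f0382281a26a5c2fd8606168e872de1b8d0403659c40de76798a4764c2c9845c281391c8c24323dd78355d3c03a652d2d1a4ac5d940c684403aa0455473052cad83a4202af4a0f00af17b2480200,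
  nat_lit 0x36deee7878dc1b0b862cce3086607028d181b9815004d05d5af04f83c58a588ab9eaf479a591afc6484c16441094178d88840994010236956a8628558cd489388d4e8330ec5cdc33a9208250c128cb0717b95de7b63b75bebb318b5821d4300c70e96209930b85b2dd6a5d852248a471e3d9fa72709f086e053991f0d241918006b7da793a4229bfd32b94bbc91676071c06c90249d5e2604aa09643043afc0e0251a28b8323f97caaaa64164485413a511c7439ab212920913c9a0850364466869b5d9aa6618f4b08c3f17968812d968f4610c8a8fa784d8e496ea37130da4e28b391e1a5828962ec54a70201f1f8f8c4af6b0d0a4bd872442c3a19a00408865b5584f91595852283bae9a07934831d6312001981060d920aecf7f0d5bd05771bc22417d24e1a2276c04126c428780ae35f211c8a1,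
  nat_lit 0x44a231087c3a1b0c85c2a130883c1a0b0481c0a03007fbf9fafc7dbe9f2f87bbd9eaf479bc9e2f077bb9daec75ba9d2e873b99cae471b89c2e06fb79badc6db69b2d86bb59aad469b49a2d067b399acc65b2992c863b198ac461b0982c05faf97abc5dae972b85bad96ab459ac962b057ab95aac55aa952a853a994aa451a8942a04fa793a9c4da6932984ba592a9449a49229047a391a8c45a29128843a190a8441a0902803f9f8fa7c3d9e8f2783b9d8ea74399c8e270379b8da6c359a8d26833998ca6431988c2602f978ba5c2d968b2582b958aa5429948a250279389a4c259289248239188a442190882401f8f87a3c1d8e872381b8d86a34198c86230178b85a2c158a85228138984a241188842200f8783a1c0d86832180b8582a14098482210078381a0c058281208038180a04018080200,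
  nat_lit 0x44a231087c3a1b0c85c2a130883c1a0b0481c0a03007fbf9fafc7dbe9f2f87bbd9eaf479bc9e2f077bb9daec75ba9d2e873b99cae471b89c2e06fb79badc6db69b2d86bb59aad469b49a2d067b399acc65b2992c863b198ac461b0982c05faf97abc5dae972b85bad96ab459ac962b057ab95aac55aa952a853a994aa451a8942a04fa793a9c4da6932984ba592a9449a49229047a391a8c45a29128843a190a8441a0902803f9f8fa7c3d9e8f2783b9d8ea74399c8e270379b8da6c359a8d26833998ca6431988c2602f978ba5c2d968b2582b958aa5429948a250279389a4c259289248239188a442190882401f8f87a3c1d8e872381b8d86a34198c86230178b85a2c158a85228138984a241188842200f8783a1c0d86832180b8582a14098482210078381a0c058281208038180a04018080200,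
  nat_lit 0x1d586591ca2cd5071b1b5a4762d1548ebe5f808f6134b8f49e51548a9a6d75ebd90ec922ab9640a63a4190af463640e95708401c726786ca69e4d87cc0fd182cd88803fad0e827308a074252ea28222f32b986a66251b0c8ea35b80c632280ecb8bc5dae906b837b045ca3262452401528cdd6fe34a6034683d299d90a6b28890d462b09aa4e290ad5081233d50818770f1e2936c0151aad2083198884b035b6e807b35548f7c2c12842258018c8e041587e9d4d05e0c5f108654879888c47c9933bb42c9f5b3c1f21c0a409c6f74343052d01a420e2e973b7c89036e010eeda80bbe00230abfc80fc8781a1cf3892ad58b18209086e21b889e81e790261a85448985a2c3984a2109502d4b0d150c2d6e200595dcadd1c3ec067d7232e0a7024be904ca5c874b6ce6f189804d2a1f0f09c37178fca7,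
  nat_lit 0x12916617029cc4392291c3676219547a0b1f1f0fe922a1b50aaa4a12d82122e3d8bc933c13d2ace0ba0da4b24494c1caf3f231fe3f28b21605a2c064be30792cdce747d0b8d8dd318e1be3a221a826e6243addc287220138e120c1cb2fb55b79ee20162e9e83710c4056262621022c448b705f0a3b974306535a99e3055aae0d01c024318c86682d196e3748094ac05ca09d00f6ac2d1acc3d0c594bb8131466ec64c019e9d1536412877c445b0225f959de796b44a0ca05bc102a8f873c010165e424464e148316c146a019f8bd4fc3df2d10f420e2e50089530696d83606da6b9c962995601d1c816125800056393548cd0fa6d3ced5110120577eaa414ae081cc5a8851c05a6e2302684852543ccde67018d08c70331f57c323aa85fc271e1ec92ad1aa5cc90d3722834500ebd46c5b1d909d4c3,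
  nat_lit 0x20cda5f7911cb43044ac8f076429552a4a609f892322f2bd14643fb344e922e3d8a63b0818986391a82c8aa769150f88b07321ea932d8d83a4f2885ca0ce86931d2731e265460850239c68143278fae23cbb608407a0993607523f4c10131bbdee67440b406b837b742ca86d1adf6463d3c212ec14939f09d5629800f1342891e776fb7168d02208ce80481384822a0faa622de15bad74280ab08702c738e8630e37061389a58a5df4d9803f85cad699581ed6243ba0cab10c4922b58543220d5103cd8c520e43da903348041abd68b6c28980f420e20672bf13eb606095f2b309b2580d84200994c519b120ae65c9654a1a63b3d5d0b1bb317c57051ee0e6a0db2d1abb50844e00526995545d400bd6ebc720d12cbf1135cea12481b1d03e04a0928660ca1c48e03910c9661213a918581fac1fe3d,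
  nat_lit 0x1d4d6733322c5ee2429b5c01e1c1720abe360f1ca963fab11c4400ba5464638bd892f4793cde2e62524086af45251f48404bc202e471c3065096f82d9605111bcfa694b9849a995a309a2252ea30f86a6e8286a3963afcc81861b496a5363410aa2c33ae972b8598b982d35ba44bca97610018fe4020560a03d2994aa47ca8828a84f8a0ee4e290a5a8986bc012aea4980964ee1f3f51ace873ac62200983616e80790954ab7f869b2cd0ea9ca04f4e8d224088805dee236d066150388b31b0275dc3c38c513041ac16242c59f062d86c56582b15d7a2a6026ca2793c271aa21073bdea5f0abe066fc76a0882ae1fa3c7b021d89191071b8c1927622b85123686ad85abc2c951349e3418da03a3836c98880fc20f6652d1f8dcc4391808ea14381c0c624192d0cad6f329ce7409045b80401a49f600,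
  nat_lit 0x371f2e74bad5ba12798e1f4068524406e53a0b2086f6f309b60f12b80d628760b468e342c2d70a01b1742a71340ea12bd39aa17ce47a01cc6e9619fc5e75474005cd587868d2ad0c3f800fb77070402386a85541d63a1956d36fab21c5206c05090209a9930f10136516c449418ac297b85d32d2320d534f015ae9441f88a9414e64fbe13877602c018b9333686e2428adcb8cf280891a656089c2ccd5dafde4557e08592c505b596c88641651e33273d40a6c04ab95ecc4b1520e08519c09a8a43b5d9c801917cfc890815d20b22d8394e4158979d0194d94d263e22a75b0822d0c0ec6276a78f08323930b0721f9e476bc1ea50f66d4a929024927898c0ef659f5ec3c3d1b9524675b8402ea353f4847c52044728c2598454b4200c486ca33b8a10482206d8cd47f85221038607a240482acda0d1,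
  nat_lit 0x275f4432c838c024283654621170808226112bdc24954868e8e6231ae12fb1629a00e3478f9e2fc5f88e21026a04a22130a910649f7a0e9caf90f8a4624e819d8da4553b489e8a37184769e352a964cf4497cca9b2dbbd5c5452358361d2518d76f72a8b530b82bc1cb4192b1f004ff1e190d07e39230fe0f4bbd94ac370288c48372094eadc1cb79d6b93d3d52a0728ac59a70790211a8125a65bb06740c0f287540459c17583fa14916035e16d5891bcee8e76a0178ee1a2d0fadb74974660c5e8ac6a4082051842f05249988863b04cc0359adcce183db21268526814f108873192cca73804d2f03981a0ac5023cc00ec68c30a4b61ba1838da6c405960d0b0e1747187b1016d056af850e2481b03c5c6f930a6c95aab1a62a55c3412104225084a15022c6c274d1208efd75209383f2c179f03d,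
  nat_lit 0x271c0475386d12ea1f0ba22423e9f0b0e17ebdcc6764d184d8a84f28df4251e2e8def4281e5700f069a9ce2c56b89f26721a0c4c9f71a517c6b522a4c09d3a3d60e7815bf88a272a1f87af8380d60cee0b0419cc02d8d82e190f8689639180c826ec743d972f158c281c2a2f22166de5e20114d6571941644330b544df74a94befc720040a753d9fcd0982c8d06f0c4995840cc85c0d1ac92d0305e915ebbd1ebb78420384014b08705c2943de6696e2589c220ab16045d24b116c8e84a409ed4421e9027272b2958cb0a2dc46cd63c39af05490090eb464074a2f26c44866065aa19b4a139b409aa00487806ab02215a27100048a6d94aafd19006ac121ac6189b54caf4bb4dfefb4cc048c076782022b261a0936aa45b48306e3237620482a890980a7330494eb58189dadb1d084ee3f2095c503b,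
  nat_lit 0x1ddd2ed1592c2c3a3c9f5f24c5b22082636dbb064f5581f810f07c445c0015e2992ce31f23de244631c0e63c4c81cd68723bf1c29f7a09202a30fa69129c360d214333d308f0eb0cb58762866205225d1892038522d928802a52184b47b77898ce715e8b530b82b0e0366e2bb35247f813144e1a0bb39fe836bbd94ac384a88200f7234224056402d14b9539252a1228978f823799d11aaa07351965c420d8a01350019187254ab0dab229a5d0a4d3ab693afd21aac58903b34db2227d33c8aad2a96592ae5f285a50d65008d42063ad61e035bacd76c40e8e5270b6ab709e1e45afe000a04bedb0e6880460a64023c800af68b89362e1b834ca6f34b95ba863041d74f733061bc25064113d0c7740e11066f885803560bf96854400bdce62743a904145443860681497c2a8e4a1089c3f2c2c48c3d,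
  nat_lit 0x1c8f4b62d1ac189e472b0cc56611c5486e26a1c548272854665d6035cb27b5ebd80cb91136d4a6a3ab247084650052e916cb30a8c74c0a1890f68af9a8ae27930fc79259cd1e5f14bb4b09b40bc0788c4ca2506e21fa750cb00010df2943b864b867442e926a237985469a6d3b092e1740c020475fbf06423872992a3d158dc2c702d8e500c51d098905107109e2fb7a4015e35361151ae688829d62c3e271fab27724888c680b9c35020922ce8f355c202ed817128aa1c1082dfcd553b38a0a11006d500d69c3620276ebd554f70238182df1a1da0cff75091c608791907cb37d44822cb8507616cf8380986367240e0a1301b4218d25c0141e1e4286114dc56b585abb5a9fcc6c80a2d0a425329e16ebc1d95c0ea084825bca9779a0da6066be1622f483a49c62820c4fa6923178809f0fa58a641,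
  nat_lit 0x3f5d49b76b8512e27781cdc760dc181d07068f08ee87c3fcf04853a904afe7bbda006a39114f8e66d829bc0207861f4f504a4cf6ae328ed80d24d43d9e0585930fa3e1ebe410812c0644ca30b231e2f430240621f182fd1e946cc24490e2d9697a20442e99cb8108e96cd36d109d8fb2f10106464fa64f4a05829a04e930a88be98400a0eed5158a44ea86b9250e6b782bc0c62349d51ab929ab46a2c099b0449645244d0ab5606986cd0a8060712021589e4d2c8cce2515bb08a850623318ad45e02c38d868b29a05d22249965c630e0a4b41a420aa12191cc4686471d09cb382a1508140e9fc2ea133045cee46e1912ea5862d590be1bb1e1a1e79a2c5e3664b045abb88429be035518dac2e38128de671c95e02e382001c11179375cafc4a9b564ee0612cf2eb21840829c152087e9d4f2c5527e,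
  nat_lit 0x3212096bc397e076d2da22066cb340104043f1caf214ab045027da8dd2f85007d1ef44b401e2ec0b21c2af027091f22339abe029f71848646b532c10c994742e0e0287b596e056234806255db260cbd068299cc0638bd8ad35d3096ac886af9980f67b0d72b86ac2982182688066de732b8eafe4019416712cb7d442d7d29542f7720a04e8a0e9fdb898333cc6e3a289a510137ab6d1a3545a706c9177374de701608438ab4d068705c290ac6856341415a6c7385d5084429505c747015524772ea5d546431988c24a24114ce7c2d86d4e3b279e0d46e1c9ed26762bbad6642259807c5f21918bc3c239307a401f92482442c250a67d4aa25187958b846031631b548833d065fe9e4e899a0ea743f504b27b04536812d1f854b4393bdda14483883c105e039971254b2a210386421a80468b600305]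
noncomputable def a_P (k u : ℕ) : ℕ := Nat.land (Nat.shiftRight (nth (nat_lit 0) a_Pd k) (Nat.mul u (nat_lit 9))) (nat_lit 511)
noncomputable def κ : List ℕ → ℕ := H15.CS.key (tot a_P 18) 275 H15.McL.B
noncomputable def y_W : Wl := [[nat_lit 8],
  [nat_lit 9]]
noncomputable def y_P : ℕ → ℕ → ℕ := wdsP a_P y_W
noncomputable def tyh_W : List (List ℕ) := [[nat_lit 4, nat_lit 2, nat_lit 0, nat_lit 2, nat_lit 1, nat_lit 0, nat_lit 1, nat_lit 3, nat_lit 1, nat_lit 2, nat_lit 0, nat_lit 1, nat_lit 2, nat_lit 3, nat_lit 4, nat_lit 3, nat_lit 2, nat_lit 0],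
  [nat_lit 1, nat_lit 2, nat_lit 1, nat_lit 0, nat_lit 1, nat_lit 2, nat_lit 0, nat_lit 1, nat_lit 3, nat_lit 1, nat_lit 4, nat_lit 3, nat_lit 2, nat_lit 0, nat_lit 1, nat_lit 4],
  [nat_lit 3, nat_lit 4, nat_lit 3, nat_lit 1, nat_lit 2, nat_lit 0, nat_lit 1, nat_lit 2, nat_lit 1, nat_lit 3, nat_lit 4],
  [nat_lit 1, nat_lit 2, nat_lit 0, nat_lit 1, nat_lit 0, nat_lit 1, nat_lit 3, nat_lit 2, nat_lit 0, nat_lit 1, nat_lit 4, nat_lit 3, nat_lit 1, nat_lit 2, nat_lit 1, nat_lit 0, nat_lit 1],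
  [nat_lit 1, nat_lit 4, nat_lit 1, nat_lit 3, nat_lit 2, nat_lit 0, nat_lit 4, nat_lit 3, nat_lit 1, nat_lit 2, nat_lit 0, nat_lit 3, nat_lit 2, nat_lit 4, nat_lit 3, nat_lit 5, nat_lit 4, nat_lit 5],
  [nat_lit 1, nat_lit 3, nat_lit 0, nat_lit 1, nat_lit 2, nat_lit 0, nat_lit 3, nat_lit 2, nat_lit 1, nat_lit 0, nat_lit 1, nat_lit 4, nat_lit 3, nat_lit 2, nat_lit 1, nat_lit 0, nat_lit 2, nat_lit 3, nat_lit 2, nat_lit 5, nat_lit 0, nat_lit 4, nat_lit 5],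
  [nat_lit 0],
  [nat_lit 2],
  [nat_lit 3],
  [nat_lit 0, nat_lit 1, nat_lit 2, nat_lit 0, nat_lit 3, nat_lit 1, nat_lit 2, nat_lit 1, nat_lit 4, nat_lit 3, nat_lit 2, nat_lit 1, nat_lit 0, nat_lit 2, nat_lit 3, nat_lit 1, nat_lit 0, nat_lit 4, nat_lit 5],
  [nat_lit 1],
  [nat_lit 4],
  [nat_lit 5],
  [nat_lit 1, nat_lit 3, nat_lit 1, nat_lit 2, nat_lit 0, nat_lit 1, nat_lit 3, nat_lit 1, nat_lit 4, nat_lit 3, nat_lit 1, nat_lit 2, nat_lit 0, nat_lit 1, nat_lit 0, nat_lit 2, nat_lit 3, nat_lit 5, nat_lit 4, nat_lit 1, nat_lit 5, nat_lit 2, nat_lit 5]]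
noncomputable def tyh_P : ℕ → ℕ → ℕ := wdsP H15.McL.P tyh_W
noncomputable def tyl0Dd : ℕ := nat_lit 0xe6ed6cb94c71c9ac62a6ea0dbd6b90ab2710b58b2ea95ae89d49498e846198e91087785b9de83180776e56c55e9539457b39a689054297c96e9608827c070b89d88f7428fe87371870a6a98aa89c88e84983b62c4e04d28037d974049a4621381a77cb7af7857e67d875b73f41c40e1ce0957bc79274c73e7307226b36445830c804b66c61959e54b53e64252f50659c58e4db45e25c04157f5715633fc3e00ac3a85705625474a24254173d139a37e37009e52b41638b35432a30e52a4bc36130044c2e41d04e44674223f82c82ac4c83b229028218a05827449e4213f73cd2b943c17c2584123f63e83cc3873b01360133a230922e0fe30822d2702ec21f2a627c2611d91cc1be1a21931861ca14013216813f1241160fa02e1ff1f11d51ac14c1070de1300eb09c0201d418f1221141060f80d00ea01202d1aa18e08007213b1120ce0c01560e80641480f50e701c1101020d90cc03a00e02b09801d0a500f0960600af08807a05f0520ae0a106c0510440a008604302c07704201e08406905b04e01004004c03f01a02601903102403001601501400c00b00a000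
noncomputable def tyl0D (u : ℕ) : ℕ := Nat.land (Nat.shiftRight tyl0Dd (Nat.mul u (nat_lit 12))) (nat_lit 4095)
noncomputable def tyl0Pd : ℕ := nat_lit 0x1e2327321a1cbf80035daf9478393a4b66a2580f083409180c791a462e533384e8093f9798c7e71b8908d962c308614498f03c045d2a576b66a068c8b041ba92aa63ba04f46f1482c7c8b88368d60852250b0ca07a8d58235a9491cd36427d685c609c0dc2e09065d87d4db81dc7c79c24e6110144584176b935626d6907df0de8089614ce00b10e50d5cbd92c1041018d8ff17a41bead2800e1e1d5e3a1fa077f371b0af7a2960e4e7aa840a8055b25342868a89ee5a338ec687b2644a0627502a872460c356089924b9d2e2a3cb31f69257228caa77d36cb3084884dd6a829b40aa415918986301997df8be31920e2202a070ac851f9809e3d2e9d96e210d859de3663b2cea455eba5ac355c0b014154e098b70543acc84786e8e8d05712278a2401b984710b3523456981111d10447233c942d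
noncomputable def tyl0P (u : ℕ) : ℕ := Nat.land (Nat.shiftRight tyl0Pd (Nat.mul u (nat_lit 9))) (nat_lit 511)
noncomputable def tyl0Qd : ℕ := nat_lit 0x1a954cf44c3530ea062755c503ebfc386134bf93f0b4820d0a412c94e10a138a58f67f57bee230016ac612b526b684c862f43df00377bb9ecb246a802e8229339d88153894c4df6028ce64a01272065a15320ecbf15bc5d69a22aa57701861004e8770b8d2e2318b8186bd0d11d4adc4015d18c53b999c44c2a360fccb631c8f4675f04a0a1f599d4c0082ea55b2ca739609e8e83b0414fd6815a04050dc3870ed6da4dac7879bc168b036354b6186b8c852f556a647aba6a2e548916682df41537bdcaadd1f9181c36213c866bc0e9c0a2c90a0e4923b25b08228b1a9f14c6b82004be3e0319050047486490101bb4468e637058ca0d078b0486d21c41f24447ae0002204971a674340793c136201c603c51395103a17b796c63540b840e8272dd589463c1a14fc69085e8cc42248f2e4452ad3712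
noncomputable def tyl0Q (u : ℕ) : ℕ := Nat.land (Nat.shiftRight tyl0Qd (Nat.mul u (nat_lit 9))) (nat_lit 511)
noncomputable def tyl0 : Lev := ⟨275, 14, tyl0D, tyl0P, tyl0Q⟩
noncomputable def tyl1Dd : ℕ := nat_lit 0xc6bbce7f94e056187943db345711a6bd2a5621223f48b156561b6543ee388de1081a367f1f21f22c751fb728687752e13dd37c1c9215ab661a16d197635842098320d66570405955256d645455a51cb64a9500b5334a50c21128408313b8ed0d8230b0192a08a09cba2c01d2206b0cc560604e0384d05c4c0d01e024420a81f0540b080160481a0200701800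
noncomputable def tyl1D (u : ℕ) : ℕ := Nat.land (Nat.shiftRight tyl1Dd (Nat.mul u (nat_lit 10))) (nat_lit 1023)
noncomputable def tyl1Pd : ℕ := nat_lit 0x1d06484531a5160d630f95a9f70ba1cc7d788f014f008bd80cb13e2ea22184822524b05494cd7025fa9c12967723d0c2f041912ad57531506e7651f9f64d49c39b01a622bcbc624ea5062ec801dd720206004203567434088c209e9b2a561b019a79453d09c8048b3192507584c1eb281a08d8497aaacd49c4396c848d
noncomputable def tyl1P (u : ℕ) : ℕ := Nat.land (Nat.shiftRight tyl1Pd (Nat.mul u (nat_lit 9))) (nat_lit 511)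
noncomputable def tyl1Qd : ℕ := nat_lit 0x2a8000d910000000000000000173002b0000000720000001683960002fdc011c02c1efc0627984000000318000000000000eb500020000000000008cc9200ec880019df33360001a9600000015948000000000032c5064032800c0278095ace000000000c801784000000001220ae6f449d38c00020d25e900071406c7a2801400eb0570078c00540006e000000000000099a17500000004200c000000c4000040000000000009c000100055c00000040000000000004f80019805e0000000000120001b56808800000000000000000000000000000000000d005400000001c02da51a0342701764c3016402100a136f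
noncomputable def tyl1Q (u : ℕ) : ℕ := Nat.land (Nat.shiftRight tyl1Qd (Nat.mul u (nat_lit 7))) (nat_lit 127)
noncomputable def tyl1 : Lev := ⟨112, 10, tyl1D, tyl1P, tyl1Q⟩
noncomputable def tyl2Dd : ℕ := nat_lit 0xa592597a47514e3f3433302721321d171c111b1615100f140d0907080500
noncomputable def tyl2D (u : ℕ) : ℕ := Nat.land (Nat.shiftRight tyl2Dd (Nat.mul u (nat_lit 8))) (nat_lit 255)
noncomputable def tyl2Pd : ℕ := nat_lit 0x14ce17b0c800183f31180b00494c027d54b0c344145b6528e77da9e1cea3d444d6ba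
noncomputable def tyl2P (u : ℕ) : ℕ := Nat.land (Nat.shiftRight tyl2Pd (Nat.mul u (nat_lit 9))) (nat_lit 511)
noncomputable def tyl2Qd : ℕ := nat_lit 0x4001400000000000000000000003800006c00000000000001000400000038000000001400000000000000000000000016700150000000000000000001400000001e03740000000000000000000009000000000058000000000000005e0000c00000000000000000080000000000000000000000000000900000000000000000000018000000000000000006800000000000000000000000000003418000000000000000002600000000239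
noncomputable def tyl2Q (u : ℕ) : ℕ := Nat.land (Nat.shiftRight tyl2Qd (Nat.mul u (nat_lit 5))) (nat_lit 31)
noncomputable def tyl2 : Lev := ⟨30, 6, tyl2D, tyl2P, tyl2Q⟩
noncomputable def tyl3Dd : ℕ := nat_lit 0x1b27d7951623b850d8ac4ca8c132838b0d222c4880c1c200
noncomputable def tyl3D (u : ℕ) : ℕ := Nat.land (Nat.shiftRight tyl3Dd (Nat.mul u (nat_lit 7))) (nat_lit 127)
noncomputable def tyl3Pd : ℕ := nat_lit 0x4461cea35804a6c0459e9f6943e8694e4173b0cfcd958311520919061c200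
noncomputable def tyl3P (u : ℕ) : ℕ := Nat.land (Nat.shiftRight tyl3Pd (Nat.mul u (nat_lit 9))) (nat_lit 511)
noncomputable def tyl3Qd : ℕ := nat_lit 0x34006400000000000000000000008800000000000000000006000580000002000000001000000000000000000000000006500140000000000000000000700000000a068000000000000000000000100000000000980000000000000025e004800000000000000000b80000000000000000000000000000a80000000000000000000018000000000000000000c000000000000000000000000000038020000000000000000008000000002c0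
noncomputable def tyl3Q (u : ℕ) : ℕ := Nat.land (Nat.shiftRight tyl3Qd (Nat.mul u (nat_lit 5))) (nat_lit 31)
noncomputable def tyl3 : Lev := ⟨27, 5, tyl3D, tyl3P, tyl3Q⟩
noncomputable def tyl4Dd : ℕ := nat_lit 0xc
noncomputable def tyl4D (u : ℕ) : ℕ := Nat.land (Nat.shiftRight tyl4Dd (Nat.mul u (nat_lit 2))) (nat_lit 3)
noncomputable def tyl4Pd : ℕ := nat_lit 0x41c3
noncomputable def tyl4P (u : ℕ) : ℕ := Nat.land (Nat.shiftRight tyl4Pd (Nat.mul u (nat_lit 8))) (nat_lit 255)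
noncomputable def tyl4Qd : ℕ := nat_lit 0x20000000000000000
noncomputable def tyl4Q (u : ℕ) : ℕ := Nat.land (Nat.shiftRight tyl4Qd (Nat.mul u (nat_lit 1))) (nat_lit 1)
noncomputable def tyl4 : Lev := ⟨2, 4, tyl4D, tyl4P, tyl4Q⟩
noncomputable def tyl5Dd : ℕ := nat_lit 0x105986820440
noncomputable def tyl5D (u : ℕ) : ℕ := Nat.land (Nat.shiftRight tyl5Dd (Nat.mul u (nat_lit 5))) (nat_lit 31)
noncomputable def tyl5Pd : ℕ := nat_lit 0x542a157be9fa471d3d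
noncomputable def tyl5P (u : ℕ) : ℕ := Nat.land (Nat.shiftRight tyl5Pd (Nat.mul u (nat_lit 8))) (nat_lit 255)
noncomputable def tyl5Qd : ℕ := nat_lit 0x30000000000000000400000000000000000000000000000000000000000000000000000000000000000000000000000000000000000000000000000000000005000000000000000000000000000000000000008000000000000200000000000000000000000000007000000000000100000006000000000000000000000
noncomputable def tyl5Q (u : ℕ) : ℕ := Nat.land (Nat.shiftRight tyl5Qd (Nat.mul u (nat_lit 4))) (nat_lit 15)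
noncomputable def tyl5 : Lev := ⟨9, 3, tyl5D, tyl5P, tyl5Q⟩
noncomputable def tyl6Dd : ℕ := nat_lit 0
noncomputable def tyl6D (u : ℕ) : ℕ := Nat.land (Nat.shiftRight tyl6Dd (Nat.mul u (nat_lit 1))) (nat_lit 1)
noncomputable def tyl6Pd : ℕ := nat_lit 0xfb01
noncomputable def tyl6P (u : ℕ) : ℕ := Nat.land (Nat.shiftRight tyl6Pd (Nat.mul u (nat_lit 8))) (nat_lit 255)
noncomputable def tyl6Qd : ℕ := nat_lit 0x800000000000000000000000000000000000000000000000000000000000000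
noncomputable def tyl6Q (u : ℕ) : ℕ := Nat.land (Nat.shiftRight tyl6Qd (Nat.mul u (nat_lit 1))) (nat_lit 1)
noncomputable def tyl6 : Lev := ⟨2, 1, tyl6D, tyl6P, tyl6Q⟩
noncomputable def cye_W : List (List ℕ) := [[nat_lit 4, nat_lit 0, nat_lit 2, nat_lit 0, nat_lit 1, nat_lit 0, nat_lit 1, nat_lit 3, nat_lit 1, nat_lit 2, nat_lit 0, nat_lit 1, nat_lit 2, nat_lit 3, nat_lit 4, nat_lit 3, nat_lit 2, nat_lit 0],
  [nat_lit 4, nat_lit 1, nat_lit 0, nat_lit 2, nat_lit 1, nat_lit 0, nat_lit 1, nat_lit 3, nat_lit 2, nat_lit 1, nat_lit 0, nat_lit 3, nat_lit 2, nat_lit 4, nat_lit 3, nat_lit 2, nat_lit 0, nat_lit 1, nat_lit 5, nat_lit 0, nat_lit 4, nat_lit 3],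
  [nat_lit 1, nat_lit 2, nat_lit 1, nat_lit 0, nat_lit 1, nat_lit 2, nat_lit 0, nat_lit 1, nat_lit 0, nat_lit 3, nat_lit 1, nat_lit 2, nat_lit 0, nat_lit 1, nat_lit 2, nat_lit 4, nat_lit 3, nat_lit 5, nat_lit 4],
  [nat_lit 1, nat_lit 2, nat_lit 1, nat_lit 0, nat_lit 1, nat_lit 2, nat_lit 1, nat_lit 0, nat_lit 3, nat_lit 2, nat_lit 1, nat_lit 3, nat_lit 4, nat_lit 3, nat_lit 2, nat_lit 1, nat_lit 3, nat_lit 5, nat_lit 2, nat_lit 3, nat_lit 1, nat_lit 2]]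
noncomputable def cye_P : ℕ → ℕ → ℕ := wdsP H15.McL.P cye_W
noncomputable def cyc6Dd : ℕ := nat_lit 0
noncomputable def cyc6D (u : ℕ) : ℕ := Nat.land (Nat.shiftRight cyc6Dd (Nat.mul u (nat_lit 1))) (nat_lit 1)
noncomputable def cyc6Pd : ℕ := nat_lit 0xfb01
noncomputable def cyc6P (u : ℕ) : ℕ := Nat.land (Nat.shiftRight cyc6Pd (Nat.mul u (nat_lit 8))) (nat_lit 255)
noncomputable def cyc6Qd : ℕ := nat_lit 0x800000000000000000000000000000000000000000000000000000000000000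
noncomputable def cyc6Q (u : ℕ) : ℕ := Nat.land (Nat.shiftRight cyc6Qd (Nat.mul u (nat_lit 1))) (nat_lit 1)
noncomputable def cyc6 : Lev := ⟨2, 1, cyc6D, cyc6P, cyc6Q⟩
noncomputable def tyn0Fd : ℕ := nat_lit 0
noncomputable def tyn0F (u : ℕ) : ℕ := Nat.land (Nat.shiftRight tyn0Fd (Nat.mul u (nat_lit 1))) (nat_lit 1)
noncomputable def tyn0 : Nd := ⟨tyn0F, (nat_lit 2), (nat_lit 1), [], [((nat_lit 0), [])], []⟩
noncomputable def cyc3Dd : ℕ := nat_lit 0x2eaf0bdf9e371d69355035244a30b1c41850c1080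
noncomputable def cyc3D (u : ℕ) : ℕ := Nat.land (Nat.shiftRight cyc3Dd (Nat.mul u (nat_lit 6))) (nat_lit 63)
noncomputable def cyc3Pd : ℕ := nat_lit 0x29cf47d62061ce3270bec02d94590412a93f069d4c3872c0d69460444a600
noncomputable def cyc3P (u : ℕ) : ℕ := Nat.land (Nat.shiftRight cyc3Pd (Nat.mul u (nat_lit 9))) (nat_lit 511)
noncomputable def cyc3Qd : ℕ := nat_lit 0x4001c00000000000000000000009000000000000000000002400a8000002600000000200000000000000000000000001740003000000000000000000060000000180d000000000000000000000004000000000078000000000000002f000640000000000000000028000000000000000000000000000008000000000000000000001c000000000000000005000000000000000000000000000002816000000000000000001a00000000220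
noncomputable def cyc3Q (u : ℕ) : ℕ := Nat.land (Nat.shiftRight cyc3Qd (Nat.mul u (nat_lit 5))) (nat_lit 31)
noncomputable def cyc3 : Lev := ⟨27, 3, cyc3D, cyc3P, cyc3Q⟩
noncomputable def tyn1Fd : ℕ := nat_lit 0
noncomputable def tyn1F (u : ℕ) : ℕ := Nat.land (Nat.shiftRight tyn1Fd (Nat.mul u (nat_lit 1))) (nat_lit 1)
noncomputable def tyn1 : Nd := ⟨tyn1F, (nat_lit 3), (nat_lit 3), [], [((nat_lit 0), [])], []⟩
noncomputable def cyc0Dd : ℕ := nat_lit 0x1d8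
noncomputable def cyc0D (u : ℕ) : ℕ := Nat.land (Nat.shiftRight cyc0Dd (Nat.mul u (nat_lit 3))) (nat_lit 7)
noncomputable def cyc0Pd : ℕ := nat_lit 0xba8d2d
noncomputable def cyc0P (u : ℕ) : ℕ := Nat.land (Nat.shiftRight cyc0Pd (Nat.mul u (nat_lit 8))) (nat_lit 255)
noncomputable def cyc0Qd : ℕ := nat_lit 0x2000000000000000000000040000000000000000000000000000000000000000000000000000000000000000000000
noncomputable def cyc0Q (u : ℕ) : ℕ := Nat.land (Nat.shiftRight cyc0Qd (Nat.mul u (nat_lit 2))) (nat_lit 3)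
noncomputable def cyc0 : Lev := ⟨3, 4, cyc0D, cyc0P, cyc0Q⟩
noncomputable def tyn2Fd : ℕ := nat_lit 0x7fffffffffff7fffffffffffffffffffffffffffffffffffffffffffffffffffffbfe
noncomputable def tyn2F (u : ℕ) : ℕ := Nat.land (Nat.shiftRight tyn2Fd (Nat.mul u (nat_lit 1))) (nat_lit 1)
noncomputable def tyn2 : Nd := ⟨tyn2F, (nat_lit 4), (nat_lit 4), [[nat_lit 0],
  [nat_lit 1]], [((nat_lit 0), [])], []⟩
noncomputable def z_W : Wl := [[nat_lit 0, nat_lit 1],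
  [nat_lit 2, nat_lit 0, nat_lit 3, nat_lit 2, nat_lit 0, nat_lit 3]]
noncomputable def z_P : ℕ → ℕ → ℕ := wdsP a_P z_W
noncomputable def tzh_W : List (List ℕ) := [[nat_lit 5, nat_lit 0, nat_lit 2, nat_lit 1, nat_lit 0, nat_lit 2, nat_lit 1, nat_lit 0, nat_lit 3, nat_lit 4, nat_lit 3, nat_lit 2, nat_lit 0, nat_lit 1, nat_lit 2, nat_lit 0, nat_lit 5, nat_lit 1],
  [nat_lit 3, nat_lit 5, nat_lit 0, nat_lit 2, nat_lit 4, nat_lit 3, nat_lit 5, nat_lit 2, nat_lit 0, nat_lit 4, nat_lit 5, nat_lit 3],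
  [nat_lit 5, nat_lit 4, nat_lit 0, nat_lit 2, nat_lit 0, nat_lit 1, nat_lit 0, nat_lit 2, nat_lit 4, nat_lit 3, nat_lit 2, nat_lit 0, nat_lit 1, nat_lit 2, nat_lit 0, nat_lit 5],
  [nat_lit 0, nat_lit 5, nat_lit 1, nat_lit 0, nat_lit 1, nat_lit 0, nat_lit 2, nat_lit 4, nat_lit 3, nat_lit 1, nat_lit 5, nat_lit 0, nat_lit 1, nat_lit 0, nat_lit 2, nat_lit 4, nat_lit 1, nat_lit 0],
  [nat_lit 0, nat_lit 1, nat_lit 3, nat_lit 1, nat_lit 2, nat_lit 0, nat_lit 3, nat_lit 5, nat_lit 2, nat_lit 0, nat_lit 3, nat_lit 1, nat_lit 0],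
  [nat_lit 0],
  [nat_lit 2, nat_lit 5, nat_lit 2, nat_lit 0, nat_lit 3, nat_lit 2, nat_lit 5, nat_lit 2],
  [nat_lit 1],
  [nat_lit 3],
  [nat_lit 5, nat_lit 2, nat_lit 0, nat_lit 3, nat_lit 2, nat_lit 1, nat_lit 4, nat_lit 3, nat_lit 1, nat_lit 2, nat_lit 3, nat_lit 5, nat_lit 0, nat_lit 1, nat_lit 0, nat_lit 2, nat_lit 4, nat_lit 1, nat_lit 0, nat_lit 3],
  [nat_lit 2],
  [nat_lit 4],
  [nat_lit 5],
  [nat_lit 5, nat_lit 1, nat_lit 3, nat_lit 2, nat_lit 1, nat_lit 0, nat_lit 2, nat_lit 3, nat_lit 1, nat_lit 0, nat_lit 1, nat_lit 4, nat_lit 3, nat_lit 2, nat_lit 5, nat_lit 0, nat_lit 2, nat_lit 0]]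
noncomputable def tzh_P : ℕ → ℕ → ℕ := wdsP H15.McL.P tzh_W
noncomputable def tzl0Dd : ℕ := nat_lit 0xdbbca0d35c9cbb0c8db257efb244a67019ffa7c9b9b73adba5093b911a264808cba0a9fc89366c8d87de83f97eaa19c39b5868a8560aa159618d67dc7977898c80d19f975f9c184a27675e4a789d8817f66d326a8d37f577869b1ea8c58b77776632ea75b3c76de6d05e66c26b43a26cf68a62a6c15bb1fc5d667b4ce31f65263654b5215136cd5904cd2e760c4955e24e81266792932852694862c25c524d5104093d23c42983ed26e09d0531eb3d13c32525df5014e53b505d4c93d01fe3a638b37d3620c456118939842f38a37c3533384c73c047346530e2e432916430d2ff3281431353d93502c612724913a3332e01e73251d92ed2df1cb0700650291ca1af1a132326f02501b3072f92612452001a02c115b0172b309b28927b1ff1e326d1d514003b1ac2350541b91ef1ab14c1d31161c509215703814a0de06614913b04a0cf0c102d1110ce0c00a507603c01f1030f50da0b209801110f0d90be02a10105504709608806801c04c0390bb0940860100ad09302e08301207807706c02b05e01d04304e02205b01404b03f01902302f01501300c00b00a000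
noncomputable def tzl0D (u : ℕ) : ℕ := Nat.land (Nat.shiftRight tzl0Dd (Nat.mul u (nat_lit 12))) (nat_lit 4095)
noncomputable def tzl0Pd : ℕ := nat_lit 0x2c208a6924c68f22ab60fc62538c9da391f944fe5c0ebd9603b6422c8aff21b7814761ab29acb31041db40514949c0ba73064665727af1ea3e684482e2156c3d83100189d9cee863f83eb74186d5c5386825645a280f6229a5d8915e54781ec1c8861005ee59142888eac648ad8b0e0220124d3482aa100f1d131124d74aadae1a2f415888c7585616124f30df1060e3cccc36849e08c9b68ac4c8df42b319aef0b0017a370c250c25f7dc09d00220aa488d55425d4640389298ebe27088dc581c39c58e27d159d45b088a9807a249cdc87c5299496b46ca85404809a344c6c341c0f29981a7e080c8032dfa955ca91b8084b1d4608647a705a67423d18cb80398cdf0112a3884fc3e8f17e7717275047248a1dd8236a17428e136c296af15b1a53074408c4d4db678bc3cf971b74d60d303954c06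
noncomputable def tzl0P (u : ℕ) : ℕ := Nat.land (Nat.shiftRight tzl0Pd (Nat.mul u (nat_lit 9))) (nat_lit 511)
noncomputable def tzl0Qd : ℕ := nat_lit 0x3798ad86d2c196d34c8591ea9772513c45239e858437c34882283d98c10955cbf9c2324943028bf423520a1d4d98546793339c04590399030e9443d80c3d063b4a70a50bc4e81b5643d16df05b550a86213c966fb368c5629d4b2edb25d129b102e261ba07e306804c2a547832514fd60b35b6b4512a8ec7383804ae3e38ad8a4512325c4436463109011390ec807e872b43eab1b8a89c9c7d4414abc0f0e10e33678841eae80c244e585f170928e123d074102d080de4a169a42e4c02834244b1a244ac8917420fa033e27c35003032170687218a16c0663aa04c7719ad48a62a9b8b6505aa35f2757b8a4ee7081b818c267e29e086740241e70d72c181c390508c6a6559179d6b76b13456c20e1a9b8ef68825fe9367281cc7f6ea0d341927a60bf11542f40844893d5943c17801d8af6b9e17482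
noncomputable def tzl0Q (u : ℕ) : ℕ := Nat.land (Nat.shiftRight tzl0Qd (Nat.mul u (nat_lit 9))) (nat_lit 511)
noncomputable def tzl0 : Lev := ⟨275, 14, tzl0D, tzl0P, tzl0Q⟩
noncomputable def tzl1Dd : ℕ := nat_lit 0x5ffdbfde0e5db1ec9f4dc76ceb871bb0e925f6a56818c9a6415689643e3788e19479f11910579ce73d8dd124c92fc31389bf6ad8e311a15c1976355c60ca61e49c6cda92498b481771792947c54474f842d01318f5314130f4eb084e129c33200c32247f0e09b2441e21c6908817034611604e024571345f10c0a0584b0600e0540b068100981203c0801c00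
noncomputable def tzl1D (u : ℕ) : ℕ := Nat.land (Nat.shiftRight tzl1Dd (Nat.mul u (nat_lit 10))) (nat_lit 1023)
noncomputable def tzl1Pd : ℕ := nat_lit 0x5a6990930cb39825f58169a4ba2922c34de1b9885aae7f2887417793588ef71391068663f1fdc0356c0a14e1d1f970a2247a86c7c2b21840944b44080ec3910bb5150c282ee0e3337aa8ae3b308f482450f8385280322cdf1064d9e1be59479c0dcbc2ac4180892a2d0b0322b28dd4ee4e0b9cc772f16cc665240d82c4c
noncomputable def tzl1P (u : ℕ) : ℕ := Nat.land (Nat.shiftRight tzl1Pd (Nat.mul u (nat_lit 9))) (nat_lit 511)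
noncomputable def tzl1Qd : ℕ := nat_lit 0x160000034000000062800000000000016c0000000021a802180015c0000031b0000340000024000000004d3b80000000004b0158000019400001a8000000006d000000000034950000018659000000000124400067017000000b800092000001d68000000000b3fb80000000000d8000003600000c4d4a3b000000000000249d3c000000001e10e4000000001a5e64000000000001402230b79580d01c0460d98e115a3cb93018e2b3000000078f4003aa014527e014808f055005965c00be0a6516040000002ae8080012caa6000440001bba4e024008587580b004000000003e0098000de0000000000000000000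
noncomputable def tzl1Q (u : ℕ) : ℕ := Nat.land (Nat.shiftRight tzl1Qd (Nat.mul u (nat_lit 7))) (nat_lit 127)
noncomputable def tzl1 : Lev := ⟨112, 10, tzl1D, tzl1P, tzl1Q⟩
noncomputable def tzl2Dd : ℕ := nat_lit 0x220569aa65d287d9b06a4ba3ec85634f42396a3609e1dccc2f86c4e4b51506b1911d43c99248fa16051120e52107d340552ec6f1a0612d02d0f0ad27c4c0a891098831f04507c32070151802b0dc20064111101d0583d0401203c0a0241a020130340601400
noncomputable def tzl2D (u : ℕ) : ℕ := Nat.land (Nat.shiftRight tzl2Dd (Nat.mul u (nat_lit 10))) (nat_lit 1023)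
noncomputable def tzl2Pd : ℕ := nat_lit 0x36143958a96d1ed4af67fb2928ad5f35d92c349215a2cc5234d6a0482aae14b1878149ed503a5d9e142985602b285b503912683ce1ac704a58140d26a855012812bd8ce707a98300165b10f8c566a45f5110025426d9800090811
noncomputable def tzl2P (u : ℕ) : ℕ := Nat.land (Nat.shiftRight tzl2Pd (Nat.mul u (nat_lit 9))) (nat_lit 511)
noncomputable def tzl2Qd : ℕ := nat_lit 0x9040067390804ed40000001b80005d4838e0000000240000120000440000000000000000000280000000000000000000012c20084018267401ea35a005bc1f1a080405460e813c000010c00000000000001c8000a1a002c0224d6c02619004a4bb0000d00000000000000005c7834500fc500000000000000000001f010000000000000d940000000000000000000000000000000000000000000000000000000000000000000056000006200d800000000000000000000000000000000000000000000000000000000000000000000000000000000000250000011000152c0a600002600e000074f805e01938a008807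
noncomputable def tzl2Q (u : ℕ) : ℕ := Nat.land (Nat.shiftRight tzl2Qd (Nat.mul u (nat_lit 7))) (nat_lit 127)
noncomputable def tzl2 : Lev := ⟨81, 7, tzl2D, tzl2P, tzl2Q⟩
noncomputable def tzl3Dd : ℕ := nat_lit 0x926d4e835e597e743f3e402b322d2826362f1c312c171e19331b2216290f1f110d0a0c0e0805070b0906030400
noncomputable def tzl3D (u : ℕ) : ℕ := Nat.land (Nat.shiftRight tzl3Dd (Nat.mul u (nat_lit 8))) (nat_lit 255)
noncomputable def tzl3Pd : ℕ := nat_lit 0x211d23c963914880489b2b8b5445c2c90c66562c0f8dc613f0d07a3f0f97c323b6f169da2b6fc1890103b2e882453116c6e88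
noncomputable def tzl3P (u : ℕ) : ℕ := Nat.land (Nat.shiftRight tzl3Pd (Nat.mul u (nat_lit 9))) (nat_lit 511)
noncomputable def tzl3Qd : ℕ := nat_lit 0xa0000000000000000000000000000000000003400000000000000000002cf000000000000000000000000000000000000000000000000000006000000000000000000000000000000000021000000000900000000000000000a8000000000000000000000001700000000000700000000001900000000000000000360048002008e7db8dc000000000000000a4000900010078014051a54042ba000400167400000008803009c0000025000b264c0000000440000000000008000000000000000000000000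
noncomputable def tzl3Q (u : ℕ) : ℕ := Nat.land (Nat.shiftRight tzl3Qd (Nat.mul u (nat_lit 6))) (nat_lit 63)
noncomputable def tzl3 : Lev := ⟨45, 5, tzl3D, tzl3P, tzl3Q⟩
noncomputable def tzl4Dd : ℕ := nat_lit 0xcfd088
noncomputable def tzl4D (u : ℕ) : ℕ := Nat.land (Nat.shiftRight tzl4Dd (Nat.mul u (nat_lit 3))) (nat_lit 7)
noncomputable def tzl4Pd : ℕ := nat_lit 0x49ba5fe40f99a1
noncomputable def tzl4P (u : ℕ) : ℕ := Nat.land (Nat.shiftRight tzl4Pd (Nat.mul u (nat_lit 7))) (nat_lit 127)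
noncomputable def tzl4Qd : ℕ := nat_lit 0x100000000000180000000000000000000000000a00000000080000000200000000007003000000000000000000000000
noncomputable def tzl4Q (u : ℕ) : ℕ := Nat.land (Nat.shiftRight tzl4Qd (Nat.mul u (nat_lit 3))) (nat_lit 7)
noncomputable def tzl4 : Lev := ⟨8, 3, tzl4D, tzl4P, tzl4Q⟩
noncomputable def cze_W : List (List ℕ) := [[nat_lit 1, nat_lit 0, nat_lit 2, nat_lit 4, nat_lit 5, nat_lit 2, nat_lit 0, nat_lit 4, nat_lit 5, nat_lit 1, nat_lit 5],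
  [nat_lit 4, nat_lit 0, nat_lit 2, nat_lit 0, nat_lit 1, nat_lit 0, nat_lit 1, nat_lit 3, nat_lit 1, nat_lit 2, nat_lit 0, nat_lit 1, nat_lit 2, nat_lit 3, nat_lit 4, nat_lit 3, nat_lit 2, nat_lit 0]]
noncomputable def cze_P : ℕ → ℕ → ℕ := wdsP H15.McL.P cze_W
noncomputable def czc0Dd : ℕ := nat_lit 0xd0
noncomputable def czc0D (u : ℕ) : ℕ := Nat.land (Nat.shiftRight czc0Dd (Nat.mul u (nat_lit 2))) (nat_lit 3)
noncomputable def czc0Pd : ℕ := nat_lit 0xf0461006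
noncomputable def czc0P (u : ℕ) : ℕ := Nat.land (Nat.shiftRight czc0Pd (Nat.mul u (nat_lit 9))) (nat_lit 511)
noncomputable def czc0Qd : ℕ := nat_lit 0x1000000000000000000000000000000000000000000000000000000000000000000000000000000000000000000000000000000000000000000003000000800000000
noncomputable def czc0Q (u : ℕ) : ℕ := Nat.land (Nat.shiftRight czc0Qd (Nat.mul u (nat_lit 2))) (nat_lit 3)
noncomputable def czc0 : Lev := ⟨4, 2, czc0D, czc0P, czc0Q⟩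
noncomputable def tzn0Fd : ℕ := nat_lit 0x9a6954d169525249a4edb5545db5a6d2a93ad34d255349a48a49b75969949b55a2d5499a99293ac5b5b4596a9a6b25d495a8924a4dd66a4ca2d5251659a8b6e948da49049a513496c965aacba4d6a92ab25324da5124a29d26b6492492c9a89249249241349248
noncomputable def tzn0F (u : ℕ) : ℕ := Nat.land (Nat.shiftRight tzn0Fd (Nat.mul u (nat_lit 3))) (nat_lit 7)
noncomputable def tzn0 : Nd := ⟨tzn0F, (nat_lit 2), (nat_lit 2), [[nat_lit 0],
  [nat_lit 1, nat_lit 1]], [((nat_lit 0), []), ((nat_lit 0), [nat_lit 1])], []⟩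
noncomputable def dy_W : Wl := [[nat_lit 7, nat_lit 7, nat_lit 8, nat_lit 16, nat_lit 16],
  [nat_lit 7, nat_lit 8, nat_lit 8, nat_lit 9, nat_lit 16, nat_lit 16],
  [],
  [nat_lit 7, nat_lit 8, nat_lit 8, nat_lit 9, nat_lit 9],
  [nat_lit 7, nat_lit 7, nat_lit 9, nat_lit 16],
  [nat_lit 7, nat_lit 7],
  [nat_lit 7, nat_lit 9, nat_lit 16],
  [nat_lit 7, nat_lit 7, nat_lit 8, nat_lit 8, nat_lit 9, nat_lit 16, nat_lit 16],
  [nat_lit 7, nat_lit 8, nat_lit 8, nat_lit 16],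
  [nat_lit 8, nat_lit 16, nat_lit 16],
  [nat_lit 7, nat_lit 8, nat_lit 9],
  [nat_lit 7, nat_lit 7, nat_lit 8, nat_lit 8, nat_lit 9, nat_lit 9],
  [nat_lit 9, nat_lit 9, nat_lit 16, nat_lit 16],
  [nat_lit 7, nat_lit 9, nat_lit 9, nat_lit 16, nat_lit 16],
  [nat_lit 8, nat_lit 9, nat_lit 9, nat_lit 16],
  [nat_lit 7, nat_lit 7, nat_lit 8, nat_lit 9, nat_lit 9, nat_lit 16],
  [nat_lit 7, nat_lit 8, nat_lit 16, nat_lit 16],
  [nat_lit 7],
  [nat_lit 8, nat_lit 8, nat_lit 16],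
  [nat_lit 8, nat_lit 8, nat_lit 9, nat_lit 9],
  [nat_lit 8, nat_lit 9],
  [nat_lit 8, nat_lit 8, nat_lit 9, nat_lit 16, nat_lit 16],
  [nat_lit 7, nat_lit 8, nat_lit 9, nat_lit 9, nat_lit 16],
  [nat_lit 7, nat_lit 7, nat_lit 9, nat_lit 9, nat_lit 16, nat_lit 16],
  [nat_lit 7, nat_lit 7, nat_lit 8, nat_lit 9],
  [nat_lit 9, nat_lit 16],
  [nat_lit 7, nat_lit 7, nat_lit 8, nat_lit 8, nat_lit 16],
  [nat_lit 8, nat_lit 16, nat_lit 10],
  [nat_lit 8, nat_lit 9, nat_lit 9, nat_lit 10, nat_lit 7],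
  [nat_lit 10, nat_lit 16],
  [nat_lit 9, nat_lit 10],
  [nat_lit 8, nat_lit 8, nat_lit 9, nat_lit 9, nat_lit 10, nat_lit 7, nat_lit 16],
  [nat_lit 9, nat_lit 10, nat_lit 7],
  [nat_lit 7, nat_lit 10, nat_lit 16],
  [nat_lit 7, nat_lit 8, nat_lit 9, nat_lit 9, nat_lit 10],
  [nat_lit 7, nat_lit 8, nat_lit 8, nat_lit 9, nat_lit 16, nat_lit 10],
  [nat_lit 7, nat_lit 8, nat_lit 16, nat_lit 10],
  [nat_lit 8, nat_lit 9, nat_lit 10, nat_lit 7, nat_lit 16],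
  [nat_lit 7, nat_lit 8, nat_lit 8, nat_lit 9, nat_lit 9, nat_lit 10, nat_lit 16],
  [nat_lit 9, nat_lit 9, nat_lit 16, nat_lit 10, nat_lit 7],
  [nat_lit 9, nat_lit 9, nat_lit 16, nat_lit 10],
  [nat_lit 8, nat_lit 8, nat_lit 9, nat_lit 16, nat_lit 10],
  [nat_lit 8, nat_lit 16, nat_lit 10, nat_lit 7],
  [nat_lit 10, nat_lit 7, nat_lit 16],
  [nat_lit 8, nat_lit 8, nat_lit 10, nat_lit 7],
  [nat_lit 8, nat_lit 8, nat_lit 9, nat_lit 9, nat_lit 10, nat_lit 16],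
  [nat_lit 8, nat_lit 9, nat_lit 10, nat_lit 16],
  [nat_lit 8, nat_lit 8, nat_lit 10],
  [nat_lit 7, nat_lit 9, nat_lit 10],
  [nat_lit 7, nat_lit 9, nat_lit 9, nat_lit 16, nat_lit 10],
  [nat_lit 7, nat_lit 8, nat_lit 8, nat_lit 10],
  [nat_lit 7, nat_lit 8, nat_lit 9, nat_lit 10, nat_lit 16],
  [nat_lit 8, nat_lit 9, nat_lit 9, nat_lit 10],
  [nat_lit 8, nat_lit 8, nat_lit 9, nat_lit 16, nat_lit 10, nat_lit 7],
  [nat_lit 7, nat_lit 8, nat_lit 9, nat_lit 9, nat_lit 16, nat_lit 16],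
  [nat_lit 9, nat_lit 16, nat_lit 16],
  [nat_lit 7, nat_lit 7, nat_lit 8, nat_lit 8, nat_lit 9],
  [nat_lit 9, nat_lit 9],
  [nat_lit 8],
  [nat_lit 7, nat_lit 9, nat_lit 16, nat_lit 16],
  [nat_lit 7, nat_lit 8, nat_lit 8, nat_lit 9],
  [nat_lit 8, nat_lit 9, nat_lit 16],
  [nat_lit 16],
  [nat_lit 7, nat_lit 9, nat_lit 9],
  [nat_lit 7, nat_lit 7, nat_lit 8, nat_lit 9, nat_lit 9, nat_lit 16, nat_lit 16],
  [nat_lit 7, nat_lit 7, nat_lit 16],
  [nat_lit 7, nat_lit 7, nat_lit 8, nat_lit 8, nat_lit 9, nat_lit 9, nat_lit 16],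
  [nat_lit 7, nat_lit 7, nat_lit 8],
  [nat_lit 7, nat_lit 8, nat_lit 9, nat_lit 16],
  [nat_lit 7, nat_lit 8, nat_lit 8, nat_lit 9, nat_lit 9, nat_lit 16],
  [nat_lit 7, nat_lit 8, nat_lit 8, nat_lit 16, nat_lit 16],
  [nat_lit 8, nat_lit 8, nat_lit 16, nat_lit 16],
  [nat_lit 7, nat_lit 7, nat_lit 9, nat_lit 16, nat_lit 16],
  [nat_lit 7, nat_lit 7, nat_lit 8, nat_lit 8, nat_lit 16, nat_lit 16],
  [nat_lit 8, nat_lit 8, nat_lit 9, nat_lit 9, nat_lit 16],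
  [nat_lit 8, nat_lit 8, nat_lit 9],
  [nat_lit 7, nat_lit 8],
  [nat_lit 7, nat_lit 7, nat_lit 8, nat_lit 9, nat_lit 16],
  [nat_lit 7, nat_lit 7, nat_lit 9, nat_lit 9],
  [nat_lit 8, nat_lit 9, nat_lit 9, nat_lit 16, nat_lit 16],
  [nat_lit 7, nat_lit 16],
  [nat_lit 7, nat_lit 8, nat_lit 8, nat_lit 9, nat_lit 9, nat_lit 10],
  [nat_lit 7, nat_lit 8, nat_lit 8, nat_lit 9, nat_lit 10, nat_lit 16],
  [nat_lit 9, nat_lit 9, nat_lit 10, nat_lit 16],
  [nat_lit 7, nat_lit 9, nat_lit 16, nat_lit 10],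
  [nat_lit 8, nat_lit 10, nat_lit 16],
  [nat_lit 8, nat_lit 8, nat_lit 9, nat_lit 10, nat_lit 7, nat_lit 16],
  [nat_lit 8, nat_lit 8, nat_lit 9, nat_lit 9, nat_lit 10, nat_lit 7],
  [nat_lit 8, nat_lit 9, nat_lit 10, nat_lit 7],
  [nat_lit 9, nat_lit 16, nat_lit 10, nat_lit 7],
  [nat_lit 9, nat_lit 9, nat_lit 10, nat_lit 7, nat_lit 16],
  [nat_lit 7, nat_lit 10],
  [nat_lit 8, nat_lit 8, nat_lit 16, nat_lit 10, nat_lit 7],
  [nat_lit 8, nat_lit 8, nat_lit 9, nat_lit 9, nat_lit 10],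
  [nat_lit 8, nat_lit 9, nat_lit 10],
  [nat_lit 8, nat_lit 9, nat_lit 9, nat_lit 16, nat_lit 10],
  [nat_lit 7, nat_lit 8, nat_lit 10, nat_lit 16],
  [nat_lit 7, nat_lit 8, nat_lit 9, nat_lit 9, nat_lit 16, nat_lit 10],
  [nat_lit 8, nat_lit 8, nat_lit 16, nat_lit 10],
  [nat_lit 10, nat_lit 7],
  [nat_lit 10],
  [nat_lit 8, nat_lit 9, nat_lit 9, nat_lit 16, nat_lit 10, nat_lit 7],
  [nat_lit 8, nat_lit 8, nat_lit 9, nat_lit 10, nat_lit 16],
  [nat_lit 8, nat_lit 10, nat_lit 7, nat_lit 16],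
  [nat_lit 7, nat_lit 8, nat_lit 9, nat_lit 10],
  [nat_lit 7, nat_lit 9, nat_lit 9, nat_lit 10, nat_lit 16],
  [nat_lit 9, nat_lit 16, nat_lit 10],
  [nat_lit 7, nat_lit 8, nat_lit 8, nat_lit 16, nat_lit 10],
  [nat_lit 7, nat_lit 8, nat_lit 10],
  [nat_lit 8, nat_lit 8, nat_lit 9, nat_lit 10, nat_lit 7],
  [nat_lit 7, nat_lit 8, nat_lit 8, nat_lit 10, nat_lit 16],
  [nat_lit 8, nat_lit 9, nat_lit 9, nat_lit 10, nat_lit 16],
  [nat_lit 8, nat_lit 9, nat_lit 16, nat_lit 10],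
  [nat_lit 16, nat_lit 10],
  [nat_lit 9, nat_lit 10, nat_lit 16],
  [nat_lit 7, nat_lit 8, nat_lit 8, nat_lit 9, nat_lit 10],
  [nat_lit 7, nat_lit 9, nat_lit 10, nat_lit 16],
  [nat_lit 8, nat_lit 8, nat_lit 10, nat_lit 16],
  [nat_lit 8, nat_lit 10],
  [nat_lit 9, nat_lit 9, nat_lit 10],
  [nat_lit 7, nat_lit 16, nat_lit 10],
  [nat_lit 7, nat_lit 8, nat_lit 8, nat_lit 9, nat_lit 9, nat_lit 16, nat_lit 10],
  [nat_lit 7, nat_lit 8, nat_lit 9, nat_lit 9, nat_lit 10, nat_lit 16],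
  [nat_lit 8, nat_lit 8, nat_lit 10, nat_lit 7, nat_lit 16],
  [nat_lit 9, nat_lit 9, nat_lit 10, nat_lit 7],
  [nat_lit 8, nat_lit 9, nat_lit 16, nat_lit 10, nat_lit 7],
  [nat_lit 8, nat_lit 10, nat_lit 7],
  [nat_lit 8, nat_lit 9, nat_lit 9, nat_lit 10, nat_lit 7, nat_lit 16],
  [nat_lit 8, nat_lit 8, nat_lit 9, nat_lit 9, nat_lit 16, nat_lit 10, nat_lit 7],
  [nat_lit 8, nat_lit 8, nat_lit 9, nat_lit 10],
  [nat_lit 8, nat_lit 8, nat_lit 9, nat_lit 9, nat_lit 16, nat_lit 10],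
  [nat_lit 7, nat_lit 9, nat_lit 9, nat_lit 10],
  [nat_lit 7, nat_lit 8, nat_lit 9, nat_lit 16, nat_lit 10],
  [nat_lit 9, nat_lit 10, nat_lit 7, nat_lit 16],
  [nat_lit 16, nat_lit 10, nat_lit 7],
  [nat_lit 8, nat_lit 16],
  [nat_lit 7, nat_lit 7, nat_lit 8, nat_lit 8, nat_lit 9, nat_lit 9, nat_lit 16, nat_lit 16],
  [nat_lit 7, nat_lit 7, nat_lit 8, nat_lit 8],
  [nat_lit 8, nat_lit 9, nat_lit 9],
  [nat_lit 7, nat_lit 8, nat_lit 8, nat_lit 9, nat_lit 9, nat_lit 16, nat_lit 16],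
  [nat_lit 7, nat_lit 8, nat_lit 9, nat_lit 16, nat_lit 16],
  [nat_lit 9],
  [nat_lit 7, nat_lit 7, nat_lit 16, nat_lit 16],
  [nat_lit 7, nat_lit 7, nat_lit 8, nat_lit 8, nat_lit 9, nat_lit 16],
  [nat_lit 7, nat_lit 7, nat_lit 8, nat_lit 16],
  [nat_lit 7, nat_lit 7, nat_lit 9],
  [nat_lit 8, nat_lit 8, nat_lit 9, nat_lit 9, nat_lit 16, nat_lit 16],
  [nat_lit 8, nat_lit 8],
  [nat_lit 7, nat_lit 9, nat_lit 9, nat_lit 16],
  [nat_lit 7, nat_lit 7, nat_lit 8, nat_lit 9, nat_lit 9],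
  [nat_lit 7, nat_lit 8, nat_lit 8],
  [nat_lit 9, nat_lit 9, nat_lit 16],
  [nat_lit 8, nat_lit 9, nat_lit 16, nat_lit 16],
  [nat_lit 8, nat_lit 8, nat_lit 9, nat_lit 16],
  [nat_lit 7, nat_lit 8, nat_lit 16],
  [nat_lit 7, nat_lit 8, nat_lit 9, nat_lit 9],
  [nat_lit 7, nat_lit 16, nat_lit 16],
  [nat_lit 16, nat_lit 16],
  [nat_lit 7, nat_lit 7, nat_lit 9, nat_lit 9, nat_lit 16],
  [nat_lit 7, nat_lit 7, nat_lit 8, nat_lit 9, nat_lit 16, nat_lit 16],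
  [nat_lit 7, nat_lit 9],
  [nat_lit 7, nat_lit 8, nat_lit 8, nat_lit 9, nat_lit 16]]
noncomputable def dz_W : Wl := [[],
  [nat_lit 10],
  [nat_lit 10, nat_lit 17],
  [nat_lit 17]]
noncomputable def Rs : Pl := [([nat_lit 0, nat_lit 1, nat_lit 0], [nat_lit 1]), ([nat_lit 3, nat_lit 2, nat_lit 0, nat_lit 2, nat_lit 3, nat_lit 0], [nat_lit 0, nat_lit 3, nat_lit 2, nat_lit 0, nat_lit 2, nat_lit 3, nat_lit 4])]
noncomputable def tr_W : Wl := [[nat_lit 5, nat_lit 0, nat_lit 4, nat_lit 1],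
  [nat_lit 17, nat_lit 5, nat_lit 0, nat_lit 4, nat_lit 1]]
noncomputable def Tb : Wl := [[nat_lit 0],
  [nat_lit 1],
  [nat_lit 2, nat_lit 0, nat_lit 3, nat_lit 0, nat_lit 2],
  [nat_lit 3, nat_lit 0, nat_lit 2, nat_lit 0, nat_lit 3],
  [nat_lit 17, nat_lit 5, nat_lit 0, nat_lit 4, nat_lit 1],
  [nat_lit 6],
  [nat_lit 5]]
noncomputable def Q0 : List ℕ := [nat_lit 6, nat_lit 1, nat_lit 3, nat_lit 0, nat_lit 2, nat_lit 0, nat_lit 3, nat_lit 0, nat_lit 2, nat_lit 1, nat_lit 3, nat_lit 4, nat_lit 1, nat_lit 4, nat_lit 3, nat_lit 4, nat_lit 2, nat_lit 0, nat_lit 4, nat_lit 2, nat_lit 4, nat_lit 3, nat_lit 4, nat_lit 1, nat_lit 4, nat_lit 3, nat_lit 1, nat_lit 2, nat_lit 0, nat_lit 3, nat_lit 0, nat_lit 2, nat_lit 0, nat_lit 3, nat_lit 1, nat_lit 5]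
noncomputable def ca : List ℕ := [nat_lit 3, nat_lit 2, nat_lit 1, nat_lit 0, nat_lit 4, nat_lit 0, nat_lit 2, nat_lit 1, nat_lit 4, nat_lit 3, nat_lit 1, nat_lit 2, nat_lit 3, nat_lit 0, nat_lit 1, nat_lit 0, nat_lit 4, nat_lit 2, nat_lit 1]
noncomputable def cb : List ℕ := [nat_lit 0, nat_lit 1, nat_lit 4, nat_lit 3, nat_lit 4, nat_lit 3, nat_lit 2, nat_lit 1, nat_lit 0, nat_lit 3, nat_lit 0, nat_lit 2, nat_lit 4, nat_lit 3, nat_lit 0, nat_lit 1, nat_lit 4]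
noncomputable def Wg : Wl := [[nat_lit 2, nat_lit 0, nat_lit 3, nat_lit 1, nat_lit 0, nat_lit 3, nat_lit 1, nat_lit 2, nat_lit 3],
  [nat_lit 3, nat_lit 2, nat_lit 1, nat_lit 3, nat_lit 0, nat_lit 1, nat_lit 3, nat_lit 0, nat_lit 2],
  [nat_lit 2, nat_lit 3, nat_lit 0, nat_lit 2, nat_lit 3],
  [nat_lit 2, nat_lit 3, nat_lit 1, nat_lit 0, nat_lit 2, nat_lit 0, nat_lit 1, nat_lit 2, nat_lit 3]]
noncomputable def W8 : Wl := [[nat_lit 0],
  [nat_lit 1],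
  [nat_lit 2],
  [nat_lit 3],
  [],
  [nat_lit 2, nat_lit 3, nat_lit 2, nat_lit 3],
  [nat_lit 2, nat_lit 3, nat_lit 0, nat_lit 2, nat_lit 3]]
noncomputable def UK : Wl := [[nat_lit 0],
  [nat_lit 1],
  [nat_lit 2],
  [nat_lit 3],
  [nat_lit 4],
  [nat_lit 1, nat_lit 0, nat_lit 4, nat_lit 1, nat_lit 0, nat_lit 4],
  [nat_lit 4, nat_lit 0, nat_lit 1, nat_lit 4, nat_lit 0, nat_lit 1]]

theorem m_m_a : allZ2 (matEnt (wdsP H15.McL.P H1.Mc.WM) m_P) (nat_lit 7) (nat_lit 275) = true := by decide +kernel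
theorem a_m_a : allZ2 (matEnt (wdsP m_P Lw) a_P) (nat_lit 18) (nat_lit 275) = true := by decide +kernel
theorem lw : allL (ltAll 7) Lw = true := by decide +kernel
theorem y_lt : allL (ltAll 18) y_W = true := by decide +kernel
theorem tyh_lt : allL (ltAll 6) tyh_W = true := by decide +kernel
theorem tyl0_e_0 : allZ (dent tyl0 tyh_P (nat_lit 275)) (nat_lit 0) (nat_lit 274) = true := by decide +kernel
theorem tyl0_h : 0 < tyl0.n ∧ 0 < tyl0.K ∧ tyl0.Pt 0 < 275 ∧ tyl0.Q (tyl0.Pt 0) = 0 := by decide +kernel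
theorem tyl1_e_0 : allZ (dent tyl1 tyh_P (nat_lit 275)) (nat_lit 0) (nat_lit 111) = true := by decide +kernel
theorem tyl1_h : 0 < tyl1.n ∧ 0 < tyl1.K ∧ tyl1.Pt 0 < 275 ∧ tyl1.Q (tyl1.Pt 0) = 0 := by decide +kernel
theorem tyl2_e_0 : allZ (dent tyl2 tyh_P (nat_lit 275)) (nat_lit 0) (nat_lit 29) = true := by decide +kernel
theorem tyl2_h : 0 < tyl2.n ∧ 0 < tyl2.K ∧ tyl2.Pt 0 < 275 ∧ tyl2.Q (tyl2.Pt 0) = 0 := by decide +kernel
theorem tyl3_e_0 : allZ (dent tyl3 tyh_P (nat_lit 275)) (nat_lit 0) (nat_lit 26) = true := by decide +kernel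
theorem tyl3_h : 0 < tyl3.n ∧ 0 < tyl3.K ∧ tyl3.Pt 0 < 275 ∧ tyl3.Q (tyl3.Pt 0) = 0 := by decide +kernel
theorem tyl4_e_0 : allZ (dent tyl4 tyh_P (nat_lit 275)) (nat_lit 0) (nat_lit 1) = true := by decide +kernel
theorem tyl4_h : 0 < tyl4.n ∧ 0 < tyl4.K ∧ tyl4.Pt 0 < 275 ∧ tyl4.Q (tyl4.Pt 0) = 0 := by decide +kernel
theorem tyl5_e_0 : allZ (dent tyl5 tyh_P (nat_lit 275)) (nat_lit 0) (nat_lit 8) = true := by decide +kernel
theorem tyl5_h : 0 < tyl5.n ∧ 0 < tyl5.K ∧ tyl5.Pt 0 < 275 ∧ tyl5.Q (tyl5.Pt 0) = 0 := by decide +kernel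
theorem tyl6_e_0 : allZ (dent tyl6 tyh_P (nat_lit 275)) (nat_lit 0) (nat_lit 1) = true := by decide +kernel
theorem tyl6_h : 0 < tyl6.n ∧ 0 < tyl6.K ∧ tyl6.Pt 0 < 275 ∧ tyl6.Q (tyl6.Pt 0) = 0 := by decide +kernel
theorem ty_f6 : (Nat.ble tyl6.K 14 && Nat.ble (topK []) tyl6.K && fixLetters tyh_P (topK []) (tyl6.Pt 0)) = true := by decide +kernel
theorem ty_f5 : (Nat.ble tyl5.K 14 && Nat.ble (topK [tyl6]) tyl5.K && fixLetters tyh_P (topK [tyl6]) (tyl5.Pt 0)) = true := by decide +kernel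
theorem ty_f4 : (Nat.ble tyl4.K 14 && Nat.ble (topK [tyl5, tyl6]) tyl4.K && fixLetters tyh_P (topK [tyl5, tyl6]) (tyl4.Pt 0)) = true := by decide +kernel
theorem ty_f3 : (Nat.ble tyl3.K 14 && Nat.ble (topK [tyl4, tyl5, tyl6]) tyl3.K && fixLetters tyh_P (topK [tyl4, tyl5, tyl6]) (tyl3.Pt 0)) = true := by decide +kernel
theorem ty_f2 : (Nat.ble tyl2.K 14 && Nat.ble (topK [tyl3, tyl4, tyl5, tyl6]) tyl2.K && fixLetters tyh_P (topK [tyl3, tyl4, tyl5, tyl6]) (tyl2.Pt 0)) = true := by decide +kernel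
theorem ty_f1 : (Nat.ble tyl1.K 14 && Nat.ble (topK [tyl2, tyl3, tyl4, tyl5, tyl6]) tyl1.K && fixLetters tyh_P (topK [tyl2, tyl3, tyl4, tyl5, tyl6]) (tyl1.Pt 0)) = true := by decide +kernel
theorem ty_f0 : (Nat.ble tyl0.K 14 && Nat.ble (topK [tyl1, tyl2, tyl3, tyl4, tyl5, tyl6]) tyl0.K && fixLetters tyh_P (topK [tyl1, tyl2, tyl3, tyl4, tyl5, tyl6]) (tyl0.Pt 0)) = true := by decide +kernel
theorem ty_c : chainCard [tyl0, tyl1, tyl2, tyl3, tyl4, tyl5, tyl6] = 898128000 := by decide +kernel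
theorem cye_lt : allL (ltAll 6) cye_W = true := by decide +kernel
theorem cyc6_e_0 : allZ (dent cyc6 cye_P (nat_lit 275)) (nat_lit 0) (nat_lit 1) = true := by decide +kernel
theorem cyc6_h : 0 < cyc6.n ∧ 0 < cyc6.K ∧ cyc6.Pt 0 < 275 ∧ cyc6.Q (cyc6.Pt 0) = 0 := by decide +kernel
theorem tyn0_0 : (Nat.ble tyl6.K 14 && Nat.beq (ltAll 275 [tyl5.Pt 0, tyl4.Pt 0, tyl3.Pt 0, tyl2.Pt 0, tyl1.Pt 0, tyl0.Pt 0]) 0 && kChk cye_P y_P tyn0.Kn 2 H15.McL.B [tyl5.Pt 0, tyl4.Pt 0, tyl3.Pt 0, tyl2.Pt 0, tyl1.Pt 0, tyl0.Pt 0] && allL (ltAll 2) tyn0.pre && planOK tyh_P y_P 2 (tyl6.Pt 0) tyn0.plan [tyl6]) = true := by decide +kernel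
theorem tyn0_1_0 : allZ (tyn0.ent H15.McL.P tyh_P y_P y_P cye_P (nat_lit 6) (nat_lit 2) H15.McL.B tyl6 [] (memO cyc6)) (nat_lit 0) (nat_lit 2) = true := by decide +kernel
theorem cy_f6 : (Nat.ble cyc6.K 4 && Nat.ble (topK []) cyc6.K && Nat.beq (cyc6.Pt 0) (tyl6.Pt 0) && Nat.beq (ltAll 275 [tyl5.Pt 0, tyl4.Pt 0, tyl3.Pt 0, tyl2.Pt 0, tyl1.Pt 0, tyl0.Pt 0]) 0 && kChk cye_P y_P cyc6.K 2 H15.McL.B [tyl5.Pt 0, tyl4.Pt 0, tyl3.Pt 0, tyl2.Pt 0, tyl1.Pt 0, tyl0.Pt 0]) = true := by decide +kernel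
theorem cy_f5 : (Nat.ble tyl5.K 14 && Nat.blt (nat_lit 0) 275 && fixLetters tyh_P tyl5.K (nat_lit 0) && Nat.beq (ltAll 2 [nat_lit 1]) 0 && Nat.beq (apW y_P [nat_lit 1] (nat_lit 0)) (tyl5.Pt 0)) = true := by decide +kernel
theorem cy_f4 : (Nat.ble tyl4.K 14 && Nat.blt (nat_lit 0) 275 && fixLetters tyh_P tyl4.K (nat_lit 0) && Nat.beq (ltAll 2 [nat_lit 0]) 0 && Nat.beq (apW y_P [nat_lit 0] (nat_lit 0)) (tyl4.Pt 0)) = true := by decide +kernel
theorem cyc3_e_0 : allZ (dent cyc3 cye_P (nat_lit 275)) (nat_lit 0) (nat_lit 26) = true := by decide +kernel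
theorem cyc3_h : 0 < cyc3.n ∧ 0 < cyc3.K ∧ cyc3.Pt 0 < 275 ∧ cyc3.Q (cyc3.Pt 0) = 0 := by decide +kernel
theorem tyn1_0 : (Nat.ble tyl3.K 14 && Nat.beq (ltAll 275 [tyl2.Pt 0, tyl1.Pt 0, tyl0.Pt 0]) 0 && kChk cye_P y_P tyn1.Kn 2 H15.McL.B [tyl2.Pt 0, tyl1.Pt 0, tyl0.Pt 0] && allL (ltAll 2) tyn1.pre && planOK tyh_P y_P 2 (tyl3.Pt 0) tyn1.plan [tyl3, tyl4, tyl5, tyl6]) = true := by decide +kernel
theorem tyn1_1_0 : allZ (tyn1.ent H15.McL.P tyh_P y_P y_P cye_P (nat_lit 6) (nat_lit 2) H15.McL.B tyl3 [tyl4, tyl5, tyl6] (memO cyc3)) (nat_lit 0) (nat_lit 27) = true := by decide +kernel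
theorem cy_f3 : (Nat.ble cyc3.K 4 && Nat.ble (topK [cyc6]) cyc3.K && Nat.beq (cyc3.Pt 0) (tyl3.Pt 0) && Nat.beq (ltAll 275 [tyl2.Pt 0, tyl1.Pt 0, tyl0.Pt 0]) 0 && kChk cye_P y_P cyc3.K 2 H15.McL.B [tyl2.Pt 0, tyl1.Pt 0, tyl0.Pt 0]) = true := by decide +kernel
theorem cy_f2 : (Nat.ble tyl2.K 14 && Nat.blt (nat_lit 45) 275 && fixLetters tyh_P tyl2.K (nat_lit 45) && Nat.beq (ltAll 2 [nat_lit 1, nat_lit 1]) 0 && Nat.beq (apW y_P [nat_lit 1, nat_lit 1] (nat_lit 45)) (tyl2.Pt 0)) = true := by decide +kernel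
theorem cy_f1 : (Nat.ble tyl1.K 14 && Nat.blt (nat_lit 45) 275 && fixLetters tyh_P tyl1.K (nat_lit 45) && Nat.beq (ltAll 2 [nat_lit 1]) 0 && Nat.beq (apW y_P [nat_lit 1] (nat_lit 45)) (tyl1.Pt 0)) = true := by decide +kernel
theorem cyc0_e_0 : allZ (dent cyc0 cye_P (nat_lit 275)) (nat_lit 0) (nat_lit 2) = true := by decide +kernel
theorem cyc0_h : 0 < cyc0.n ∧ 0 < cyc0.K ∧ cyc0.Pt 0 < 275 ∧ cyc0.Q (cyc0.Pt 0) = 0 := by decide +kernel
theorem tyn2_0 : (Nat.ble tyl0.K 14 && Nat.beq (ltAll 275 []) 0 && kChk cye_P y_P tyn2.Kn 2 H15.McL.B [] && allL (ltAll 2) tyn2.pre && planOK tyh_P y_P 2 (tyl0.Pt 0) tyn2.plan [tyl0, tyl1, tyl2, tyl3, tyl4, tyl5, tyl6]) = true := by decide +kernel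
theorem tyn2_1_0 : allZ (tyn2.ent H15.McL.P tyh_P y_P y_P cye_P (nat_lit 6) (nat_lit 2) H15.McL.B tyl0 [tyl1, tyl2, tyl3, tyl4, tyl5, tyl6] (memO cyc0)) (nat_lit 0) (nat_lit 275) = true := by decide +kernel
theorem cy_f0 : (Nat.ble cyc0.K 4 && Nat.ble (topK [cyc3, cyc6]) cyc0.K && Nat.beq (cyc0.Pt 0) (tyl0.Pt 0) && Nat.beq (ltAll 275 []) 0 && kChk cye_P y_P cyc0.K 2 H15.McL.B []) = true := by decide +kernel
theorem cy_c : chainCard [cyc0, cyc3, cyc6] = 162 ∧ topK [cyc0, cyc3, cyc6] = 4 := by decide +kernel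
theorem z_lt : allL (ltAll 18) z_W = true := by decide +kernel
theorem tzh_lt : allL (ltAll 6) tzh_W = true := by decide +kernel
theorem tzl0_e_0 : allZ (dent tzl0 tzh_P (nat_lit 275)) (nat_lit 0) (nat_lit 274) = true := by decide +kernel
theorem tzl0_h : 0 < tzl0.n ∧ 0 < tzl0.K ∧ tzl0.Pt 0 < 275 ∧ tzl0.Q (tzl0.Pt 0) = 0 := by decide +kernel
theorem tzl1_e_0 : allZ (dent tzl1 tzh_P (nat_lit 275)) (nat_lit 0) (nat_lit 111) = true := by decide +kernel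
theorem tzl1_h : 0 < tzl1.n ∧ 0 < tzl1.K ∧ tzl1.Pt 0 < 275 ∧ tzl1.Q (tzl1.Pt 0) = 0 := by decide +kernel
theorem tzl2_e_0 : allZ (dent tzl2 tzh_P (nat_lit 275)) (nat_lit 0) (nat_lit 80) = true := by decide +kernel
theorem tzl2_h : 0 < tzl2.n ∧ 0 < tzl2.K ∧ tzl2.Pt 0 < 275 ∧ tzl2.Q (tzl2.Pt 0) = 0 := by decide +kernel
theorem tzl3_e_0 : allZ (dent tzl3 tzh_P (nat_lit 275)) (nat_lit 0) (nat_lit 44) = true := by decide +kernel
theorem tzl3_h : 0 < tzl3.n ∧ 0 < tzl3.K ∧ tzl3.Pt 0 < 275 ∧ tzl3.Q (tzl3.Pt 0) = 0 := by decide +kernel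
theorem tzl4_e_0 : allZ (dent tzl4 tzh_P (nat_lit 275)) (nat_lit 0) (nat_lit 7) = true := by decide +kernel
theorem tzl4_h : 0 < tzl4.n ∧ 0 < tzl4.K ∧ tzl4.Pt 0 < 275 ∧ tzl4.Q (tzl4.Pt 0) = 0 := by decide +kernel
theorem tz_f4 : (Nat.ble tzl4.K 14 && Nat.ble (topK []) tzl4.K && fixLetters tzh_P (topK []) (tzl4.Pt 0)) = true := by decide +kernel
theorem tz_f3 : (Nat.ble tzl3.K 14 && Nat.ble (topK [tzl4]) tzl3.K && fixLetters tzh_P (topK [tzl4]) (tzl3.Pt 0)) = true := by decide +kernel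
theorem tz_f2 : (Nat.ble tzl2.K 14 && Nat.ble (topK [tzl3, tzl4]) tzl2.K && fixLetters tzh_P (topK [tzl3, tzl4]) (tzl2.Pt 0)) = true := by decide +kernel
theorem tz_f1 : (Nat.ble tzl1.K 14 && Nat.ble (topK [tzl2, tzl3, tzl4]) tzl1.K && fixLetters tzh_P (topK [tzl2, tzl3, tzl4]) (tzl1.Pt 0)) = true := by decide +kernel
theorem tz_f0 : (Nat.ble tzl0.K 14 && Nat.ble (topK [tzl1, tzl2, tzl3, tzl4]) tzl0.K && fixLetters tzh_P (topK [tzl1, tzl2, tzl3, tzl4]) (tzl0.Pt 0)) = true := by decide +kernel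
theorem tz_c : chainCard [tzl0, tzl1, tzl2, tzl3, tzl4] = 898128000 := by decide +kernel
theorem cze_lt : allL (ltAll 6) cze_W = true := by decide +kernel
theorem cz_f4 : (Nat.ble tzl4.K 14 && Nat.blt (nat_lit 6) 275 && fixLetters tzh_P tzl4.K (nat_lit 6) && Nat.beq (ltAll 2 [nat_lit 1, nat_lit 1, nat_lit 1]) 0 && Nat.beq (apW z_P [nat_lit 1, nat_lit 1, nat_lit 1] (nat_lit 6)) (tzl4.Pt 0)) = true := by decide +kernel
theorem cz_f3 : (Nat.ble tzl3.K 14 && Nat.blt (nat_lit 6) 275 && fixLetters tzh_P tzl3.K (nat_lit 6) && Nat.beq (ltAll 2 [nat_lit 1, nat_lit 0]) 0 && Nat.beq (apW z_P [nat_lit 1, nat_lit 0] (nat_lit 6)) (tzl3.Pt 0)) = true := by decide +kernel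
theorem cz_f2 : (Nat.ble tzl2.K 14 && Nat.blt (nat_lit 6) 275 && fixLetters tzh_P tzl2.K (nat_lit 6) && Nat.beq (ltAll 2 [nat_lit 1, nat_lit 1]) 0 && Nat.beq (apW z_P [nat_lit 1, nat_lit 1] (nat_lit 6)) (tzl2.Pt 0)) = true := by decide +kernel
theorem cz_f1 : (Nat.ble tzl1.K 14 && Nat.blt (nat_lit 6) 275 && fixLetters tzh_P tzl1.K (nat_lit 6) && Nat.beq (ltAll 2 [nat_lit 1]) 0 && Nat.beq (apW z_P [nat_lit 1] (nat_lit 6)) (tzl1.Pt 0)) = true := by decide +kernel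
theorem czc0_e_0 : allZ (dent czc0 cze_P (nat_lit 275)) (nat_lit 0) (nat_lit 3) = true := by decide +kernel
theorem czc0_h : 0 < czc0.n ∧ 0 < czc0.K ∧ czc0.Pt 0 < 275 ∧ czc0.Q (czc0.Pt 0) = 0 := by decide +kernel
theorem tzn0_0 : (Nat.ble tzl0.K 14 && Nat.beq (ltAll 275 []) 0 && kChk cze_P z_P tzn0.Kn 2 H15.McL.B [] && allL (ltAll 2) tzn0.pre && planOK tzh_P z_P 2 (tzl0.Pt 0) tzn0.plan [tzl0, tzl1, tzl2, tzl3, tzl4]) = true := by decide +kernel
theorem tzn0_1_0 : allZ (tzn0.ent H15.McL.P tzh_P z_P z_P cze_P (nat_lit 6) (nat_lit 2) H15.McL.B tzl0 [tzl1, tzl2, tzl3, tzl4] (memO czc0)) (nat_lit 0) (nat_lit 275) = true := by decide +kernel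
theorem cz_f0 : (Nat.ble czc0.K 2 && Nat.ble (topK []) czc0.K && Nat.beq (czc0.Pt 0) (tzl0.Pt 0) && Nat.beq (ltAll 275 []) 0 && kChk cze_P z_P czc0.K 2 H15.McL.B []) = true := by decide +kernel
theorem cz_c : chainCard [czc0] = 4 ∧ topK [czc0] = 2 := by decide +kernel
theorem dy_a : dy_W.length = 162 ∧ incr κ dy_W 0 = true := by decide +kernel
theorem dy_b : allB (allB (mem [nat_lit 7, nat_lit 8, nat_lit 9, nat_lit 10, nat_lit 16])) dy_W = true ∧ allB (fun k => allB (fun Z => cjK κ [k] Z Z) [[nat_lit 8],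
  [nat_lit 9]]) [nat_lit 7, nat_lit 8, nat_lit 9, nat_lit 10, nat_lit 16] = true := by decide +kernel
theorem dz_a : dz_W.length = 4 ∧ incr κ dz_W 0 = true := by decide +kernel
theorem dz_b : allB (allB (mem [nat_lit 10, nat_lit 17])) dz_W = true ∧ allB (fun k => allB (fun Z => cjK κ [k] Z Z) [[nat_lit 0, nat_lit 1],
  [nat_lit 2, nat_lit 0, nat_lit 3, nat_lit 2, nat_lit 0, nat_lit 3]]) [nat_lit 10, nat_lit 17] = true := by decide +kernel
theorem rd : allB (fun W => anyB (fun p => !eqK κ (fl (W :: [[nat_lit 10],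
  [nat_lit 13],
  [nat_lit 14],
  [nat_lit 15]]) p.1) (fl (W :: [[nat_lit 10],
  [nat_lit 13],
  [nat_lit 14],
  [nat_lit 15]]) p.2)) Rs || anyB (eqK κ W) [[nat_lit 7],
  [nat_lit 7, nat_lit 7]]) dy_W = true := by decide +kernel
theorem tr : eqK κ (app [nat_lit 5, nat_lit 0, nat_lit 4, nat_lit 1] [nat_lit 5, nat_lit 0, nat_lit 4, nat_lit 1]) [] = true ∧ (List.length [[nat_lit 1, nat_lit 0, nat_lit 5],
  [nat_lit 3, nat_lit 1, nat_lit 2, nat_lit 0, nat_lit 2, nat_lit 1, nat_lit 0, nat_lit 3]] = List.length [[nat_lit 0, nat_lit 1],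
  [nat_lit 2, nat_lit 0, nat_lit 3, nat_lit 2, nat_lit 0, nat_lit 3]] ∧
    cjAll κ [nat_lit 5, nat_lit 0, nat_lit 4, nat_lit 1] [[nat_lit 1, nat_lit 0, nat_lit 5],
  [nat_lit 3, nat_lit 1, nat_lit 2, nat_lit 0, nat_lit 2, nat_lit 1, nat_lit 0, nat_lit 3]] [[nat_lit 0, nat_lit 1],
  [nat_lit 2, nat_lit 0, nat_lit 3, nat_lit 2, nat_lit 0, nat_lit 3]] = true) ∧ subK (fun W => eqK κ (rep W 2) []) (dz_W.map fun W => app W [nat_lit 5, nat_lit 0, nat_lit 4, nat_lit 1]) tr_W = true := by decide +kernel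
theorem kc : eqK κ [nat_lit 7, nat_lit 14, nat_lit 10, nat_lit 7, nat_lit 14] (fl Tb Q0) = false := by decide +kernel
theorem kd : eqK κ [nat_lit 7, nat_lit 7, nat_lit 7, nat_lit 7, nat_lit 7, nat_lit 7, nat_lit 7, nat_lit 7] [nat_lit 7] = false := by decide +kernel
theorem cm : cjK κ ca [8] [8] = true ∧ cjK κ cb [8] [8] = true ∧ eqK κ (app cb ca) (app ca (app cb [8])) = true := by decide +kernel
theorem lk : (∀ k < 4, eqL H15.McL.P 6 H15.McL.B (fl H1.Mc.WM (nth [] Wg k)) (nth [] H15.XTMcL.sub_W k) = 0) ∧ allL (ltAll 4) Wg = true ∧ allL (ltAll 4) W8 = true ∧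
    ∀ k < 7, eqL H15.McL.P 6 H15.McL.B (fl H15.XTMcL.sub_W (nth [] H1.Mc.a_W k)) (fl H1.Mc.WM (nth [] W8 k)) = 0 ∧ eqK H1.Mc.κ [k, k] [] = true := by decide +kernel
theorem uk : allL (ltAll 5) UK = true ∧ ∀ k < 7, eqL m_P 7 H15.McL.B (nth [] UK k) [k] = 0 := by decide +kernel

theorem m_m : ∀ k < 7, ∀ i < 275, (matEnt (wdsP H15.McL.P H1.Mc.WM) m_P) k i = 0 := allZ2_sound m_m_a
theorem a_m : ∀ k < 18, ∀ i < 275, (matEnt (wdsP m_P Lw) a_P) k i = 0 := allZ2_sound a_m_a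
theorem m_act {G Ω : Type*} [Group G] [MulAction G Ω] {g : ℕ → G} {pt : ℕ → Ω}
    (M : Md g pt H15.McL.P 275 6 H15.McL.B 898128000) : H16.Act (wds g H1.Mc.WM) pt m_P 275 7 :=
  act_mat (M.wact H1.Mc.WM_a) m_m
theorem a_act {G Ω : Type*} [Group G] [MulAction G Ω] {g : ℕ → G} {pt : ℕ → Ω}
    (M : Md g pt H15.McL.P 275 6 H15.McL.B 898128000) : H16.Act (wds (wds g H1.Mc.WM) Lw) pt a_P 275 18 :=
  act_mat ((m_act M).wds lw 18) a_m
theorem y_act {G Ω : Type*} [Group G] [MulAction G Ω] {g : ℕ → G} {pt : ℕ → Ω}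
    (M : Md g pt H15.McL.P 275 6 H15.McL.B 898128000) : H16.Act (wds (wds (wds g H1.Mc.WM) Lw) y_W) pt y_P 275 2 :=
  (a_act M).wds y_lt 2
theorem tyh_act {G Ω : Type*} [Group G] [MulAction G Ω] {g : ℕ → G} {pt : ℕ → Ω}
    (M : Md g pt H15.McL.P 275 6 H15.McL.B 898128000) : H16.Act (wds g tyh_W) pt tyh_P 275 14 :=
  M.wact tyh_lt
theorem tyl0_e : ∀ i < 274, (dent tyl0 tyh_P (nat_lit 275)) i = 0 := allZ_sound0 tyl0_e_0
theorem tyl0_ok : DOK tyl0 tyh_P 275 := ⟨tyl0_h, tyl0_e⟩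
theorem tyl1_e : ∀ i < 111, (dent tyl1 tyh_P (nat_lit 275)) i = 0 := allZ_sound0 tyl1_e_0
theorem tyl1_ok : DOK tyl1 tyh_P 275 := ⟨tyl1_h, tyl1_e⟩
theorem tyl2_e : ∀ i < 29, (dent tyl2 tyh_P (nat_lit 275)) i = 0 := allZ_sound0 tyl2_e_0
theorem tyl2_ok : DOK tyl2 tyh_P 275 := ⟨tyl2_h, tyl2_e⟩
theorem tyl3_e : ∀ i < 26, (dent tyl3 tyh_P (nat_lit 275)) i = 0 := allZ_sound0 tyl3_e_0
theorem tyl3_ok : DOK tyl3 tyh_P 275 := ⟨tyl3_h, tyl3_e⟩
theorem tyl4_e : ∀ i < 1, (dent tyl4 tyh_P (nat_lit 275)) i = 0 := allZ_sound0 tyl4_e_0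
theorem tyl4_ok : DOK tyl4 tyh_P 275 := ⟨tyl4_h, tyl4_e⟩
theorem tyl5_e : ∀ i < 8, (dent tyl5 tyh_P (nat_lit 275)) i = 0 := allZ_sound0 tyl5_e_0
theorem tyl5_ok : DOK tyl5 tyh_P 275 := ⟨tyl5_h, tyl5_e⟩
theorem tyl6_e : ∀ i < 1, (dent tyl6 tyh_P (nat_lit 275)) i = 0 := allZ_sound0 tyl6_e_0
theorem tyl6_ok : DOK tyl6 tyh_P 275 := ⟨tyl6_h, tyl6_e⟩
theorem ty_low {G Ω : Type*} [Group G] [MulAction G Ω] {g : ℕ → G} {pt : ℕ → Ω}
    (M : Md g pt H15.McL.P 275 6 H15.McL.B 898128000) : SLow (gi (wds g tyh_W)) pt 275 [tyl0, tyl1, tyl2, tyl3, tyl4, tyl5, tyl6] :=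
  (((((((SLow.nil).cons tyl6_ok (tyh_act M) ty_f6).cons tyl5_ok (tyh_act M) ty_f5).cons tyl4_ok (tyh_act M) ty_f4).cons tyl3_ok (tyh_act M) ty_f3).cons tyl2_ok (tyh_act M) ty_f2).cons tyl1_ok (tyh_act M) ty_f1).cons tyl0_ok (tyh_act M) ty_f0
theorem ty_S0 {G Ω : Type*} [Group G] [MulAction G Ω] {g : ℕ → G} {pt : ℕ → Ω}
    (M : Md g pt H15.McL.P 275 6 H15.McL.B 898128000) : Stage ⊤ (wds g tyh_W) pt 275 [tyl0, tyl1, tyl2, tyl3, tyl4, tyl5, tyl6] [] :=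
  M.stage (ty_low M) ty_c
theorem ty_S1 {G Ω : Type*} [Group G] [MulAction G Ω] {g : ℕ → G} {pt : ℕ → Ω}
    (M : Md g pt H15.McL.P 275 6 H15.McL.B 898128000) : Stage ⊤ (wds g tyh_W) pt 275 [tyl1, tyl2, tyl3, tyl4, tyl5, tyl6] [tyl0.Pt 0] :=
  (ty_S0 M).next
theorem ty_S2 {G Ω : Type*} [Group G] [MulAction G Ω] {g : ℕ → G} {pt : ℕ → Ω}
    (M : Md g pt H15.McL.P 275 6 H15.McL.B 898128000) : Stage ⊤ (wds g tyh_W) pt 275 [tyl2, tyl3, tyl4, tyl5, tyl6] [tyl1.Pt 0, tyl0.Pt 0] :=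
  (ty_S1 M).next
theorem ty_S3 {G Ω : Type*} [Group G] [MulAction G Ω] {g : ℕ → G} {pt : ℕ → Ω}
    (M : Md g pt H15.McL.P 275 6 H15.McL.B 898128000) : Stage ⊤ (wds g tyh_W) pt 275 [tyl3, tyl4, tyl5, tyl6] [tyl2.Pt 0, tyl1.Pt 0, tyl0.Pt 0] :=
  (ty_S2 M).next
theorem ty_S4 {G Ω : Type*} [Group G] [MulAction G Ω] {g : ℕ → G} {pt : ℕ → Ω}
    (M : Md g pt H15.McL.P 275 6 H15.McL.B 898128000) : Stage ⊤ (wds g tyh_W) pt 275 [tyl4, tyl5, tyl6] [tyl3.Pt 0, tyl2.Pt 0, tyl1.Pt 0, tyl0.Pt 0] :=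
  (ty_S3 M).next
theorem ty_S5 {G Ω : Type*} [Group G] [MulAction G Ω] {g : ℕ → G} {pt : ℕ → Ω}
    (M : Md g pt H15.McL.P 275 6 H15.McL.B 898128000) : Stage ⊤ (wds g tyh_W) pt 275 [tyl5, tyl6] [tyl4.Pt 0, tyl3.Pt 0, tyl2.Pt 0, tyl1.Pt 0, tyl0.Pt 0] :=
  (ty_S4 M).next
theorem ty_S6 {G Ω : Type*} [Group G] [MulAction G Ω] {g : ℕ → G} {pt : ℕ → Ω}
    (M : Md g pt H15.McL.P 275 6 H15.McL.B 898128000) : Stage ⊤ (wds g tyh_W) pt 275 [tyl6] [tyl5.Pt 0, tyl4.Pt 0, tyl3.Pt 0, tyl2.Pt 0, tyl1.Pt 0, tyl0.Pt 0] :=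
  (ty_S5 M).next
theorem ty_S7 {G Ω : Type*} [Group G] [MulAction G Ω] {g : ℕ → G} {pt : ℕ → Ω}
    (M : Md g pt H15.McL.P 275 6 H15.McL.B 898128000) : Stage ⊤ (wds g tyh_W) pt 275 [] [tyl6.Pt 0, tyl5.Pt 0, tyl4.Pt 0, tyl3.Pt 0, tyl2.Pt 0, tyl1.Pt 0, tyl0.Pt 0] :=
  (ty_S6 M).next
theorem cye_act {G Ω : Type*} [Group G] [MulAction G Ω] {g : ℕ → G} {pt : ℕ → Ω}
    (M : Md g pt H15.McL.P 275 6 H15.McL.B 898128000) : H16.Act (wds g cye_W) pt cye_P 275 4 :=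
  M.wact cye_lt
theorem cyc6_e : ∀ i < 1, (dent cyc6 cye_P (nat_lit 275)) i = 0 := allZ_sound0 cyc6_e_0
theorem cyc6_ok : DOK cyc6 cye_P 275 := ⟨cyc6_h, cyc6_e⟩
theorem tyn0_1 : ∀ i < 2, (tyn0.ent H15.McL.P tyh_P y_P y_P cye_P (nat_lit 6) (nat_lit 2) H15.McL.B tyl6 [] (memO cyc6)) i = 0 := allZ_sound0 tyn0_1_0
theorem tyn0_t {G Ω : Type*} [Group G] [MulAction G Ω] {g : ℕ → G} {pt : ℕ → Ω}
    (M : Md g pt H15.McL.P 275 6 H15.McL.B 898128000) : TrO (gen (wds g tyh_W) tyl6.K) (wds (wds (wds g H1.Mc.WM) Lw) y_W) (wds (wds (wds g H1.Mc.WM) Lw) y_W) 2 pt 275 (tyl6.Pt 0) (memO cyc6) :=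
  node M (ty_S6 M) (tyh_act M) (y_act M) (y_act M) tyn0 ((cye_act M).mono (by decide)) (fun _ _ => trivial) tyn0_0 tyn0_1 (List.forall_mem_nil _)
theorem cyc3_e : ∀ i < 26, (dent cyc3 cye_P (nat_lit 275)) i = 0 := allZ_sound0 cyc3_e_0
theorem cyc3_ok : DOK cyc3 cye_P 275 := ⟨cyc3_h, cyc3_e⟩
theorem tyn1_1 : ∀ i < 27, (tyn1.ent H15.McL.P tyh_P y_P y_P cye_P (nat_lit 6) (nat_lit 2) H15.McL.B tyl3 [tyl4, tyl5, tyl6] (memO cyc3)) i = 0 := allZ_sound0 tyn1_1_0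
theorem tyn1_t {G Ω : Type*} [Group G] [MulAction G Ω] {g : ℕ → G} {pt : ℕ → Ω}
    (M : Md g pt H15.McL.P 275 6 H15.McL.B 898128000) : TrO (gen (wds g tyh_W) tyl3.K) (wds (wds (wds g H1.Mc.WM) Lw) y_W) (wds (wds (wds g H1.Mc.WM) Lw) y_W) 2 pt 275 (tyl3.Pt 0) (memO cyc3) :=
  node M (ty_S3 M) (tyh_act M) (y_act M) (y_act M) tyn1 ((cye_act M).mono (by decide)) (fun _ _ => trivial) tyn1_0 tyn1_1 (List.forall_mem_nil _)
theorem cyc0_e : ∀ i < 2, (dent cyc0 cye_P (nat_lit 275)) i = 0 := allZ_sound0 cyc0_e_0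
theorem cyc0_ok : DOK cyc0 cye_P 275 := ⟨cyc0_h, cyc0_e⟩
theorem tyn2_1 : ∀ i < 275, (tyn2.ent H15.McL.P tyh_P y_P y_P cye_P (nat_lit 6) (nat_lit 2) H15.McL.B tyl0 [tyl1, tyl2, tyl3, tyl4, tyl5, tyl6] (memO cyc0)) i = 0 := allZ_sound0 tyn2_1_0
theorem tyn2_t {G Ω : Type*} [Group G] [MulAction G Ω] {g : ℕ → G} {pt : ℕ → Ω}
    (M : Md g pt H15.McL.P 275 6 H15.McL.B 898128000) : TrO (gen (wds g tyh_W) tyl0.K) (wds (wds (wds g H1.Mc.WM) Lw) y_W) (wds (wds (wds g H1.Mc.WM) Lw) y_W) 2 pt 275 (tyl0.Pt 0) (memO cyc0) :=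
  node M (ty_S0 M) (tyh_act M) (y_act M) (y_act M) tyn2 ((cye_act M).mono (by decide)) (fun _ _ => trivial) tyn2_0 tyn2_1 (List.forall_mem_nil _)
theorem cy {G Ω : Type*} [Group G] [MulAction G Ω] {g : ℕ → G} {pt : ℕ → Ω}
    (M : Md g pt H15.McL.P 275 6 H15.McL.B 898128000) : Cen ⊤ (wds (wds (wds g H1.Mc.WM) Lw) y_W) 2 (wds g cye_W) pt 275 [cyc0, cyc3, cyc6] :=
  (ty_S0 M).top ▸ Cen.lev M (ty_S0 M) (Cen.triv (ty_S1 M) (Cen.triv (ty_S2 M) (Cen.lev M (ty_S3 M) (Cen.triv (ty_S4 M) (Cen.triv (ty_S5 M) (Cen.lev M (ty_S6 M) (Cen.bot) (tyn0_t M) (y_act M) (cye_act M) (fun _ _ => trivial) cyc6_ok cy_f6) (forced (ty_S5 M) (tyh_act M) (y_act M) _ _ cy_f5)) (forced (ty_S4 M) (tyh_act M) (y_act M) _ _ cy_f4)) (tyn1_t M) (y_act M) (cye_act M) (fun _ _ => trivial) cyc3_ok cy_f3) (forced (ty_S2 M) (tyh_act M) (y_act M) _ _ cy_f2)) (forced (ty_S1 M) (tyh_act M) (y_act M) _ _ cy_f1)) (tyn2_t M) (y_act M) (cye_act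 M) (fun _ _ => trivial) cyc0_ok cy_f0
theorem cy_eq {G Ω : Type*} [Group G] [MulAction G Ω] {g : ℕ → G} {pt : ℕ → Ω}
    (M : Md g pt H15.McL.P 275 6 H15.McL.B 898128000) : Subgroup.centralizer (gen (wds (wds (wds g H1.Mc.WM) Lw) y_W) 2) = gen (wds g cye_W) 4 ∧ Nat.card (gen (wds g cye_W) 4) = 162 :=
  cy_c.1 ▸ cy_c.2 ▸ ⟨(cy M).cent, (cy M).card M.inj⟩
theorem z_act {G Ω : Type*} [Group G] [MulAction G Ω] {g : ℕ → G} {pt : ℕ → Ω}
    (M : Md g pt H15.McL.P 275 6 H15.McL.B 898128000) : H16.Act (wds (wds (wds g H1.Mc.WM) Lw) z_W) pt z_P 275 2 :=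
  (a_act M).wds z_lt 2
theorem tzh_act {G Ω : Type*} [Group G] [MulAction G Ω] {g : ℕ → G} {pt : ℕ → Ω}
    (M : Md g pt H15.McL.P 275 6 H15.McL.B 898128000) : H16.Act (wds g tzh_W) pt tzh_P 275 14 :=
  M.wact tzh_lt
theorem tzl0_e : ∀ i < 274, (dent tzl0 tzh_P (nat_lit 275)) i = 0 := allZ_sound0 tzl0_e_0
theorem tzl0_ok : DOK tzl0 tzh_P 275 := ⟨tzl0_h, tzl0_e⟩
theorem tzl1_e : ∀ i < 111, (dent tzl1 tzh_P (nat_lit 275)) i = 0 := allZ_sound0 tzl1_e_0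
theorem tzl1_ok : DOK tzl1 tzh_P 275 := ⟨tzl1_h, tzl1_e⟩
theorem tzl2_e : ∀ i < 80, (dent tzl2 tzh_P (nat_lit 275)) i = 0 := allZ_sound0 tzl2_e_0
theorem tzl2_ok : DOK tzl2 tzh_P 275 := ⟨tzl2_h, tzl2_e⟩
theorem tzl3_e : ∀ i < 44, (dent tzl3 tzh_P (nat_lit 275)) i = 0 := allZ_sound0 tzl3_e_0
theorem tzl3_ok : DOK tzl3 tzh_P 275 := ⟨tzl3_h, tzl3_e⟩
theorem tzl4_e : ∀ i < 7, (dent tzl4 tzh_P (nat_lit 275)) i = 0 := allZ_sound0 tzl4_e_0
theorem tzl4_ok : DOK tzl4 tzh_P 275 := ⟨tzl4_h, tzl4_e⟩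
theorem tz_low {G Ω : Type*} [Group G] [MulAction G Ω] {g : ℕ → G} {pt : ℕ → Ω}
    (M : Md g pt H15.McL.P 275 6 H15.McL.B 898128000) : SLow (gi (wds g tzh_W)) pt 275 [tzl0, tzl1, tzl2, tzl3, tzl4] :=
  (((((SLow.nil).cons tzl4_ok (tzh_act M) tz_f4).cons tzl3_ok (tzh_act M) tz_f3).cons tzl2_ok (tzh_act M) tz_f2).cons tzl1_ok (tzh_act M) tz_f1).cons tzl0_ok (tzh_act M) tz_f0
theorem tz_S0 {G Ω : Type*} [Group G] [MulAction G Ω] {g : ℕ → G} {pt : ℕ → Ω}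
    (M : Md g pt H15.McL.P 275 6 H15.McL.B 898128000) : Stage ⊤ (wds g tzh_W) pt 275 [tzl0, tzl1, tzl2, tzl3, tzl4] [] :=
  M.stage (tz_low M) tz_c
theorem tz_S1 {G Ω : Type*} [Group G] [MulAction G Ω] {g : ℕ → G} {pt : ℕ → Ω}
    (M : Md g pt H15.McL.P 275 6 H15.McL.B 898128000) : Stage ⊤ (wds g tzh_W) pt 275 [tzl1, tzl2, tzl3, tzl4] [tzl0.Pt 0] :=
  (tz_S0 M).next
theorem tz_S2 {G Ω : Type*} [Group G] [MulAction G Ω] {g : ℕ → G} {pt : ℕ → Ω}
    (M : Md g pt H15.McL.P 275 6 H15.McL.B 898128000) : Stage ⊤ (wds g tzh_W) pt 275 [tzl2, tzl3, tzl4] [tzl1.Pt 0, tzl0.Pt 0] :=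
  (tz_S1 M).next
theorem tz_S3 {G Ω : Type*} [Group G] [MulAction G Ω] {g : ℕ → G} {pt : ℕ → Ω}
    (M : Md g pt H15.McL.P 275 6 H15.McL.B 898128000) : Stage ⊤ (wds g tzh_W) pt 275 [tzl3, tzl4] [tzl2.Pt 0, tzl1.Pt 0, tzl0.Pt 0] :=
  (tz_S2 M).next
theorem tz_S4 {G Ω : Type*} [Group G] [MulAction G Ω] {g : ℕ → G} {pt : ℕ → Ω}
    (M : Md g pt H15.McL.P 275 6 H15.McL.B 898128000) : Stage ⊤ (wds g tzh_W) pt 275 [tzl4] [tzl3.Pt 0, tzl2.Pt 0, tzl1.Pt 0, tzl0.Pt 0] :=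
  (tz_S3 M).next
theorem tz_S5 {G Ω : Type*} [Group G] [MulAction G Ω] {g : ℕ → G} {pt : ℕ → Ω}
    (M : Md g pt H15.McL.P 275 6 H15.McL.B 898128000) : Stage ⊤ (wds g tzh_W) pt 275 [] [tzl4.Pt 0, tzl3.Pt 0, tzl2.Pt 0, tzl1.Pt 0, tzl0.Pt 0] :=
  (tz_S4 M).next
theorem cze_act {G Ω : Type*} [Group G] [MulAction G Ω] {g : ℕ → G} {pt : ℕ → Ω}
    (M : Md g pt H15.McL.P 275 6 H15.McL.B 898128000) : H16.Act (wds g cze_W) pt cze_P 275 2 :=
  M.wact cze_lt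
theorem czc0_e : ∀ i < 3, (dent czc0 cze_P (nat_lit 275)) i = 0 := allZ_sound0 czc0_e_0
theorem czc0_ok : DOK czc0 cze_P 275 := ⟨czc0_h, czc0_e⟩
theorem tzn0_1 : ∀ i < 275, (tzn0.ent H15.McL.P tzh_P z_P z_P cze_P (nat_lit 6) (nat_lit 2) H15.McL.B tzl0 [tzl1, tzl2, tzl3, tzl4] (memO czc0)) i = 0 := allZ_sound0 tzn0_1_0
theorem tzn0_t {G Ω : Type*} [Group G] [MulAction G Ω] {g : ℕ → G} {pt : ℕ → Ω}
    (M : Md g pt H15.McL.P 275 6 H15.McL.B 898128000) : TrO (gen (wds g tzh_W) tzl0.K) (wds (wds (wds g H1.Mc.WM) Lw) z_W) (wds (wds (wds g H1.Mc.WM) Lw) z_W) 2 pt 275 (tzl0.Pt 0) (memO czc0) :=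
  node M (tz_S0 M) (tzh_act M) (z_act M) (z_act M) tzn0 ((cze_act M).mono (by decide)) (fun _ _ => trivial) tzn0_0 tzn0_1 (List.forall_mem_nil _)
theorem cz {G Ω : Type*} [Group G] [MulAction G Ω] {g : ℕ → G} {pt : ℕ → Ω}
    (M : Md g pt H15.McL.P 275 6 H15.McL.B 898128000) : Cen ⊤ (wds (wds (wds g H1.Mc.WM) Lw) z_W) 2 (wds g cze_W) pt 275 [czc0] :=
  (tz_S0 M).top ▸ Cen.lev M (tz_S0 M) (Cen.triv (tz_S1 M) (Cen.triv (tz_S2 M) (Cen.triv (tz_S3 M) (Cen.triv (tz_S4 M) (Cen.bot) (forced (tz_S4 M) (tzh_act M) (z_act M) _ _ cz_f4)) (forced (tz_S3 M) (tzh_act M) (z_act M) _ _ cz_f3)) (forced (tz_S2 M) (tzh_act M) (z_act M) _ _ cz_f2)) (forced (tz_S1 M) (tzh_act M) (z_act M) _ _ cz_f1)) (tzn0_t M) (z_act M) (cze_act M) (fun _ _ => trivial) czc0_ok cz_f0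
theorem cz_eq {G Ω : Type*} [Group G] [MulAction G Ω] {g : ℕ → G} {pt : ℕ → Ω}
    (M : Md g pt H15.McL.P 275 6 H15.McL.B 898128000) : Subgroup.centralizer (gen (wds (wds (wds g H1.Mc.WM) Lw) z_W) 2) = gen (wds g cze_W) 2 ∧ Nat.card (gen (wds g cze_W) 2) = 4 :=
  cz_c.1 ▸ cz_c.2 ▸ ⟨(cz M).cent, (cz M).card M.inj⟩

end H1.Lm
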