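import Cfsg.Agent.H1.LyA
import Cfsg.Agent.H1.LyM
import Cfsg.Agent.H16.D.LMt

/-! Identities in the Lyons group. Generated by tools/h1/ly/gk.py. -/

set_option maxRecDepth 100000
set_option maxHeartbeats 0

namespace H1.Lk
open H16 H16.DC H16.LMm H1.Am H1.La H1.Lm

def SA : List ℕ := [0, 1, 2, 3, 5, 6, 7, 8, 9]
def SK : List ℕ := [0, 1, 2, 3, 4, 5, 6]
def SN : List ℕ := [0, 1, 2, 3, 4, 5, 6, 7]
def PK (S : List ℕ) (L : Pl) : Prop := Pr g L ∧ okL S L = true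
theorem pk {S : List ℕ} {L : Pl} (h : q.prChk C 10 L 0 L.length = true ∧ okL S L = true) : PK S L :=
  ⟨(FP.Prs.step qok rp (FP.Prs.zero g L) h.1).all (zero_add _).symm, h.2⟩

noncomputable def tW : List ℕ := [2, 3, 2, 3]
noncomputable def eW : List ℕ := [2, 3, 0, 2, 3]
noncomputable def lW : List ℕ := [3, 4, 1, 4, 3, 4, 2, 0, 4, 2, 4, 3, 4, 1, 4, 3]
noncomputable def sp : List ℕ := [0, 3, 1, 0, 2, 0, 1, 3, 0]
noncomputable def uy : List ℕ := [1, 2, 1, 0, 2, 1, 3, 2]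
noncomputable def cp : List ℕ := [1, 2, 0, 3, 0, 2, 0, 3, 1, 5]
noncomputable def PW : Wl := [[1, 0], [2, 1], [3, 1], [0, 1], [1, 2], [1, 3]]
noncomputable def PQ : Wl := [[1, 0, 4, 0, 1, 3, 1, 0, 1], [0, 1, 0, 4, 0, 1, 3, 1, 0, 1], [0, 1, 0, 4, 0, 1, 3, 1, 0], [0, 1, 0, 4, 0, 1, 3, 1, 0, 1, 5]]
noncomputable def pu1L : Pl := [0, 1, 2, 3, 5, 6, 7].map fun k => (fl H16.LMt.VA (nth [] UA k), [k])
noncomputable def pu2L : Pl := [8, 9].map fun k => (fl H16.LMt.VA (nth [] UA k), [k])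
noncomputable def peL : Pl := [(eW ++ eW, []), (eW ++ [7], 7 :: (eW ++ tW)), (eW ++ [0, 7], 0 :: 7 :: eW), ([5, 0, 7], [0, 7, 6]),
  (eW ++ [2, 3, 2, 0, 3], [2, 3, 2, 0, 3] ++ eW), (eW ++ [2, 0, 2], [2, 0, 2] ++ eW), (eW ++ [5], 5 :: eW), ([5, 5, 5], []), ([5, 6], [])]
noncomputable def p3L : Pl := (PW.map (rep · 3)).map fun r => (r, [])
noncomputable def pqL : Pl := (List.range 4).map fun k => (fl PW (nth [] PQ k), [k])
noncomputable def cp1 : List ℕ := [1, 2, 1, 0, 3]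
noncomputable def cq1 : List ℕ := [1, 0, 3, 0]
noncomputable def pcL : Pl := [(cq1 ++ cp1, cp1 ++ (cq1 ++ nth [] Lw 8)), (nth [] Lw 8 ++ [8], [8, 5])]
noncomputable def ps1L : Pl := cjL [8] (List.map (fl Lw) [[10], [11], [12], [6]]) (List.map (fl Lw) [[10], [13], [14], [15]])
noncomputable def ps2L : Pl := cjL [8] (List.map (fl Lw) [[8], [5], [9]]) (List.map (fl Lw) [[5], [8], [9]])
noncomputable def p33L : Pl := [(rep (8 :: sp) 3, [])]
noncomputable def pv1L : Pl := cjL [7] (List.map (fl Lw) [[0, 1], [2, 0, 3, 2, 0, 3]]) (List.map (fl Lw) [[0, 1], [2, 0, 2, 3, 0, 3]])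
noncomputable def pv2L : Pl := cjL [7] (List.map (fl Lw) [[1, 0, 6], [2, 1, 3, 0, 3, 1, 0, 2]]) (List.map (fl Lw) [[1, 0, 5], [3, 1, 2, 0, 2, 1, 0, 3]])
noncomputable def pv3L : Pl := cjL [7] (List.map (fl Lw) [[0], [1], [2], [3], [5], [6]]) (List.map (fl Lw) [[0], [1], [2, 0, 3, 0, 2], [3, 0, 2, 0, 3], [6], [5]])
noncomputable def pxL : Pl := [(8 :: (uy ++ [8]), cp ++ [7])]
noncomputable def pwL : Pl := cjL [8] [[1, 0, 3, 0, 1, 2, 3, 1, 0, 6], [0, 7, 2, 1, 0, 2, 3, 0, 1, 3]] [[1, 0, 5, 7, 2, 1, 7, 2, 0, 7, 2, 1, 0], [0, 2, 1, 0, 3, 2, 0, 1, 3]]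
noncomputable def pk5L : Pl := (List.range 7).map fun k => (nth [] UK k, [k])
noncomputable def p8L : Pl := flP Wg (H15.XMcLC.Rl.map fun r => (r, []))
noncomputable def p88L : Pl := W8.map fun W => (W ++ W, [])
noncomputable def pbL : Pl := cjL [4] (List.map (fl Lw) [[0, 1], [2, 0, 2, 3, 0, 3]]) (List.map (fl Lw) [[1, 0, 6], [2, 1, 3, 0, 3, 1, 0, 2]])
noncomputable def pb2L : Pl := cjL [4] [tW] [eW]
noncomputable def plL : Pl := cjL lW (List.map (fl Lw) [[8], [5], [9]]) (List.map (fl Lw) [[8], [5], [9]])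
noncomputable def pRL : Pl := flP Lw (flP [[7], [10], [11], [12], [6]] Rs)
noncomputable def pspL : Pl := cjL sp (List.map (fl Lw) [[7]]) (List.map (fl Lw) [[7]])
noncomputable def puyL : Pl := cjL uy (List.map (fl Lw) [[7]]) (List.map (fl Lw) [[7, 12, 10, 7, 12]])
noncomputable def pcpL : Pl := cjL cp (List.map (fl Lw) [[7]]) (List.map (fl Lw) [Q0])
noncomputable def psqL : Pl := flP Lw (([10, 7] :: [10, 7, 7] :: [4] :: tr_W).map fun W => (W ++ W, []))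
noncomputable def pnL : Pl := [([3, 7, 1, 0, 3, 0, 4, 0, 3, 2, 1, 3, 0, 4, 1, 2, 4, 2, 4, 1, 3], [1, 0, 3, 0, 1, 2, 3, 1, 0, 6] ++ (lW ++ [0, 7, 2, 1, 0, 2, 3, 0, 1, 3])),
  ([3, 1, 4, 2, 4, 2, 1, 4, 0, 3, 7, 1, 0, 2, 3, 0, 2, 4, 1, 2, 4] ++ ([1, 0, 5, 7, 2, 1, 7, 2, 0, 7, 2, 1, 0] ++ (lW ++ [0, 2, 1, 0, 3, 2, 0, 1, 3])), [])]

theorem pu1 : PK SA pu1L := pk (by decide +kernel)
theorem pu2 : PK SA pu2L := pk (by decide +kernel)
theorem pe : PK SA peL := pk (by decide +kernel)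
theorem p3 : PK SA p3L := pk (by decide +kernel)
theorem pq : PK SA pqL := pk (by decide +kernel)
theorem pc : PK SA pcL := pk (by decide +kernel)
theorem ps1 : PK SA ps1L := pk (by decide +kernel)
theorem ps2 : PK SA ps2L := pk (by decide +kernel)
theorem p33 : PK SA p33L := pk (by decide +kernel)
theorem pv1 : PK SA pv1L := pk (by decide +kernel)
theorem pv2 : PK SA pv2L := pk (by decide +kernel)
theorem pv3 : PK SA pv3L := pk (by decide +kernel)
theorem px : PK SA pxL := pk (by decide +kernel)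
theorem pw : PK SA pwL := pk (by decide +kernel)
theorem pk5 : PK SK pk5L := pk (by decide +kernel)
theorem p8 : PK SK p8L := pk (by decide +kernel)
theorem p88 : PK SK p88L := pk (by decide +kernel)
theorem pb : PK SK pbL := pk (by decide +kernel)
theorem pb2 : PK SK pb2L := pk (by decide +kernel)
theorem pl : PK SK plL := pk (by decide +kernel)
theorem pR : PK SK pRL := pk (by decide +kernel)
theorem psp : PK SK pspL := pk (by decide +kernel)
theorem puy : PK SK puyL := pk (by decide +kernel)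
theorem pcp : PK SK pcpL := pk (by decide +kernel)
theorem psq : PK SK psqL := pk (by decide +kernel)
theorem pn : PK SN pnL := pk (by decide +kernel)

end H1.Lk
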