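import Cfsg.Agent.H12.MS0

/-! S5899: the tall case of Bender type, the configuration `Tz`. -/

set_option autoImplicit false
set_option linter.unusedVariables false
set_option linter.unusedSectionVars false

namespace H1.MS
open Cfsg Subgroup H18 H17.GS H28.S H2.GW
open H19 hiding eq_bot_mono
open H28.NG hiding Hyp Uniq Ch
open H27.MS H12.MS

universe u
variable {G : Type u} [Group G] [Finite G] {N Q S X Y Z W D B E : Subgroup G} {b y g : G}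

theorem perf (p : ⁅N, N⁆ = N) (c : Z ≤ C(N)) (h : N ≤ Cm Z B) : N ≤ C(B) := by
  have k : ⁅N, B⁆ ≤ C(N) := (commg_le_iff.2 fun x hx => (h hx).2).trans c
  rw [← commutator_eq_bot_iff_le_centralizer, ← p]
  exact commutator_commutator_eq_bot_of_rotate (commutator_eq_bot_iff_le_centralizer.2 k)
    (commutator_eq_bot_iff_le_centralizer.2 (commutator_comm N B ▸ k))

theorem cm_zp (n : g ∈ N(Z)) (h : g * b * g⁻¹ * b⁻¹ ∈ Z) (c : Z ≤ C[b]) : g ∈ Cm Z (zpowers b) := ⟨n, fun j hj => by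
  let K : Subgroup G :=
    { carrier := {j | j ∈ C(Z) ∧ g * j * g⁻¹ * j⁻¹ ∈ Z}
      one_mem' := ⟨one_mem _, by simp⟩
      mul_mem' := fun {x y} hx hy => ⟨mul_mem hx.1 hy.1, by
        have := mul_mem hx.2 (conj_mem_of_norm (cent_le_norm _ hx.1) hy.2)
        convert this using 1; group⟩
      inv_mem' := fun {x} hx => ⟨inv_mem hx.1, by
        have := conj_mem_of_norm' (cent_le_norm _ hx.1) (inv_mem hx.2)
        convert this using 1; group⟩ }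
  exact (zpowers_le.2 (show b ∈ K from ⟨mem_cent.2 fun z hz => mem_cent1.1 (c hz), h⟩) hj).2⟩

theorem inj (ab : Abelem 2 X) (l : W ≤ X) (z : Z ≤ W) (d : D ≤ X) (h1 : ∀ x ∈ X, x * b * x⁻¹ * b⁻¹ ∈ W)
    (h2 : ∀ x ∈ X, x * b * x⁻¹ * b⁻¹ ∈ Z → x ∈ D) : #X * #Z ≤ #D * #W := by
  let f : X →* G := MonoidHom.mk' (fun x => x.1 * b * x.1⁻¹ * b⁻¹) fun x y => by
    have := mem_cent.1 (ab_cent ab (l (h1 y y.2))) _ x.2
    have e := mem_cent.1 (ab_cent ab (l (h1 y y.2))) _ (l (h1 x x.2))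
    rw [e, coe_mul]
    calc _ = x.1 * (y.1 * b * y.1⁻¹ * b⁻¹) * b * x.1⁻¹ * b⁻¹ := by group
      _ = _ := by rw [this]; group
  have a := index_comap Z f
  have c : (D.subgroupOf X).index ≤ (Z.comap f).index := Nat.le_of_dvd (Nat.pos_of_ne_zero index_ne_zero_of_finite)
    (index_dvd_of_le fun x hx => h2 x x.2 hx)
  have e : Z.relIndex f.range ≤ Z.relIndex W := relIndex_le_of_le_right (by rintro _ ⟨x, rfl⟩; exact h1 x x.2)
    index_ne_zero_of_finite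
  have k1 := (D.subgroupOf X).index_mul_card
  have k2 := (Z.subgroupOf W).index_mul_card
  rw [Nat.card_congr (subgroupOfEquivOfLe d).toEquiv] at k1
  rw [Nat.card_congr (subgroupOfEquivOfLe z).toEquiv] at k2
  calc #X * #Z = (D.subgroupOf X).index * #Z * #D := by rw [← k1]; ring
    _ ≤ Z.relIndex W * #Z * #D := by gcongr; exact c.trans (a ▸ e)
    _ = _ := by rw [relIndex, k2, mul_comm]

/-- facts on one of the two conjugates -/
structure Hf (N Q S Y : Subgroup G) : Prop where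
  ab : Abelem 2 Y
  le : Y ≤ S
  sn : S ≤ N
  qs : Q ≤ S
  nm : S ≤ N(Y)
  big : 8 * #(Y ⊓ Q) ≤ #Y
  gen : ∀ W c, W ≤ N → Y ≤ W → c ∈ W → c * c = 1 → c ∉ S → W = N

theorem hf (f : Fr N Q S) (e : Be N Q S E) (ab : Abelem 2 Y) (l : Y ≤ S) (n : N(S) ≤ N(Y)) (nq : ¬ Y ≤ Q) : Hf N Q S Y := by
  obtain ⟨y, hy, yq⟩ := SetLike.not_le_iff_exists.1 nq
  have iv : ∀ y ∈ Y, y ∉ Q → Iv S Q y := fun y a b => ⟨l a, b, sq_one ab a ▸ one_mem _⟩
  have k : Q ⊔ Y = E := le_antisymm (sup_le (fun q hq => (e.mem q).2 ⟨f.le hq, mul_mem hq hq⟩)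
    fun y a => (e.mem y).2 ⟨l a, sq_one ab a ▸ one_mem _⟩) fun a ha => by
      by_cases p : a ∈ Q
      · exact mem_sup_left p
      obtain ⟨h, p1, p2⟩ := e.tr y a (iv y hy yq) ⟨((e.mem a).1 ha).1, p, ((e.mem a).1 ha).2⟩
      simpa [mul_assoc] using mul_mem (mem_sup_left (inv_mem p2)) (mem_sup_right (conj_mem_of_norm (n p1.2) hy) : _ ∈ Q ⊔ Y)
  have big : 8 * #(Y ⊓ Q) ≤ #Y := by
    obtain ⟨p, -, p3, c, -⟩ := e.dim
    have := card_sup_mul_inf (A := Q) (B := Y) ((l.trans f.TN).trans f.nq.norm)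
    rw [k, c, inf_comm, mul_right_comm, mul_comm #Q] at this
    rw [← Nat.eq_of_mul_eq_mul_right Nat.card_pos this]
    exact Nat.mul_le_mul_right _ (Nat.pow_le_pow_right two_pos p3)
  refine ⟨ab, l, f.TN, f.le, le_normalizer.trans n, big, fun W c a b hc c2 cs => f.fr a ?_⟩
  have : ¬ Y ≤ (Y ⊓ Q) ⊔ zpowers y := fun m => by
    have := (card_le_of_le m).trans_eq (card_sup_zp (sq_one ab hy) (fun k => yq k.2)
      (cent_le_norm _ (centralizer_le (inf_le_left (a := Y) (b := Q)) (ab_cent ab hy))))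
    have := Nat.card_pos (α := ↥(Y ⊓ Q))
    omega
  obtain ⟨x, hx, xq⟩ := SetLike.not_le_iff_exists.1 this
  refine e.gen W y x c (iv y hy yq) (iv x hx fun p => xq (mem_sup_left ⟨hx, p⟩)) (fun p => xq ?_)
    ⟨a hc, fun p => cs (f.le p), c2 ▸ one_mem _⟩ cs (b hy) (b hx) hc
  simpa using mul_mem (mem_sup_right (inv_mem (mem_zpowers y))) (mem_sup_left ⟨mul_mem hy hx, p⟩ : _ ∈ (Y ⊓ Q) ⊔ zpowers y)

theorem nd {T : Subgroup G} (p : ⁅N, N⁆ = N) (c : Z ≤ C(N)) (h : Hf N Q T X) (hy : y ∈ N) (y2 : y * y = 1) (yt : y ∉ T)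
    (hb : b ∈ X) (k : y * b * y⁻¹ * b⁻¹ ∈ Z) : b ∈ C(N) := by
  have xn := h.le.trans h.sn
  have nz : N ≤ N(Z) := (cents_symm c).trans (cent_le_norm _)
  have zb : Z ≤ C[b] := c.trans (cent_le_cent1 (xn hb))
  have := h.gen (N ⊓ Cm Z (zpowers b)) y inf_le_left (fun x hx => ⟨xn hx, cm_zp (nz (xn hx))
    (by rw [mem_cent1.1 (ab_cent1 h.ab hb hx)]; simp) zb⟩) ⟨hy, cm_zp (nz hy) k zb⟩ y2 yt
  exact cents_symm (perf p c (this.ge.trans inf_le_right)) (mem_zpowers b)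

theorem tz0 : TZ0.{u} := fun {G _ _ S Y Q E} h e => by
  have m := h.toMn
  have f := h.lc.toFr
  have z0 := abelem_mono m.ab m.ZY
  have zn : Zs S ⊴ C(Zs S) := ⟨ab_cent z0, cent_le_norm _⟩
  have zq : Zs S ≤ Q := f.of_pg zn (ab_pg z0)
  have zc : Zs S ≤ C(C(Zs S)) := cents_symm le_rfl
  obtain ⟨g, hg, gn⟩ := SetLike.not_le_iff_exists.1 fun k : C(Zs S) ≤ N(S) => h.nq (m.YS.trans (f.of_pg ⟨f.TN, k⟩ f.syl.pi))
  have a := hf f e m.ab m.YS m.NS h.nq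
  have gq : cj g Q = Q := cj_of_mem_norm (f.nq.norm hg)
  have gz : cj g (Zs S) = Zs S := cj_of_mem_norm (cent_le_norm _ hg)
  have b : Hf C(Zs S) Q (cj g S) (cj g Y) := hf (f.conj hg) (by simpa only [gq, cj_of_mem hg] using e.J g) (abelem_J m.ab g)
    (cj_mono g m.YS) (by rw [← cj_norm, ← cj_norm]; exact cj_mono g m.NS) (by rw [← gq, cj_le_cj]; exact h.nq)
  have xs : ∀ x ∈ cj g Y, x ∉ Q → x ∉ S := fun x hx p q => gn (e.se g hg (g⁻¹ * x * g) ⟨m.YS (mem_cj.1 hx),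
    fun k => p (gq ▸ mem_cj.2 k), sq_one m.ab (mem_cj.1 hx) ▸ one_mem _⟩ (by simpa [mul_assoc] using le_normalizer q))
  have ys : ∀ y ∈ Y, y ∉ Q → y ∉ cj g S := fun y hy p q => gn (by
    simpa using inv_mem (e.se g⁻¹ (inv_mem hg) y ⟨m.YS hy, p, sq_one m.ab hy ▸ one_mem _⟩
      (by simpa using le_normalizer (mem_cj.1 q))))
  have cz : ∀ v ∈ S, v * v = 1 → v ∈ C(C(Zs S)) → v ∈ Zs S := fun v p q r =>
    H19.mem_Ohm1 (mem_inf.2 ⟨p, centralizer_le f.TN r⟩) (sq v ▸ q)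
  obtain ⟨y, hy, yq⟩ := SetLike.not_le_iff_exists.1 h.nq
  have yx : Y ⊓ cj g Y ≤ Zs S := fun v hv => cz v (m.YS hv.1) (sq_one m.ab hv.1) (nd f.perf zc b (f.TN (m.YS hy))
    (sq_one m.ab hy) (ys y hy yq) hv.2 (by rw [mem_cent1.1 (ab_cent1 m.ab hv.1 hy)]; simp))
  have cm : ∀ {T X}, Hf C(Zs S) Q T X → ∀ x ∈ X, ∀ q ∈ Q, x * q * x⁻¹ * q⁻¹ ∈ X ⊓ Q := fun k x hx q hq =>
    ⟨by simpa [mul_assoc] using mul_mem hx (conj_mem_of_norm (k.nm (k.qs hq)) (inv_mem hx)),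
      mul_mem (conj_mem_of_norm (f.nq.norm (k.sn (k.le hx))) hq) (Q.inv_mem hq)⟩
  have n1 : ∀ y ∈ Y, ∀ d ∈ cj g Y ⊓ Q, d ∉ Zs S → y * d * y⁻¹ * d⁻¹ ∈ Zs S → y ∈ Y ⊓ Q := fun y hy d hd dz k =>
    ⟨hy, by_contra fun p => dz (cz d (f.le hd.2) (sq_one b.ab hd.1)
      (nd f.perf zc b (f.TN (m.YS hy)) (sq_one m.ab hy) (ys y hy p) hd.1 k))⟩
  have n2 : ∀ x ∈ cj g Y, ∀ d ∈ Y ⊓ Q, d ∉ Zs S → x * d * x⁻¹ * d⁻¹ ∈ Zs S → x ∈ cj g Y ⊓ Q := fun x hx d hd dz k =>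
    ⟨hx, by_contra fun p => dz (cz d (f.le hd.2) (sq_one m.ab hd.1)
      (nd f.perf zc a (b.sn (b.le hx)) (sq_one b.ab hx) (xs x hx p) hd.1 k))⟩
  have zA : Zs S ≤ Y ⊓ Q := le_inf m.ZY zq
  have zD : Zs S ≤ cj g Y ⊓ Q := le_inf (gz ▸ cj_mono g m.ZY) zq
  have cd : #(Y ⊓ Q) = #(cj g Y ⊓ Q) := by rw [← card_cj g, cj_inf, gq]
  have p0 := Nat.card_pos (α := ↥(Y ⊓ Q))
  refine ⟨Y ⊓ Q, cj g Y ⊓ Q, inf_le_left.lt_of_ne fun k => h.nq (k.ge.trans inf_le_right), abelem_mono b.ab inf_le_left,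
    inf_le_right.trans f.le, zA, zD, commg_le_iff.2 fun y hy d hd => cm a y hy d hd.2, commg_le_iff.2 fun y hy d hd =>
      yx ⟨(cm a y hy.1 d hd.2).1, by simpa [mul_assoc] using (cj g Y).inv_mem (cm b d hd.1 y hy.2).1⟩,
    fun y hy p d hd dz k => p (n1 y hy d hd dz k), cd, ?_, or_iff_not_imp_left.2 fun k => ?_,
    fun s hs => (h.lc.nrm _ m.Z0 zn).le (mem_norm_iff_cj.2 (by rw [cj_Zs, cj_of_mem_norm hs]))⟩
  · obtain ⟨d, hd, dz⟩ := SetLike.not_le_iff_exists.1 fun k : cj g Y ⊓ Q ≤ Zs S => by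
      have : cj g Y ≤ C(Zs S) ⊓ Cm (Zs S) Q := fun x hx => ⟨b.sn (b.le hx), cent_le_norm _ (b.sn (b.le hx)),
        fun q hq => k (cm b x hx q hq)⟩
      have l := (f.smp _ (inf_normal_of_norm' (norms_Cm (cent_le_norm _) f.nq.norm))).resolve_left fun l =>
        h.nq (by rw [← cj_le_cj (g := g), gq]; exact this.trans l)
      exact f.nle ((perf f.perf zc (l.ge.trans inf_le_right)).trans h.lc.chr)
    have := inj m.ab inf_le_left zA inf_le_left (fun y hy => cm a y hy d hd.2) fun y hy => n1 y hy d hd dz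
    have := a.big
    nlinarith [Nat.mul_le_mul_right #(Zs S) a.big]
  obtain ⟨d, hd, dz⟩ := SetLike.not_le_iff_exists.1 k
  have := inj (W := cj g Y ⊓ Q ⊓ C(Y ⊓ Q)) b.ab (inf_le_left.trans inf_le_left)
    (le_inf zD (m.ZY.trans ((ab_cent m.ab).trans (centralizer_le inf_le_left)))) inf_le_left
    (fun x hx => ⟨cm b x hx d hd.1.2, mul_mem (mem_cent.2 fun v hv => ?_)
      (Subgroup.inv_mem _ (centralizer_le (inf_le_left (a := Y) (b := Q)) (ab_cent m.ab hd.1.1)))⟩) fun x hx => n2 x hx d hd.1 dz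
  · rw [← cd] at this
    nlinarith [Nat.mul_le_mul_right #(Zs S) (cd ▸ b.big)]
  have k1 := mem_cent.1 hd.2 _ (cm b _ (inv_mem hx) v hv.2)
  have k2 := mem_cent.1 (ab_cent m.ab hd.1.1) v hv.1
  calc v * (x * d * x⁻¹) = x * (x⁻¹ * v * x⁻¹⁻¹ * v⁻¹ * (v * d)) * x⁻¹ := by group
    _ = x * (d * (x⁻¹ * v * x⁻¹⁻¹ * v⁻¹) * v) * x⁻¹ := by rw [k2, ← mul_assoc _ d, k1]
    _ = _ := by group

end H1.MS
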