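import Cfsg.Agent.H26.MS4

/-! S5899, part 3: `C[p] ≤ N` for a bad local subgroup. Interface; sketches in `notes/h1_CS.md`. -/

set_option autoImplicit false
set_option linter.unusedVariables false

namespace H1.MS
open Cfsg Subgroup H18 H17.GS H28.S H2.GW
open H19 hiding eq_bot_mono
open H28.NG hiding Hyp Uniq Ch
open H27.MS
open scoped MatrixGroups
open Matrix

universe u
variable {G : Type u} [Group G]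

abbrev V3 : Type := Fin 3 → ZMod 2
def e1 : V3 := ![1, 0, 0]
def e3 : V3 := ![0, 0, 1]
/-- point and line of the flag `x • (e1, e3)` -/
def pt (x : SL(3, ZMod 2)) : V3 := x.1 *ᵥ e1
def ln (x : SL(3, ZMod 2)) : V3 := e3 ᵥ* (x⁻¹).1

/-- a model of `N/Q` in which `T` fixes the base flag -/
structure Md (N Q T : Subgroup G) (π : N →* SL(3, ZMod 2)) : Prop where
  sj : Function.Surjective π
  ker : ∀ g : N, π g = 1 ↔ (g : G) ∈ Q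
  mT : ∀ g : N, (g : G) ∈ T ↔ pt (π g) = e1 ∧ ln (π g) = e3

def NM7 : Prop := ∀ {G : Type u} [Group G] [Finite G] {N Q T P : Subgroup G}, Fr N Q T → L7 N Q → T ≤ P → P ≤ N →
  #P = 3 * #T → ∃ π, Md N Q T π ∧ (∀ g : N, (g : G) ∈ P ↔ pt (π g) = e1) ∧
    ∀ P', T ≤ P' → P' ≤ N → #P' = 3 * #T → P' ≠ P → ∀ g : N, (g : G) ∈ P' ↔ ln (π g) = e3
def LAM : Prop := ∀ {G : Type u} [Group G] [Finite G] {N Q T T₀ : Subgroup G} {π : N →* SL(3, ZMod 2)}, Fr N Q T →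
  Md N Q T π → T₀ ≤ T → #T = 2 * #T₀ → ∀ q ∈ Q, ∃ y y' : V3, ∀ g : N,
    ((g : G)⁻¹ * q * g ∈ T₀ ↔ y ⬝ᵥ pt (π g) + ln (π g) ⬝ᵥ y' = 0)
/-- a `T`-invariant subgroup of index two of `Q` extends if an involution lifts -/
def EXT : Prop := ∀ {G : Type u} [Group G] [Finite G] {N Q T X : Subgroup G} {i : G}, Fr N Q T → L7 N Q → X ⊴ T →
  X < Q → i ∈ N → i ∉ Q → i * i = 1 → ∃ T₀, X ≤ T₀ ∧ T₀ ≤ T ∧ #T = 2 * #T₀ ∧ ¬ Q ≤ T₀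
def LA : Prop := ∀ {G : Type u} [Group G] [Finite G] {N Q T P E : Subgroup G} {i : G}, Fr N Q T → L7 N Q → T ≤ P →
  P ≤ N → #P = 3 * #T → E ⊴ P → H19.PG 2 E → ¬ Q ≤ E → i ∈ E → i ∉ Q → i * i = 1 → False
def LB : Prop := ∀ {G : Type u} [Group G] [Finite G] {N Q T T₀ P P' : Subgroup G} {a h : G}, Fr N Q T → L7 N Q →
  T₀ ≤ T → #T = 2 * #T₀ → T ≤ P → P ≤ N → #P = 3 * #T → T ≤ P' → P' ≤ N → #P' = 3 * #T → P' ≠ P → a ∈ Q → a ∉ T₀ →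
  (∀ x ∈ P, x ∉ T → x⁻¹ * a * x ∈ T₀) → h ∈ N → (∀ x ∈ P, (h * x)⁻¹ * a * (h * x) ∈ T₀) → ∃ x ∈ P', x⁻¹ * h ∈ P

/-- `C/D` solvable, faithful on `U/Z`, `O₂(C/D) = 1` -/
structure Sv (C D Z U : Subgroup G) : Prop where
  sol : Sol C
  eD : D = Oc {2} C
  ea : EA Z U
  nU : C ≤ N(U)
  nZ : C ≤ N(Z)
  ker : ∀ g ∈ C, g ∈ Cm Z U ↔ g ∈ D

/-- an offender contains a transvection -/
def TV : Prop := ∀ {G : Type u} [Group G] [Finite G] {C D Z U A : Subgroup G}, Sv C D Z U → Abelem 2 A → A ≤ C →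
  ¬ A ≤ D → #U * #(A ⊓ D) ≤ #A * #(U ⊓ Cm Z A) → ∃ a ∈ A, a ∉ D ∧ Eb Z U a 1
/-- a transvection of `C` on `U/Z` -/
def Tr (C D Z U : Subgroup G) (a : G) : Prop := a ∈ C ∧ a ∉ D ∧ Eb Z U a 1
/-- exactly two transvections do not commute with a given one -/
def T1 : Prop := ∀ {G : Type u} [Group G] [Finite G] {C D Z U : Subgroup G} {a : G}, Sv C D Z U → Tr C D Z U a →
  ∃ f ∈ C, Odd (orderOf f) ∧ f ∉ D ∧ f ^ 3 ∈ D ∧ a * f * a⁻¹ * f ∈ D ∧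
    #(U ⊓ Cm Z (zpowers a)) = 2 * #(U ⊓ Cm Z (zpowers f)) ∧ U ⊓ Cm Z (zpowers f) ≤ Cm Z (zpowers a) ∧
    ∀ b, Tr C D Z U b → a * b * a⁻¹ * b⁻¹ ∈ D ∨ f * a * f⁻¹ * b⁻¹ ∈ D ∨ f⁻¹ * a * f * b⁻¹ ∈ D
/-- the sign homomorphism -/
def TD : Prop := ∀ {G : Type u} [Group G] [Finite G] {N Q T V P R D U : Subgroup G} {p a : G}, Bd N Q T V → p ∈ V →
  p ≠ 1 → Pt N Q V P R p → Sv C[p] D (zpowers p) U → V ≤ U → D ≤ R → a ∈ Q → Tr C[p] D (zpowers p) U a →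
  ∃ W f T₀, p ∈ W ∧ W ≤ V ∧ #W = 4 ∧ f ∈ C(W) ∧ (∀ k, (f * a * f⁻¹ * a⁻¹) ^ 2 ^ k ∉ D) ∧ T₀ ≤ P ⊓ N(W) ∧
    #(P ⊓ N(W)) = 2 * #T₀ ∧ D ≤ T₀ ∧ a ∉ T₀ ∧ ∀ x ∈ P, x ∉ N(W) → x⁻¹ * a * x ∈ T₀
/-- lines -/
def LN : Prop := ∀ {G : Type u} [Group G] [Finite G] {N Q T V P R W : Subgroup G} {p : G}, Bd N Q T V → p ∈ V →
  p ≠ 1 → Pt N Q V P R p → p ∈ W → W ≤ V → #W = 4 →
  Fr N Q (P ⊓ N(W)) ∧ #P = 3 * #(P ⊓ N(W)) ∧ #(N ⊓ N(W)) = 3 * #(P ⊓ N(W)) ∧ N ⊓ N(W) ≠ P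

/-- the three cases and the result -/
def CA : Prop := ∀ {G : Type u} [Group G] [Finite G] {N Q T V : Subgroup G} {p g i : G} {n : ℕ}, Bd N Q T V → p ∈ V →
  p ≠ 1 → H26.MS.Am N Q V p g n → i ∈ H26.MS.Dp p → i * i = 1 → i ∈ C(H26.MS.Up V p)
def CB : Prop := ∀ {G : Type u} [Group G] [Finite G] {N Q T V A : Subgroup G} {p : G}, Bd N Q T V → p ∈ V →
  p ≠ 1 → ⁅H26.MS.Up V p, H26.MS.Dp p⁆ ≤ zpowers p → Abelem 2 A → A ≤ Q → ¬ A ≤ H26.MS.Dp p →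
  #(H26.MS.Up V p) * #(A ⊓ H26.MS.Dp p) ≤ #A * #(H26.MS.Up V p ⊓ C(A)) → Sol C[p]
def CC : Prop := ∀ {G : Type u} [Group G] [Finite G] {N Q T V A : Subgroup G} {p h : G}, Bd N Q T V → p ∈ V →
  p ≠ 1 → ⁅H26.MS.Up V p, H26.MS.Dp p⁆ ≤ zpowers p → Abelem 2 A → A ≤ Q → ¬ A ≤ H26.MS.Dp p →
  #(H26.MS.Up V p) * #(A ⊓ H26.MS.Dp p) ≤ #A * #(H26.MS.Up V p ⊓ C(A)) → h ∈ N → A ≤ H19.cj h (H26.MS.Dp p) →
  ¬ Sol C[p]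
def CN : Prop := ∀ {G : Type u} [Group G] [Finite G] {N Q T V : Subgroup G} {p : G}, Bd N Q T V → p ∈ V → p ≠ 1 →
  C[p] ≤ N

end H1.MS
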