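/-
Minimal simple groups without `S₄`-sections.
-/
import Cfsg.Agent.H1.Fla4
import Cfsg.Agent.H1.SF12
import Cfsg.Agent.H28.T3b
import Cfsg.Agent.H28.SCA
import Cfsg.Agent.H28.WNorm
import Cfsg.Agent.H18.Be12
import Cfsg.Agent.H23.SzTorN
import Cfsg.Agent.H3.StrongClosed

set_option autoImplicit false
set_option linter.unusedSectionVars false

open Cfsg Subgroup
open scoped Pointwise commutatorElement
namespace H1
open H19

universe u

variable {G : Type u} [Group G] [Finite G] {p q r : ℕ} {π : Set ℕ}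
  {A B D E H K L M N P Q R S T U V W X Y Z : Subgroup G} {a b c d g h s t w x y z : G}

/-- a minimal simple group -/
structure MinS (G : Type u) [Group G] : Prop where
  simple : ∀ N : Subgroup G, N(N) = ⊤ → N = ⊥ ∨ N = ⊤
  sol : ∀ H : Subgroup G, H ≠ ⊤ → Sol H
  ns : ¬ Sol (⊤ : Subgroup G)

theorem sol_top_iff : Sol (⊤ : Subgroup G) ↔ Group.IsSolvable G :=
  ⟨fun _ => Group.isSolvable_of_surjective (f := (⊤ : Subgroup G).subtype)
    fun g => ⟨⟨g, mem_top g⟩, rfl⟩, fun _ => inferInstance⟩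

/-- reduction to minimal simple groups -/
theorem sol_of_minS (Q : ∀ (X : Type u) [Group X], Prop)
    (hs : ∀ (X : Type u) [Group X] [Finite X] (H : Subgroup X), Q X → Q H)
    (hq : ∀ (X : Type u) [Group X] [Finite X] (N : Subgroup X) [N.Normal], Sol N → Q X → Q (X ⧸ N))
    (hm : ∀ (X : Type u) [Group X] [Finite X], Q X → ¬ MinS X) (h : Q G) : Group.IsSolvable G := by
  induction hk : Nat.card G using Nat.strong_induction_on generalizing G with | _ n ih =>
  subst hk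
  by_contra ns
  have sub : ∀ H : Subgroup G, H ≠ ⊤ → Sol H := fun H hH =>
    ih _ (by rw [← card_top (G := G)]; exact card_lt (lt_top_iff_ne_top.2 hH)) (hs _ H h) rfl
  refine hm G h ⟨fun N hN => ?_, sub, mt sol_top_iff.1 ns⟩
  by_contra! e
  have : N.Normal := normalizer_eq_top_iff.1 hN
  have := sub N e.2
  have : Group.IsSolvable (G ⧸ N) := by
    refine ih _ ?_ (hq _ N this h) rfl
    rw [N.card_eq_card_quotient_mul_card_subgroup]
    exact lt_mul_right Nat.card_pos (ne_bot_iff_one_lt_card.1 e.1)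
  exact ns (Group.isSolvable_of_ker_le_range N.subtype (QuotientGroup.mk' N) (by simp))

theorem exists_pi_suppl (hn : H ≤ N(L)) (hi : PiN π (L.relIndex H)) :
    ∃ K, K ≤ H ∧ PiG π K ∧ H ≤ L ⊔ K := by
  obtain ⟨K, hK⟩ := exists_minimal_of_wellFoundedLT (fun K => K ≤ H ∧ H ≤ L ⊔ K)
    ⟨H, le_refl H, le_sup_right⟩
  obtain ⟨l1, l2⟩ := hK.prop
  refine ⟨K, l1, fun r hr hd => ?_, l2⟩
  by_contra hπ
  obtain ⟨R, hR⟩ := exists_syl r K
  have hRL : R ≤ L := by
    have := le_of_pi_of_relIndex (π := {r}) (H := L ⊓ H) (M := H)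
      (norms_inf ((hR.le.trans l1).trans hn) (norms_of_le (hR.le.trans l1))) inf_le_right
      (hR.le.trans l1) hR.pi (by rw [inf_relIndex_right]; exact hi.compl_sing hπ)
    exact this.trans inf_le_left
  have fr := (hR.of_le (le_inf hRL hR.le) inf_le_right).frattini (inf_normal_of_norm (l1.trans hn))
  have n1 : K ≤ N(R) := (hK.le_of_le ⟨inf_le_left.trans l1, l2.trans (sup_le le_sup_left
    (fr.ge.trans (sup_le_sup_right inf_le_left _)))⟩ inf_le_left).trans inf_le_right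
  obtain ⟨C, hC⟩ := hR.exists_compl n1
  have := hK.le_of_le ⟨hC.right_le.trans l1, l2.trans (sup_le le_sup_left
    (hC.sup.ge.trans (sup_le_sup_right hRL _)))⟩ hC.right_le
  exact hR.sne_bot hr hd (H19.eq_bot_mono (le_inf le_rfl (hR.le.trans this)) hC.inf)

theorem sol_of_two_primes (hp : p.Prime) (hq : q.Prime)
    (h : ∀ r, r.Prime → r ≠ p → r ≠ q → ¬ r ∣ #H) : Sol H := by
  obtain ⟨a, b, e, ha, hb⟩ := exists_pi_factor {p} (card_ne_zero H)
  have hb' : PiN {q} b := fun r hr hd => by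
    by_contra h2
    exact h r hr (hb.mem hr hd) h2 (e ▸ hd.mul_left a)
  have h0 := e ▸ card_ne_zero H
  obtain ⟨i, rfl⟩ := ha.exists_pow (left_ne_zero_of_mul h0)
  obtain ⟨j, rfl⟩ := hb'.exists_pow (right_ne_zero_of_mul h0)
  exact H5.isSolvable_of_card_dvd_prime_pow_mul hp hq e.dvd

namespace MinS
variable (m : MinS G)
include m

theorem norm_ne (h0 : H ≠ ⊥) (h1 : Sol H) : N(H) ≠ ⊤ := fun e =>
  (m.simple H e).elim h0 fun e' => m.ns (e' ▸ h1)

theorem cent1_ne (z1 : z ≠ 1) : C[z] ≠ ⊤ := fun e =>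
  m.norm_ne (zpowers_ne_bot.2 z1) (sol_zpowers z) (top_le_iff.1 (e ▸ cent1_le_norm_zpowers z))

theorem isSimple : IsSimpleGroup G :=
  have : Nontrivial G := not_subsingleton_iff_nontrivial.1 fun _ => m.ns inferInstance
  ⟨fun N hN => m.simple N (normalizer_eq_top_iff.2 hN)⟩

theorem even : 2 ∣ #(⊤ : Subgroup G) := by
  rw [card_top]
  exact (Nat.even_or_odd _).elim Even.two_dvd fun h => absurd (sol_top_iff.2 (H20.odd_solvable G h)) m.ns

theorem Oc_top (π : Set ℕ) (hp : p.Prime) (h1 : p ∉ π) (hd : p ∣ #(⊤ : Subgroup G)) :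
    Oc π (⊤ : Subgroup G) = ⊥ :=
  (m.simple _ (top_le_iff.1 (Oc_norm _ _))).resolve_right fun e =>
    h1 (PiN.mem (e ▸ Oc_pi π (⊤ : Subgroup G)) hp hd)

theorem Oc_p (p : ℕ) : Oc {p} (⊤ : Subgroup G) = ⊥ :=
  (m.simple _ (top_le_iff.1 (Oc_norm _ _))).resolve_right fun e => m.ns (e ▸ (Oc_pi _ _).sol)

theorem exists_prime (hp : p.Prime) (hq : q.Prime) :
    ∃ r, r.Prime ∧ r ≠ p ∧ r ≠ q ∧ r ∣ #(⊤ : Subgroup G) := by
  by_contra! h
  exact m.ns (sol_of_two_primes hp hq h)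

theorem norm_core (hX : PG p X) (h0 : X ≠ ⊥) (h : ∀ z : G, z ≠ 1 → z ^ p = 1 → Oc {p}ᶜ C[z] = ⊥) :
    Oc {p}ᶜ N(X) = ⊥ := by
  obtain ⟨Y, hY⟩ := (hX.infl C(X)).exists_el1 (hX.center_ne_bot h0)
  obtain ⟨z, z1, oz, rfl⟩ := hY.exists_gen
  have hz := hY.le (mem_zpowers z)
  have c : Oc {p}ᶜ N(X) ≤ C(X) := Oc_cents' (normalIn_norm X) hX
  refine H19.eq_bot_mono ((Oc_le_Oc_of_le inf_le_right (le_inf (c.trans (cent_le_cent1 hz.1))
    (Oc_le _ _))).trans (H18.p'core_norm_pgroup hX (le_cent1_iff.2 hz.2) (m.sol _ (m.cent1_ne z1))))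
    (h z z1 (oz ▸ pow_orderOf_eq_one z))

theorem sec_sol (K R : Subgroup G) [(R.subgroupOf K).Normal]
    (hc : C(pCore 2 (K ⧸ R.subgroupOf K)) ≤ pCore 2 (K ⧸ R.subgroupOf K)) :
    Group.IsSolvable (K ⧸ R.subgroupOf K) := by
  by_cases hK : K = ⊤
  · subst hK
    have := m.isSimple
    have : IsSimpleGroup (⊤ : Subgroup G) := topEquiv.isSimpleGroup
    rcases this.eq_bot_or_eq_top_of_normal (R.subgroupOf ⊤) inferInstance with e | e
    · have e2 := (QuotientGroup.quotientMulEquivOfEq e).trans QuotientGroup.quotientBot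
      have := e2.isSimpleGroup
      rcases this.eq_bot_or_eq_top_of_normal (pCore 2 _) inferInstance with e3 | e3
      · rw [e3, cent_bot] at hc
        exact sol_top_iff.1 (le_bot_iff.1 hc ▸ inferInstance)
      · exact sol_top_iff.1 (e3 ▸ (PiN.of_isPGroup Nat.prime_two (H28.isPGroup_pCore 2 _)).sol)
    · have := QuotientGroup.subsingleton_iff.2 e
      infer_instance
  · have := m.sol K hK
    infer_instance

theorem odd_core : pPrimeCore 2 G = ⊥ :=
  (m.isSimple.eq_bot_or_eq_top_of_normal _ inferInstance).resolve_right fun e =>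
    (Nat.prime_two.coprime_iff_not_dvd.1 (pPrimeCore_eq_top_iff.1 e).symm) (card_top (G := G) ▸ m.even)

theorem two_core : pCore 2 G = ⊥ :=
  (m.isSimple.eq_bot_or_eq_top_of_normal _ inferInstance).resolve_right fun e =>
    m.ns (e ▸ (PiN.of_isPGroup Nat.prime_two (H28.isPGroup_pCore 2 G)).sol)

theorem exists_fused (S : Sylow 2 G) : ∃ z ∈ (S : Subgroup G) ⊓ C(S), orderOf z = 2 ∧
    ∃ g, g * z * g⁻¹ ∈ (S : Subgroup G) ∧ g * z * g⁻¹ ≠ z := by
  have hS := syl_sylow_top S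
  obtain ⟨X, hX⟩ := (hS.pi.infl C(S)).exists_el1
    (hS.pi.center_ne_bot (hS.sne_bot Nat.prime_two m.even))
  obtain ⟨z, z1, oz, rfl⟩ := hX.exists_gen
  have hz := hX.le (mem_zpowers z)
  refine ⟨z, hz, oz, ?_⟩
  by_contra! hw
  refine m.cent1_ne z1 (eq_top_iff.2 fun g _ => mem_cent1.2 ?_)
  have := H10.zstar_weak S hz.1 hw g
  rwa [m.odd_core, mem_bot, mul_inv_eq_one, mul_inv_eq_iff_eq_mul] at this

theorem s4a (S : Sylow 2 G) (hA : Abelem 2 A) (h2 : IsStronglyClosed A S)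
    (nA : (S : Subgroup G) ≤ N(A)) (hZ : omegaOneCenter 2 (S : Subgroup G) ≤ A) (h3 : PRankLE 2 2 A) :
    ∃ A R : Subgroup G, El 2 2 A ⊤ ∧ PG 3 R ∧ R ≤ N(A) ∧ ¬ R ≤ C(A) := by
  have hS := syl_sylow_top S
  obtain ⟨z, hz, oz, g, hg, hne⟩ := m.exists_fused S
  have zA : z ∈ A := hZ (H28.mem_omegaOneCenter.2 ⟨hz.1, hz.2, oz ▸ pow_orderOf_eq_one z⟩)
  obtain ⟨n, hn, e⟩ := H3.control_of_stronglyClosed S h2 (comm_iff_le_cent.1 hA.1)
    (zpowers_le.2 hz.1) (show cj g (zpowers z) ≤ S by rw [cj_zpowers]; exact zpowers_le.2 hg)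
  have e := e z (mem_zpowers z)
  obtain ⟨k, hk⟩ := abelem_el Nat.prime_two hA le_top
  have k2 : k ≤ 2 := hk.prk_eq ▸ (prankLE_iff Nat.prime_two).1 h3
  have k1 : 2 ≤ k := by
    have o2 : orderOf (g * z * g⁻¹) = 2 := by rw [orderOf_conj', oz]
    refine El.rank_le ((el1_zpowers Nat.prime_two zA oz).sup2
      (el1_zpowers Nat.prime_two (h2.2 z zA g hg) o2)
      (cents_of_comm hA.1 (zpowers_le.2 zA) (zpowers_le.2 (h2.2 z zA g hg))) fun e' => hne ?_) hk
      (sup_le (zpowers_le.2 zA) (zpowers_le.2 (h2.2 z zA g hg)))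
    have : g * z * g⁻¹ ∈ zpowers z := e' ▸ mem_zpowers _
    classical
    rw [mem_zpowers_iff_mem_range_orderOf, oz] at this
    simp only [Finset.mem_image, Finset.mem_range] at this
    obtain ⟨i, hi, ei⟩ := this
    interval_cases i
    · rw [← ei] at o2; simp at o2
    · rw [← ei, pow_one]
  obtain rfl : k = 2 := le_antisymm k2 k1
  obtain ⟨R, hR⟩ := exists_syl 3 N(A)
  refine ⟨A, R, hk, hR.pi, hR.le, fun hc => hne ?_⟩
  have d1 := H18.index_cent_abelem2_dvd hk (le_refl N(A))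
  have d2 := hR.not_dvd_relIndex Nat.prime_three hc
  have d3 := (hS.of_le nA le_top).not_dvd_relIndex Nat.prime_two (le_cent1_iff.2 hz.2)
  have d4 := relIndex_dvd_left (cent_le_cent1 zA) N(A)
  have d5 : C[z].relIndex N(A) = 1 :=
    Nat.eq_one_of_dvd_coprimes (a := 6) (b := C[z].relIndex N(A)) (Nat.Coprime.mul_left
      ((Nat.Prime.coprime_iff_not_dvd Nat.prime_two).2 d3)
      ((Nat.Prime.coprime_iff_not_dvd Nat.prime_three).2 fun d => d2 (d.trans d4)) :
        Nat.Coprime (2 * 3) _) (d4.trans d1) dvd_rfl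
  rw [← e, mem_cent1.1 (relIndex_eq_one.1 d5 hn), mul_inv_cancel_right]

theorem inv_core (S : Sylow 2 G) (hA : IsMulCommutative A) (h2 : A ≤ S)
    (nA : (S : Subgroup G) ≤ N(A)) (h3 : ¬ PRankLE 2 2 A) (z : G) (z1 : z ≠ 1) (z2 : z ^ 2 = 1) :
    Oc {2}ᶜ C[z] = ⊥ := by
  obtain ⟨c1, c2⟩ := fourConn_of_scn S S (A.subgroupOf S) (NormalIn.subgroupOf ⟨h2, nA⟩)
    inferInstance (by rwa [prankLE_congr (subgroupOfEquivOfLe h2)])
  have c : CC G := fun t _ t1 => isPConstrained_of_isSolvable (m.sol _ (m.cent1_ne t1))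
  have c3 : ¬ PRankLE 2 2 G := fun h => c2 (prankLE_of_inj _ (subtype_injective _) h)
  exact (pPrimeCore_map_eq Nat.prime_two _).symm.trans
    (c.cpp_eq_bot m.odd_core (fun t t2 _ => exists_el3_of_conn S c3 c1 t2) z2 z1)

theorem s4b (hf : H28.S4F G) (core : ∀ z : G, z ≠ 1 → z ^ 2 = 1 → Oc {2}ᶜ C[z] = ⊥) :
    H3.IsBender G := by
  have := m.isSimple
  have f2 := Fact.mk Nat.prime_two
  obtain ⟨S⟩ : Nonempty (Sylow 2 G) := inferInstance
  obtain ⟨M, -, hM⟩ := Finite.exists_le_maximal (p := IsTwoLocal)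
    (⟨S, S.isPGroup', (syl_sylow_top S).sne_bot Nat.prime_two m.even, rfl⟩ :
      IsTwoLocal N((S : Subgroup G)))
  refine H18.Be.bender_simple (H := M) (H28.isStronglyEmbedded_iff_spe.2 (H28.spe_of_s4Free
    (card_top (G := G) ▸ m.even) m.two_core (fun L ⟨T, a, b, e⟩ => ?_)
    ⟨hM.prop, fun L a b => le_antisymm (hM.le_of_ge a b) b⟩)) (by
      by_contra! h
      exact m.ns (sol_of_ab ⟨⟨fun a b => Subtype.ext (h a b)⟩⟩))
  have hT := PiN.of_isPGroup Nat.prime_two a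
  have hs := m.sol _ (m.norm_ne b hT.sol)
  have hc : H28.IsCharP 2 L := by
    have := H18.cent_pcore_sub hs (m.norm_core hT b core)
    rwa [← pCore_map_eq Nat.prime_two, ← e] at this
  exact ⟨e ▸ hs, hc, hc.s3F fun k => hf (H29.involves_trans k (H29.involves_subgroup _))⟩

/-- an `S₄`-free minimal simple group is a Bender group or has a four-group with an
automorphism of order three -/
theorem s4 (hf : H28.S4F G) : H3.IsBender G ∨ ∃ A R : Subgroup G, El 2 2 A ⊤ ∧ PG 3 R ∧ R ≤ N(A) ∧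
    ¬ R ≤ C(A) := by
  have f2 := Fact.mk Nat.prime_two
  obtain ⟨S⟩ : Nonempty (Sylow 2 G) := inferInstance
  obtain ⟨h1, h2⟩ := H28.S4F.strCl hf (fun K R _ hc => H28.cFw_of_isSolvable
    (sol_top_iff.2 (m.sec_sol K R hc))) (H28.isSylowIn_top S)
  have hZ := H28.le_nclIn (omegaOneCenter 2 (S : Subgroup G)) N(H9.JJ 2 (S : Subgroup G))
  generalize H28.nclIn (omegaOneCenter 2 (S : Subgroup G)) N(H9.JJ 2 (S : Subgroup G)) = A at h1 h2 hZ
  have hA : Abelem 2 A := ⟨h1.1, h1.2⟩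
  have nA : (S : Subgroup G) ≤ N(A) := fun g hg => mem_norm_of_cj_le fun x hx => by
    obtain ⟨y, hy, rfl⟩ := mem_cj'.1 hx
    exact h2.2 y hy g (conj_mem_of_norm (le_normalizer hg) (h2.1 hy))
  by_cases h3 : PRankLE 2 2 A
  · exact Or.inr (m.s4a S hA h2 nA hZ h3)
  · exact Or.inl (m.s4b hf (m.inv_core S hA.1 h2.1 nA h3))

end MinS

/-- odd order elements of a Suzuki group are inverted by involutions -/
theorem sz_real (h : Lie.IsoSuzuki G) (x1 : x ≠ 1) (ho : Odd (orderOf x)) :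
    ∃ t : G, t * t = 1 ∧ t * x * t⁻¹ = x⁻¹ := by
  obtain ⟨F, _, _, k, hk, hF, ⟨e⟩⟩ := h
  let _ := H23.Sz.titsOfCard hF
  let _ := H23.Sz.lieModel hF
  have : H23.Sz.Big F := H23.Sz.big_of_card (by
    rw [Nat.card_eq_fintype_card, hF]
    exact lt_of_lt_of_le (by norm_num) (Nat.pow_le_pow_right two_pos (show 2 ≤ _ by omega)))
  have u1 : e x ≠ 1 := by simpa using x1
  have uo : Odd (orderOf (e x)) := by rwa [MulEquiv.orderOf_eq]
  obtain ⟨n, -, hn, hc⟩ := H23.Sz.card_NC (F := F) u1 uo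
  obtain ⟨t, ht, ot⟩ := exists_orderOf_eq_prime (H := H23.Sz.NC (e x)) Nat.prime_two
    (by rw [hc]; exact Dvd.dvd.mul_left (by omega) _)
  have t2 : t * t = 1 := by rw [← pow_two]; exact orderOf_dvd_iff_pow_eq_one.1 ot.dvd
  refine ⟨e.symm t, by rw [← map_mul, t2, map_one], e.injective ?_⟩
  simpa using H23.Sz.inverts F u1 uo ht (by rintro rfl; simp at ot) t2 (mem_cent1_self _)

theorem eq_one_of_nil_inv (h : ∀ H : Subgroup G, PiG {p}ᶜ H → Nil H) (h2 : p ≠ 2)
    (hr : r ≠ 2) (hrp : r ≠ p) (ht : PiE {2} t) (hx : PiE {r} x) (e : t * x * t⁻¹ = x⁻¹) : x = 1 := by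
  have n : zpowers t ≤ N(zpowers x) :=
    zpowers_le.2 (mem_norm_iff_cj.2 (by rw [cj_zpowers, e, zpowers_inv]))
  have c := nil_cents_pi (h _ ((piG_zpowers.2 (hx.sing_ne hrp)).sup
    (piG_zpowers.2 (ht.sing_ne h2.symm)) n)) le_sup_right le_sup_left (piG_zpowers.2 ht)
    (piG_zpowers.2 (hx.sing_ne hr))
  have := mem_cent.1 (c (mem_zpowers t)) x (mem_zpowers x)
  rw [← this, mul_inv_cancel_right, eq_inv_iff_mul_eq_one, ← pow_two, ← orderOf_dvd_iff_pow_eq_one] at e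
  exact PiN.e_eq_one (PiN.dvd ((piN_prime (π := {2}) Nat.prime_two).2 rfl) e) (hx.sing_ne hr)

theorem sol_of_p'_nil (hp : p.Prime) (h3 : 3 < p) (h : ∀ H : Subgroup G, PiG {p}ᶜ H → Nil H) :
    Group.IsSolvable G := by
  refine sol_of_minS (fun X _ => ∀ H : Subgroup X, PiG {p}ᶜ H → Nil H) (fun X _ _ H h K hK => ?_)
    (fun X _ _ N _ _ h K hK => ?_) (fun X _ _ h m => ?_) h
  · have e := equivMapOfInjective K _ H.subtype_injective
    have := h (K.map H.subtype) (by rwa [PiG, ← Nat.card_congr e.toEquiv])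
    exact Group.nilpotent_of_mulEquiv e.symm
  · obtain ⟨L, -, a, b⟩ := exists_pi_suppl (π := {p}ᶜ) (H := K.comap (QuotientGroup.mk' N)) (L := N)
      le_normalizer_of_normal (by
        have := relIndex_ker (K.comap (QuotientGroup.mk' N)) (QuotientGroup.mk' N)
        rw [QuotientGroup.ker_mk', map_comap_eq_self_of_surjective
          (QuotientGroup.mk'_surjective N)] at this
        exact this ▸ hK)
    have := h L a
    have b' := map_mono (f := QuotientGroup.mk' N) b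
    rw [map_comap_eq_self_of_surjective (QuotientGroup.mk'_surjective N), Subgroup.map_sup,
      (Subgroup.map_eq_bot_iff _).2 (QuotientGroup.ker_mk' N).ge, bot_sup_eq] at b'
    exact nil_mono (Group.nilpotent_of_surjective _ (MonoidHom.subgroupMap_surjective _ L)) b'
  have s3 : H28.S3F (⊤ : Subgroup X) := by
    by_contra hn
    obtain ⟨t, -, y, -, ⟨k, a⟩, ⟨j, b⟩, c, d⟩ := H28.exists_inv_of_not_s3F hn
    exact d (eq_one_of_nil_inv (r := 3) h (by omega) (by omega) (by omega)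
      ((PiN.prime_pow Nat.prime_two k).dvd (orderOf_dvd_of_pow_eq_one a))
      ((PiN.prime_pow Nat.prime_three j).dvd (orderOf_dvd_of_pow_eq_one b)) c)
  rcases m.s4 s3.s4F with (a | a | a) | ⟨A, R, a, b, c, d⟩
  · exact H28.l2_not_s3F a s3
  · obtain ⟨r, hr, r2, rp, hd⟩ := m.exists_prime Nat.prime_two hp
    obtain ⟨x, -, ox⟩ := exists_orderOf_eq_prime hr hd
    have x1 : x ≠ 1 := by rintro rfl; exact hr.one_lt.ne (by simpa using ox)
    obtain ⟨t, t2, e⟩ := sz_real a x1 (ox ▸ hr.odd_of_ne_two r2)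
    exact x1 (eq_one_of_nil_inv h (by omega) r2 rp
      (PiN.dvd ((piN_prime (π := {2}) Nat.prime_two).2 rfl) (orderOf_dvd_of_pow_eq_one (by rwa [pow_two])))
      (by rw [PiE, ox]; exact (piN_prime hr).2 rfl) e)
  · exact (H28.K.u3_facts a).2 s3
  · exact d (nil_cents_pi (h _ ((a.pg.sing_ne (by omega)).sup (b.sing_ne (by omega)) c)) le_sup_right
      le_sup_left b (a.pg.sing_ne (by omega)))

end H1
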