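import Cfsg.Agent.H16.Slp

/-! Generated by tools/h16 (computation kit). -/

set_option maxRecDepth 100000
set_option maxHeartbeats 0
set_option linter.unusedVariables false

namespace H1.OnA

open H16

noncomputable def Rl : List (List ℕ) := [[nat_lit 0, nat_lit 1],
  [nat_lit 1, nat_lit 0],
  [nat_lit 2, nat_lit 2],
  [nat_lit 3, nat_lit 3],
  [nat_lit 0, nat_lit 0, nat_lit 0, nat_lit 0],
  [nat_lit 0, nat_lit 2, nat_lit 0, nat_lit 2, nat_lit 0, nat_lit 2, nat_lit 0, nat_lit 2, nat_lit 0, nat_lit 2],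
  [nat_lit 0, nat_lit 0, nat_lit 2, nat_lit 0, nat_lit 0, nat_lit 2, nat_lit 0, nat_lit 0, nat_lit 2, nat_lit 1, nat_lit 1, nat_lit 2, nat_lit 1, nat_lit 1, nat_lit 2],
  [nat_lit 0, nat_lit 3, nat_lit 0, nat_lit 3],
  [nat_lit 2, nat_lit 3, nat_lit 2, nat_lit 3, nat_lit 2, nat_lit 3, nat_lit 2, nat_lit 3, nat_lit 2, nat_lit 3],
  [nat_lit 0, nat_lit 2, nat_lit 1, nat_lit 3, nat_lit 2, nat_lit 1, nat_lit 3, nat_lit 2, nat_lit 1, nat_lit 3, nat_lit 2, nat_lit 3, nat_lit 0, nat_lit 2, nat_lit 3],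
  [nat_lit 0, nat_lit 2, nat_lit 3, nat_lit 2, nat_lit 1, nat_lit 2, nat_lit 3, nat_lit 2, nat_lit 3, nat_lit 2, nat_lit 0, nat_lit 2, nat_lit 3, nat_lit 2, nat_lit 3]]
noncomputable def Pd : List ℕ := [nat_lit 0xca97b6c0cb95aed3c46f698dc538736a9b7799c97b7160c747aaadd7d56dd2afc28ebf86a5b7b383cdc6a9906c9ac8cc7a7dd8dfd9ddb59198a49fa794cf68d49cd6a2bb9d8abaa6a32693de7cdba86b27d18ca09e6e72b9b4cec318a10479291516abda92dc8120bc233f35bed0ac1f8bb2bd88878985b83a1b0c33642559b01a4414761361228f5c36342dc1496358322817394608964bb1123b751c4a2e375e1d2f42674555535640784c514d2b70622a66305d244e8050523d41575a5f742c21433e541e027e4f84823165480e10110b195b0f0a093c0d06057f03070100,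
  nat_lit 0xac94aa7a927cabadc49ec3a0d8c18e72a286b7b0dbdfccb1c8b6d3d785bf53dcbd736d779c998868badda987b96e4760c0d9c5717dc6b591a498bba6979d838ca58b9b9fcfb2cda7de49daa3957ba8b458bed48d6f9a6a6c6bbc6916b81579280418ae93cbaf8135ce5c4420d189ca30d68ac2b390d0d5a13b2d1363512f5ac9213f2b570c2261502337391b382633271729323448425212c74b3a5e1d3c2436751c250845674cd240567455644f142c3d41541f312e804e8f96622a76591e78701a3e43665f0d844d7e7f5d5b460f100b1107650e0a094a0206058203190100,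
  nat_lit 0x988c25858b539a86a7cdc29f26cf141cd23fd69040888a6ca6278eb33bd51d61a29463925c2db97aa583b4b5c4a9b1b0126b0cacab72b260d7c7b7a408bf3a2bd44441132fd949df4d0b4cbe1fbc7dcc19c54fdedbc97cca87d8dc4eb678475d437591891ab8718216767e6729aa793d566e58c8ae15223574661164bd07c0a8520f80bb4a24056d366f3832da5f34468d849795335b992c8150029e7f239dcbce0d701ec3a101550a5768514b540e2a9b2eba48a0307318c6d3dd5a42691b04933cc1d0217b8f2803776ad19caf65105e313ead963709a36206592017453900,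
  nat_lit 0xaf60c6717d477bd8c498906cad9a736a6d779ca3aec0979395ddc5d76b9b8aca9d8ea286b7a58c83bbb6a9698d387c94dfcbd37a92aab5a86f9eba8bccbd688899a6bfcdc2d29fd6c964c7b0c8ab91d576beb3b9a4c172a085bc8734b83281591739dbb1d9ac7936ce8f7537d189dc46a753cfd4c3d0b4a167622e96266629de4a5e5d27244e80235020183d6e515257045a15161f5f332cda70453f431a0c35443e541e3a3b7eb274784084498231121b652548141361225c632d5b582808564b3c1c1d2f4202557f4c4d2b2a300e0a0b1107410f1001210d03004f06190905]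
noncomputable def P (k u : ℕ) : ℕ := Nat.land (Nat.shiftRight (nth (nat_lit 0) Pd k) (Nat.mul u (nat_lit 8))) (nat_lit 255)
noncomputable def T0d : List ℕ := [nat_lit 0xa7be5374d6e15d681b7534aa6c92cdeb8fdf789ea76c429aa3f63addc1d04f818ac7aed76a9a9842b245dff1b8ed37df5fb4d77d3ed2f5730edef5909373d635d60f58ced13df463e57688eb0f12fab5438b6ed0015ffabed6b3eb9fd9edcc16184eb9dd9dfbe5bcadeaeb5317b389aa1a34b430e4d24da3eadacec3b35f7c8ef8db217ab3ea98aaddd593b311e92eac28657ab028af4d5cc675ada765aef78e9a7bdd729cecaddedead37654c159ded4159329eeaa7d54b2d5e3aa52bdd53deb93e79c8a1d52bb2477a7b127793655075459e87d68bb21779f60b9d507b1f398aec7bde675b2f63bef2dde52ea3f639ef23de3fa9c778eea6fde2de2c76347ab3de1b69e7783eb03d8c7bbf777cec5fddebbbc2b5dea5dd8afbbb7774eee7d4a7b13f770eedfddb3b12776aea4bdda3bb37522eec68883bafaa2dec3ddd6fa8ef757eaabd86fba8f44bee9dd46bba67319ee93d45fb0af746ee89d0ffa8a7740e627b8cf619773ae86bdcdba88730fde23d4c3b06772cec17dcabb947526ec13dc8fb90f51fec0fdc73a847718ee2dd037b897505ee1dcc13a857602ee0ddc0fa80f700,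
  nat_lit 0xa5bfdb589ef19dd7fb7d3369ec8ed2ed8c53709e992d5ed894f6bb5d40d0e95fd2ac8ec56c2ed531ae44e5769ce9afda6e9d377d49f454f2dcdea6cf159316d8e60f68be9a3da2645ff0c8ed0cded3b41348dab6006070e7329e4f20963ddd45f83c8fb89f3be655b5ece95216851c8a19941d1b8cd24971ecd8c6018477188ef8fdf17b336998ef87d98d0497662aee67653b2ff4c0ecbdd973a5f74bcecb4e1a3bddf7b8e96fd95b6cd60aceca8e2b7a29f7b30965d947a58f650ef5dd939ebc764def55d927a53f648ec8ef1e7bd2f644ec87525fa4ff642ef3bd901cc5763ee933d8f7532f496ec77de57a49f491ec72a1ed5262f6bec6dde31e2bbb59ec69de1fa19f784e8ffd1fbb18e377e8f5d8beeb9762de661d1dbb15f775b8c3d8a3a3876279cdfddb7a357624e64ddda7bb3ec55eec9d883bb0745de8b7d87b98ff758da45ac87ba9741aee9fd12d49c7618ee95d85ba237615ee8bd053a1ff741ec25d0f3b08a33ae821dcdfa1af60eee65d0bb916760ce855d82fb94f425e447d82770df41de439d81f9857719ee2fd017b89f40dee1fd80fa047206ec05dc13a00f700,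
  nat_lit 0x31be175fb6af6d27fb65f4fb6676c809bddb17bee83d12db5df7016a76b9a99d573c9dc77d90f5fda8bb4f77d80d5dd677beb7699857dda4fb48a6c0ed1b0f0fb45c0bce31c023fbe814cdd36fda0f3d5f681ab67d9f8455767c0d961f1fb3cf678cd6a26c7b3b7674d32d59ea852f670ecdfdf2bb36f66ca13fdf27a637669ecd1d99bbe24f98ecc9aa9d1caf08cef85d97fbe0ec7f0375caefbdfef94ef7bd967b2c7657b0d4b96fb2af363ef6dd94fbda7652db21decaf3777b0ec9d569bbd6f7acec93dea7125f7a8e895d91bb22f7a4ef477df7bd0f7a0ec835e1fbce779b52bbde6bb1e7797e909d8eb528bb60ef25d8e1533f6365f0dd8d7bc57789ef11d8cfbc2f632ef05de035b0f630e281ddefb177537c6ebcdcfbbbf62aec51ddcbbb89b44ec4dd897bb5f24f987fd88fb117765ec43dd8bb0ff75ee899dd73bad761ceeaddd53b0d7750ec33dd37b0c722cec2fdd2388b7747ec29dd0fba17612ee7ddcf7b9df610ee73d83f88ef734ec1bdcc7b97f72dee57c0a7b057727e61ddc93b047720ee3dd04fb8df606ec0bdc57b027711ec07dc33b85f709ee0fd807b817700,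
  nat_lit 0xedb24b58f6e1dddeda1db33bef90cb67ae4f7bb6212d42ba7db09bdd77dbed5ddaabb54f7da23b11ae06e40cc9698cd71e9d2f7d5a33fdf48e60f68f9739da2e0dec3b67312e347b4445caa9510af3a43b68c651c0dfbb3e349decf7df3ddc34783ecefdf3bbe6d5b7bce9d9c696291a1df35d9b49524b85a587d9ad9d84abf6d37ba8d0497665a6d94e592332867ecbe7e66cb9f65eef80cecfb2d37b4ef7d25a5d5df7b9e76aeab665049549159d15bb292e5ceca212cbb2877b1ef5f61abb26bf78ef57a9c30245fa7b522f1cbbd36b769cdfd90bbd15497ef3d65ea445373e4f289657bcc5263a2c898f7b1cdb47ef27de43b1b2f805899de37b1a3b587cafd60bb194a84ec63de07bbff77db4815907bbcad5bec59b113422e175b8c1c4a34a4ed4ae087ddbaba75b4fec46e1a13b17621a0769083bb0f61e505bdd77b0e7759ec37dd57ba9f619b849d86149bf74bdc4fc8ab98af246de57d84fb095d2fee7fd847b9e253aec1fdce3b077735ee67d833b98772ee62dd05f914f609ee4ddc97b917607ee3fdc77b03771aea17d813b8a7603ee21dc37b01770aee11dc17b007701]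
noncomputable def T0 (k u : ℕ) : ℕ := Nat.land (Nat.shiftRight (nth (nat_lit 0) T0d k) (Nat.mul u (nat_lit 15))) (nat_lit 32767)
noncomputable def I0d : List ℕ := [nat_lit 0x19e6918d8b200a11888638c4142067080200852218944081c1205c90a84d104661040a21429108d42082000483310221188318c4104006081614004811247510a3190201b444888203902808181000c100040200a1180e010400080031040001020000201000200407080401040500803010200144018c6028043308200800208002080400140200c410004f,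
  nat_lit 0x30000000001000000100000000000000000000000000200000000000000000840008000000000000000021000a0000010000008000080000002000000080000000000400000000040000401000000000000001000000040000420080200000100020080000800008001000060040008000000200000000001080200800000402,
  nat_lit 0x99000a540000022004000240138001010200000300c0b000374016018000044000080004860004004840000025039e70802020820080006000008020b04010002100401100010a82100021004011000508060300210802008600004043002000425000221000100401004200840100408005810042008420081410042108001004010882000401004210802d,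
  nat_lit 0x800002010803280010000110cc000861004406812200800000400000700460004230000030080100002804001005000000a00209581000401000000801080040800210c2210022088000082200000084030040321404004210002700008180422044200840100200040100420000610096250004080250040108021008000842008401280200840108401]
noncomputable def I0 (k u : ℕ) : ℕ := Nat.land (Nat.shiftRight (nth (nat_lit 0) I0d k) (Nat.mul u (nat_lit 5))) (nat_lit 31)
noncomputable def D0d : ℕ := nat_lit 0xd9f58d5b4ad0f33ccb22c6316c4f11c430bba2e6aeeaba9ea5a928a9ea709b66c9a6669764e91a3f8da2f8ba2c8962488e218620e82206805fa7cdf27bded799e277ddd769d2741c7715c26f9b76d9b26c1af6b5a66899a661976498c625885fd7e5f17b5e1705ad695a1665895e56558559515414e52d4a51d4450d404e9384dd3449924485204711a459104310b42508419003e4f83d4f43c8ed3b0ea39ce5390e236cda360d634cd1340ce32cca31cc5310c22f4bc2e8b42ccad2b0aa288a02749c268962449023c8e22887218801f87b1e4781cc721bc6d1a867198631886017858154541484f12c4a12047110420fc3e0ec380d8330c4300b42c0a827094240881f0741c06c1a058130480f0380c02c090200600c00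
noncomputable def D0 (u : ℕ) : ℕ := Nat.land (Nat.shiftRight D0d (Nat.mul u (nat_lit 10))) (nat_lit 1023)
noncomputable def RL0 : List (List Rule) := [[.defn, .rel (nat_lit 0) (nat_lit 0) [nat_lit 1], .rel (nat_lit 14) (nat_lit 0) [nat_lit 3, nat_lit 0, nat_lit 3], .rel (nat_lit 14) (nat_lit 2) [nat_lit 3, nat_lit 0, nat_lit 3], .rel (nat_lit 8) (nat_lit 0) [nat_lit 0, nat_lit 0, nat_lit 0], .rel (nat_lit 8) (nat_lit 1) [nat_lit 0, nat_lit 0, nat_lit 0], .rel (nat_lit 10) (nat_lit 6) [nat_lit 2, nat_lit 0, nat_lit 2, nat_lit 0, nat_lit 2, nat_lit 0, nat_lit 2, nat_lit 0, nat_lit 2], .rel (nat_lit 8) (nat_lit 2) [nat_lit 0, nat_lit 0, nat_lit 0], .rel (nat_lit 8) (nat_lit 3) [nat_lit 0, nat_lit 0, nat_lit 0], .rel (nat_lit 10) (nat_lit 4) [nat_lit 2, nat_lit 0, nat_lit 2, nat_lit 0, nat_lit 2, nat_lit 0, nat_lit 2, nat_lit 0, nat_lit 2], .rel (nat_lit 10) (nat_lit 8) [nat_lit 2, nat_lit 0, nat_lit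 2, nat_lit 0, nat_lit 2, nat_lit 0, nat_lit 2, nat_lit 0, nat_lit 2], .rel (nat_lit 10) (nat_lit 0) [nat_lit 2, nat_lit 0, nat_lit 2, nat_lit 0, nat_lit 2, nat_lit 0, nat_lit 2, nat_lit 0, nat_lit 2], .rel (nat_lit 10) (nat_lit 2) [nat_lit 2, nat_lit 0, nat_lit 2, nat_lit 0, nat_lit 2, nat_lit 0, nat_lit 2, nat_lit 0, nat_lit 2], .rel (nat_lit 12) (nat_lit 6) [nat_lit 0, nat_lit 2, nat_lit 1, nat_lit 1, nat_lit 2, nat_lit 1, nat_lit 1, nat_lit 2, nat_lit 0, nat_lit 0, nat_lit 2, nat_lit 0, nat_lit 0, nat_lit 2], .rel (nat_lit 18) (nat_lit 0) [nat_lit 2, nat_lit 1, nat_lit 3, nat_lit 2, nat_lit 1, nat_lit 3, nat_lit 2, nat_lit 1, nat_lit 3, nat_lit 2, nat_lit 3, nat_lit 0, nat_lit 2, nat_lit 3], .sub (nat_lit 0) [] [], .rel (nat_lit 12) (nat_lit 0) [nat_lit 0, nat_lit 2, nat_lit 0, nat_lit 0, nat_lit 2, nat_lit 0, nat_lit 0, nat_lit 2, nat_lit 1, nat_lit 1, nat_lit 2, nat_lit 1, nat_lit 1, nat_lit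 2], .rel (nat_lit 12) (nat_lit 7) [nat_lit 2, nat_lit 1, nat_lit 1, nat_lit 2, nat_lit 1, nat_lit 1, nat_lit 2, nat_lit 0, nat_lit 0, nat_lit 2, nat_lit 0, nat_lit 0, nat_lit 2, nat_lit 0], .rel (nat_lit 18) (nat_lit 12) [nat_lit 2, nat_lit 3, nat_lit 0, nat_lit 2, nat_lit 1, nat_lit 3, nat_lit 2, nat_lit 1, nat_lit 3, nat_lit 2, nat_lit 1, nat_lit 3, nat_lit 2, nat_lit 3], .rel (nat_lit 20) (nat_lit 0) [nat_lit 2, nat_lit 3, nat_lit 2, nat_lit 1, nat_lit 2, nat_lit 3, nat_lit 2, nat_lit 3, nat_lit 2, nat_lit 0, nat_lit 2, nat_lit 3, nat_lit 2, nat_lit 3], .rel (nat_lit 20) (nat_lit 10) [nat_lit 2, nat_lit 3, nat_lit 2, nat_lit 3, nat_lit 0, nat_lit 2, nat_lit 3, nat_lit 2, nat_lit 1, nat_lit 2, nat_lit 3, nat_lit 2, nat_lit 3, nat_lit 2]],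
  [.rel (nat_lit 2) (nat_lit 0) [nat_lit 0], .defn, .sub (nat_lit 2) [] [], .rel (nat_lit 12) (nat_lit 10) [nat_lit 2, nat_lit 1, nat_lit 1, nat_lit 2, nat_lit 0, nat_lit 0, nat_lit 2, nat_lit 0, nat_lit 0, nat_lit 2, nat_lit 0, nat_lit 0, nat_lit 2, nat_lit 1], .rel (nat_lit 12) (nat_lit 13) [nat_lit 2, nat_lit 0, nat_lit 0, nat_lit 2, nat_lit 0, nat_lit 0, nat_lit 2, nat_lit 0, nat_lit 0, nat_lit 2, nat_lit 1, nat_lit 1, nat_lit 2, nat_lit 1], .rel (nat_lit 18) (nat_lit 5) [nat_lit 3, nat_lit 2, nat_lit 1, nat_lit 3, nat_lit 2, nat_lit 3, nat_lit 0, nat_lit 2, nat_lit 3, nat_lit 0, nat_lit 2, nat_lit 1, nat_lit 3, nat_lit 2], .rel (nat_lit 18) (nat_lit 8) [nat_lit 3, nat_lit 2, nat_lit 3, nat_lit 0, nat_lit 2, nat_lit 3, nat_lit 0, nat_lit 2, nat_lit 1, nat_lit 3, nat_lit 2, nat_lit 1, nat_lit 3, nat_lit 2]],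
  [.rel (nat_lit 4) (nat_lit 0) [nat_lit 2], .defn, .rel (nat_lit 10) (nat_lit 5) [nat_lit 0, nat_lit 2, nat_lit 0, nat_lit 2, nat_lit 0, nat_lit 2, nat_lit 0, nat_lit 2, nat_lit 0], .rel (nat_lit 10) (nat_lit 1) [nat_lit 0, nat_lit 2, nat_lit 0, nat_lit 2, nat_lit 0, nat_lit 2, nat_lit 0, nat_lit 2, nat_lit 0], .rel (nat_lit 10) (nat_lit 9) [nat_lit 0, nat_lit 2, nat_lit 0, nat_lit 2, nat_lit 0, nat_lit 2, nat_lit 0, nat_lit 2, nat_lit 0], .rel (nat_lit 16) (nat_lit 6) [nat_lit 3, nat_lit 2, nat_lit 3, nat_lit 2, nat_lit 3, nat_lit 2, nat_lit 3, nat_lit 2, nat_lit 3], .rel (nat_lit 10) (nat_lit 3) [nat_lit 0, nat_lit 2, nat_lit 0, nat_lit 2, nat_lit 0, nat_lit 2, nat_lit 0, nat_lit 2, nat_lit 0], .rel (nat_lit 10) (nat_lit 7) [nat_lit 0, nat_lit 2, nat_lit 0, nat_lit 2, nat_lit 0, nat_lit 2, nat_lit 0, nat_lit 2, nat_lit 0], .rel (nat_lit 12) (nat_lit 5) [nat_lit 0, nat_lit 0, nat_lit 2, nat_lit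 1, nat_lit 1, nat_lit 2, nat_lit 1, nat_lit 1, nat_lit 2, nat_lit 0, nat_lit 0, nat_lit 2, nat_lit 0, nat_lit 0], .rel (nat_lit 18) (nat_lit 10) [nat_lit 3, nat_lit 0, nat_lit 2, nat_lit 3, nat_lit 0, nat_lit 2, nat_lit 1, nat_lit 3, nat_lit 2, nat_lit 1, nat_lit 3, nat_lit 2, nat_lit 1, nat_lit 3], .rel (nat_lit 20) (nat_lit 7) [nat_lit 3, nat_lit 2, nat_lit 0, nat_lit 2, nat_lit 3, nat_lit 2, nat_lit 3, nat_lit 0, nat_lit 2, nat_lit 3, nat_lit 2, nat_lit 1, nat_lit 2, nat_lit 3], .rel (nat_lit 20) (nat_lit 11) [nat_lit 3, nat_lit 2, nat_lit 3, nat_lit 0, nat_lit 2, nat_lit 3, nat_lit 2, nat_lit 1, nat_lit 2, nat_lit 3, nat_lit 2, nat_lit 3, nat_lit 2, nat_lit 0], .rel (nat_lit 20) (nat_lit 13) [nat_lit 3, nat_lit 0, nat_lit 2, nat_lit 3, nat_lit 2, nat_lit 1, nat_lit 2, nat_lit 3, nat_lit 2, nat_lit 3, nat_lit 2, nat_lit 0, nat_lit 2, nat_lit 3], .sub (nat_lit 4) [] [], .rel (nat_lit 12) (nat_lit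 2) [nat_lit 0, nat_lit 0, nat_lit 2, nat_lit 0, nat_lit 0, nat_lit 2, nat_lit 1, nat_lit 1, nat_lit 2, nat_lit 1, nat_lit 1, nat_lit 2, nat_lit 0, nat_lit 0], .rel (nat_lit 16) (nat_lit 0) [nat_lit 3, nat_lit 2, nat_lit 3, nat_lit 2, nat_lit 3, nat_lit 2, nat_lit 3, nat_lit 2, nat_lit 3], .rel (nat_lit 16) (nat_lit 2) [nat_lit 3, nat_lit 2, nat_lit 3, nat_lit 2, nat_lit 3, nat_lit 2, nat_lit 3, nat_lit 2, nat_lit 3], .rel (nat_lit 16) (nat_lit 4) [nat_lit 3, nat_lit 2, nat_lit 3, nat_lit 2, nat_lit 3, nat_lit 2, nat_lit 3, nat_lit 2, nat_lit 3], .rel (nat_lit 16) (nat_lit 8) [nat_lit 3, nat_lit 2, nat_lit 3, nat_lit 2, nat_lit 3, nat_lit 2, nat_lit 3, nat_lit 2, nat_lit 3], .rel (nat_lit 18) (nat_lit 1) [nat_lit 1, nat_lit 3, nat_lit 2, nat_lit 1, nat_lit 3, nat_lit 2, nat_lit 1, nat_lit 3, nat_lit 2, nat_lit 3, nat_lit 0, nat_lit 2, nat_lit 3, nat_lit 0], .rel (nat_lit 20) (nat_lit 1) [nat_lit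 3, nat_lit 2, nat_lit 1, nat_lit 2, nat_lit 3, nat_lit 2, nat_lit 3, nat_lit 2, nat_lit 0, nat_lit 2, nat_lit 3, nat_lit 2, nat_lit 3, nat_lit 0], .rel (nat_lit 20) (nat_lit 3) [nat_lit 1, nat_lit 2, nat_lit 3, nat_lit 2, nat_lit 3, nat_lit 2, nat_lit 0, nat_lit 2, nat_lit 3, nat_lit 2, nat_lit 3, nat_lit 0, nat_lit 2, nat_lit 3], .rel (nat_lit 20) (nat_lit 5) [nat_lit 3, nat_lit 2, nat_lit 3, nat_lit 2, nat_lit 0, nat_lit 2, nat_lit 3, nat_lit 2, nat_lit 3, nat_lit 0, nat_lit 2, nat_lit 3, nat_lit 2, nat_lit 1], .rel (nat_lit 20) (nat_lit 9) [nat_lit 0, nat_lit 2, nat_lit 3, nat_lit 2, nat_lit 3, nat_lit 0, nat_lit 2, nat_lit 3, nat_lit 2, nat_lit 1, nat_lit 2, nat_lit 3, nat_lit 2, nat_lit 3]],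
  [.rel (nat_lit 6) (nat_lit 0) [nat_lit 3], .defn, .rel (nat_lit 14) (nat_lit 3) [nat_lit 0, nat_lit 3, nat_lit 0], .rel (nat_lit 14) (nat_lit 1) [nat_lit 0, nat_lit 3, nat_lit 0], .rel (nat_lit 16) (nat_lit 5) [nat_lit 2, nat_lit 3, nat_lit 2, nat_lit 3, nat_lit 2, nat_lit 3, nat_lit 2, nat_lit 3, nat_lit 2], .rel (nat_lit 16) (nat_lit 9) [nat_lit 2, nat_lit 3, nat_lit 2, nat_lit 3, nat_lit 2, nat_lit 3, nat_lit 2, nat_lit 3, nat_lit 2], .rel (nat_lit 20) (nat_lit 2) [nat_lit 2, nat_lit 1, nat_lit 2, nat_lit 3, nat_lit 2, nat_lit 3, nat_lit 2, nat_lit 0, nat_lit 2, nat_lit 3, nat_lit 2, nat_lit 3, nat_lit 0, nat_lit 2], .rel (nat_lit 20) (nat_lit 12) [nat_lit 2, nat_lit 3, nat_lit 0, nat_lit 2, nat_lit 3, nat_lit 2, nat_lit 1, nat_lit 2, nat_lit 3, nat_lit 2, nat_lit 3, nat_lit 2, nat_lit 0, nat_lit 2], .rel (nat_lit 20) (nat_lit 14) [nat_lit 0, nat_lit 2, nat_lit 3, nat_lit 2, nat_lit 1, nat_lit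 2, nat_lit 3, nat_lit 2, nat_lit 3, nat_lit 2, nat_lit 0, nat_lit 2, nat_lit 3, nat_lit 2], .rel (nat_lit 16) (nat_lit 3) [nat_lit 2, nat_lit 3, nat_lit 2, nat_lit 3, nat_lit 2, nat_lit 3, nat_lit 2, nat_lit 3, nat_lit 2], .rel (nat_lit 16) (nat_lit 7) [nat_lit 2, nat_lit 3, nat_lit 2, nat_lit 3, nat_lit 2, nat_lit 3, nat_lit 2, nat_lit 3, nat_lit 2], .rel (nat_lit 18) (nat_lit 3) [nat_lit 2, nat_lit 1, nat_lit 3, nat_lit 2, nat_lit 1, nat_lit 3, nat_lit 2, nat_lit 3, nat_lit 0, nat_lit 2, nat_lit 3, nat_lit 0, nat_lit 2, nat_lit 1], .rel (nat_lit 18) (nat_lit 11) [nat_lit 0, nat_lit 2, nat_lit 3, nat_lit 0, nat_lit 2, nat_lit 1, nat_lit 3, nat_lit 2, nat_lit 1, nat_lit 3, nat_lit 2, nat_lit 1, nat_lit 3, nat_lit 2], .rel (nat_lit 20) (nat_lit 8) [nat_lit 2, nat_lit 0, nat_lit 2, nat_lit 3, nat_lit 2, nat_lit 3, nat_lit 0, nat_lit 2, nat_lit 3, nat_lit 2, nat_lit 1, nat_lit 2, nat_lit 3, nat_lit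 2]]]
noncomputable def c0 : TCert := ⟨224, 4, 255, T0, I0, D0, [[nat_lit 0],
  [nat_lit 1],
  [nat_lit 2]], RL0⟩
noncomputable def Pt0d : ℕ := nat_lit 0x672d06a107f0382aa891c3e43150d0a2dba041732563678ddc67c1d8b4da86640db91ab190737206492497b761eb75c5425268699a54f960f93b1c4476fd7c7a4572735b6dac1099e5e6e9a978a601b628fcbd97da10274336395cebc521a23213ccdbb3d1fd3d89f8d110bdec5c8b381d6a7a6504b6883d25301443fb2a3b0c92fcf58bdae3a4567514c775f42089c2c70ada2658cd40e948e6cb979984648acb8383975a9cc9bbf6d6b3b34164a13300c9d2ea031d1be8871df127a557eb590c287c3845b2a412b1473cadcaf18b4d5854e245d29c028695a806122590500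
noncomputable def Pt0 (u : ℕ) : ℕ := Nat.land (Nat.shiftRight Pt0d (Nat.mul u (nat_lit 8))) (nat_lit 255)
noncomputable def Q0d : ℕ := nat_lit 0x2573c713be9a8c78a16e0f49796729dd5d847d398d145f71a0c672a41c1e990937285b837cce443eb19b20107062a560125a4d3fbcd73ac16d6caa9f614c8a2b77972d503894ab4293a88547a6b6bd1f8e46764ac392d6271dac0e1b68d86f05da218bc5b42343c854b33b8815de264ea295364535dc076957c04bb7868f049153960bb01a06025c9eca22af6682566ba90dc2556a31b540a3415864d35218bf63d47b7e34593c3db9c99c3387cb2a2f5e2ccf4f17190a089dadae0c80037fb87ab2c4d59081bb11cc32d216302475dba748d12e74d09851badf01cdd9896500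
noncomputable def Q0 (u : ℕ) : ℕ := Nat.land (Nat.shiftRight Q0d (Nat.mul u (nat_lit 8))) (nat_lit 255)
noncomputable def l0 : Lev := ⟨224, 4, D0, Pt0, Q0⟩
noncomputable def T1d : List ℕ := [nat_lit 0x7d92d6b51b4e357b4bb49bd83cc8d3854352ac4bd59c7ac2945abf8cfabbbd0b37bcdb35bca939b31bc8b2e9b3b2dbc6b2cb2abc38b8bc1b2693dbc0bbeaa45b4bbcbba9b2aa0928a9ebb6a9c622a9ab18bb0bafa97b15babb14ba9b13ba7b11ba5ba3b0fba1b9fb9db9ba8db99a8bb96a89b07b92b06b90b05b8eb8cb8ab88a83b01b84b82b80,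
  nat_lit 0x759b522d5258b4c7cf8502cebd7b45847bd6b43351bd4b41bd3b3e94bb3a8c9a4db37a4ab35b32a48b318b3b2ea46b2d8c0836bc4b28bc252f93c92cbbfb23b22bbdbbbbb9b1fbb8b1d8aab1bbb4b19a30b185a6b16a2bb15a29b14a27b13a25b11ba4a21b0fba0b9eb9cb0cb9ab0ab97b08a12b07a10b06a0eb05b8db8bb89b02a04b01b83b80,
  nat_lit 0xb545574d8153050bd91d6b48b460d5b44b4394ab42b419cdb40bd2b3dbd1b39bcfbcebccbcbbc93b8ab4bc76bc9af4b6bc543fb2943ab27a3eb25b24b2392ba3bb21b20b1f9b0b1dbb7b1cbb5b1abb3bb2bb1b16baebadbac999baaba8a97ba6a1eb10a1bba2b0eb0db0c992b0ab98b09b95b94b93a08b91b8fa8bb04b03b02b87b86b85b00b81]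
noncomputable def T1 (k u : ℕ) : ℕ := Nat.land (Nat.shiftRight (nth (nat_lit 0) T1d k) (Nat.mul u (nat_lit 12))) (nat_lit 4095)
noncomputable def I1d : List ℕ := [nat_lit 0x43113110835920424272010103101a101103015002300424202421002101010100100002020210101000021006,
  nat_lit 0x1001001010000000000000000010100010011101000100000000000001001110101000000011100012,
  nat_lit 0x20001800700000401010111110314051600000000200040101011101110113120010005010111011300011101]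
noncomputable def I1 (k u : ℕ) : ℕ := Nat.land (Nat.shiftRight (nth (nat_lit 0) I1d k) (Nat.mul u (nat_lit 4))) (nat_lit 15)
noncomputable def D1d : ℕ := nat_lit 0xfef6f4ebe4e2dcdad4cfcecbc9c8c5c3c2bab9aeada6a5a09f9694938b8a8887857f7d787773716e6b696665625f5d59575651504b49484442403f3d3c3a393433322e2d2c292624201e1d1816151312100f0e0b080604030200
noncomputable def D1 (u : ℕ) : ℕ := Nat.land (Nat.shiftRight D1d (Nat.mul u (nat_lit 8))) (nat_lit 255)
noncomputable def RL1 : List (List Rule) := [[.defn, .rel (nat_lit 0) (nat_lit 0) [nat_lit 1], .rel (nat_lit 8) (nat_lit 0) [nat_lit 0, nat_lit 0, nat_lit 0], .rel (nat_lit 8) (nat_lit 2) [nat_lit 0, nat_lit 0, nat_lit 0], .rel (nat_lit 10) (nat_lit 6) [nat_lit 2, nat_lit 0, nat_lit 2, nat_lit 0, nat_lit 2, nat_lit 0, nat_lit 2, nat_lit 0, nat_lit 2], .rel (nat_lit 8) (nat_lit 1) [nat_lit 0, nat_lit 0, nat_lit 0], .sub (nat_lit 0) [] [], .rel (nat_lit 10)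 (nat_lit 2) [nat_lit 2, nat_lit 0, nat_lit 2, nat_lit 0, nat_lit 2, nat_lit 0, nat_lit 2, nat_lit 0, nat_lit 2], .rel (nat_lit 10) (nat_lit 4) [nat_lit 2, nat_lit 0, nat_lit 2, nat_lit 0, nat_lit 2, nat_lit 0, nat_lit 2, nat_lit 0, nat_lit 2], .rel (nat_lit 10) (nat_lit 8) [nat_lit 2, nat_lit 0, nat_lit 2, nat_lit 0, nat_lit 2, nat_lit 0, nat_lit 2, nat_lit 0, nat_lit 2], .rel (nat_lit 12) (nat_lit 7) [nat_lit 2, nat_lit 1, nat_lit 1, nat_lit 2, nat_lit 1, nat_lit 1, nat_lit 2, nat_lit 0, nat_lit 0, nat_lit 2, nat_lit 0, nat_lit 0, nat_lit 2, nat_lit 0]],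
  [.rel (nat_lit 2) (nat_lit 0) [nat_lit 0], .defn, .sub (nat_lit 2) [] []],
  [.rel (nat_lit 4) (nat_lit 0) [nat_lit 2], .defn, .rel (nat_lit 10) (nat_lit 5) [nat_lit 0, nat_lit 2, nat_lit 0, nat_lit 2, nat_lit 0, nat_lit 2, nat_lit 0, nat_lit 2, nat_lit 0], .rel (nat_lit 10) (nat_lit 9) [nat_lit 0, nat_lit 2, nat_lit 0, nat_lit 2, nat_lit 0, nat_lit 2, nat_lit 0, nat_lit 2, nat_lit 0], .rel (nat_lit 12) (nat_lit 5) [nat_lit 0, nat_lit 0, nat_lit 2, nat_lit 1, nat_lit 1, nat_lit 2, nat_lit 1, nat_lit 1, nat_lit 2, nat_lit 0, nat_lit 0, nat_lit 2, nat_lit 0, nat_lit 0], .rel (nat_lit 12) (nat_lit 2) [nat_lit 0, nat_lit 0, nat_lit 2, nat_lit 0, nat_lit 0, nat_lit 2, nat_lit 1, nat_lit 1, nat_lit 2, nat_lit 1, nat_lit 1, nat_lit 2, nat_lit 0, nat_lit 0], .rel (nat_lit 10) (nat_lit 3) [nat_lit 0, nat_lit 2, nat_lit 0, nat_lit 2, nat_lit 0, nat_lit 2, nat_lit 0, nat_lit 2, nat_lit 0], .rel (nat_lit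 10) (nat_lit 7) [nat_lit 0, nat_lit 2, nat_lit 0, nat_lit 2, nat_lit 0, nat_lit 2, nat_lit 0, nat_lit 2, nat_lit 0], .rel (nat_lit 12) (nat_lit 11) [nat_lit 1, nat_lit 1, nat_lit 2, nat_lit 0, nat_lit 0, nat_lit 2, nat_lit 0, nat_lit 0, nat_lit 2, nat_lit 0, nat_lit 0, nat_lit 2, nat_lit 1, nat_lit 1]]]
noncomputable def c1 : TCert := ⟨90, 3, 127, T1, I1, D1, [[nat_lit 0],
  [nat_lit 1]], RL1⟩
noncomputable def Pt1d : ℕ := nat_lit 0xace3f77753716865e7e40bcdb44568b84d8360f18cb929e6f4ed3ad5776110b28267b96d60c2329c5d1655c0e8014521a49cd5b42738e13bb315d1e5f99b74a3cbea59c2b21ba6608949fa01b2ddea3d48c54978d324d4f1703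
noncomputable def Pt1 (u : ℕ) : ℕ := Nat.land (Nat.shiftRight Pt1d (Nat.mul u (nat_lit 8))) (nat_lit 255)
noncomputable def Q1d : ℕ := nat_lit 0x2c0009a0004800d40097e018000161380880000000018800000000006004e424c000360000000000000001f0000000000000b80140000e1f080160000e000cd8010010c000008c28894000000148049000002c01400006e00000acf2a80480000082000000000000004978000000003b44fae4c000007b2c00700a800005001800069400000004c009404fae000190000000a91c000001100000006002a0193900e00006600a0000780001aa4045034c02b4401d808cb4034756401100000000000000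
noncomputable def Q1 (u : ℕ) : ℕ := Nat.land (Nat.shiftRight Q1d (Nat.mul u (nat_lit 7))) (nat_lit 127)
noncomputable def l1 : Lev := ⟨90, 3, D1, Pt1, Q1⟩
noncomputable def T2d : List ℕ := [nat_lit 0x68fd,
  nat_lit 0x938e]
noncomputable def T2 (k u : ℕ) : ℕ := Nat.land (Nat.shiftRight (nth (nat_lit 0) T2d k) (Nat.mul u (nat_lit 4))) (nat_lit 15)
noncomputable def I2d : List ℕ := [nat_lit 0x90,
  nat_lit 1]
noncomputable def I2 (k u : ℕ) : ℕ := Nat.land (Nat.shiftRight (nth (nat_lit 0) I2d k) (Nat.mul u (nat_lit 2))) (nat_lit 3)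
noncomputable def D2d : ℕ := nat_lit 0x90
noncomputable def D2 (u : ℕ) : ℕ := Nat.land (Nat.shiftRight D2d (Nat.mul u (nat_lit 2))) (nat_lit 3)
noncomputable def RL2 : List (List Rule) := [[.defn, .rel (nat_lit 0) (nat_lit 0) [nat_lit 1], .rel (nat_lit 8) (nat_lit 0) [nat_lit 0, nat_lit 0, nat_lit 0]],
  [.rel (nat_lit 2) (nat_lit 0) [nat_lit 0], .defn]]
noncomputable def c2 : TCert := ⟨4, 2, 3, T2, I2, D2, [], RL2⟩
noncomputable def Pt2d : ℕ := nat_lit 0x83a1b868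
noncomputable def Pt2 (u : ℕ) : ℕ := Nat.land (Nat.shiftRight Pt2d (Nat.mul u (nat_lit 8))) (nat_lit 255)
noncomputable def Q2d : ℕ := nat_lit 0x100000000000800000000000000c00000000000000000000000000000000000000000000000000000000000000000
noncomputable def Q2 (u : ℕ) : ℕ := Nat.land (Nat.shiftRight Q2d (Nat.mul u (nat_lit 2))) (nat_lit 3)
noncomputable def l2 : Lev := ⟨4, 2, D2, Pt2, Q2⟩
noncomputable def B : List ℕ := [nat_lit 0, nat_lit 3, nat_lit 104]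
noncomputable def L : List Lev := [l0, l1, l2]

theorem tc0e_a : allZ2 (entryChk T0 (selR RL0 I0) D0 (nat_lit 255) (nat_lit 224) (nat_lit 4)) (nat_lit 4) (nat_lit 224) = true := by decide +kernel
theorem tc0r : rulesChk Rl c0.Sl RL0 (nat_lit 4) = true := by decide +kernel
theorem ivc : ivChk Rl (nat_lit 4) = true := by decide +kernel
theorem lv0e_0 : allZ (l0.ent P) (nat_lit 0) (nat_lit 223) = true := by decide +kernel
theorem lv0b : Nat.blt (Pt0 (nat_lit 0)) (nat_lit 224) = true ∧ Q0 (Pt0 (nat_lit 0)) = 0 ∧ Pt0 (nat_lit 0) = 0 := by decide +kernel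
theorem sb0 : allL (ltAll (nat_lit 3)) c0.Sl = true ∧ fixLetters P (nat_lit 3) (Pt0 (nat_lit 0)) = true := by decide +kernel
theorem tc1e_a : allZ2 (entryChk T1 (selR RL1 I1) D1 (nat_lit 127) (nat_lit 90) (nat_lit 3)) (nat_lit 3) (nat_lit 90) = true := by decide +kernel
theorem tc1r : rulesChk Rl c1.Sl RL1 (nat_lit 3) = true := by decide +kernel
theorem lv1e_0 : allZ (l1.ent P) (nat_lit 0) (nat_lit 89) = true := by decide +kernel
theorem lv1b : Nat.blt (Pt1 (nat_lit 0)) (nat_lit 224) = true ∧ Q1 (Pt1 (nat_lit 0)) = 0 ∧ Pt1 (nat_lit 0) = 3 := by decide +kernel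
theorem sb1 : allL (ltAll (nat_lit 2)) c1.Sl = true ∧ fixLetters P (nat_lit 2) (Pt1 (nat_lit 0)) = true := by decide +kernel
theorem tc2e_a : allZ2 (entryChk T2 (selR RL2 I2) D2 (nat_lit 3) (nat_lit 4) (nat_lit 2)) (nat_lit 2) (nat_lit 4) = true := by decide +kernel
theorem tc2r : rulesChk Rl c2.Sl RL2 (nat_lit 2) = true := by decide +kernel
theorem lv2e_0 : allZ (l2.ent P) (nat_lit 0) (nat_lit 3) = true := by decide +kernel
theorem lv2b : Nat.blt (Pt2 (nat_lit 0)) (nat_lit 224) = true ∧ Q2 (Pt2 (nat_lit 0)) = 0 ∧ Pt2 (nat_lit 0) = 104 := by decide +kernel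
theorem sb2 : allL (ltAll (nat_lit 0)) c2.Sl = true ∧ fixLetters P (nat_lit 0) (Pt2 (nat_lit 0)) = true := by decide +kernel
theorem Blt : ltAll (nat_lit 224) B = 0 := by decide +kernel
theorem ivk : ivLt Rl (nat_lit 4) = true := by decide +kernel
theorem pe_a : allZ2 (permEnt P (ivOf Rl) (nat_lit 224)) (nat_lit 4) (nat_lit 224) = true := by decide +kernel
theorem rf0 : allL (fixRange P (nat_lit 4) (nat_lit 0) (nat_lit 224)) (Rl.drop (nat_lit 4)) = true := by decide +kernel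

theorem tc0e : ∀ k < 4, ∀ i < 224, (entryChk T0 (selR RL0 I0) D0 (nat_lit 255) (nat_lit 224) (nat_lit 4)) k i = 0 := allZ2_sound tc0e_a
theorem tc0 : c0.OK Rl 4 := ⟨by decide, by decide, by decide, ivc, tc0r, tc0e⟩
theorem lv0e : ∀ i < 223, (l0.ent P) i = 0 := allZ_sound0 lv0e_0
theorem lv0 : l0.OK P 224 := ⟨by decide, by decide, lt_of_blt lv0b.1, lv0b.2.1, lv0e⟩
theorem tc1e : ∀ k < 3, ∀ i < 90, (entryChk T1 (selR RL1 I1) D1 (nat_lit 127) (nat_lit 90) (nat_lit 3)) k i = 0 := allZ2_sound tc1e_a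
theorem tc1 : c1.OK Rl 4 := ⟨by decide, by decide, by decide, ivc, tc1r, tc1e⟩
theorem lv1e : ∀ i < 89, (l1.ent P) i = 0 := allZ_sound0 lv1e_0
theorem lv1 : l1.OK P 224 := ⟨by decide, by decide, lt_of_blt lv1b.1, lv1b.2.1, lv1e⟩
theorem tc2e : ∀ k < 2, ∀ i < 4, (entryChk T2 (selR RL2 I2) D2 (nat_lit 3) (nat_lit 4) (nat_lit 2)) k i = 0 := allZ2_sound tc2e_a
theorem tc2 : c2.OK Rl 4 := ⟨by decide, by decide, by decide, ivc, tc2r, tc2e⟩
theorem lv2e : ∀ i < 3, (l2.ent P) i = 0 := allZ_sound0 lv2e_0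
theorem lv2 : l2.OK P 224 := ⟨by decide, by decide, lt_of_blt lv2b.1, lv2b.2.1, lv2e⟩
theorem bound2 : Bound Rl 2 4 := Bound.step' (Bound.zero Rl) tc2 sb2.1 (by decide +kernel)
theorem bound1 : Bound Rl 3 360 := Bound.step' (bound2) tc1 sb1.1 (by decide +kernel)
theorem bound0 : Bound Rl 4 80640 := Bound.step' (bound1) tc0 sb0.1 (by decide +kernel)
/-- every tuple satisfying `Rl` generates a group of order at most `80640` -/
theorem bound : Bound Rl 4 80640 := bound0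
theorem chain_of {G Ω : Type*} [Group G] [MulAction G Ω] {g : ℕ → G} {pt : ℕ → Ω}
    (h : Act g pt P 224 4) (hR : Rels g Rl) : IsChain g pt 224 L :=
  IsChain.cons (L := [l1, l2]) (IsChain.cons (L := [l2]) (IsChain.cons (L := []) (trivial) h hR tc2 lv2 rfl rfl rfl (by decide) sb2.1 sb2.2) h hR tc1 lv1 rfl rfl rfl (by decide) sb1.1 sb1.2) h hR tc0 lv0 rfl rfl rfl (by decide) sb0.1 sb0.2
theorem base_eq : chainBase L = B := by decide +kernel
theorem pe : ∀ k < 4, ∀ i < 224, (permEnt P (ivOf Rl) (nat_lit 224)) k i = 0 := allZ2_sound pe_a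
/-- the letters -/
noncomputable def g : ℕ → Equiv.Perm (Fin 224) := permGen 224 P
theorem act : Act g (ptF 224) P 224 4 := act_permGen pe
theorem rels : Rels g Rl :=
  rels_perm pe ivc ivk (FixUpTo.first rf0)
theorem chain : IsChain g (ptF 224) 224 L := chain_of act rels
theorem card : Nat.card (gen g 4) = 80640 := chain.card' (ptF_inj 224) (by decide +kernel)
theorem isBase : IsBase (gen g 4) (ptF 224) B := base_eq ▸ chain.isBase (ptF_inj 224)

end H1.OnA
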