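import Cfsg.Agent.H1.Am5
import Cfsg.Agent.H15.CS
import Cfsg.Agent.H1.OnA

/-! Generated by tools/h0/tr.py. -/

set_option maxRecDepth 100000
set_option maxHeartbeats 0

namespace H1.Oa
open H16 H0.TR
open scoped Pointwise

open H1.Am

noncomputable def a_W : List (List ℕ) := [[nat_lit 0],
  [nat_lit 1],
  [nat_lit 2],
  [nat_lit 3],
  [],
  [nat_lit 0, nat_lit 2, nat_lit 3, nat_lit 2, nat_lit 1, nat_lit 2, nat_lit 0, nat_lit 2, nat_lit 1, nat_lit 1, nat_lit 2, nat_lit 3, nat_lit 2, nat_lit 1, nat_lit 2, nat_lit 0, nat_lit 2, nat_lit 1, nat_lit 2, nat_lit 3, nat_lit 2, nat_lit 0],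
  [nat_lit 1, nat_lit 2, nat_lit 0, nat_lit 2, nat_lit 1, nat_lit 1, nat_lit 2, nat_lit 0, nat_lit 2, nat_lit 1, nat_lit 2, nat_lit 0, nat_lit 3, nat_lit 2, nat_lit 3, nat_lit 2, nat_lit 1, nat_lit 2, nat_lit 1, nat_lit 1, nat_lit 2, nat_lit 1, nat_lit 2, nat_lit 3],
  [nat_lit 1, nat_lit 2, nat_lit 0, nat_lit 3, nat_lit 2, nat_lit 0, nat_lit 3, nat_lit 2, nat_lit 0, nat_lit 3, nat_lit 2, nat_lit 3],
  [nat_lit 1, nat_lit 1, nat_lit 2, nat_lit 0, nat_lit 2, nat_lit 1, nat_lit 2, nat_lit 1, nat_lit 1],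
  [nat_lit 2, nat_lit 3, nat_lit 1, nat_lit 2, nat_lit 1, nat_lit 1, nat_lit 2, nat_lit 1, nat_lit 2, nat_lit 3, nat_lit 2, nat_lit 0, nat_lit 2, nat_lit 1, nat_lit 2, nat_lit 1],
  [nat_lit 1, nat_lit 1, nat_lit 2, nat_lit 1, nat_lit 2, nat_lit 0, nat_lit 2, nat_lit 3, nat_lit 2, nat_lit 0, nat_lit 3, nat_lit 2, nat_lit 0, nat_lit 3, nat_lit 2, nat_lit 3, nat_lit 0, nat_lit 2],
  [nat_lit 0, nat_lit 2, nat_lit 1, nat_lit 2, nat_lit 1, nat_lit 1, nat_lit 2, nat_lit 3, nat_lit 2, nat_lit 1, nat_lit 2, nat_lit 1, nat_lit 1, nat_lit 3, nat_lit 2],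
  [nat_lit 2, nat_lit 3, nat_lit 0, nat_lit 2, nat_lit 1, nat_lit 2, nat_lit 3, nat_lit 2, nat_lit 0, nat_lit 3, nat_lit 2, nat_lit 3, nat_lit 2, nat_lit 1],
  [nat_lit 1, nat_lit 2, nat_lit 0],
  [nat_lit 1, nat_lit 2, nat_lit 1, nat_lit 2, nat_lit 0, nat_lit 2, nat_lit 0, nat_lit 3, nat_lit 2, nat_lit 1, nat_lit 2, nat_lit 3, nat_lit 2, nat_lit 1, nat_lit 2, nat_lit 1, nat_lit 2],
  [nat_lit 2, nat_lit 1, nat_lit 1, nat_lit 2, nat_lit 0, nat_lit 2, nat_lit 1, nat_lit 2, nat_lit 0, nat_lit 3, nat_lit 2, nat_lit 3, nat_lit 2, nat_lit 1, nat_lit 2, nat_lit 1, nat_lit 1, nat_lit 2, nat_lit 1, nat_lit 2, nat_lit 3]]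
noncomputable def a_Pd : List ℕ := [nat_lit 0xca97b6c0cb95aed3c46f698dc538736a9b7799c97b7160c747aaadd7d56dd2afc28ebf86a5b7b383cdc6a9906c9ac8cc7a7dd8dfd9ddb59198a49fa794cf68d49cd6a2bb9d8abaa6a32693de7cdba86b27d18ca09e6e72b9b4cec318a10479291516abda92dc8120bc233f35bed0ac1f8bb2bd88878985b83a1b0c33642559b01a4414761361228f5c36342dc1496358322817394608964bb1123b751c4a2e375e1d2f42674555535640784c514d2b70622a66305d244e8050523d41575a5f742c21433e541e027e4f84823165480e10110b195b0f0a093c0d06057f03070100,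
  nat_lit 0xac94aa7a927cabadc49ec3a0d8c18e72a286b7b0dbdfccb1c8b6d3d785bf53dcbd736d779c998868badda987b96e4760c0d9c5717dc6b591a498bba6979d838ca58b9b9fcfb2cda7de49daa3957ba8b458bed48d6f9a6a6c6bbc6916b81579280418ae93cbaf8135ce5c4420d189ca30d68ac2b390d0d5a13b2d1363512f5ac9213f2b570c2261502337391b382633271729323448425212c74b3a5e1d3c2436751c250845674cd240567455644f142c3d41541f312e804e8f96622a76591e78701a3e43665f0d844d7e7f5d5b460f100b1107650e0a094a0206058203190100,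
  nat_lit 0x988c25858b539a86a7cdc29f26cf141cd23fd69040888a6ca6278eb33bd51d61a29463925c2db97aa583b4b5c4a9b1b0126b0cacab72b260d7c7b7a408bf3a2bd44441132fd949df4d0b4cbe1fbc7dcc19c54fdedbc97cca87d8dc4eb678475d437591891ab8718216767e6729aa793d566e58c8ae15223574661164bd07c0a8520f80bb4a24056d366f3832da5f34468d849795335b992c8150029e7f239dcbce0d701ec3a101550a5768514b540e2a9b2eba48a0307318c6d3dd5a42691b04933cc1d0217b8f2803776ad19caf65105e313ead963709a36206592017453900,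
  nat_lit 0xaf60c6717d477bd8c498906cad9a736a6d779ca3aec0979395ddc5d76b9b8aca9d8ea286b7a58c83bbb6a9698d387c94dfcbd37a92aab5a86f9eba8bccbd688899a6bfcdc2d29fd6c964c7b0c8ab91d576beb3b9a4c172a085bc8734b83281591739dbb1d9ac7936ce8f7537d189dc46a753cfd4c3d0b4a167622e96266629de4a5e5d27244e80235020183d6e515257045a15161f5f332cda70453f431a0c35443e541e3a3b7eb274784084498231121b652548141361225c632d5b582808564b3c1c1d2f4202557f4c4d2b2a300e0a0b1107410f1001210d03004f06190905,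
  nat_lit 0xdfdedddcdbdad9d8d7d6d5d4d3d2d1d0cfcecdcccbcac9c8c7c6c5c4c3c2c1c0bfbebdbcbbbab9b8b7b6b5b4b3b2b1b0afaeadacabaaa9a8a7a6a5a4a3a2a1a09f9e9d9c9b9a999897969594939291908f8e8d8c8b8a898887868584838281807f7e7d7c7b7a797877767574737271706f6e6d6c6b6a696867666564636261605f5e5d5c5b5a595857565554535251504f4e4d4c4b4a494847464544434241403f3e3d3c3b3a393837363534333231302f2e2d2c2b2a292827262524232221201f1e1d1c1b1a191817161514131211100f0e0d0c0b0a09080706050403020100,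
  nat_lit 0xd9dcaddbdadec8aaa9d2d6d5ddd4a1d19fd0cfdf95aecaccc9d3b6b59ecda0cbb7b8ba89bd9d87bca2d8d7a7b4b3b0ac7bc7c6abb1c5c479b28abf6eafa5cec3c2c1bb6d9c6c9b9ac062977aa37c8198968369855388be6ba4728b82864ea874807f4794939291846a64437e688e7d4a38b99990a6736f77752e8f662d654071703e67635036374951554f248c3d54522278614d21462f1e605f5e1d5d4b5c4c1c315b48443f178d393416321b5a45421376413c3b23352026250c5733563018082c2b142a1f0b045915293a581a19090d020e270701061211000a28050f0310,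
  nat_lit 0xccdad3dedcdbdfb6b5d5d4d2c6d6d0cecda1c2c8c0c9c7d9aeadaaa9a09f9e97a589bbb89dbd6ebebfc5c4b3b2a7abb1a3caddb0acd8d781b46ba28793b7d1c1cfc3ba9b99986d90958fcb7c7b7a796c6572385385a6bc8ab9838c788e84917f7e747192af94a84e682e67806a86605f69a49c9a88778d735d6462765c964d47464543413d321713242256518b50575b55824c404270583c7d4a313b75302d613a5e522c2b14376f595a293623343e214966631e1d1b15040c2726542a4f4b281a48443f331211203935161c2f080700020d0f251905101f0b090318010e0a06,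
  nat_lit 0xc8dbc6dadedcccc5c4d4d2d6add5cea1c2d19fd997c7aedfcaddd8d7c1cfc395a2bc9dbebabba489a5aaa9b2a7b4acab93c9d3b1b0b6b591b388b7b97bbfd09ecda0bd996d909c6ccb65c092af94a89a62866f8b8c6bb8a66e8e534e7278797e7480607aa37c818273665d7f778347468d879b988a68386a4376962e418f4c7d4a31752d5234392f544f2257855b243d56844061305f132c71703e2b6721634d1445501e1d1c59691732155a2a365e4b58645c4844331618250c27511b554204123c3b3a230807283729353f491f0b060e0f02261103001a191001200a0d0509,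
  nat_lit 0xa7db63dadedcb24eca762e665c644d4ccf40cdb413d7b5b3c44184c71fc2122f435b0552030a71505d82c9ccc8d9b1b00da92dacab78aea8df6c75470f67611a9f08013f3a6b1488495658320236918a2286163c1e903d987d8e48c572b6817e748087340e5a79aa11d6a57f0b83b95129601ca69a191507a2d44fd2dd55a16e5744b7d3be7a25955f96624a2cbc70b865d8d1d020549785a4243b5ebf28c6ce9c1d898c459b27350c92387c2a942b04c0d5ad5331336f42391759461b8f184bc38b3e6d23a06a21268d6999cbc17710a37baf3773ba099e6806bd30bb939d00,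
  nat_lit 0x1881c6a879910450350f020ead0dd1d033ce23201a698d2838dd3d152f2a581259780a820501a484375b2930214b8e832e6fd386725216dc429b17b96639a1491b13038aa63f6b3a08221f34645ada144fb1c92c489c4e6d6eac3cb8b0bcde0609107d367632dbbe457b0c003eab7146ae87881c995eca3125a3559363564c604a6a265cb692bfc1576265541eaa51d88f894061b25fa08b4770770727a7414d9a73c5850b98a2c7b77cd794cf7a68b4c3af2d8c19c2b5c8435d6724cd96b3cc9553116c9fcb2bdfa5a9c4909ec01d7ed6d4d2753bbd7f974480bbd99dd5ba74,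
  nat_lit 0x71db7cdadedc7dcbc7996d9c929b8c53cf8bcd60d8c4a947d77a97ca89c2b8b6389e68a07377a7c18dc0ae6ea4877991afb59481a895c9abb9886fb3a36985bc9fbe6ad4d290d66cc544aaad93d3b09a3b8eb7d1ce6bc3a6b286a149832fac232a1bd9dd7bc6b158ba142933bb72df20a5b4d5988a9da2bd153f2b3a341d48cc2856163608412578425e3e21d01a4b1231133c2c51188461c804229635575a1e66551f4d8f6427bf0c5c4363742d4f24821c324c657f755f39175930804554703d40622e7e52014a265d67764e500a060f0e0d370311005b051007460b021909,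
  nat_lit 0x5674d17e7f80555866b5c4a9d0d72d63795ca822d8d4d24fd6ce2f7652815bb602a0189e20040bc30f13648f65620600a5d5a11009492ecf968d0e11a20d4150913d283759351729c5d9aa8bb78cc215df2a90345a69c16f073332c023cbcddbdcde6885bf539f976ec97bda871b733b9a19391638b998a4afaeccca4dc8c66a2b46a34c1a2c3f7831b2b35e3608451fb495adddbd448494771d4a2493bb40d30c5f127c5425146c1c3ca648831e709d82c7619251726b03999b9c3e8ea7ba05bc7a572786b8710a3a8a88264ebe60ab6743756d7d30b18947b021014b5d42ac,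
  nat_lit 0x3b1b2c2a233344d89bd7b5c41ea97c92ab7aac2b2f3a141d1c48c56dc1b0c3497b50513d57549d5293b699313e5e0010153f3c0906aa9ccd4543afbd16a3949eb1a0245917a539a258b91361354c9fb76e8088d3ad5d5b67bb7edd847482c2dcdeda034d2940cf78c8ca0ddbdf7f014fa6ba37bf75cc6bd90fc7a4ae5387320a5521028bb8ced2cb62717d8fc68965bc474e34360b22956305564b180e19855a2530be5c2026d58ad4d090d186a1421197c98c41288e6c6a2e76649683600773122d040c7208b468d6989a27c01fb3818d6f6966a74aa81ab27970775f384691,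
  nat_lit 0xdf8ed0838672d95b6c75675dce43adddc2d39fcc9ea66bc888a15298c0cf95c3644e8f8465967178663d9ab4b3b27991598ad181a85090aba7ca7647172ec697cdcb628d38b56fc4a0bac13c391eb0a9bdde9c3236ae82c77ddb5abcdc89ac7e7480872c3748b1b85ea5d67f31dab924996069d7c93e6d45d5b7bbbf4c9d416e5477d440d885af124a0a015f34c546aa03be2d6330571a7aa4516811d221615c166ab6940735939b7b8b3a53338c734b1fa24d7c0b2a1418020f0d70230542042f9219151b491d28a33f1c2908584410260c250e2b5609133b0622204f275500,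
  nat_lit 0x4f33411b2a23220829a3937b2dafd0ce79a1a855506f69568d631a16aa81b65bc7c0c895d9cc77cbc91f1562968fcdcf14385c9fc212350065d6ae731ccad1d891c5df9a982e90663d20527a3f7c0964287f173c1ed297d46a7448a080c306dbdcde19943a9210c1700fa9da467e114537686c76d54a595fd70e040dc6184d073187b5ad2f36b7bc2b4b21442c583b13309e4c40bd5e89850b3eb97dc4bbdd616ba4498c7188a539a2342732725a6e9dbe02d35360830c0375435d1d8642ba05788b47a68e4e540abf26258ab88251b06d9b996724b4ac8457abb301b29ca7b1,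
  nat_lit 0xcc72ce8e8386df3d9a675d43a175ddd39fc6cfc8c36b88d98ad1509097cdcba076826578628f604e645298b3b2a7a87917a6d091815b6cacb4c92e7d3966ad95c2c096386fc469a9c1bd9e2c3748b1d7bbda9b345aca84ae71dc32b8debcb074807fb91e593cabbe45a2d57e3edb6e546d478db5c75e9c31d4bf9da540ba2da45168d261b68ca30870050a4636aa4ad80189635c2124129487577307d64b4d413577c57c0b297b99af85148b23536a421ab74c92191b1c200e020f5f2a033018497a111633584404933a3f151f133b002725260d1d22102f2b094f28550c5606]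
noncomputable def a_P (k u : ℕ) : ℕ := Nat.land (Nat.shiftRight (nth (nat_lit 0) a_Pd k) (Nat.mul u (nat_lit 8))) (nat_lit 255)
noncomputable def κ : List ℕ → ℕ := H15.CS.key (tot a_P 16) 224 H1.OnA.B
noncomputable def p2t_W : List (List ℕ) := [[nat_lit 1, nat_lit 2, nat_lit 0, nat_lit 3, nat_lit 2, nat_lit 0, nat_lit 3, nat_lit 2, nat_lit 0, nat_lit 3, nat_lit 2, nat_lit 3],
  [nat_lit 2, nat_lit 1, nat_lit 2, nat_lit 0, nat_lit 3, nat_lit 2, nat_lit 0, nat_lit 2, nat_lit 1, nat_lit 1, nat_lit 2, nat_lit 0, nat_lit 2, nat_lit 3, nat_lit 2, nat_lit 3, nat_lit 0],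
  [nat_lit 0, nat_lit 2, nat_lit 1, nat_lit 1, nat_lit 2, nat_lit 0, nat_lit 3, nat_lit 2, nat_lit 1, nat_lit 1, nat_lit 2, nat_lit 1, nat_lit 3, nat_lit 2, nat_lit 3],
  [nat_lit 1, nat_lit 1, nat_lit 2, nat_lit 0, nat_lit 2, nat_lit 3, nat_lit 2, nat_lit 0, nat_lit 3, nat_lit 2, nat_lit 0, nat_lit 3, nat_lit 2, nat_lit 3, nat_lit 0],
  [nat_lit 3, nat_lit 2, nat_lit 1, nat_lit 1, nat_lit 3, nat_lit 2, nat_lit 0, nat_lit 2, nat_lit 1, nat_lit 2, nat_lit 0, nat_lit 0],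
  [nat_lit 0, nat_lit 2, nat_lit 0, nat_lit 2, nat_lit 1, nat_lit 1, nat_lit 2, nat_lit 1, nat_lit 2, nat_lit 3, nat_lit 2, nat_lit 1, nat_lit 3, nat_lit 2, nat_lit 0, nat_lit 2, nat_lit 3],
  [nat_lit 3, nat_lit 2, nat_lit 1, nat_lit 1, nat_lit 2, nat_lit 1, nat_lit 2, nat_lit 3, nat_lit 2, nat_lit 0, nat_lit 3, nat_lit 2],
  [nat_lit 1, nat_lit 2, nat_lit 1, nat_lit 1, nat_lit 2, nat_lit 1, nat_lit 2, nat_lit 1, nat_lit 1, nat_lit 2, nat_lit 3, nat_lit 2, nat_lit 1, nat_lit 2, nat_lit 0, nat_lit 3, nat_lit 1, nat_lit 2]]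
noncomputable def p2t_P : ℕ → ℕ → ℕ := wdsP H1.OnA.P p2t_W
noncomputable def p2Pd : List ℕ := [nat_lit 0xb976f5fa566d53ab52bd6b16e345931264d72e27c7914684e74c9f3c5b05740630e5ca68c16375509db650f5fb544cd22f4c9d0a940ad2a33a70f9e324cd962a60b92345081110285891a3860f0c1c2050200182,
  nat_lit 0xab5aa574a8d04ebf76e5e8885fc0734d4a49efa5a64eb5e587aaa5458ce1d5050ba4c16cd15b084cd7b7770e8a258ca631911e94db2d6dda387cf1d266cd172c54c0a323840f225060b12486900a103070404003,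
  nat_lit 0x62d563b80b5fca50ad7a270f11a174f9bb47b621c264812c1932225bb33a5d2b93d7539aa6f4c4f1efa4aae6d5dac99b5766aa2b0a3528461044790060009414487180458f1c3a543040e5c29f163448c364cc9a,
  nat_lit 0xad5ead440950b9bd7eedc968de3f8925327a6ba72453016cf7cc1d46a10dc514506c3d54c943368d95c2592a2af62de3b59936d48a4eecdb3e78e9c324cd962a60b9234508901e2868c16384880e182840200182,
  nat_lit 0x44bd42b40950c96ac563b9e8e02db0e61329d0e9b46ef1fcb7131ec6a0b9f51ad2a23a909eac74936a26bb062d7bea59de60dacaab772d52282890e081c28f202089d0c7cb952c7800104701982668d99183448b,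
  nat_lit 0x489d32970ea1c599226c7a12a5c48cf2e5f7e868ddbce674040d69589f6ed53608d6a562bd53b44b1b2869664b364aebb7ad520d55d09f3d081828728389000608093146858d186c79110648093a7cf1c2c54c17,
  nat_lit 0xa31684658ed8cc5af1fc09ad6ad48e9224e4cde44b735eb2964b985eb8d99dd47093b47ce10c174f504ab4aafa5b70ec59933d15351495af183448b1450701000c11b24643860868f9c3a4cf05103c8112a60b96,
  nat_lit 0x80fd6bcbf76f4ca11a2d19b711288e91c4a4cd244374ad7a98525b316ac153ba4c93b7a712cd8733edce4acd65a412e0a15cf6abea88ebd60c143841c485133268d82280048c160cf9c3a04f0d1e208902a60b96]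
noncomputable def p2P (k u : ℕ) : ℕ := Nat.land (Nat.shiftRight (nth (nat_lit 0) p2Pd k) (Nat.mul u (nat_lit 7))) (nat_lit 127)
noncomputable def p2Ed : ℕ := nat_lit 0xdfd9ccc8bdbbbab9b4b3b2a7a49d968f877d777371706e6a686562605f5e57565554514f4b4a47464544423e3b31302b28242221201d1918110b0a0705040301dedcdbdacfcdc2b1b0acaba89f918e868381807f7e797472332a231b10090600
noncomputable def p2E (u : ℕ) : ℕ := Nat.land (Nat.shiftRight p2Ed (Nat.mul u (nat_lit 8))) (nat_lit 255)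
noncomputable def p2Id : ℕ := nat_lit 0xbe7c01e3a72f00000000000000003600d5d000005c000000000640000002d80b566c000000057ad54c1700000162a00014a80005300000002602900000000001440000000900a04400000000009e400001e0070d182e70000005009a0000998225ca0124000012004700023000114044870800000000008301fbe0001e80780000076e800072e1bb600d400000d0000660000000000000e019310000000601802f000002e0ab562b000150008014a80000000000138300000004c9410048051a24201000
noncomputable def p2I (u : ℕ) : ℕ := Nat.land (Nat.shiftRight p2Id (Nat.mul u (nat_lit 7))) (nat_lit 127)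
noncomputable def p2B : List ℕ := [nat_lit 0, nat_lit 33, nat_lit 71]
noncomputable def p2C : List (List (List ℕ)) := [[[],
  [],
  [],
  [],
  [],
  [],
  [],
  []], [[],
  [nat_lit 0],
  [],
  [],
  [nat_lit 0],
  [],
  [],
  []], [[],
  [],
  [],
  [],
  [],
  [nat_lit 0],
  [nat_lit 0],
  []], [[],
  [],
  [],
  [],
  [nat_lit 0],
  [],
  [],
  []], [[],
  [],
  [],
  [],
  [nat_lit 0],
  [nat_lit 0, nat_lit 1],
  [nat_lit 0, nat_lit 2],
  [nat_lit 0, nat_lit 2]], [[],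
  [],
  [],
  [],
  [],
  [nat_lit 1],
  [nat_lit 3],
  [nat_lit 1, nat_lit 2]], [[],
  [],
  [],
  [],
  [],
  [],
  [nat_lit 1],
  [nat_lit 0, nat_lit 1, nat_lit 2]], [[],
  [],
  [],
  [],
  [],
  [],
  [],
  [nat_lit 2]]]
noncomputable def p2e : List (List ℕ) := [[],
  [],
  [],
  [],
  [],
  [],
  [],
  [],
  [],
  [],
  [],
  [nat_lit 2, nat_lit 3, nat_lit 6, nat_lit 7],
  [nat_lit 5, nat_lit 6],
  [nat_lit 5],
  [nat_lit 3, nat_lit 4, nat_lit 5]]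
noncomputable def p2l0Dd : ℕ := nat_lit 0x8cd5e8f396f33d8095431d1a047429d4cc572519cb03b16124541a1d0ac3a1b0e0381a00
noncomputable def p2l0D (u : ℕ) : ℕ := Nat.land (Nat.shiftRight p2l0Dd (Nat.mul u (nat_lit 9))) (nat_lit 511)
noncomputable def p2l0Pd : ℕ := nat_lit 0x96cbaffbb93d1ae9dc864c5f010f8aaad960a300
noncomputable def p2l0P (u : ℕ) : ℕ := Nat.land (Nat.shiftRight p2l0Pd (Nat.mul u (nat_lit 5))) (nat_lit 31)
noncomputable def p2l0Qd : ℕ := nat_lit 0xdeb29f7301910f69fdcc6d2a5321e2bc3b152c60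
noncomputable def p2l0Q (u : ℕ) : ℕ := Nat.land (Nat.shiftRight p2l0Qd (Nat.mul u (nat_lit 5))) (nat_lit 31)
noncomputable def p2l0 : Lev := ⟨32, 15, p2l0D, p2l0P, p2l0Q⟩
noncomputable def p2l1Dd : ℕ := nat_lit 0xc6580
noncomputable def p2l1D (u : ℕ) : ℕ := Nat.land (Nat.shiftRight p2l1Dd (Nat.mul u (nat_lit 5))) (nat_lit 31)
noncomputable def p2l1Pd : ℕ := nat_lit 0xb5d4
noncomputable def p2l1P (u : ℕ) : ℕ := Nat.land (Nat.shiftRight p2l1Pd (Nat.mul u (nat_lit 4))) (nat_lit 15)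
noncomputable def p2l1Qd : ℕ := nat_lit 0x4c00800
noncomputable def p2l1Q (u : ℕ) : ℕ := Nat.land (Nat.shiftRight p2l1Qd (Nat.mul u (nat_lit 2))) (nat_lit 3)
noncomputable def p2l1 : Lev := ⟨4, 13, p2l1D, p2l1P, p2l1Q⟩
noncomputable def p2l2Dd : ℕ := nat_lit 0xb0
noncomputable def p2l2D (u : ℕ) : ℕ := Nat.land (Nat.shiftRight p2l2Dd (Nat.mul u (nat_lit 4))) (nat_lit 15)
noncomputable def p2l2Pd : ℕ := nat_lit 0x388
noncomputable def p2l2P (u : ℕ) : ℕ := Nat.land (Nat.shiftRight p2l2Pd (Nat.mul u (nat_lit 5))) (nat_lit 31)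
noncomputable def p2l2Qd : ℕ := nat_lit 0x10000000
noncomputable def p2l2Q (u : ℕ) : ℕ := Nat.land (Nat.shiftRight p2l2Qd (Nat.mul u (nat_lit 1))) (nat_lit 1)
noncomputable def p2l2 : Lev := ⟨2, 12, p2l2D, p2l2P, p2l2Q⟩
noncomputable def covr_W : List (List ℕ) := [[nat_lit 1, nat_lit 2, nat_lit 0, nat_lit 3, nat_lit 2, nat_lit 0, nat_lit 3, nat_lit 2, nat_lit 0, nat_lit 3, nat_lit 2, nat_lit 3],
  [nat_lit 1, nat_lit 1, nat_lit 2, nat_lit 0, nat_lit 2, nat_lit 1, nat_lit 2, nat_lit 1, nat_lit 1]]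
noncomputable def covr_P : ℕ → ℕ → ℕ := wdsP H1.OnA.P covr_W
noncomputable def covT0 : CT := (.split (.more (.split (.more (.split (.more (.split (.more (.split (.more (.split (.more (.split (.more (.split (.more .one (.more (.leaf (nat_lit 0) []) .one))) (.more (.fuse [nat_lit 4] [] (.prune (nat_lit 0) (nat_lit 1) [])) .one))) (.more (.split (.more (.fuse [nat_lit 5] [] (.leaf (nat_lit 1) [nat_lit 0, nat_lit 2, nat_lit 1, nat_lit 2, nat_lit 1, nat_lit 3, nat_lit 2, nat_lit 0, nat_lit 2, nat_lit 1, nat_lit 2, nat_lit 3, nat_lit 2])) (.more (.fuse [nat_lit 4] [] (.prune (nat_lit 0) (nat_lit 1) [])) .one))) .one))) (.more (.split (.more (.split (.more (.fuse [nat_lit 4] [] (.leaf (nat_lit 1) [nat_lit 3, nat_lit 2, nat_lit 3])) (.more (.split (.more (.prune (nat_lit 0) (nat_lit 1) []) (.more (.prune (nat_lit 0) (nat_lit 1) []) .one))) .one))) (.more (.split (.more (.fuse [nat_lit 4] []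 (.leaf (nat_lit 1) [nat_lit 2, nat_lit 1, nat_lit 3, nat_lit 2, nat_lit 1, nat_lit 1, nat_lit 3, nat_lit 2, nat_lit 1, nat_lit 2, nat_lit 3])) (.more (.fuse [nat_lit 5] [] (.prune (nat_lit 0) (nat_lit 1) [])) .one))) .one))) .one))) (.more (.split (.more (.fuse [nat_lit 6] [nat_lit 0] (.fuse [nat_lit 5] [] (.fuse [nat_lit 1] [] (.prune (nat_lit 0) (nat_lit 1) [])))) (.more (.fuse [nat_lit 6] [nat_lit 0] (.fuse [nat_lit 5] [] (.fuse [nat_lit 1] [] (.leaf (nat_lit 1) [nat_lit 1, nat_lit 2, nat_lit 1, nat_lit 1, nat_lit 3, nat_lit 2, nat_lit 1, nat_lit 1, nat_lit 3, nat_lit 2, nat_lit 3])))) .one))) .one))) (.more (.split (.more (.fuse [nat_lit 6] [] (.fuse [nat_lit 7] [nat_lit 0, nat_lit 1] (.fuse [nat_lit 4] [] (.prune (nat_lit 1) (nat_lit 1) [])))) (.more (.fuse [nat_lit 6] [nat_lit 2] (.split (.more (.fuse [nat_lit 4] [nat_lit 0] (.fuse [nat_lit 1] [] (.leaf (nat_lit 1) [nat_lit 3,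 nat_lit 2, nat_lit 1, nat_lit 1, nat_lit 2, nat_lit 0, nat_lit 3, nat_lit 2, nat_lit 1, nat_lit 2, nat_lit 0, nat_lit 2, nat_lit 1]))) (.more (.fuse [nat_lit 4] [nat_lit 0] (.fuse [nat_lit 1] [] (.prune (nat_lit 0) (nat_lit 1) []))) .one)))) .one))) .one))) (.more (.split (.more (.split (.more (.fuse [nat_lit 5] [] (.fuse [nat_lit 4] [] (.fuse [nat_lit 4, nat_lit 7] [] (.prune (nat_lit 1) (nat_lit 1) [])))) (.more (.fuse [nat_lit 5] [nat_lit 0, nat_lit 1] (.fuse [nat_lit 4] [] (.prune (nat_lit 2) (nat_lit 1) [nat_lit 0, nat_lit 1]))) .one))) (.more (.split (.more (.fuse [nat_lit 5] [] (.prune (nat_lit 3) (nat_lit 1) [nat_lit 0])) (.more (.fuse [nat_lit 5] [nat_lit 0, nat_lit 1] (.prune (nat_lit 3) (nat_lit 1) [nat_lit 0, nat_lit 1, nat_lit 2])) .one))) .one))) .one))) (.more (.split (.more (.split (.more (.split (.more (.split (.more (.fuse [nat_lit 4] [nat_lit 0] (.prune (nat_lit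 2) (nat_lit 1) [])) (.more (.fuse [nat_lit 4] [] (.prune (nat_lit 2) (nat_lit 1) [])) .one))) (.more (.split (.more (.fuse [nat_lit 4] [nat_lit 0] (.fuse [nat_lit 6] [] (.fuse [nat_lit 1] [] (.leaf (nat_lit 1) [nat_lit 2, nat_lit 1, nat_lit 2, nat_lit 1, nat_lit 1, nat_lit 3, nat_lit 2, nat_lit 1, nat_lit 1, nat_lit 2, nat_lit 0])))) (.more (.fuse [nat_lit 4] [] (.fuse [nat_lit 6] [] (.fuse [nat_lit 1] [] (.prune (nat_lit 0) (nat_lit 1) [])))) .one))) .one))) (.more (.split (.more (.fuse [nat_lit 6] [nat_lit 0, nat_lit 1, nat_lit 2] (.fuse [nat_lit 4] [nat_lit 1] (.split (.more (.fuse [nat_lit 2] [] (.leaf (nat_lit 1) [nat_lit 3, nat_lit 2, nat_lit 0, nat_lit 3, nat_lit 2, nat_lit 3, nat_lit 2, nat_lit 1, nat_lit 2, nat_lit 1, nat_lit 1, nat_lit 2, nat_lit 3])) (.more (.fuse [nat_lit 2] [] (.prune (nat_lit 0) (nat_lit 1) [])) .one))))) (.more (.fuse [nat_lit 6] [nat_lit 1] (.fuse [nat_lit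 4] [nat_lit 0, nat_lit 1] (.prune (nat_lit 2) (nat_lit 1) [nat_lit 0, nat_lit 1]))) .one))) .one))) (.more (.split (.more (.split (.more (.fuse [nat_lit 5] [nat_lit 1, nat_lit 2] (.fuse [nat_lit 6] [nat_lit 0, nat_lit 1] (.split (.more (.fuse [nat_lit 2] [] (.prune (nat_lit 0) (nat_lit 1) [])) (.more (.fuse [nat_lit 2] [] (.leaf (nat_lit 1) [nat_lit 2, nat_lit 1, nat_lit 1, nat_lit 2, nat_lit 0, nat_lit 2, nat_lit 3, nat_lit 2, nat_lit 0, nat_lit 2, nat_lit 0, nat_lit 3])) .one))))) (.more (.fuse [nat_lit 5] [nat_lit 0, nat_lit 2] (.split (.more (.fuse [nat_lit 6] [nat_lit 0] (.fuse [nat_lit 1] [] (.leaf (nat_lit 1) [nat_lit 2, nat_lit 1, nat_lit 2, nat_lit 0, nat_lit 2, nat_lit 0, nat_lit 3, nat_lit 2, nat_lit 0, nat_lit 2, nat_lit 3]))) (.more (.fuse [nat_lit 6] [] (.fuse [nat_lit 1] [] (.prune (nat_lit 0) (nat_lit 1) []))) .one)))) .one))) (.more (.split (.more (.fuse [nat_lit 5]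 [nat_lit 0, nat_lit 1, nat_lit 2] (.prune (nat_lit 3) (nat_lit 1) [nat_lit 2])) (.more (.fuse [nat_lit 5] [nat_lit 2] (.prune (nat_lit 3) (nat_lit 1) [nat_lit 0, nat_lit 1, nat_lit 2])) .one))) .one))) .one))) .one)))
noncomputable def x_W : List (List ℕ) := [[nat_lit 1, nat_lit 1, nat_lit 2, nat_lit 0, nat_lit 2, nat_lit 1, nat_lit 2, nat_lit 1, nat_lit 1]]
noncomputable def x_P : ℕ → ℕ → ℕ := wdsP H1.OnA.P x_W
noncomputable def txh_W : List (List ℕ) := [[nat_lit 1, nat_lit 1, nat_lit 2, nat_lit 0, nat_lit 2, nat_lit 1, nat_lit 2, nat_lit 1, nat_lit 1],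
  [nat_lit 2, nat_lit 0, nat_lit 2, nat_lit 1, nat_lit 1, nat_lit 2, nat_lit 1, nat_lit 2, nat_lit 1, nat_lit 1, nat_lit 2],
  [nat_lit 0],
  [nat_lit 1],
  [nat_lit 2],
  [nat_lit 1, nat_lit 1, nat_lit 2],
  [nat_lit 3],
  [nat_lit 3, nat_lit 2, nat_lit 0, nat_lit 3, nat_lit 2, nat_lit 3, nat_lit 2, nat_lit 0, nat_lit 3]]
noncomputable def txh_P : ℕ → ℕ → ℕ := wdsP H1.OnA.P txh_W
noncomputable def txl0Dd : ℕ := nat_lit 0xbfdb2ad24655d05e6865829b9139bed0bab53ee5a33d9b63c64e4645eaf5a7d39e70d18e1241c8190114aa7d0df12c33b0e8a4e322542a844df15b0997b6e6dc9b3c7b4f297a2dc5a8b315629c528694ca8d045c89823ae34f8614bea0e1700fd852743dca2ca2a9a5248d0e31be36c4f44c0904488501ba624867f0fa1762dc1e03804105e969211ac348670ca1361ca849051cb3085f0970503565b0b20c50905700f9ca1ec6e8d91aa2e658ca20a50523b8c11241cc2744a9622382341093319c3187a0ae0ea064990ec1c8370890c411c1545a0171a61f8180cb1861b8140b31a42704a0ca184230100ba1641583a04e08a1b01e8111061ec4506b1041503d05b0d40f81a85a0960b42904a04a1101e01006c03c0e83b0840981d034058078048330480c80e01601001c0981201a03003000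
noncomputable def txl0D (u : ℕ) : ℕ := Nat.land (Nat.shiftRight txl0Dd (Nat.mul u (nat_lit 11))) (nat_lit 2047)
noncomputable def txl0Pd : ℕ := nat_lit 0x6913640370aa8d97b7d20b0ce3f74ab1e7832564d09445f9e8bc9998621cd5e03cb1017a9cc92729a355c5797080bae94a54f9c77c589d3baa3bbb7b26e6048753c0fd61abc0495766782965481526623a4426fdab5dbd7b670d08a4915d81bad2caa3ade019f931f87a7be4a0e90a6684b45c6467911d16b2f5083d2077f9b6a8d0c1213168e190d277cc7262d3b657e4cb1c430b89dddcf47385314b498643d1c8f342b1873516258a18c39d4845b31c133027185c243dfc8d5af3ea2acdc41c3b32a7a5d6325a0552ebf28296dca694e1db9c06c2480bd8822615a590500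
noncomputable def txl0P (u : ℕ) : ℕ := Nat.land (Nat.shiftRight txl0Pd (Nat.mul u (nat_lit 8))) (nat_lit 255)
noncomputable def txl0Qd : ℕ := nat_lit 0x277b4820898bd881889c2532a863688547d3c1babe10c526546caa4c1e292e0b1474079aa5a70c4aa4878a421da34dd424b07f21d07dbbd97570ae8ea622351779c749ac60b7c441b39498af78b9de713d595e34c684a90676c32a3164959208614fd655d71b6aceab979fd139b82b868ca2110a675f0f6f96905040193704a1c8c01ab530030236b4cc169344913865ad0ecb4e6e7383a0466b6dc9288d1fdcd2233f9e517c3345dbddb63c2dcd2f4b6615527e3b1c1213565318098f05c2d577cf0d3e809b583abc5a82435b5c69bd9d72575db1dacab262df0199bf2c7a00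
noncomputable def txl0Q (u : ℕ) : ℕ := Nat.land (Nat.shiftRight txl0Qd (Nat.mul u (nat_lit 8))) (nat_lit 255)
noncomputable def txl0 : Lev := ⟨224, 8, txl0D, txl0P, txl0Q⟩
noncomputable def txl1Dd : ℕ := nat_lit 0x3a1acd060af95f98536314c86418a91c8b1388431711f456f8683517ab2501c584bc52a511c5f440d860a44114c8e873e0a8821e099d4e07a0c1d0d2642f1a0ae52230ecac4b200bc244a118303a061d0cc5c32138884c1c0882c2a100a0280a080200c0400
noncomputable def txl1D (u : ℕ) : ℕ := Nat.land (Nat.shiftRight txl1Dd (Nat.mul u (nat_lit 9))) (nat_lit 511)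
noncomputable def txl1Pd : ℕ := nat_lit 0x922829738e4021777b861e56db185f0a37bc80844e0f0e9ed8bed10b54c59636088bce16cb52421bd35e7e1a263c6f32114403175d4ad631972dad4d947649146657a33f23754f652b5bcddeba5c0c998d13a0b78cbbd49ca59f
noncomputable def txl1P (u : ℕ) : ℕ := Nat.land (Nat.shiftRight txl1Pd (Nat.mul u (nat_lit 8))) (nat_lit 255)
noncomputable def txl1Qd : ℕ := nat_lit 0x380009a00041008c0036201f8000dc7806a000000001e000000000010004808340000c0000000000000000f80000000000000802e000070108002000050042ec01d0164000015448570000000140046000004700bc000a200000a470a00ac00000560000000000000064900000000096c128c2000000313803d00d00002714f000090d80000002800cc0542c0002c000000092e800000a910000010002202bd800b40002a02980013c00064b804c4cd801a1001480890c00b7d2803900000004e00000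
noncomputable def txl1Q (u : ℕ) : ℕ := Nat.land (Nat.shiftRight txl1Qd (Nat.mul u (nat_lit 7))) (nat_lit 127)
noncomputable def txl1 : Lev := ⟨90, 6, txl1D, txl1P, txl1Q⟩
noncomputable def txl2Dd : ℕ := nat_lit 0xd0
noncomputable def txl2D (u : ℕ) : ℕ := Nat.land (Nat.shiftRight txl2Dd (Nat.mul u (nat_lit 2))) (nat_lit 3)
noncomputable def txl2Pd : ℕ := nat_lit 0x453b9d01
noncomputable def txl2P (u : ℕ) : ℕ := Nat.land (Nat.shiftRight txl2Pd (Nat.mul u (nat_lit 8))) (nat_lit 255)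
noncomputable def txl2Qd : ℕ := nat_lit 0x40000000000000000000000000000000000000000000c0000800000000000000000000000000000
noncomputable def txl2Q (u : ℕ) : ℕ := Nat.land (Nat.shiftRight txl2Qd (Nat.mul u (nat_lit 2))) (nat_lit 3)
noncomputable def txl2 : Lev := ⟨4, 2, txl2D, txl2P, txl2Q⟩
noncomputable def cxe_W : List (List ℕ) := [[nat_lit 1, nat_lit 1, nat_lit 2, nat_lit 0, nat_lit 2, nat_lit 1, nat_lit 2, nat_lit 1, nat_lit 1],
  [nat_lit 2, nat_lit 1, nat_lit 1, nat_lit 2, nat_lit 0, nat_lit 2, nat_lit 1, nat_lit 1, nat_lit 2, nat_lit 1, nat_lit 2],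
  [nat_lit 1, nat_lit 1, nat_lit 2, nat_lit 0, nat_lit 2, nat_lit 1, nat_lit 2, nat_lit 0, nat_lit 2, nat_lit 0],
  [nat_lit 1, nat_lit 2, nat_lit 3, nat_lit 2, nat_lit 1, nat_lit 3, nat_lit 2, nat_lit 0, nat_lit 2, nat_lit 0, nat_lit 3, nat_lit 2]]
noncomputable def cxe_P : ℕ → ℕ → ℕ := wdsP H1.OnA.P cxe_W
noncomputable def cxc2Dd : ℕ := nat_lit 0xd0
noncomputable def cxc2D (u : ℕ) : ℕ := Nat.land (Nat.shiftRight cxc2Dd (Nat.mul u (nat_lit 2))) (nat_lit 3)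
noncomputable def cxc2Pd : ℕ := nat_lit 0x3b459d01
noncomputable def cxc2P (u : ℕ) : ℕ := Nat.land (Nat.shiftRight cxc2Pd (Nat.mul u (nat_lit 8))) (nat_lit 255)
noncomputable def cxc2Qd : ℕ := nat_lit 0x4000000000000000000000000000000000000000000080000c00000000000000000000000000000
noncomputable def cxc2Q (u : ℕ) : ℕ := Nat.land (Nat.shiftRight cxc2Qd (Nat.mul u (nat_lit 2))) (nat_lit 3)
noncomputable def cxc2 : Lev := ⟨4, 2, cxc2D, cxc2P, cxc2Q⟩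
noncomputable def txn0Fd : ℕ := nat_lit 0
noncomputable def txn0F (u : ℕ) : ℕ := Nat.land (Nat.shiftRight txn0Fd (Nat.mul u (nat_lit 1))) (nat_lit 1)
noncomputable def txn0 : Nd := ⟨txn0F, (nat_lit 2), (nat_lit 2), [], [((nat_lit 0), [])], []⟩
noncomputable def cxc1Dd : ℕ := nat_lit 8
noncomputable def cxc1D (u : ℕ) : ℕ := Nat.land (Nat.shiftRight cxc1Dd (Nat.mul u (nat_lit 2))) (nat_lit 3)
noncomputable def cxc1Pd : ℕ := nat_lit 0xcd9f
noncomputable def cxc1P (u : ℕ) : ℕ := Nat.land (Nat.shiftRight cxc1Pd (Nat.mul u (nat_lit 8))) (nat_lit 255)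
noncomputable def cxc1Qd : ℕ := nat_lit 0x2000000000000000000000000000000000000000000000000000
noncomputable def cxc1Q (u : ℕ) : ℕ := Nat.land (Nat.shiftRight cxc1Qd (Nat.mul u (nat_lit 1))) (nat_lit 1)
noncomputable def cxc1 : Lev := ⟨2, 3, cxc1D, cxc1P, cxc1Q⟩
noncomputable def txn1Fd : ℕ := nat_lit 0x744887885585373337787485483757848787347377437378743888578851585731741358470114188115111710
noncomputable def txn1F (u : ℕ) : ℕ := Nat.land (Nat.shiftRight txn1Fd (Nat.mul u (nat_lit 4))) (nat_lit 15)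
noncomputable def txn1 : Nd := ⟨txn1F, (nat_lit 3), (nat_lit 3), [[nat_lit 0]], [((nat_lit 0), [])], []⟩
noncomputable def cxc0Dd : ℕ := nat_lit 0xcefae27db5d348b2471460c0
noncomputable def cxc0D (u : ℕ) : ℕ := Nat.land (Nat.shiftRight cxc0Dd (Nat.mul u (nat_lit 6))) (nat_lit 63)
noncomputable def cxc0Pd : ℕ := nat_lit 0xc209cfab91b010a8cd06799fb181ac00
noncomputable def cxc0P (u : ℕ) : ℕ := Nat.land (Nat.shiftRight cxc0Pd (Nat.mul u (nat_lit 8))) (nat_lit 255)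
noncomputable def cxc0Qd : ℕ := nat_lit 0xd070000000000f00000000000000003a0001c0080000000040000000000000b000000000000000200000005000000000000000000000000000000000000000000000000000000000000000000000000000000000000000000000000000000009000000e006000000
noncomputable def cxc0Q (u : ℕ) : ℕ := Nat.land (Nat.shiftRight cxc0Qd (Nat.mul u (nat_lit 4))) (nat_lit 15)
noncomputable def cxc0 : Lev := ⟨16, 4, cxc0D, cxc0P, cxc0Q⟩
noncomputable def txn2Fd : ℕ := nat_lit 0x1ad9cc17bce608bde06a5f25826b93a6b5bc1293c135dd327ce2f3c5ef5bd6f9b9f27bdcbbde665ca7252e6b749f3901ee2c5aa9c95b7d8ae5cdc973d574dc0535de975dfbddef1981e779133bedf64ca2e6c8ea32a5b9ab6f2241bb97690366f3def795cd29be72bbe6e4ba4d9c9e95a8135a66a2d80f8a9ab2254476df78bafb9b5270dde126d4f08420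
noncomputable def txn2F (u : ℕ) : ℕ := Nat.land (Nat.shiftRight txn2Fd (Nat.mul u (nat_lit 5))) (nat_lit 31)
noncomputable def txn2 : Nd := ⟨txn2F, (nat_lit 4), (nat_lit 4), [[nat_lit 0]], [((nat_lit 0), [])], []⟩
noncomputable def d_W : Wl := [[nat_lit 12, nat_lit 15, nat_lit 14, nat_lit 15],
  [nat_lit 14, nat_lit 12, nat_lit 13],
  [nat_lit 12, nat_lit 12, nat_lit 14, nat_lit 12],
  [nat_lit 12, nat_lit 14, nat_lit 15],
  [nat_lit 5, nat_lit 12, nat_lit 12, nat_lit 12],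
  [nat_lit 12, nat_lit 12, nat_lit 12, nat_lit 15],
  [nat_lit 12, nat_lit 13, nat_lit 14, nat_lit 13],
  [nat_lit 12, nat_lit 14, nat_lit 13],
  [nat_lit 12, nat_lit 12, nat_lit 15],
  [nat_lit 12, nat_lit 13, nat_lit 12, nat_lit 15],
  [nat_lit 12, nat_lit 12, nat_lit 12, nat_lit 14],
  [nat_lit 14, nat_lit 12, nat_lit 15],
  [nat_lit 13, nat_lit 12, nat_lit 12],
  [nat_lit 12, nat_lit 15, nat_lit 12, nat_lit 15],
  [nat_lit 12, nat_lit 12, nat_lit 13],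
  [nat_lit 12, nat_lit 13, nat_lit 12, nat_lit 13],
  [nat_lit 12, nat_lit 13, nat_lit 12, nat_lit 12],
  [nat_lit 12, nat_lit 12, nat_lit 12],
  [nat_lit 15, nat_lit 12, nat_lit 12],
  [nat_lit 12, nat_lit 12, nat_lit 14, nat_lit 14],
  [nat_lit 5, nat_lit 12, nat_lit 12],
  [nat_lit 5, nat_lit 12, nat_lit 13, nat_lit 12],
  [nat_lit 12, nat_lit 12, nat_lit 12, nat_lit 13, nat_lit 15],
  [nat_lit 12, nat_lit 15, nat_lit 12, nat_lit 12],
  [nat_lit 5, nat_lit 13, nat_lit 12],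
  [nat_lit 13, nat_lit 12, nat_lit 15],
  [nat_lit 12, nat_lit 14],
  [nat_lit 12, nat_lit 13, nat_lit 14],
  [nat_lit 5, nat_lit 14, nat_lit 13],
  [nat_lit 12, nat_lit 14, nat_lit 13, nat_lit 12, nat_lit 13],
  [nat_lit 5, nat_lit 5, nat_lit 12, nat_lit 12, nat_lit 12],
  [nat_lit 12, nat_lit 12, nat_lit 12, nat_lit 13],
  [nat_lit 5, nat_lit 5, nat_lit 12, nat_lit 12],
  [nat_lit 5, nat_lit 5, nat_lit 12, nat_lit 13, nat_lit 12],
  [nat_lit 5, nat_lit 5, nat_lit 13, nat_lit 12],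
  [nat_lit 13, nat_lit 12, nat_lit 13],
  [nat_lit 15],
  [nat_lit 14, nat_lit 14],
  [nat_lit 12, nat_lit 12, nat_lit 13, nat_lit 15],
  [nat_lit 12, nat_lit 15, nat_lit 12],
  [nat_lit 5, nat_lit 5, nat_lit 13],
  [nat_lit 13, nat_lit 15, nat_lit 14, nat_lit 14],
  [nat_lit 12, nat_lit 14, nat_lit 14],
  [nat_lit 15, nat_lit 12],
  [nat_lit 12, nat_lit 12],
  [nat_lit 12, nat_lit 13, nat_lit 12],
  [nat_lit 13],
  [nat_lit 5, nat_lit 14, nat_lit 14],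
  [nat_lit 13, nat_lit 15, nat_lit 14],
  [nat_lit 14, nat_lit 12, nat_lit 13, nat_lit 12],
  [nat_lit 12, nat_lit 15, nat_lit 14, nat_lit 12],
  [nat_lit 15, nat_lit 14, nat_lit 15],
  [nat_lit 5, nat_lit 5, nat_lit 14],
  [nat_lit 14, nat_lit 12, nat_lit 15, nat_lit 12],
  [nat_lit 13, nat_lit 12],
  [nat_lit 15, nat_lit 12, nat_lit 15],
  [nat_lit 12, nat_lit 15, nat_lit 14],
  [nat_lit 5, nat_lit 14, nat_lit 12],
  [nat_lit 14, nat_lit 15],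
  [nat_lit 12, nat_lit 13, nat_lit 12, nat_lit 13, nat_lit 14],
  [nat_lit 14, nat_lit 13],
  [nat_lit 12, nat_lit 12, nat_lit 14, nat_lit 14, nat_lit 14],
  [nat_lit 5, nat_lit 5, nat_lit 12, nat_lit 13, nat_lit 14],
  [nat_lit 14, nat_lit 12],
  [nat_lit 5, nat_lit 12, nat_lit 13, nat_lit 14],
  [nat_lit 5, nat_lit 12, nat_lit 14],
  [nat_lit 5, nat_lit 5, nat_lit 14, nat_lit 13],
  [nat_lit 12, nat_lit 13, nat_lit 12, nat_lit 15, nat_lit 14],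
  [nat_lit 5, nat_lit 13],
  [nat_lit 5, nat_lit 5, nat_lit 14, nat_lit 14],
  [nat_lit 14],
  [nat_lit 12, nat_lit 14, nat_lit 15, nat_lit 12],
  [nat_lit 12, nat_lit 13, nat_lit 14, nat_lit 12],
  [nat_lit 12, nat_lit 14, nat_lit 12],
  [nat_lit 5, nat_lit 5, nat_lit 14, nat_lit 13, nat_lit 12],
  [nat_lit 13, nat_lit 14, nat_lit 12, nat_lit 13],
  [nat_lit 13, nat_lit 12, nat_lit 14, nat_lit 15],
  [nat_lit 14, nat_lit 15, nat_lit 12],
  [],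
  [nat_lit 15, nat_lit 14, nat_lit 14],
  [nat_lit 5, nat_lit 5],
  [nat_lit 14, nat_lit 14, nat_lit 15],
  [nat_lit 15, nat_lit 14],
  [nat_lit 14, nat_lit 14, nat_lit 14],
  [nat_lit 5, nat_lit 14],
  [nat_lit 12, nat_lit 14, nat_lit 13, nat_lit 12],
  [nat_lit 12, nat_lit 15, nat_lit 12, nat_lit 14],
  [nat_lit 13, nat_lit 14, nat_lit 13],
  [nat_lit 13, nat_lit 15],
  [nat_lit 14, nat_lit 14, nat_lit 13],
  [nat_lit 5],
  [nat_lit 13, nat_lit 14, nat_lit 14],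
  [nat_lit 12, nat_lit 12, nat_lit 14],
  [nat_lit 12, nat_lit 13, nat_lit 12, nat_lit 14],
  [nat_lit 5, nat_lit 5, nat_lit 14, nat_lit 14, nat_lit 14],
  [nat_lit 5, nat_lit 13, nat_lit 14],
  [nat_lit 13, nat_lit 12, nat_lit 14, nat_lit 13],
  [nat_lit 14, nat_lit 13, nat_lit 12],
  [nat_lit 13, nat_lit 14, nat_lit 12, nat_lit 15],
  [nat_lit 5, nat_lit 14, nat_lit 13, nat_lit 12],
  [nat_lit 13, nat_lit 14, nat_lit 12],
  [nat_lit 13, nat_lit 12, nat_lit 13, nat_lit 14],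
  [nat_lit 12, nat_lit 13, nat_lit 14, nat_lit 12, nat_lit 15],
  [nat_lit 5, nat_lit 5, nat_lit 13, nat_lit 14],
  [nat_lit 12, nat_lit 12, nat_lit 15, nat_lit 12, nat_lit 15],
  [nat_lit 13, nat_lit 12, nat_lit 12, nat_lit 12],
  [nat_lit 12, nat_lit 12, nat_lit 15, nat_lit 12],
  [nat_lit 12, nat_lit 12, nat_lit 13, nat_lit 12, nat_lit 15],
  [nat_lit 12, nat_lit 12, nat_lit 13, nat_lit 12],
  [nat_lit 12, nat_lit 12, nat_lit 13, nat_lit 12, nat_lit 13],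
  [nat_lit 12, nat_lit 12, nat_lit 12, nat_lit 14, nat_lit 14],
  [nat_lit 14, nat_lit 12, nat_lit 15, nat_lit 14],
  [nat_lit 5, nat_lit 14, nat_lit 14, nat_lit 14],
  [nat_lit 13, nat_lit 14],
  [nat_lit 15, nat_lit 14, nat_lit 12],
  [nat_lit 13, nat_lit 12, nat_lit 15, nat_lit 14],
  [nat_lit 15, nat_lit 12, nat_lit 14],
  [nat_lit 12, nat_lit 14, nat_lit 14, nat_lit 14],
  [nat_lit 13, nat_lit 12, nat_lit 14],
  [nat_lit 14, nat_lit 13, nat_lit 12, nat_lit 13],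
  [nat_lit 5, nat_lit 12, nat_lit 13],
  [nat_lit 5, nat_lit 12],
  [nat_lit 5, nat_lit 5, nat_lit 12],
  [nat_lit 5, nat_lit 5, nat_lit 12, nat_lit 13],
  [nat_lit 12, nat_lit 13],
  [nat_lit 12],
  [nat_lit 12, nat_lit 13, nat_lit 15],
  [nat_lit 12, nat_lit 15]]
noncomputable def i0_W : Wl := [[nat_lit 14, nat_lit 12, nat_lit 13],
  [nat_lit 12, nat_lit 14, nat_lit 13],
  [nat_lit 12, nat_lit 12, nat_lit 15],
  [nat_lit 12, nat_lit 13, nat_lit 12, nat_lit 15],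
  [nat_lit 15, nat_lit 12, nat_lit 12],
  [nat_lit 12, nat_lit 12, nat_lit 14, nat_lit 14],
  [nat_lit 5, nat_lit 12, nat_lit 13, nat_lit 12],
  [nat_lit 12, nat_lit 13, nat_lit 14],
  [nat_lit 5, nat_lit 5, nat_lit 12, nat_lit 12],
  [nat_lit 14, nat_lit 14],
  [nat_lit 12, nat_lit 15, nat_lit 12],
  [nat_lit 5, nat_lit 5, nat_lit 13],
  [nat_lit 12, nat_lit 12],
  [nat_lit 13],
  [nat_lit 5, nat_lit 5, nat_lit 12, nat_lit 13, nat_lit 14],
  [nat_lit 5, nat_lit 5, nat_lit 14, nat_lit 14],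
  [nat_lit 5, nat_lit 5, nat_lit 14, nat_lit 13, nat_lit 12],
  [],
  [nat_lit 15, nat_lit 14, nat_lit 14],
  [nat_lit 5, nat_lit 5],
  [nat_lit 14, nat_lit 14, nat_lit 15],
  [nat_lit 14, nat_lit 13, nat_lit 12],
  [nat_lit 13, nat_lit 14, nat_lit 12],
  [nat_lit 13, nat_lit 12, nat_lit 14]]
noncomputable def i2_W : Wl := [[nat_lit 12, nat_lit 12, nat_lit 12, nat_lit 15, nat_lit 9],
  [nat_lit 12, nat_lit 12, nat_lit 15, nat_lit 9],
  [nat_lit 12, nat_lit 15, nat_lit 12, nat_lit 15, nat_lit 9],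
  [nat_lit 12, nat_lit 13, nat_lit 12, nat_lit 13, nat_lit 9],
  [nat_lit 15, nat_lit 12, nat_lit 12, nat_lit 9],
  [nat_lit 5, nat_lit 12, nat_lit 12, nat_lit 9],
  [nat_lit 5, nat_lit 12, nat_lit 13, nat_lit 12, nat_lit 9],
  [nat_lit 12, nat_lit 15, nat_lit 12, nat_lit 12, nat_lit 9],
  [nat_lit 5, nat_lit 13, nat_lit 12, nat_lit 9],
  [nat_lit 15, nat_lit 9],
  [nat_lit 14, nat_lit 14, nat_lit 9],
  [nat_lit 12, nat_lit 12, nat_lit 13, nat_lit 15, nat_lit 9],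
  [nat_lit 12, nat_lit 15, nat_lit 12, nat_lit 9],
  [nat_lit 15, nat_lit 12, nat_lit 9],
  [nat_lit 13, nat_lit 15, nat_lit 14, nat_lit 9],
  [nat_lit 12, nat_lit 12, nat_lit 14, nat_lit 14, nat_lit 14, nat_lit 9],
  [nat_lit 12, nat_lit 13, nat_lit 12, nat_lit 15, nat_lit 14, nat_lit 9],
  [nat_lit 5, nat_lit 13, nat_lit 9],
  [nat_lit 5, nat_lit 5, nat_lit 14, nat_lit 14, nat_lit 9],
  [nat_lit 12, nat_lit 14, nat_lit 12, nat_lit 9],
  [nat_lit 9],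
  [nat_lit 5, nat_lit 5, nat_lit 9],
  [nat_lit 5, nat_lit 14, nat_lit 9],
  [nat_lit 14, nat_lit 14, nat_lit 13, nat_lit 9],
  [nat_lit 13, nat_lit 14, nat_lit 14, nat_lit 9],
  [nat_lit 12, nat_lit 12, nat_lit 14, nat_lit 9],
  [nat_lit 12, nat_lit 13, nat_lit 14, nat_lit 12, nat_lit 15, nat_lit 9],
  [nat_lit 12, nat_lit 12, nat_lit 15, nat_lit 12, nat_lit 9],
  [nat_lit 14, nat_lit 12, nat_lit 15, nat_lit 14, nat_lit 9],
  [nat_lit 5, nat_lit 14, nat_lit 14, nat_lit 14, nat_lit 9],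
  [nat_lit 5, nat_lit 12, nat_lit 13, nat_lit 9],
  [nat_lit 12, nat_lit 15, nat_lit 9]]
noncomputable def ac_W : Wl := [[nat_lit 12, nat_lit 13, nat_lit 12, nat_lit 15],
  [nat_lit 12, nat_lit 15, nat_lit 12, nat_lit 15],
  [nat_lit 12, nat_lit 13, nat_lit 12, nat_lit 13],
  [nat_lit 12, nat_lit 12, nat_lit 14, nat_lit 14],
  [nat_lit 5, nat_lit 12, nat_lit 12],
  [nat_lit 12, nat_lit 12, nat_lit 13, nat_lit 15],
  [nat_lit 13, nat_lit 15, nat_lit 14, nat_lit 14],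
  [nat_lit 5, nat_lit 14, nat_lit 14],
  [],
  [nat_lit 5, nat_lit 5],
  [nat_lit 13, nat_lit 15],
  [nat_lit 5]]
noncomputable def s0_L : List (List ℕ × ℕ) := []

theorem md_b : ltAll 224 H1.OnA.B = 0 ∧ 80640 ≠ 0 := by decide +kernel
theorem a_lt : allL (ltAll 4) a_W = true := by decide +kernel
theorem a_m_a : allZ2 (matEnt (wdsP H1.OnA.P a_W) a_P) (nat_lit 16) (nat_lit 224) = true := by decide +kernel
theorem p2t_lt : allL (ltAll 4) p2t_W = true := by decide +kernel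
theorem p2_r_a : allZ2 (resEnt p2t_P p2P p2E p2I (nat_lit 224) (nat_lit 96)) (nat_lit 8) (nat_lit 96) = true := by decide +kernel
theorem p2_b : neL H1.OnA.B (p2B.map p2E) = 0 ∧ ltAll 96 p2B = 0 := by decide +kernel
theorem p2_p : allZ2 (pcEnt p2P (nat_lit 2) p2B p2C) 8 8 = true := by decide +kernel
theorem p2_e : allL (ltAll 8) p2e = true := by decide +kernel
theorem p2l0_e_0 : allZ (dent p2l0 (wdsP p2P p2e) (nat_lit 96)) (nat_lit 0) (nat_lit 31) = true := by decide +kernel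
theorem p2l0_h : 0 < p2l0.n ∧ 0 < p2l0.K ∧ p2l0.Pt 0 < 96 ∧ p2l0.Q (p2l0.Pt 0) = 0 := by decide +kernel
theorem p2l1_e_0 : allZ (dent p2l1 (wdsP p2P p2e) (nat_lit 96)) (nat_lit 0) (nat_lit 3) = true := by decide +kernel
theorem p2l1_h : 0 < p2l1.n ∧ 0 < p2l1.K ∧ p2l1.Pt 0 < 96 ∧ p2l1.Q (p2l1.Pt 0) = 0 := by decide +kernel
theorem p2l2_e_0 : allZ (dent p2l2 (wdsP p2P p2e) (nat_lit 96)) (nat_lit 0) (nat_lit 1) = true := by decide +kernel
theorem p2l2_h : 0 < p2l2.n ∧ 0 < p2l2.K ∧ p2l2.Pt 0 < 96 ∧ p2l2.Q (p2l2.Pt 0) = 0 := by decide +kernel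
theorem p2_f2 : (Nat.ble p2l2.K 15 && Nat.ble (topK []) p2l2.K && fixLetters (wdsP p2P p2e) (topK []) (p2l2.Pt 0)) = true := by decide +kernel
theorem p2_f1 : (Nat.ble p2l1.K 15 && Nat.ble (topK [p2l2]) p2l1.K && fixLetters (wdsP p2P p2e) (topK [p2l2]) (p2l1.Pt 0)) = true := by decide +kernel
theorem p2_f0 : (Nat.ble p2l0.K 15 && Nat.ble (topK [p2l1, p2l2]) p2l0.K && fixLetters (wdsP p2P p2e) (topK [p2l1, p2l2]) (p2l0.Pt 0)) = true := by decide +kernel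
theorem p2_c : chainCard [p2l0, p2l1, p2l2] = 2 ^ 8 ∧ ¬ 2 ^ (8 + 1) ∣ 80640 := by decide +kernel
theorem covr_lt : allL (ltAll 4) covr_W = true := by decide +kernel
theorem cov_c0 : (Nat.ble 8 8 && Nat.beq (ltAll 8 []) 0 && Nat.beq (covT0.chk H1.OnA.P p2P covr_P p2E 4 8 2 2 2 p2B 8 [] 0) 0) = true := by decide +kernel
theorem x_lt : allL (ltAll 4) x_W = true := by decide +kernel
theorem txh_lt : allL (ltAll 4) txh_W = true := by decide +kernel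
theorem txl0_e_0 : allZ (dent txl0 txh_P (nat_lit 224)) (nat_lit 0) (nat_lit 223) = true := by decide +kernel
theorem txl0_h : 0 < txl0.n ∧ 0 < txl0.K ∧ txl0.Pt 0 < 224 ∧ txl0.Q (txl0.Pt 0) = 0 := by decide +kernel
theorem txl1_e_0 : allZ (dent txl1 txh_P (nat_lit 224)) (nat_lit 0) (nat_lit 89) = true := by decide +kernel
theorem txl1_h : 0 < txl1.n ∧ 0 < txl1.K ∧ txl1.Pt 0 < 224 ∧ txl1.Q (txl1.Pt 0) = 0 := by decide +kernel
theorem txl2_e_0 : allZ (dent txl2 txh_P (nat_lit 224)) (nat_lit 0) (nat_lit 3) = true := by decide +kernel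
theorem txl2_h : 0 < txl2.n ∧ 0 < txl2.K ∧ txl2.Pt 0 < 224 ∧ txl2.Q (txl2.Pt 0) = 0 := by decide +kernel
theorem tx_f2 : (Nat.ble txl2.K 8 && Nat.ble (topK []) txl2.K && fixLetters txh_P (topK []) (txl2.Pt 0)) = true := by decide +kernel
theorem tx_f1 : (Nat.ble txl1.K 8 && Nat.ble (topK [txl2]) txl1.K && fixLetters txh_P (topK [txl2]) (txl1.Pt 0)) = true := by decide +kernel
theorem tx_f0 : (Nat.ble txl0.K 8 && Nat.ble (topK [txl1, txl2]) txl0.K && fixLetters txh_P (topK [txl1, txl2]) (txl0.Pt 0)) = true := by decide +kernel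
theorem tx_c : chainCard [txl0, txl1, txl2] = 80640 := by decide +kernel
theorem cxe_lt : allL (ltAll 4) cxe_W = true := by decide +kernel
theorem cxc2_e_0 : allZ (dent cxc2 cxe_P (nat_lit 224)) (nat_lit 0) (nat_lit 3) = true := by decide +kernel
theorem cxc2_h : 0 < cxc2.n ∧ 0 < cxc2.K ∧ cxc2.Pt 0 < 224 ∧ cxc2.Q (cxc2.Pt 0) = 0 := by decide +kernel
theorem txn0_0 : (Nat.ble txl2.K 8 && Nat.beq (ltAll 224 [txl1.Pt 0, txl0.Pt 0]) 0 && kChk cxe_P x_P txn0.Kn 1 H1.OnA.B [txl1.Pt 0, txl0.Pt 0] && allL (ltAll 1) txn0.pre && planOK txh_P x_P 1 (txl2.Pt 0) txn0.plan [txl2]) = true := by decide +kernel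
theorem txn0_1_0 : allZ (txn0.ent H1.OnA.P txh_P x_P x_P cxe_P (nat_lit 4) (nat_lit 1) H1.OnA.B txl2 [] (memO cxc2)) (nat_lit 0) (nat_lit 4) = true := by decide +kernel
theorem cx_f2 : (Nat.ble cxc2.K 4 && Nat.ble (topK []) cxc2.K && Nat.beq (cxc2.Pt 0) (txl2.Pt 0) && Nat.beq (ltAll 224 [txl1.Pt 0, txl0.Pt 0]) 0 && kChk cxe_P x_P cxc2.K 1 H1.OnA.B [txl1.Pt 0, txl0.Pt 0]) = true := by decide +kernel
theorem cxc1_e_0 : allZ (dent cxc1 cxe_P (nat_lit 224)) (nat_lit 0) (nat_lit 1) = true := by decide +kernel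
theorem cxc1_h : 0 < cxc1.n ∧ 0 < cxc1.K ∧ cxc1.Pt 0 < 224 ∧ cxc1.Q (cxc1.Pt 0) = 0 := by decide +kernel
theorem txn1_0 : (Nat.ble txl1.K 8 && Nat.beq (ltAll 224 [txl0.Pt 0]) 0 && kChk cxe_P x_P txn1.Kn 1 H1.OnA.B [txl0.Pt 0] && allL (ltAll 1) txn1.pre && planOK txh_P x_P 1 (txl1.Pt 0) txn1.plan [txl1, txl2]) = true := by decide +kernel
theorem txn1_1_0 : allZ (txn1.ent H1.OnA.P txh_P x_P x_P cxe_P (nat_lit 4) (nat_lit 1) H1.OnA.B txl1 [txl2] (memO cxc1)) (nat_lit 0) (nat_lit 90) = true := by decide +kernel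
theorem cx_f1 : (Nat.ble cxc1.K 4 && Nat.ble (topK [cxc2]) cxc1.K && Nat.beq (cxc1.Pt 0) (txl1.Pt 0) && Nat.beq (ltAll 224 [txl0.Pt 0]) 0 && kChk cxe_P x_P cxc1.K 1 H1.OnA.B [txl0.Pt 0]) = true := by decide +kernel
theorem cxc0_e_0 : allZ (dent cxc0 cxe_P (nat_lit 224)) (nat_lit 0) (nat_lit 15) = true := by decide +kernel
theorem cxc0_h : 0 < cxc0.n ∧ 0 < cxc0.K ∧ cxc0.Pt 0 < 224 ∧ cxc0.Q (cxc0.Pt 0) = 0 := by decide +kernel
theorem txn2_0 : (Nat.ble txl0.K 8 && Nat.beq (ltAll 224 []) 0 && kChk cxe_P x_P txn2.Kn 1 H1.OnA.B [] && allL (ltAll 1) txn2.pre && planOK txh_P x_P 1 (txl0.Pt 0) txn2.plan [txl0, txl1, txl2]) = true := by decide +kernel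
theorem txn2_1_0 : allZ (txn2.ent H1.OnA.P txh_P x_P x_P cxe_P (nat_lit 4) (nat_lit 1) H1.OnA.B txl0 [txl1, txl2] (memO cxc0)) (nat_lit 0) (nat_lit 224) = true := by decide +kernel
theorem cx_f0 : (Nat.ble cxc0.K 4 && Nat.ble (topK [cxc1, cxc2]) cxc0.K && Nat.beq (cxc0.Pt 0) (txl0.Pt 0) && Nat.beq (ltAll 224 []) 0 && kChk cxe_P x_P cxc0.K 1 H1.OnA.B []) = true := by decide +kernel
theorem cx_c : chainCard [cxc0, cxc1, cxc2] = 128 ∧ topK [cxc0, cxc1, cxc2] = 4 := by decide +kernel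
theorem x_e : nth [] x_W 0 = nth [] a_W 8 ∧ eqL H1.OnA.P 4 H1.OnA.B (nth [] covr_W 0) (nth [] a_W 7) = 0 ∧ eqL H1.OnA.P 4 H1.OnA.B (nth [] covr_W 1) (nth [] a_W 8) = 0 ∧ H15.CS.comL H1.OnA.P 4 H1.OnA.B (nth [] a_W 5) = true ∧ (∀ k < 4, nth [] a_W k = [k]) ∧ allL (ltAll 4) p2t_W = true := by decide +kernel
theorem ee : eqK κ [nat_lit 5, nat_lit 5] [nat_lit 7] = true ∧ eqK κ [nat_lit 7, nat_lit 7] [] = true ∧ eqK κ [nat_lit 5, nat_lit 6] [] = true ∧ eqK κ [nat_lit 8, nat_lit 8] [] = true ∧ eqK κ [nat_lit 11, nat_lit 8] [nat_lit 8, nat_lit 11] = true ∧ eqK κ [nat_lit 11, nat_lit 11] [nat_lit 8, nat_lit 5] = true ∧ eqK κ [nat_lit 7] [] = false ∧ eqK κ [nat_lit 0, nat_lit 8] [nat_lit 8, nat_lit 0] = false := by decide +kernel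
theorem pm : allB (fun W => cjK κ W [8, 5] [8, 5] || cjK κ W [8, 5] [8, 6]) p2t_W = true := by decide +kernel
theorem d_a : d_W.length = 128 ∧ incr κ d_W 0 = true := by decide +kernel
theorem d_b : allB (allB (mem [nat_lit 5, nat_lit 12, nat_lit 13, nat_lit 14, nat_lit 15])) d_W = true ∧ allB (fun k => allB (fun Z => cjK κ [k] Z Z) [[nat_lit 8]]) [nat_lit 5, nat_lit 12, nat_lit 13, nat_lit 14, nat_lit 15] = true := by decide +kernel
theorem i0 : subK (fun W => eqK κ (rep W 2) []) d_W i0_W = true := by decide +kernel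
theorem i2 : eqK κ (app [nat_lit 9] [nat_lit 9]) [] = true ∧ (List.length [[nat_lit 5],
  [nat_lit 8, nat_lit 7]] = List.length [[nat_lit 5],
  [nat_lit 8]] ∧
    cjAll κ [nat_lit 9] [[nat_lit 5],
  [nat_lit 8, nat_lit 7]] [[nat_lit 5],
  [nat_lit 8]] = true) ∧ subK (fun W => eqK κ (rep W 2) []) (d_W.map fun W => app W [nat_lit 9]) i2_W = true := by decide +kernel
theorem m10 : eqK κ (app [nat_lit 9] [nat_lit 9]) [] = true ∧ trK κ [nat_lit 9] [[nat_lit 5],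
  [nat_lit 8]] [[nat_lit 6],
  [nat_lit 8]] [[nat_lit 5],
  [nat_lit 8]] [[nat_lit 5],
  [nat_lit 8, nat_lit 7]] ([[nat_lit 0, nat_lit 0, nat_lit 0],
  [nat_lit 1]], [[nat_lit 0, nat_lit 0, nat_lit 0],
  [nat_lit 0, nat_lit 0, nat_lit 1]]) = true := by decide +kernel
theorem m20 : eqK κ (app [nat_lit 10] [nat_lit 10]) [] = true ∧ trK κ [nat_lit 10] [[nat_lit 5],
  [nat_lit 8]] [[nat_lit 6],
  [nat_lit 8]] [[nat_lit 5],
  [nat_lit 8]] [[nat_lit 5],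
  [nat_lit 8]] ([[nat_lit 0, nat_lit 0, nat_lit 0],
  [nat_lit 1]], [[nat_lit 0, nat_lit 0, nat_lit 0],
  [nat_lit 1]]) = true := by decide +kernel
theorem k0 : allB (fun W => killK κ [7] [([nat_lit 0], [nat_lit 0]), ([nat_lit 0, nat_lit 3], [nat_lit 3, nat_lit 0]), ([nat_lit 0, nat_lit 2], []), ([nat_lit 0, nat_lit 1], [])] ([[9], [5], [8]] ++ [W, [6], [nat_lit 8]]) ([W, [6], [nat_lit 8]] ++ [[9], [5], [8]]) ||
    allB (fun Y => killK κ [7] [([nat_lit 0], [nat_lit 0]), ([nat_lit 0, nat_lit 4], [nat_lit 4, nat_lit 0]), ([nat_lit 4, nat_lit 1, nat_lit 4, nat_lit 1], []), ([nat_lit 4, nat_lit 0, nat_lit 1, nat_lit 4, nat_lit 0, nat_lit 1], []), ([nat_lit 0, nat_lit 1], [nat_lit 1, nat_lit 0]), ([nat_lit 1, nat_lit 6, nat_lit 5, nat_lit 0], []), ([nat_lit 2, nat_lit 5, nat_lit 4, nat_lit 1], []), ([nat_lit 1, nat_lit 0, nat_lit 1, nat_lit 0], []), ([nat_lit 0, nat_lit 2], []), ([nat_lit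 1, nat_lit 0, nat_lit 5], [nat_lit 5, nat_lit 0, nat_lit 1])] (([10] :: [[9], [5], [8]]) ++ (Y :: [W, [6], [nat_lit 8]])) ((Y :: [W, [6], [nat_lit 8]]) ++ ([10] :: [[9], [5], [8]]))) i0_W) i2_W = true := by decide +kernel
theorem m11 : eqK κ (app [nat_lit 9] [nat_lit 9]) [] = true ∧ trK κ [nat_lit 9] [[nat_lit 5],
  [nat_lit 8]] [[nat_lit 6],
  [nat_lit 8, nat_lit 7]] [[nat_lit 5],
  [nat_lit 8]] [[nat_lit 5],
  [nat_lit 8, nat_lit 7]] ([[nat_lit 0, nat_lit 0, nat_lit 0],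
  [nat_lit 0, nat_lit 0, nat_lit 1]], [[nat_lit 0, nat_lit 0, nat_lit 0],
  [nat_lit 1]]) = true := by decide +kernel
theorem m21 : eqK κ (app [nat_lit 10] [nat_lit 10]) [] = true ∧ trK κ [nat_lit 10] [[nat_lit 5],
  [nat_lit 8]] [[nat_lit 6],
  [nat_lit 8, nat_lit 7]] [[nat_lit 5],
  [nat_lit 8]] [[nat_lit 5],
  [nat_lit 8]] ([[nat_lit 0, nat_lit 0, nat_lit 0],
  [nat_lit 0, nat_lit 0, nat_lit 1]], [[nat_lit 0, nat_lit 0, nat_lit 0],
  [nat_lit 0, nat_lit 0, nat_lit 1]]) = true := by decide +kernel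
theorem k1 : allB (fun W => killK κ [7] [([nat_lit 1, nat_lit 2], [])] ([[9], [5], [8]] ++ [W, [6], [nat_lit 8, nat_lit 7]]) ([W, [6], [nat_lit 8, nat_lit 7]] ++ [[9], [5], [8]]) ||
    allB (fun Y => killK κ [7] [] (([10] :: [[9], [5], [8]]) ++ (Y :: [W, [6], [nat_lit 8, nat_lit 7]])) ((Y :: [W, [6], [nat_lit 8, nat_lit 7]]) ++ ([10] :: [[9], [5], [8]]))) i0_W) i2_W = true := by decide +kernel
theorem ac : allB (fun Y => cjAll κ Y [[nat_lit 8]] [[nat_lit 8]]) [[nat_lit 12],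
  [nat_lit 13],
  [nat_lit 14],
  [nat_lit 15]] = true ∧
    subK (fun W => allB (actK κ [[[nat_lit 0],
  [nat_lit 1]], [[nat_lit 0, nat_lit 0, nat_lit 0],
  [nat_lit 1]]] (W :: [[nat_lit 8]])) [[nat_lit 12],
  [nat_lit 13],
  [nat_lit 14],
  [nat_lit 15]]) d_W ac_W = true := by decide +kernel
theorem s0 : dead κ ([nat_lit 5] :: [[nat_lit 7],
  [nat_lit 8]]) [[nat_lit 0, nat_lit 0, nat_lit 1]] [] = false ∧ stepK κ [[nat_lit 8],
  [nat_lit 7]] [[nat_lit 0, nat_lit 0, nat_lit 1]] [] [] ac_W s0_L = true := by decide +kernel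

theorem md {G : Type*} [Group G] (e : gen H1.OnA.g 4 ≃* G) :
    ∃ (_ : MulAction G (Fin 224)) (g : ℕ → G), Md g (ptF 224) H1.OnA.P 224 4 H1.OnA.B 80640 ∧
      ∀ k < 4, (e.symm (g k)).1 = H1.OnA.g k :=
  exists_md H1.OnA.act (ptF_inj 224) H1.OnA.card H1.OnA.isBase md_b e
theorem a_m : ∀ k < 16, ∀ i < 224, (matEnt (wdsP H1.OnA.P a_W) a_P) k i = 0 := allZ2_sound a_m_a
theorem a_act {G Ω : Type*} [Group G] [MulAction G Ω] {g : ℕ → G} {pt : ℕ → Ω}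
    (M : Md g pt H1.OnA.P 224 4 H1.OnA.B 80640) : H16.Act (wds g a_W) pt a_P 224 16 :=
  act_mat (M.wact a_lt) a_m
theorem p2t_act {G Ω : Type*} [Group G] [MulAction G Ω] {g : ℕ → G} {pt : ℕ → Ω}
    (M : Md g pt H1.OnA.P 224 4 H1.OnA.B 80640) : H16.Act (wds g p2t_W) pt p2t_P 224 8 :=
  M.wact p2t_lt
theorem p2_r : ∀ k < 8, ∀ i < 96, (resEnt p2t_P p2P p2E p2I (nat_lit 224) (nat_lit 96)) k i = 0 := allZ2_sound p2_r_a
theorem p2_sm {G Ω : Type*} [Group G] [MulAction G Ω] {g : ℕ → G} {pt : ℕ → Ω}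
    (M : Md g pt H1.OnA.P 224 4 H1.OnA.B 80640) : Sm (wds g p2t_W) (fun i => pt (p2E i)) p2P 96 8 p2B ∧ ∀ i < 96, p2E i < 224 :=
  M.res (p2t_act M) (by decide) p2_r p2_b
theorem p2l0_e : ∀ i < 31, (dent p2l0 (wdsP p2P p2e) (nat_lit 96)) i = 0 := allZ_sound0 p2l0_e_0
theorem p2l0_ok : DOK p2l0 (wdsP p2P p2e) 96 := ⟨p2l0_h, p2l0_e⟩
theorem p2l1_e : ∀ i < 3, (dent p2l1 (wdsP p2P p2e) (nat_lit 96)) i = 0 := allZ_sound0 p2l1_e_0
theorem p2l1_ok : DOK p2l1 (wdsP p2P p2e) 96 := ⟨p2l1_h, p2l1_e⟩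
theorem p2l2_e : ∀ i < 1, (dent p2l2 (wdsP p2P p2e) (nat_lit 96)) i = 0 := allZ_sound0 p2l2_e_0
theorem p2l2_ok : DOK p2l2 (wdsP p2P p2e) 96 := ⟨p2l2_h, p2l2_e⟩
theorem p2_low {G Ω : Type*} [Group G] [MulAction G Ω] {g : ℕ → G} {pt : ℕ → Ω}
    (M : Md g pt H1.OnA.P 224 4 H1.OnA.B 80640) : SLow (gi (wds (wds g p2t_W) p2e)) (fun i => pt (p2E i)) 96 [p2l0, p2l1, p2l2] :=
  (((SLow.nil).cons p2l2_ok ((p2_sm M).1.act.wds p2_e 15) p2_f2).cons p2l1_ok ((p2_sm M).1.act.wds p2_e 15) p2_f1).cons p2l0_ok ((p2_sm M).1.act.wds p2_e 15) p2_f0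
theorem p2_pc {G Ω : Type*} [Group G] [MulAction G Ω] {g : ℕ → G} {pt : ℕ → Ω}
    (M : Md g pt H1.OnA.P 224 4 H1.OnA.B 80640) : PC (wds g p2t_W) 8 2 :=
  have := M.fin
  ((p2_sm M).1.pc0 (by decide) p2_p).pc (p2_low M) (p2_sm M).1.inj
    (fun k => evA_mem_gen _ (nth_lt p2_e k)) M.card ⟨by decide, p2_c⟩
theorem covr_act {G Ω : Type*} [Group G] [MulAction G Ω] {g : ℕ → G} {pt : ℕ → Ω}
    (M : Md g pt H1.OnA.P 224 4 H1.OnA.B 80640) : H16.Act (wds g covr_W) pt covr_P 224 2 :=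
  M.wact covr_lt
theorem cov_0 {G Ω : Type*} [Group G] [MulAction G Ω] {g : ℕ → G} {pt : ℕ → Ω}
    (M : Md g pt H1.OnA.P 224 4 H1.OnA.B 80640) : Cov (wds g p2t_W) (wds g covr_W) 2 2 8 (evA (wds g p2t_W) []) :=
  have := M.fin
  covT0.cov M (p2_sm M).1 (p2_sm M).2 (covr_act M) (p2_pc M) _ _ cov_c0
theorem cov {G Ω : Type*} [Group G] [MulAction G Ω] {g : ℕ → G} {pt : ℕ → Ω}
    (M : Md g pt H1.OnA.P 224 4 H1.OnA.B 80640) {y : G} {e : ℕ} (hy : y ^ 2 ^ e = 1) (hq : y ^ 2 = 1) : Good (wds g covr_W) 2 y :=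
  have := M.fin
  Cov.all (p2_pc M) (cov_0 M) hy hq
theorem x_act {G Ω : Type*} [Group G] [MulAction G Ω] {g : ℕ → G} {pt : ℕ → Ω}
    (M : Md g pt H1.OnA.P 224 4 H1.OnA.B 80640) : H16.Act (wds g x_W) pt x_P 224 1 :=
  M.wact x_lt
theorem txh_act {G Ω : Type*} [Group G] [MulAction G Ω] {g : ℕ → G} {pt : ℕ → Ω}
    (M : Md g pt H1.OnA.P 224 4 H1.OnA.B 80640) : H16.Act (wds g txh_W) pt txh_P 224 8 :=
  M.wact txh_lt
theorem txl0_e : ∀ i < 223, (dent txl0 txh_P (nat_lit 224)) i = 0 := allZ_sound0 txl0_e_0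
theorem txl0_ok : DOK txl0 txh_P 224 := ⟨txl0_h, txl0_e⟩
theorem txl1_e : ∀ i < 89, (dent txl1 txh_P (nat_lit 224)) i = 0 := allZ_sound0 txl1_e_0
theorem txl1_ok : DOK txl1 txh_P 224 := ⟨txl1_h, txl1_e⟩
theorem txl2_e : ∀ i < 3, (dent txl2 txh_P (nat_lit 224)) i = 0 := allZ_sound0 txl2_e_0
theorem txl2_ok : DOK txl2 txh_P 224 := ⟨txl2_h, txl2_e⟩
theorem tx_low {G Ω : Type*} [Group G] [MulAction G Ω] {g : ℕ → G} {pt : ℕ → Ω}
    (M : Md g pt H1.OnA.P 224 4 H1.OnA.B 80640) : SLow (gi (wds g txh_W)) pt 224 [txl0, txl1, txl2] :=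
  (((SLow.nil).cons txl2_ok (txh_act M) tx_f2).cons txl1_ok (txh_act M) tx_f1).cons txl0_ok (txh_act M) tx_f0
theorem tx_S0 {G Ω : Type*} [Group G] [MulAction G Ω] {g : ℕ → G} {pt : ℕ → Ω}
    (M : Md g pt H1.OnA.P 224 4 H1.OnA.B 80640) : Stage ⊤ (wds g txh_W) pt 224 [txl0, txl1, txl2] [] :=
  M.stage (tx_low M) tx_c
theorem tx_S1 {G Ω : Type*} [Group G] [MulAction G Ω] {g : ℕ → G} {pt : ℕ → Ω}
    (M : Md g pt H1.OnA.P 224 4 H1.OnA.B 80640) : Stage ⊤ (wds g txh_W) pt 224 [txl1, txl2] [txl0.Pt 0] :=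
  (tx_S0 M).next
theorem tx_S2 {G Ω : Type*} [Group G] [MulAction G Ω] {g : ℕ → G} {pt : ℕ → Ω}
    (M : Md g pt H1.OnA.P 224 4 H1.OnA.B 80640) : Stage ⊤ (wds g txh_W) pt 224 [txl2] [txl1.Pt 0, txl0.Pt 0] :=
  (tx_S1 M).next
theorem tx_S3 {G Ω : Type*} [Group G] [MulAction G Ω] {g : ℕ → G} {pt : ℕ → Ω}
    (M : Md g pt H1.OnA.P 224 4 H1.OnA.B 80640) : Stage ⊤ (wds g txh_W) pt 224 [] [txl2.Pt 0, txl1.Pt 0, txl0.Pt 0] :=
  (tx_S2 M).next
theorem cxe_act {G Ω : Type*} [Group G] [MulAction G Ω] {g : ℕ → G} {pt : ℕ → Ω}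
    (M : Md g pt H1.OnA.P 224 4 H1.OnA.B 80640) : H16.Act (wds g cxe_W) pt cxe_P 224 4 :=
  M.wact cxe_lt
theorem cxc2_e : ∀ i < 3, (dent cxc2 cxe_P (nat_lit 224)) i = 0 := allZ_sound0 cxc2_e_0
theorem cxc2_ok : DOK cxc2 cxe_P 224 := ⟨cxc2_h, cxc2_e⟩
theorem txn0_1 : ∀ i < 4, (txn0.ent H1.OnA.P txh_P x_P x_P cxe_P (nat_lit 4) (nat_lit 1) H1.OnA.B txl2 [] (memO cxc2)) i = 0 := allZ_sound0 txn0_1_0
theorem txn0_t {G Ω : Type*} [Group G] [MulAction G Ω] {g : ℕ → G} {pt : ℕ → Ω}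
    (M : Md g pt H1.OnA.P 224 4 H1.OnA.B 80640) : TrO (gen (wds g txh_W) txl2.K) (wds g x_W) (wds g x_W) 1 pt 224 (txl2.Pt 0) (memO cxc2) :=
  node M (tx_S2 M) (txh_act M) (x_act M) (x_act M) txn0 ((cxe_act M).mono (by decide)) (fun _ _ => trivial) txn0_0 txn0_1 (List.forall_mem_nil _)
theorem cxc1_e : ∀ i < 1, (dent cxc1 cxe_P (nat_lit 224)) i = 0 := allZ_sound0 cxc1_e_0
theorem cxc1_ok : DOK cxc1 cxe_P 224 := ⟨cxc1_h, cxc1_e⟩
theorem txn1_1 : ∀ i < 90, (txn1.ent H1.OnA.P txh_P x_P x_P cxe_P (nat_lit 4) (nat_lit 1) H1.OnA.B txl1 [txl2] (memO cxc1)) i = 0 := allZ_sound0 txn1_1_0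
theorem txn1_t {G Ω : Type*} [Group G] [MulAction G Ω] {g : ℕ → G} {pt : ℕ → Ω}
    (M : Md g pt H1.OnA.P 224 4 H1.OnA.B 80640) : TrO (gen (wds g txh_W) txl1.K) (wds g x_W) (wds g x_W) 1 pt 224 (txl1.Pt 0) (memO cxc1) :=
  node M (tx_S1 M) (txh_act M) (x_act M) (x_act M) txn1 ((cxe_act M).mono (by decide)) (fun _ _ => trivial) txn1_0 txn1_1 (List.forall_mem_nil _)
theorem cxc0_e : ∀ i < 15, (dent cxc0 cxe_P (nat_lit 224)) i = 0 := allZ_sound0 cxc0_e_0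
theorem cxc0_ok : DOK cxc0 cxe_P 224 := ⟨cxc0_h, cxc0_e⟩
theorem txn2_1 : ∀ i < 224, (txn2.ent H1.OnA.P txh_P x_P x_P cxe_P (nat_lit 4) (nat_lit 1) H1.OnA.B txl0 [txl1, txl2] (memO cxc0)) i = 0 := allZ_sound0 txn2_1_0
theorem txn2_t {G Ω : Type*} [Group G] [MulAction G Ω] {g : ℕ → G} {pt : ℕ → Ω}
    (M : Md g pt H1.OnA.P 224 4 H1.OnA.B 80640) : TrO (gen (wds g txh_W) txl0.K) (wds g x_W) (wds g x_W) 1 pt 224 (txl0.Pt 0) (memO cxc0) :=
  node M (tx_S0 M) (txh_act M) (x_act M) (x_act M) txn2 ((cxe_act M).mono (by decide)) (fun _ _ => trivial) txn2_0 txn2_1 (List.forall_mem_nil _)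
theorem cx {G Ω : Type*} [Group G] [MulAction G Ω] {g : ℕ → G} {pt : ℕ → Ω}
    (M : Md g pt H1.OnA.P 224 4 H1.OnA.B 80640) : Cen ⊤ (wds g x_W) 1 (wds g cxe_W) pt 224 [cxc0, cxc1, cxc2] :=
  (tx_S0 M).top ▸ Cen.lev M (tx_S0 M) (Cen.lev M (tx_S1 M) (Cen.lev M (tx_S2 M) (Cen.bot) (txn0_t M) (x_act M) (cxe_act M) (fun _ _ => trivial) cxc2_ok cx_f2) (txn1_t M) (x_act M) (cxe_act M) (fun _ _ => trivial) cxc1_ok cx_f1) (txn2_t M) (x_act M) (cxe_act M) (fun _ _ => trivial) cxc0_ok cx_f0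
theorem cx_card {G Ω : Type*} [Group G] [MulAction G Ω] {g : ℕ → G} {pt : ℕ → Ω}
    (M : Md g pt H1.OnA.P 224 4 H1.OnA.B 80640) : Nat.card (Subgroup.centralizer {(wds g x_W) 0}) = 128 :=
  (cx M).card_cent1 M.inj cx_c.1
theorem cx_eq {G Ω : Type*} [Group G] [MulAction G Ω] {g : ℕ → G} {pt : ℕ → Ω}
    (M : Md g pt H1.OnA.P 224 4 H1.OnA.B 80640) : Subgroup.centralizer (gen (wds g x_W) 1) = gen (wds g cxe_W) 4 ∧ Nat.card (gen (wds g cxe_W) 4) = 128 :=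
  cx_c.1 ▸ cx_c.2 ▸ ⟨(cx M).cent, (cx M).card M.inj⟩

end H1.Oa
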