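import Cfsg.Agent.H16.Slp

/-! Generated by tools/h16 (computation kit). -/

set_option maxRecDepth 100000
set_option maxHeartbeats 0
set_option linter.unusedVariables false

namespace H1.OnB

open H16

noncomputable def Rl : List (List ℕ) := [[nat_lit 0, nat_lit 1],
  [nat_lit 1, nat_lit 0],
  [nat_lit 2, nat_lit 2],
  [nat_lit 3, nat_lit 3],
  [nat_lit 0, nat_lit 0, nat_lit 0, nat_lit 0],
  [nat_lit 0, nat_lit 2, nat_lit 0, nat_lit 2, nat_lit 0, nat_lit 2, nat_lit 0, nat_lit 2, nat_lit 0, nat_lit 2],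
  [nat_lit 0, nat_lit 0, nat_lit 2, nat_lit 0, nat_lit 0, nat_lit 2, nat_lit 0, nat_lit 0, nat_lit 2, nat_lit 1, nat_lit 1, nat_lit 2, nat_lit 1, nat_lit 1, nat_lit 2],
  [nat_lit 0, nat_lit 3, nat_lit 1, nat_lit 3],
  [nat_lit 2, nat_lit 3, nat_lit 2, nat_lit 3, nat_lit 2, nat_lit 3],
  [nat_lit 0, nat_lit 0, nat_lit 2, nat_lit 0, nat_lit 2, nat_lit 0, nat_lit 3, nat_lit 2, nat_lit 1, nat_lit 2, nat_lit 1, nat_lit 3, nat_lit 2, nat_lit 1, nat_lit 2, nat_lit 3, nat_lit 0, nat_lit 2, nat_lit 0, nat_lit 2, nat_lit 3]]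
noncomputable def Pd : List ℕ := [nat_lit 0xaab79597dfdcddde58539d8ab148a824b528cddb6eca3e93a47e75883ab99f6bb07cd94063ba8259439ec836c247900b1f0ac391bbcc8c8b4dce81b2527b39a05f551235a723c95e71b8bdaecf57207dd0b4c11174927a218704ab966db36c2f46a1d383a3987f0f94251dd134cbda8e2956be5137762a68024b1464859bb6458d895d5c1973849ad472615460a2a55a084e62a93b4a4433c71ed6bcd8ac3f490d0907412d16c61c2b702250189c13bf65c5668fc05b06100e6f172cd732154238792eaf0cd569d26aadc4801b1a4ca6863d3c313077996727260578034f0100,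
  nat_lit 0xdbd8d9dacc71bd4323451a577d18748f93a6cdaa72ca99b547392e15adb38d2b306d9544abbac296de61cf8e82a4d3bf1c94164285df4cd19b1051c77b527ea0c1b6d5326258097adc84dd77c88aacb12c705fa9a8d45ec4870f63597cb9a51479c690bea2891e040a6ac58b5a56973626cb8381c0171968082d2f64bb4d55539f985d5c2a50b8d7926e9e54d6a36c34024ea711664a40d2b27f6049b7203cbc41c90e0d4bc3a11f6bb49c7348220c0b801d3b2437696fce070676d09a358891af46753813125b33253a2165319d8c2878273f1bb0ae3e4f3d29058603670100,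
  nat_lit 0xe13070c9a33a11dc682cbcacdc54a31aaced31ad5d4c9955cd7d2561bc2c149bc5f30bf368345ad7ba3a9896857b19d1214b88409cfb59020187592b696d9606d8fb00b10db2e4852a2c89394a46ca89e61872a7d8ab42f8d445eacbad6623d59378b7cb724162b6e0aa57446673c4142779f91196566b372696a6405818ea0be8502c727557f21b2c45a0453973a2c154e034011d1c0984773b986266f704c29068071255122237ebb081eda32d0bd88991750788c3f0d5b433b7a383958a70f34d81cc3cc6ba62d794faedeaf4b9b1fdf28dc9c76ab35dd3e63544d5d0100,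
  nat_lit 0xcc43bd71aa9795b755213a4956116c30a309a0df90ba10a289590a601a3620832437dd92bbca7039d89a52b3b498722c222e125fabdb3351a73e8b7acfc896cd422316389bb628b2daa1d91d7bbc8dcb0b829118a544c7454a86857ec08e743c5a846e2b93a45078754b778146b1dcb9197d6bd16d66295c676a3f54636258c4ac474e68267fc66140d3d76415b5a8794f5d4d487687d44c5e73888ade9f2f5765a60c8025d5b89cbec21c1ea91f07d041ae17b07c066999135b3bbf9eafd6c1323494350ec36f8c2d9d530d27add2c90f1b143d8fc5ce08312a010400020503]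
noncomputable def P (k u : ℕ) : ℕ := Nat.land (Nat.shiftRight (nth (nat_lit 0) Pd k) (Nat.mul u (nat_lit 8))) (nat_lit 255)
noncomputable def T0d : List ℕ := [nat_lit 0x3be1779feebddc07b61f6866640bba175ceda16a88d809a5d2c42e996c2e95dd2a89e2f3a91392a73fa5288cb63612ae4a6773a0418dd2708e80aa879b3275996574961367ce553cf73d79d292a67a4944b4e7a81af3ae8f48b498ea2f774ef4886f4fd7346dff48467597e1fae4747e5544ba939be747aeb89d70cfbcf5c1e8edd7039df47b5171a2e3e8dc746deb6f31cf9b66290eb65d1a3a33e969eb5e62b773c75abe8c3c9930428f9a1337d1717b975a6e8b1d68dbbaf456eb43d67f6c57454e4ae3975c477251eb30c209a27b571eb2fc9329c9f448eb2391aba23647d18df9d1fac67341eb13ce1b0407040c4bf9dffac1f581c2893d6fa1ce83de671d5ef9bbef63e06f58f399a7374dc97c0ce822f330eae1cdbb817f56be857a997995513a9e9bd59b9b17426eac19567aaf7324aea5d56b512f355e83fd54ea11f350e83bd53a914f34ae837d52790f6d2cd885cd0fa0bcd31e433d4ffa9f733be82964d7590f215ea6dcc47a99732dea5dc0439877327ea51c037985f522e641c02b98e7408ea35cc63a03f516e627d01ba89750fea19d4279827402ea0bd40f980f500,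
  nat_lit 0x1be1379f6ebcdc05b61b69ddf87d4e57122fa0eaf2b309a20f4fa5890c151944f17a550bd90f90c6f4465f4a5475e870c966f49fe93c5743a4e749a1953ca653d705b27fb13f5e4e35095e927cb5a34c43b41177d23fae930c7e917d73ccc532a7e911d73b96609c06d57d203ae4ada2e8fca68fa3df2c4e8f49ae76d6f5c211063a124db7473e8dfd6f395d4db7a4dbd6d7a35e190152cddd454bf465eb61b1e7a31f5acbd4dc98afc2f5a8e8babdcba2e5f61ccbdd6931b472a1e8add680f4eed89e4abd66db3ef2509724ba05b38744b16cfc92baca7291e8918dab446758eeb1bd10b4a37186dca9c907ac3f43fc2bfd0f46bb75829cb5d0eb21f757fe2efd5f391c7578e86d60ef8ba723466e3d0ca721f16eda9fc8c3a17756ccccdd5a67a6e25be455acaf9326f60e84dd0973ac5552e4494113aacf257dea7d07ed117251de9dd076614724cde93d06f90e6e2cea8fc916898f417e431d50349cf23ca66bd053610f213ea6fc4b7a99f211ea5fd03f893f20eea53d0338907523e417d02790f6f1ae811c86778b7407e42bbc4ba037510ea1bd42ba01f205e805d413900f500,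
  nat_lit 0xc5bf837ba6bf4d6e9a5d323a5f74baebbbd7735ea82d4e965d76c860f4b03f86672476686cce951d298c6775dae947d287a4fa0ac3d9e5f087e8a3afe933d767a4c23a0e92bd763a4a6ab88b6bb2da25bf491dd21d74fa4675d04981d22ba44a1c4d31dd21b742f5cbe905d72ba3fe681eb8fd1f7ae322bceb8bd1e7a3c74770b1bd1d3adff5bd0d07d1bbaddf5b9e8d9d1afada6fb3e8d3a2ac24df5b1e8c9d6bbad6f46266e3d6ab7d4f45e0f2fd69f3d2745beb4bd15fad16e5a94e1d157acf759deb39d147a28759ae89dd131a43cb7be895d65ba24f593eb25d11fac7f445e887959ba20f58be881d623a1fee53e87dd613a1e743beb01bdf31acf438eafdd0dfabd7436dec1d0d3abb7575e865d5cfa187572e85fd5bfab6f42dead5d0abab47429eacfd09fab2f563eac3d57fa12755deab9d08ba107558eaadd553a0f7552e251d53fa0e754dea97cc8faa47419e831d51baa27233ea85d05ba0af53de45dd4eba09f539e825d4d7a087531e81fbc6ba96752be819d49ba92f40aea43d47f808f51dea37bc3b884f517e217d453906f405e809d00fa847507ea0dd007a817500,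
  nat_lit 0xe9b7d36a1ee42ddebbfd779ce03ebce96fd2d7a5a74b207a78f4b1e89dc5e161ab0b560f4a80f96a71f0e4e1c855948f10e6822c6e13faf3b5e6bad9e535d2612d7bdd8e52dd2512d07493ebafd24baeb75d5e91fd753258f1cf4d7bca2cdc4b4ab6b59b273a4275ccb711c207152aba35949c9fb3c724b9e387c9e8ebc6daadb1bceffa39f5bedf07ceefa36f5baeb71d6db648f46aeb67a28774df066e75dd18cd56dca762e5d183a2ff5a9dd2f75878d3725ce0b3ce8ba2b656872ebce7ba2a1c9de8a7bd9dd3df44eeb32ca1fa25b74fe2bbd127acaeb6cdad7d643823e67ce0edc6339217440eb15d0fef417586eb0bc0fb837f380e8758d138bff239e86fd5f7a1b7579eaefc8d7a19f43270e1d5d3918f42feae3d0bbab76e48e2d3c8afa14e45ae851cd97a137564eac5c57b912f423e845d56f9ac741feaafd5579a9741deaa3d5439a6f41bea99d52ba0d6f21e68dd05faa2f543e82dd50799ef414ea79d4ef8167412ea71d043a9a740fea61d4b7a06f40cea55d49fa057524e813d483a04751eea39d01fa8cf518e80dd457a89f511ea1dd42f882f004e407cc0ba007501]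
noncomputable def T0 (k u : ℕ) : ℕ := Nat.land (Nat.shiftRight (nth (nat_lit 0) T0d k) (Nat.mul u (nat_lit 15))) (nat_lit 32767)
noncomputable def I0d : List ℕ := [nat_lit 0x804987018003508cd108e048047594081080020cc200080000440002200c824840200c2201902085e1104001940209100088430886110c0b008e1104e208402194030814208ca20944000020080c030c211004000404028002000008001100093840208020104a010400105c010462200401842010843080200800008001000020804100821085020840c,
  nat_lit 0x80000000000000000000000000200044000400000200000000001000000040000400000000800100001000000040000400004000004000020000010800000020000010000100401008000000000001004020000000000000200006000000000030800000400000400802008000080010000000000000010840000404,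
  nat_lit 0x10800000000844200480238420000100000024000040800402308000040148008180010040008020080006002100021000220000100420004403846008020000210800100165004010802001c01004000040008cc00802068021004010042008020080210840108001084010040109020004230800100401004010142100420084410880110460000210802a,
  nat_lit 0xa008404000001104500000200822900001042000000008008021004a41008020001000a0100001008500c0110c010844009c8018003000010004000c0000c00000c008c00280221040228800080810800300080004010800018400080252000300c0108800004600846008460084001802100460084a00802008400084010040108021004210844210c01]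
noncomputable def I0 (k u : ℕ) : ℕ := Nat.land (Nat.shiftRight (nth (nat_lit 0) I0d k) (Nat.mul u (nat_lit 5))) (nat_lit 31)
noncomputable def D0d : ℕ := nat_lit 0xdbf6bd7b5ad2b22beaeab7ed7b4ecbb2ac5b12c2ae6a9aa2a3a8a9aa5694a3a869fa7c9e2719c26899a6398a5995a5394a4f9324b926468fe3c8ca2d8b22a89a218821a84e1182a007f9f97e1f67b1e97a1e6789de765d273dcc6f1ba6ddb56c9ae6b1ab699a1675946498f6318a615835fd7a5d1715c16e5855e56d595615654d5153d465093b4e9324bd2c4a927499214811e465164390841903408ff3f8fc3e8f43c8ee3ace8394e237cde36cda360d233ccb328c8308bf2f8bb2e0b62b4aa29ca628c9e26c99260942488f22c8a2087f1f47c1e8771d4741c86f1b46c1ac661885f1745c16c5a15853144501384b128431083f0f83c0dc330c8300ac2a09c2408c210801f0741c06c19060160480e030090200600c00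
noncomputable def D0 (u : ℕ) : ℕ := Nat.land (Nat.shiftRight D0d (Nat.mul u (nat_lit 10))) (nat_lit 1023)
noncomputable def RL0 : List (List Rule) := [[.rel (nat_lit 14) (nat_lit 0) [nat_lit 3, nat_lit 1, nat_lit 3], .defn, .rel (nat_lit 0) (nat_lit 0) [nat_lit 1], .rel (nat_lit 8) (nat_lit 2) [nat_lit 0, nat_lit 0, nat_lit 0], .rel (nat_lit 10) (nat_lit 6) [nat_lit 2, nat_lit 0, nat_lit 2, nat_lit 0, nat_lit 2, nat_lit 0, nat_lit 2, nat_lit 0, nat_lit 2], .rel (nat_lit 10) (nat_lit 4) [nat_lit 2, nat_lit 0, nat_lit 2, nat_lit 0, nat_lit 2, nat_lit 0, nat_lit 2, nat_lit 0, nat_lit 2], .rel (nat_lit 10) (nat_lit 8) [nat_lit 2, nat_lit 0, nat_lit 2, nat_lit 0, nat_lit 2, nat_lit 0, nat_lit 2, nat_lit 0, nat_lit 2], .rel (nat_lit 8) (nat_lit 3) [nat_lit 0, nat_lit 0, nat_lit 0], .rel (nat_lit 8) (nat_lit 0) [nat_lit 0, nat_lit 0, nat_lit 0], .rel (nat_lit 10) (nat_lit 2) [nat_lit 2, nat_lit 0, nat_lit 2, nat_lit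 0, nat_lit 2, nat_lit 0, nat_lit 2, nat_lit 0, nat_lit 2], .rel (nat_lit 8) (nat_lit 1) [nat_lit 0, nat_lit 0, nat_lit 0], .rel (nat_lit 12) (nat_lit 6) [nat_lit 0, nat_lit 2, nat_lit 1, nat_lit 1, nat_lit 2, nat_lit 1, nat_lit 1, nat_lit 2, nat_lit 0, nat_lit 0, nat_lit 2, nat_lit 0, nat_lit 0, nat_lit 2], .sub (nat_lit 0) [] [], .rel (nat_lit 10) (nat_lit 0) [nat_lit 2, nat_lit 0, nat_lit 2, nat_lit 0, nat_lit 2, nat_lit 0, nat_lit 2, nat_lit 0, nat_lit 2], .rel (nat_lit 12) (nat_lit 3) [nat_lit 0, nat_lit 2, nat_lit 0, nat_lit 0, nat_lit 2, nat_lit 1, nat_lit 1, nat_lit 2, nat_lit 1, nat_lit 1, nat_lit 2, nat_lit 0, nat_lit 0, nat_lit 2], .rel (nat_lit 12) (nat_lit 4) [nat_lit 2, nat_lit 0, nat_lit 0, nat_lit 2, nat_lit 1, nat_lit 1, nat_lit 2, nat_lit 1, nat_lit 1, nat_lit 2, nat_lit 0, nat_lit 0, nat_lit 2, nat_lit 0], .rel (nat_lit 18) (nat_lit 3) [nat_lit 2, nat_lit 0, nat_lit 3, nat_lit 2, nat_lit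 1, nat_lit 2, nat_lit 1, nat_lit 3, nat_lit 2, nat_lit 1, nat_lit 2, nat_lit 3, nat_lit 0, nat_lit 2, nat_lit 0, nat_lit 2, nat_lit 3, nat_lit 0, nat_lit 0, nat_lit 2]],
  [.rel (nat_lit 2) (nat_lit 0) [nat_lit 0], .defn, .rel (nat_lit 14) (nat_lit 2) [nat_lit 3, nat_lit 0, nat_lit 3], .rel (nat_lit 18) (nat_lit 10) [nat_lit 3, nat_lit 2, nat_lit 1, nat_lit 2, nat_lit 3, nat_lit 0, nat_lit 2, nat_lit 0, nat_lit 2, nat_lit 3, nat_lit 0, nat_lit 0, nat_lit 2, nat_lit 0, nat_lit 2, nat_lit 0, nat_lit 3, nat_lit 2, nat_lit 1, nat_lit 2], .sub (nat_lit 2) [] []],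
  [.rel (nat_lit 4) (nat_lit 0) [nat_lit 2], .defn, .rel (nat_lit 16) (nat_lit 4) [nat_lit 3, nat_lit 2, nat_lit 3, nat_lit 2, nat_lit 3], .rel (nat_lit 10) (nat_lit 5) [nat_lit 0, nat_lit 2, nat_lit 0, nat_lit 2, nat_lit 0, nat_lit 2, nat_lit 0, nat_lit 2, nat_lit 0], .rel (nat_lit 10) (nat_lit 9) [nat_lit 0, nat_lit 2, nat_lit 0, nat_lit 2, nat_lit 0, nat_lit 2, nat_lit 0, nat_lit 2, nat_lit 0], .rel (nat_lit 12) (nat_lit 2) [nat_lit 0, nat_lit 0, nat_lit 2, nat_lit 0, nat_lit 0, nat_lit 2, nat_lit 1, nat_lit 1, nat_lit 2, nat_lit 1, nat_lit 1, nat_lit 2, nat_lit 0, nat_lit 0], .rel (nat_lit 12) (nat_lit 11) [nat_lit 1, nat_lit 1, nat_lit 2, nat_lit 0, nat_lit 0, nat_lit 2, nat_lit 0, nat_lit 0, nat_lit 2, nat_lit 0, nat_lit 0, nat_lit 2, nat_lit 1, nat_lit 1], .rel (nat_lit 12) (nat_lit 14) [nat_lit 0, nat_lit 0, nat_lit 2, nat_lit 0, nat_lit 0, nat_lit 2, nat_lit 0, nat_lit 0, nat_lit 2, nat_lit 1, nat_lit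 1, nat_lit 2, nat_lit 1, nat_lit 1], .rel (nat_lit 16) (nat_lit 0) [nat_lit 3, nat_lit 2, nat_lit 3, nat_lit 2, nat_lit 3], .rel (nat_lit 16) (nat_lit 2) [nat_lit 3, nat_lit 2, nat_lit 3, nat_lit 2, nat_lit 3], .sub (nat_lit 4) [] [], .rel (nat_lit 10) (nat_lit 1) [nat_lit 0, nat_lit 2, nat_lit 0, nat_lit 2, nat_lit 0, nat_lit 2, nat_lit 0, nat_lit 2, nat_lit 0], .rel (nat_lit 10) (nat_lit 3) [nat_lit 0, nat_lit 2, nat_lit 0, nat_lit 2, nat_lit 0, nat_lit 2, nat_lit 0, nat_lit 2, nat_lit 0], .rel (nat_lit 12) (nat_lit 5) [nat_lit 0, nat_lit 0, nat_lit 2, nat_lit 1, nat_lit 1, nat_lit 2, nat_lit 1, nat_lit 1, nat_lit 2, nat_lit 0, nat_lit 0, nat_lit 2, nat_lit 0, nat_lit 0], .rel (nat_lit 18) (nat_lit 14) [nat_lit 3, nat_lit 0, nat_lit 2, nat_lit 0, nat_lit 2, nat_lit 3, nat_lit 0, nat_lit 0, nat_lit 2, nat_lit 0, nat_lit 2, nat_lit 0, nat_lit 3, nat_lit 2, nat_lit 1, nat_lit 2, nat_lit 1, nat_lit 3, nat_lit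 2, nat_lit 1]],
  [.rel (nat_lit 6) (nat_lit 0) [nat_lit 3], .defn, .rel (nat_lit 14) (nat_lit 1) [nat_lit 1, nat_lit 3, nat_lit 0], .rel (nat_lit 16) (nat_lit 5) [nat_lit 2, nat_lit 3, nat_lit 2, nat_lit 3, nat_lit 2], .rel (nat_lit 14) (nat_lit 3) [nat_lit 0, nat_lit 3, nat_lit 1], .rel (nat_lit 16) (nat_lit 3) [nat_lit 2, nat_lit 3, nat_lit 2, nat_lit 3, nat_lit 2], .rel (nat_lit 18) (nat_lit 15) [nat_lit 0, nat_lit 2, nat_lit 0, nat_lit 2, nat_lit 3, nat_lit 0, nat_lit 0, nat_lit 2, nat_lit 0, nat_lit 2, nat_lit 0, nat_lit 3, nat_lit 2, nat_lit 1, nat_lit 2, nat_lit 1, nat_lit 3, nat_lit 2, nat_lit 1, nat_lit 2], .rel (nat_lit 18) (nat_lit 20) [nat_lit 0, nat_lit 0, nat_lit 2, nat_lit 0, nat_lit 2, nat_lit 0, nat_lit 3, nat_lit 2, nat_lit 1, nat_lit 2, nat_lit 1, nat_lit 3, nat_lit 2, nat_lit 1, nat_lit 2, nat_lit 3, nat_lit 0, nat_lit 2, nat_lit 0, nat_lit 2]]]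
noncomputable def c0 : TCert := ⟨224, 4, 255, T0, I0, D0, [[nat_lit 0],
  [nat_lit 1],
  [nat_lit 2]], RL0⟩
noncomputable def Pt0d : ℕ := nat_lit 0x644e5c68545dd692c7b3018a86040f389e3532534fb608029ad09c308f1c1f21458261bc57a4244789c2b405d4447823585573bddd22601595a367aadbdf31bf0b2c34af1788b98e3b40b27a5e3663ca49072d2bd75a46d95239a0c425c8cf7b72cc0e130cb0501e126a3d2f70b597dc4b4c9885bbbac027667c37c67fa1a2b8cd567693b7deb1cb1a1b9d79adae658071412aa9da1148ab836b5b4369be7e5996d36e0a94d890d5c3162e143f3c068c33d209876d1926295f847d77c51d4aa83a990d3e18ce8d9f6fac8b75d151c928a6c1914274a56c1020819ba7624d0300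
noncomputable def Pt0 (u : ℕ) : ℕ := Nat.land (Nat.shiftRight Pt0d (Nat.mul u (nat_lit 8))) (nat_lit 255)
noncomputable def Q0d : ℕ := nat_lit 0xa25aab70a34b883a8bd938b33e2e13c6811a5f7e58901182d764238437b60e69a042acbc6b6a99605bca72b5d695597a9c52531648a44c20040f0abaa661628518cf55c505c71e6d713fa73b5cd80d39c398193015d4b79a2cd36c2647be065063412566809454b1245d140bad7f4f73173d2b09467643dca56751df9103bda92793dadd458a40afbb5eaedbcc871279cbde026e6f218f49b889bfb2440c4e96331c7532971f86d06592ce9d2fcda1c474358d9e8c4d2810682983b9b0aac007c17822c256572a1b9b36a8347c774a08d17d1d7b9f3c2dc98e31b4d201c8d500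
noncomputable def Q0 (u : ℕ) : ℕ := Nat.land (Nat.shiftRight Q0d (Nat.mul u (nat_lit 8))) (nat_lit 255)
noncomputable def l0 : Lev := ⟨224, 4, D0, Pt0, Q0⟩
noncomputable def T1d : List ℕ := [nat_lit 0x7d92d6b51b4e357b4bb49bd83cc8d3854352ac4bd59c7ac2945abf8cfabbbd0b37bcdb35bca939b31bc8b2e9b3b2dbc6b2cb2abc38b8bc1b2693dbc0bbeaa45b4bbcbba9b2aa0928a9ebb6a9c622a9ab18bb0bafa97b15babb14ba9b13ba7b11ba5ba3b0fba1b9fb9db9ba8db99a8bb96a89b07b92b06b90b05b8eb8cb8ab88a83b01b84b82b80,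
  nat_lit 0x759b522d5258b4c7cf8502cebd7b45847bd6b43351bd4b41bd3b3e94bb3a8c9a4db37a4ab35b32a48b318b3b2ea46b2d8c0836bc4b28bc252f93c92cbbfb23b22bbdbbbbb9b1fbb8b1d8aab1bbb4b19a30b185a6b16a2bb15a29b14a27b13a25b11ba4a21b0fba0b9eb9cb0cb9ab0ab97b08a12b07a10b06a0eb05b8db8bb89b02a04b01b83b80,
  nat_lit 0xb545574d8153050bd91d6b48b460d5b44b4394ab42b419cdb40bd2b3dbd1b39bcfbcebccbcbbc93b8ab4bc76bc9af4b6bc543fb2943ab27a3eb25b24b2392ba3bb21b20b1f9b0b1dbb7b1cbb5b1abb3bb2bb1b16baebadbac999baaba8a97ba6a1eb10a1bba2b0eb0db0c992b0ab98b09b95b94b93a08b91b8fa8bb04b03b02b87b86b85b00b81]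
noncomputable def T1 (k u : ℕ) : ℕ := Nat.land (Nat.shiftRight (nth (nat_lit 0) T1d k) (Nat.mul u (nat_lit 12))) (nat_lit 4095)
noncomputable def I1d : List ℕ := [nat_lit 0x43113110835920424272010103101a101103015002300424202421002101010100100002020210101000021006,
  nat_lit 0x1001001010000000000000000010100010011101000100000000000001001110101000000011100012,
  nat_lit 0x20001800700000401010111110314051600000000200040101011101110113120010005010111011300011101]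
noncomputable def I1 (k u : ℕ) : ℕ := Nat.land (Nat.shiftRight (nth (nat_lit 0) I1d k) (Nat.mul u (nat_lit 4))) (nat_lit 15)
noncomputable def D1d : ℕ := nat_lit 0xfef6f4ebe4e2dcdad4cfcecbc9c8c5c3c2bab9aeada6a5a09f9694938b8a8887857f7d787773716e6b696665625f5d59575651504b49484442403f3d3c3a393433322e2d2c292624201e1d1816151312100f0e0b080604030200
noncomputable def D1 (u : ℕ) : ℕ := Nat.land (Nat.shiftRight D1d (Nat.mul u (nat_lit 8))) (nat_lit 255)
noncomputable def RL1 : List (List Rule) := [[.defn, .rel (nat_lit 0) (nat_lit 0) [nat_lit 1], .rel (nat_lit 8) (nat_lit 0) [nat_lit 0, nat_lit 0, nat_lit 0], .rel (nat_lit 8) (nat_lit 2) [nat_lit 0, nat_lit 0, nat_lit 0], .rel (nat_lit 10) (nat_lit 6) [nat_lit 2, nat_lit 0, nat_lit 2, nat_lit 0, nat_lit 2, nat_lit 0, nat_lit 2, nat_lit 0, nat_lit 2], .rel (nat_lit 8) (nat_lit 1) [nat_lit 0, nat_lit 0, nat_lit 0], .sub (nat_lit 0) [] [], .rel (nat_lit 10) (nat_lit 2)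 [nat_lit 2, nat_lit 0, nat_lit 2, nat_lit 0, nat_lit 2, nat_lit 0, nat_lit 2, nat_lit 0, nat_lit 2], .rel (nat_lit 10) (nat_lit 4) [nat_lit 2, nat_lit 0, nat_lit 2, nat_lit 0, nat_lit 2, nat_lit 0, nat_lit 2, nat_lit 0, nat_lit 2], .rel (nat_lit 10) (nat_lit 8) [nat_lit 2, nat_lit 0, nat_lit 2, nat_lit 0, nat_lit 2, nat_lit 0, nat_lit 2, nat_lit 0, nat_lit 2], .rel (nat_lit 12) (nat_lit 7) [nat_lit 2, nat_lit 1, nat_lit 1, nat_lit 2, nat_lit 1, nat_lit 1, nat_lit 2, nat_lit 0, nat_lit 0, nat_lit 2, nat_lit 0, nat_lit 0, nat_lit 2, nat_lit 0]],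
  [.rel (nat_lit 2) (nat_lit 0) [nat_lit 0], .defn, .sub (nat_lit 2) [] []],
  [.rel (nat_lit 4) (nat_lit 0) [nat_lit 2], .defn, .rel (nat_lit 10) (nat_lit 5) [nat_lit 0, nat_lit 2, nat_lit 0, nat_lit 2, nat_lit 0, nat_lit 2, nat_lit 0, nat_lit 2, nat_lit 0], .rel (nat_lit 10) (nat_lit 9) [nat_lit 0, nat_lit 2, nat_lit 0, nat_lit 2, nat_lit 0, nat_lit 2, nat_lit 0, nat_lit 2, nat_lit 0], .rel (nat_lit 12) (nat_lit 5) [nat_lit 0, nat_lit 0, nat_lit 2, nat_lit 1, nat_lit 1, nat_lit 2, nat_lit 1, nat_lit 1, nat_lit 2, nat_lit 0, nat_lit 0, nat_lit 2, nat_lit 0, nat_lit 0], .rel (nat_lit 12) (nat_lit 2) [nat_lit 0, nat_lit 0, nat_lit 2, nat_lit 0, nat_lit 0, nat_lit 2, nat_lit 1, nat_lit 1, nat_lit 2, nat_lit 1, nat_lit 1, nat_lit 2, nat_lit 0, nat_lit 0], .rel (nat_lit 10) (nat_lit 3) [nat_lit 0, nat_lit 2, nat_lit 0, nat_lit 2, nat_lit 0, nat_lit 2, nat_lit 0, nat_lit 2, nat_lit 0], .rel (nat_lit 10) (nat_lit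 7) [nat_lit 0, nat_lit 2, nat_lit 0, nat_lit 2, nat_lit 0, nat_lit 2, nat_lit 0, nat_lit 2, nat_lit 0], .rel (nat_lit 12) (nat_lit 11) [nat_lit 1, nat_lit 1, nat_lit 2, nat_lit 0, nat_lit 0, nat_lit 2, nat_lit 0, nat_lit 0, nat_lit 2, nat_lit 0, nat_lit 0, nat_lit 2, nat_lit 1, nat_lit 1]]]
noncomputable def c1 : TCert := ⟨90, 3, 127, T1, I1, D1, [[nat_lit 0],
  [nat_lit 1]], RL1⟩
noncomputable def Pt1d : ℕ := nat_lit 0x59e8f552c635ab6d050bb61b424858973a3ab3134368e7a5e46527b09c9130c1e9770dc98b73e7fa2b8de991b79ad7141da4843065996d82ec3163f3c33d2262984c51d3a0d18ce6fac755128a69142a56c1020819ba7624d03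
noncomputable def Pt1 (u : ℕ) : ℕ := Nat.land (Nat.shiftRight Pt1d (Nat.mul u (nat_lit 8))) (nat_lit 255)
noncomputable def Q1d : ℕ := nat_lit 0xbc03600a00220000000006c05100480000001e000000b80400000000000009e00030694804d000000000015908e00000063048090c400001600000801735708c0000000580af0c00000025000002598000028064000007d0960000007809201537220000800000000000000a80a7000104000014d2000002b0000fc7500000080000002701000004c294803ccc01d00540000110045380230000840550000c8d006804c000000600e4b005a00013007c00076000070000a3a0001e800096c800000000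
noncomputable def Q1 (u : ℕ) : ℕ := Nat.land (Nat.shiftRight Q1d (Nat.mul u (nat_lit 7))) (nat_lit 127)
noncomputable def l1 : Lev := ⟨90, 3, D1, Pt1, Q1⟩
noncomputable def T2d : List ℕ := [nat_lit 0x68fd,
  nat_lit 0x938e]
noncomputable def T2 (k u : ℕ) : ℕ := Nat.land (Nat.shiftRight (nth (nat_lit 0) T2d k) (Nat.mul u (nat_lit 4))) (nat_lit 15)
noncomputable def I2d : List ℕ := [nat_lit 0x90,
  nat_lit 1]
noncomputable def I2 (k u : ℕ) : ℕ := Nat.land (Nat.shiftRight (nth (nat_lit 0) I2d k) (Nat.mul u (nat_lit 2))) (nat_lit 3)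
noncomputable def D2d : ℕ := nat_lit 0x90
noncomputable def D2 (u : ℕ) : ℕ := Nat.land (Nat.shiftRight D2d (Nat.mul u (nat_lit 2))) (nat_lit 3)
noncomputable def RL2 : List (List Rule) := [[.defn, .rel (nat_lit 0) (nat_lit 0) [nat_lit 1], .rel (nat_lit 8) (nat_lit 0) [nat_lit 0, nat_lit 0, nat_lit 0]],
  [.rel (nat_lit 2) (nat_lit 0) [nat_lit 0], .defn]]
noncomputable def c2 : TCert := ⟨4, 2, 3, T2, I2, D2, [], RL2⟩
noncomputable def Pt2d : ℕ := nat_lit 0x9ba7624d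
noncomputable def Pt2 (u : ℕ) : ℕ := Nat.land (Nat.shiftRight Pt2d (Nat.mul u (nat_lit 8))) (nat_lit 255)
noncomputable def Q2d : ℕ := nat_lit 0x800000c00000000000000000000000000010000000000000000000000000000000000000000000000000
noncomputable def Q2 (u : ℕ) : ℕ := Nat.land (Nat.shiftRight Q2d (Nat.mul u (nat_lit 2))) (nat_lit 3)
noncomputable def l2 : Lev := ⟨4, 2, D2, Pt2, Q2⟩
noncomputable def B : List ℕ := [nat_lit 0, nat_lit 3, nat_lit 77]
noncomputable def L : List Lev := [l0, l1, l2]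

theorem tc0e_a : allZ2 (entryChk T0 (selR RL0 I0) D0 (nat_lit 255) (nat_lit 224) (nat_lit 4)) (nat_lit 4) (nat_lit 224) = true := by decide +kernel
theorem tc0r : rulesChk Rl c0.Sl RL0 (nat_lit 4) = true := by decide +kernel
theorem ivc : ivChk Rl (nat_lit 4) = true := by decide +kernel
theorem lv0e_0 : allZ (l0.ent P) (nat_lit 0) (nat_lit 223) = true := by decide +kernel
theorem lv0b : Nat.blt (Pt0 (nat_lit 0)) (nat_lit 224) = true ∧ Q0 (Pt0 (nat_lit 0)) = 0 ∧ Pt0 (nat_lit 0) = 0 := by decide +kernel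
theorem sb0 : allL (ltAll (nat_lit 3)) c0.Sl = true ∧ fixLetters P (nat_lit 3) (Pt0 (nat_lit 0)) = true := by decide +kernel
theorem tc1e_a : allZ2 (entryChk T1 (selR RL1 I1) D1 (nat_lit 127) (nat_lit 90) (nat_lit 3)) (nat_lit 3) (nat_lit 90) = true := by decide +kernel
theorem tc1r : rulesChk Rl c1.Sl RL1 (nat_lit 3) = true := by decide +kernel
theorem lv1e_0 : allZ (l1.ent P) (nat_lit 0) (nat_lit 89) = true := by decide +kernel
theorem lv1b : Nat.blt (Pt1 (nat_lit 0)) (nat_lit 224) = true ∧ Q1 (Pt1 (nat_lit 0)) = 0 ∧ Pt1 (nat_lit 0) = 3 := by decide +kernel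
theorem sb1 : allL (ltAll (nat_lit 2)) c1.Sl = true ∧ fixLetters P (nat_lit 2) (Pt1 (nat_lit 0)) = true := by decide +kernel
theorem tc2e_a : allZ2 (entryChk T2 (selR RL2 I2) D2 (nat_lit 3) (nat_lit 4) (nat_lit 2)) (nat_lit 2) (nat_lit 4) = true := by decide +kernel
theorem tc2r : rulesChk Rl c2.Sl RL2 (nat_lit 2) = true := by decide +kernel
theorem lv2e_0 : allZ (l2.ent P) (nat_lit 0) (nat_lit 3) = true := by decide +kernel
theorem lv2b : Nat.blt (Pt2 (nat_lit 0)) (nat_lit 224) = true ∧ Q2 (Pt2 (nat_lit 0)) = 0 ∧ Pt2 (nat_lit 0) = 77 := by decide +kernel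
theorem sb2 : allL (ltAll (nat_lit 0)) c2.Sl = true ∧ fixLetters P (nat_lit 0) (Pt2 (nat_lit 0)) = true := by decide +kernel
theorem Blt : ltAll (nat_lit 224) B = 0 := by decide +kernel
theorem ivk : ivLt Rl (nat_lit 4) = true := by decide +kernel
theorem pe_a : allZ2 (permEnt P (ivOf Rl) (nat_lit 224)) (nat_lit 4) (nat_lit 224) = true := by decide +kernel
theorem rf0 : allL (fixRange P (nat_lit 4) (nat_lit 0) (nat_lit 224)) (Rl.drop (nat_lit 4)) = true := by decide +kernel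

theorem tc0e : ∀ k < 4, ∀ i < 224, (entryChk T0 (selR RL0 I0) D0 (nat_lit 255) (nat_lit 224) (nat_lit 4)) k i = 0 := allZ2_sound tc0e_a
theorem tc0 : c0.OK Rl 4 := ⟨by decide, by decide, by decide, ivc, tc0r, tc0e⟩
theorem lv0e : ∀ i < 223, (l0.ent P) i = 0 := allZ_sound0 lv0e_0
theorem lv0 : l0.OK P 224 := ⟨by decide, by decide, lt_of_blt lv0b.1, lv0b.2.1, lv0e⟩
theorem tc1e : ∀ k < 3, ∀ i < 90, (entryChk T1 (selR RL1 I1) D1 (nat_lit 127) (nat_lit 90) (nat_lit 3)) k i = 0 := allZ2_sound tc1e_a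
theorem tc1 : c1.OK Rl 4 := ⟨by decide, by decide, by decide, ivc, tc1r, tc1e⟩
theorem lv1e : ∀ i < 89, (l1.ent P) i = 0 := allZ_sound0 lv1e_0
theorem lv1 : l1.OK P 224 := ⟨by decide, by decide, lt_of_blt lv1b.1, lv1b.2.1, lv1e⟩
theorem tc2e : ∀ k < 2, ∀ i < 4, (entryChk T2 (selR RL2 I2) D2 (nat_lit 3) (nat_lit 4) (nat_lit 2)) k i = 0 := allZ2_sound tc2e_a
theorem tc2 : c2.OK Rl 4 := ⟨by decide, by decide, by decide, ivc, tc2r, tc2e⟩
theorem lv2e : ∀ i < 3, (l2.ent P) i = 0 := allZ_sound0 lv2e_0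
theorem lv2 : l2.OK P 224 := ⟨by decide, by decide, lt_of_blt lv2b.1, lv2b.2.1, lv2e⟩
theorem bound2 : Bound Rl 2 4 := Bound.step' (Bound.zero Rl) tc2 sb2.1 (by decide +kernel)
theorem bound1 : Bound Rl 3 360 := Bound.step' (bound2) tc1 sb1.1 (by decide +kernel)
theorem bound0 : Bound Rl 4 80640 := Bound.step' (bound1) tc0 sb0.1 (by decide +kernel)
/-- every tuple satisfying `Rl` generates a group of order at most `80640` -/
theorem bound : Bound Rl 4 80640 := bound0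
theorem chain_of {G Ω : Type*} [Group G] [MulAction G Ω] {g : ℕ → G} {pt : ℕ → Ω}
    (h : Act g pt P 224 4) (hR : Rels g Rl) : IsChain g pt 224 L :=
  IsChain.cons (L := [l1, l2]) (IsChain.cons (L := [l2]) (IsChain.cons (L := []) (trivial) h hR tc2 lv2 rfl rfl rfl (by decide) sb2.1 sb2.2) h hR tc1 lv1 rfl rfl rfl (by decide) sb1.1 sb1.2) h hR tc0 lv0 rfl rfl rfl (by decide) sb0.1 sb0.2
theorem base_eq : chainBase L = B := by decide +kernel
theorem pe : ∀ k < 4, ∀ i < 224, (permEnt P (ivOf Rl) (nat_lit 224)) k i = 0 := allZ2_sound pe_a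
/-- the letters -/
noncomputable def g : ℕ → Equiv.Perm (Fin 224) := permGen 224 P
theorem act : Act g (ptF 224) P 224 4 := act_permGen pe
theorem rels : Rels g Rl :=
  rels_perm pe ivc ivk (FixUpTo.first rf0)
theorem chain : IsChain g (ptF 224) 224 L := chain_of act rels
theorem card : Nat.card (gen g 4) = 80640 := chain.card' (ptF_inj 224) (by decide +kernel)
theorem isBase : IsBase (gen g 4) (ptF 224) B := base_eq ▸ chain.isBase (ptF_inj 224)

end H1.OnB
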