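import Cfsg.Agent.H1.Am5
import Cfsg.Agent.H15.CS
import Cfsg.Agent.H1.OnB
import Cfsg.Agent.H1.OnC

/-! Generated by tools/h0/tr.py. -/

set_option maxRecDepth 100000
set_option maxHeartbeats 0

namespace H1.Ob
open H16 H0.TR
open scoped Pointwise

open H1.Am

noncomputable def a_W : List (List ℕ) := [[nat_lit 0],
  [nat_lit 1],
  [nat_lit 2],
  [nat_lit 3],
  [],
  [nat_lit 2, nat_lit 1, nat_lit 2, nat_lit 1, nat_lit 1, nat_lit 2, nat_lit 0, nat_lit 2, nat_lit 1, nat_lit 1, nat_lit 2, nat_lit 0, nat_lit 3, nat_lit 2, nat_lit 1, nat_lit 2, nat_lit 1, nat_lit 1, nat_lit 2, nat_lit 3, nat_lit 2, nat_lit 0, nat_lit 2, nat_lit 1, nat_lit 2, nat_lit 3],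
  [nat_lit 2, nat_lit 0, nat_lit 2, nat_lit 1, nat_lit 1, nat_lit 2, nat_lit 1, nat_lit 2, nat_lit 1, nat_lit 1, nat_lit 2, nat_lit 1, nat_lit 3, nat_lit 2, nat_lit 0, nat_lit 2, nat_lit 1, nat_lit 1, nat_lit 2, nat_lit 3, nat_lit 2, nat_lit 1, nat_lit 2, nat_lit 0, nat_lit 2, nat_lit 3],
  [nat_lit 2, nat_lit 1, nat_lit 1, nat_lit 2, nat_lit 1, nat_lit 1, nat_lit 2, nat_lit 3, nat_lit 2, nat_lit 1, nat_lit 1, nat_lit 2, nat_lit 1, nat_lit 1, nat_lit 3, nat_lit 2, nat_lit 1, nat_lit 1, nat_lit 2, nat_lit 3],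
  [nat_lit 3, nat_lit 0, nat_lit 2, nat_lit 0, nat_lit 2, nat_lit 1, nat_lit 2, nat_lit 3, nat_lit 2, nat_lit 0, nat_lit 2, nat_lit 1, nat_lit 2, nat_lit 1, nat_lit 3],
  [nat_lit 2, nat_lit 1, nat_lit 2, nat_lit 1, nat_lit 3, nat_lit 2, nat_lit 0, nat_lit 2, nat_lit 1, nat_lit 2, nat_lit 0, nat_lit 3, nat_lit 2, nat_lit 0, nat_lit 2],
  [nat_lit 3, nat_lit 1, nat_lit 1, nat_lit 2, nat_lit 0, nat_lit 2, nat_lit 1, nat_lit 1, nat_lit 3, nat_lit 2, nat_lit 1, nat_lit 2, nat_lit 1, nat_lit 1, nat_lit 3],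
  [nat_lit 1, nat_lit 2, nat_lit 1, nat_lit 2, nat_lit 1, nat_lit 1, nat_lit 2, nat_lit 0, nat_lit 2, nat_lit 3, nat_lit 2, nat_lit 1, nat_lit 2, nat_lit 0, nat_lit 2, nat_lit 1, nat_lit 3, nat_lit 2, nat_lit 0],
  [nat_lit 1, nat_lit 1, nat_lit 2, nat_lit 1, nat_lit 1, nat_lit 3, nat_lit 2, nat_lit 1, nat_lit 1, nat_lit 2, nat_lit 1, nat_lit 2, nat_lit 1, nat_lit 1, nat_lit 3, nat_lit 2, nat_lit 0],
  [nat_lit 1, nat_lit 2, nat_lit 3, nat_lit 1, nat_lit 2, nat_lit 0, nat_lit 2, nat_lit 3, nat_lit 2, nat_lit 1, nat_lit 1, nat_lit 2, nat_lit 1, nat_lit 1, nat_lit 3, nat_lit 2, nat_lit 1],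
  [nat_lit 2, nat_lit 1, nat_lit 1, nat_lit 2],
  [nat_lit 1, nat_lit 2, nat_lit 3, nat_lit 2, nat_lit 0, nat_lit 2, nat_lit 1, nat_lit 1, nat_lit 2, nat_lit 1, nat_lit 3, nat_lit 2, nat_lit 0, nat_lit 3],
  [nat_lit 3, nat_lit 2, nat_lit 3, nat_lit 1, nat_lit 2, nat_lit 0, nat_lit 2, nat_lit 1, nat_lit 1, nat_lit 2, nat_lit 0, nat_lit 2, nat_lit 1, nat_lit 3, nat_lit 1, nat_lit 2, nat_lit 3],
  [nat_lit 1, nat_lit 1, nat_lit 2, nat_lit 0, nat_lit 2, nat_lit 3, nat_lit 2, nat_lit 1, nat_lit 1, nat_lit 2, nat_lit 0, nat_lit 2, nat_lit 3, nat_lit 2],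
  [nat_lit 1, nat_lit 2, nat_lit 1, nat_lit 1, nat_lit 2, nat_lit 0, nat_lit 2, nat_lit 1, nat_lit 1, nat_lit 2, nat_lit 1, nat_lit 2],
  [nat_lit 0, nat_lit 2, nat_lit 1, nat_lit 2, nat_lit 0, nat_lit 3, nat_lit 2, nat_lit 1, nat_lit 2, nat_lit 0, nat_lit 2, nat_lit 3, nat_lit 2, nat_lit 0, nat_lit 2, nat_lit 1],
  [nat_lit 0, nat_lit 2, nat_lit 1, nat_lit 2, nat_lit 3, nat_lit 2, nat_lit 1, nat_lit 2, nat_lit 0, nat_lit 2, nat_lit 1, nat_lit 3, nat_lit 2, nat_lit 0, nat_lit 2, nat_lit 1],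
  [nat_lit 3, nat_lit 0, nat_lit 2, nat_lit 1, nat_lit 1, nat_lit 2, nat_lit 1, nat_lit 1, nat_lit 3, nat_lit 2, nat_lit 1, nat_lit 1, nat_lit 2, nat_lit 1, nat_lit 2, nat_lit 0, nat_lit 3, nat_lit 2],
  [nat_lit 2, nat_lit 3, nat_lit 1, nat_lit 2, nat_lit 0, nat_lit 2, nat_lit 1, nat_lit 1, nat_lit 2, nat_lit 1, nat_lit 1, nat_lit 3, nat_lit 2, nat_lit 1, nat_lit 1, nat_lit 2, nat_lit 1, nat_lit 3]]
noncomputable def a_Pd : List ℕ := [nat_lit 0xaab79597dfdcddde58539d8ab148a824b528cddb6eca3e93a47e75883ab99f6bb07cd94063ba8259439ec836c247900b1f0ac391bbcc8c8b4dce81b2527b39a05f551235a723c95e71b8bdaecf57207dd0b4c11174927a218704ab966db36c2f46a1d383a3987f0f94251dd134cbda8e2956be5137762a68024b1464859bb6458d895d5c1973849ad472615460a2a55a084e62a93b4a4433c71ed6bcd8ac3f490d0907412d16c61c2b702250189c13bf65c5668fc05b06100e6f172cd732154238792eaf0cd569d26aadc4801b1a4ca6863d3c313077996727260578034f0100,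
  nat_lit 0xdbd8d9dacc71bd4323451a577d18748f93a6cdaa72ca99b547392e15adb38d2b306d9544abbac296de61cf8e82a4d3bf1c94164285df4cd19b1051c77b527ea0c1b6d5326258097adc84dd77c88aacb12c705fa9a8d45ec4870f63597cb9a51479c690bea2891e040a6ac58b5a56973626cb8381c0171968082d2f64bb4d55539f985d5c2a50b8d7926e9e54d6a36c34024ea711664a40d2b27f6049b7203cbc41c90e0d4bc3a11f6bb49c7348220c0b801d3b2437696fce070676d09a358891af46753813125b33253a2165319d8c2878273f1bb0ae3e4f3d29058603670100,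
  nat_lit 0xe13070c9a33a11dc682cbcacdc54a31aaced31ad5d4c9955cd7d2561bc2c149bc5f30bf368345ad7ba3a9896857b19d1214b88409cfb59020187592b696d9606d8fb00b10db2e4852a2c89394a46ca89e61872a7d8ab42f8d445eacbad6623d59378b7cb724162b6e0aa57446673c4142779f91196566b372696a6405818ea0be8502c727557f21b2c45a0453973a2c154e034011d1c0984773b986266f704c29068071255122237ebb081eda32d0bd88991750788c3f0d5b433b7a383958a70f34d81cc3cc6ba62d794faedeaf4b9b1fdf28dc9c76ab35dd3e63544d5d0100,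
  nat_lit 0xcc43bd71aa9795b755213a4956116c30a309a0df90ba10a289590a601a3620832437dd92bbca7039d89a52b3b498722c222e125fabdb3351a73e8b7acfc896cd422316389bb628b2daa1d91d7bbc8dcb0b829118a544c7454a86857ec08e743c5a846e2b93a45078754b778146b1dcb9197d6bd16d66295c676a3f54636258c4ac474e68267fc66140d3d76415b5a8794f5d4d487687d44c5e73888ade9f2f5765a60c8025d5b89cbec21c1ea91f07d041ae17b07c066999135b3bbf9eafd6c1323494350ec36f8c2d9d530d27add2c90f1b143d8fc5ce08312a010400020503,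
  nat_lit 0xdfdedddcdbdad9d8d7d6d5d4d3d2d1d0cfcecdcccbcac9c8c7c6c5c4c3c2c1c0bfbebdbcbbbab9b8b7b6b5b4b3b2b1b0afaeadacabaaa9a8a7a6a5a4a3a2a1a09f9e9d9c9b9a999897969594939291908f8e8d8c8b8a898887868584838281807f7e7d7c7b7a797877767574737271706f6e6d6c6b6a696867666564636261605f5e5d5c5b5a595857565554535251504f4e4d4c4b4a494847464544434241403f3e3d3c3b3a393837363534333231302f2e2d2c2b2a292827262524232221201f1e1d1c1b1a191817161514131211100f0e0d0c0b0a09080706050403020100,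
  nat_lit 0xdedddcdfd8dbdad9c58b6fb38dd783807b1c87434268325260d2c66c5bb18a8941b27170675c908c9594a356d3d6c13f3eb82a4008b7b66d8638374593b5334a92ae29280f1d2221aaa99796a2b9499f146ed49ebec2c451cabb4f4cc77d2bc34b485f47c8886685847f7e7c2520cccbbfaca4c07a792ccda7501601027877d1571503a0d076117582910a0574cf6b6a620004615abab458533ba836bdbcd58e9d9c1b1a73191899987210179ace3d3c3a3934655e8fb0af3130462f2ea6a544092da1c9272624231e6981ad0706551fab13120e0d59359b0c0b5d63544d4e64,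
  nat_lit 0xdcdfdedddad9d8dbd2b2418db3c6605b5232687170871c7b83c5d789808ab16c6f8b4342864a92aeaaa9a249d4bec229289e146e0f9796456722216db5931d5c908c3f3e083338379594b7b6a39f56b92a40d3b8d6c1c07acda77877d15715d076758274cf6b6a62615a58533b36bdbcd58ea8c4515016cabb792c00044f4cc77d2b05bac34b0a485fb4110347c88866850102847fa0917e7c25a420cccbbfacb0af3130462f2ea6a544092da1c9272624231e6981ad9d9c1b1a73191899987210179ace3d3c3a3934655e8f0e0d59359b0c0b0706551fab1312544d5d63644e,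
  nat_lit 0xdddcdfded9d8dbdac6bebfd3d4c5c7c3c8c9cabdbccdcecfd1d7d2c0d0c1c2c4d5d6cccba7a09f9e979693918d8b8a9d9c8c8f8e9b9594a4bb9998a8a2a39abab9b8b0afaba1a6a5b7b6aaa9b590b492adacb3aeb2b16c6b68676261605f5e5b5a5857535251504f4c4b4847464443424140458988666587866a694e4d8584838281544a807f557e7d49595d7c7b7a7978646377765c567574736d7271706f6e292827262524232221201f1e1d1c1b1a1918171615143f3e3d3c3b3a393837363534333231302f2e2d2c2b2a0c0b0a09080706131211100f0e0d030205040001,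
  nat_lit 0xdfdedddcdbdad9d8d7bfbed4d3d2c7c3c9c8bbbcbda7cfced1c6c5c1d0c0c4c2d6d5cbcccd918579969793a0b36f899c9d6a8e8f9a949561ca989984a2a39bb46250afb0a1aba5a6b6b7a9aab578ba4facad8d66416cb13d6768b9a46048655b5a57583a3231b8926d4b5f2f44464243b22a778a27ae5e86878c814d4e9fa88375695549807f547d7e4a5d59241c1b9e9063644576565c8219724c7370718b1428298823207c262122251e1f0f7b7a18741a1015166e3e3f6b3936533c37383b34350852512e4730092b2c400b0c052d330607121303171d0d0e11010a000402,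
  nat_lit 0xc760d183a3b5a2935accbc805b4bdd8d327bb8d6bf9e521cdf7f76afb39db09ccbbdbed55048b9cd644dda82c37129c1c4686e2a1d00027a79372251dbd908759fcac2c0330f21384e630104d8925f904014d087433f286d8c666231dcb481d4c64a5653cea8a74f27c5a0477344b26f70ad883e456765ae6a8669b796851bde915e1058d3d72d5c497d17097cc9a4bb7897b63dd27e57ba74466b728b41428f8a6c4c0b3b3a1398a62005119bcf84062f0e59162bacb189771225240ca59936030aabc8610d1907552c158e3926345d9a2e1a233c1e54a1183035941fa995aa,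
  nat_lit 0x8dd4b3d3d9d8dbdad79e79dedcd2d1c34f92bbcbcca79078c7c6c57ad01b315150b8bcbdcd171cbe38374b10dd8c27b0af8b636419a6a5a4caaaa9a85a7f742d32d69d9c2f4795942221999876ce09c94d4edfb2ae3d6b6c676852618305395ba2595d3362c4d5c84c930aa1060770716600458889413c86876f26acad7b846003237d1e80a37e55541f58571d85c0bfcf8e8f77b53435119a0d6d0e42436a013f3e8a69120f81b7b613494a7c9fc1169b15a01a18022928b1650b085e97960c565c53b9c22cab2bba302e04363b48b43a44462025759124727382145f2a406e,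
  nat_lit 0xdadbd8d9dddedfdc8dcbccc6d7d3a27f4f928cb241ae9078a3b3d4a45a6184a8bdbc8b6f6682cfbb1a18d175d270776b3d86655e533c39b16a3b368a83603a5fc8a788277c242520302e2623c752487b6981c567424c6d3e9e79c96cb5492a4b5bbab43362afcd1cc4c34aa1a5a6bebf432bc145286840b850876e1312ce899356141f7d76801ea0917e34351d859cca320c0bc0d057585c9a98c299d6d571157a1b2996210f977372221103199f9d949b955d8e8f1651313fb63708b74644380a052fb9b0a9abaa54acad2c04002d55474d4e02011759746364100d0906070e,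
  nat_lit 0xdfdedddcdbdad9d8d7c1c0d4d3d2d0c7247c9c61a4af533ac3c6c5d6d1d5bfbec4c284a8b05dab512a407659b3b16fcda788949585adaccc9d4e4dbd7f5a9f549b7acabb62b96463146e8f8e4b0f5508a9aa8d6b8a41b26a28299acb80342360a21017c82f501b337093357b06074c6d89b7438b663d263e3f273ca5a6a1bc5b1e39910383a3a0092d11bab4cf1979311d989942b5050a1f520d710e77456c978786ae8112ce690004135f4892749e1532167e302e9668678c5e0bc96501020c82759047b82b1c2c581a18b625204a577873723b365c7d4f4644562249383721,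
  nat_lit 0xd2d7c5c6dddedfdcb3bbcad9dbd4a37f1c7b6a6f8b665232a28dd39c5a9db0afcda741b2ae5d9fcb4644c359da86298827700b0c9b2520b18c26238a5b809a54b9bc6b3daba13c3973723b36d09055921213d842673f3e6d799e626c9309b74b8334352fc9a8bd4fc4d12d244e4dd5d66807c1284543b650b8719681698589b5109791037660a01e1f11bab419cea4cc785e65c0c7050a173a64c263bfbe870e5131776e017414302e027e7d1dcf618e538f8294950d7a1b4c4000472a1a1804585733c884ac7cad5fa9aa0638374a4808a6a522215c750f99985616492c2b15,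
  nat_lit 0xdddcdfdec6c5d7d2d9c2c4d4d3d8d1c39a9ba8b0afa4aba1c7dbdad5d0d6bebfc0c19d9c615f535197964b48b38a8bcccb88acadc99594cd849899ca5a7fc8827c7abdbccecfa5a6b7b6aaa9764775748e8f8d6bb1b241ae6d4c24a783a0205ba2494a9f1d9e1b1967939190161529286c14876f8c3d254577273b64633abb60ba36355780a334565c581e1fb933b8312f4e4d86b57d7eb4922c682b3f3e892a43426a0c65620b21225e5d59520850074f060a4644407170661369851237388154557b0f790e780d1173726e262317031c1a183c392d0532302e090410020100,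
  nat_lit 0xd4b3d38dc5d7d2c6daae66dfddd95b83c8c943686771cecf80d8db3d606b88276a8c87867091b98b64635aa0de9e7a6d4cd62122ab00042942402a3f764ba1b49fb245779b9a6e144e4d01027f92ba903738dcbeb85131c1bdbc8528d07546c7937d7e5352b141789ca382475e65cabb5099b01bc2bf44cccbd572b7b6623ec348735549d1b55457584a5d597c7b8a6f4f9796afa2565c5f74819d69cda779a6a461c4072b24068e8f2c3435331c8913191209363ba5a884c00e153a0dacad161e1f1d326c0c2f0b10202598302e05170f26231a18032d083c3911a90a9495aa,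
  nat_lit 0xdddcdfde2aad148f6ebec4d1c78ed4d03913a4666ba80c23d340acd5c3c1c2bfc0d66a88bbb9ba28b6b73824838b8a278c9cdac53ca9aacaa7a25acd99a6129fa03e3dae260ba37f96979495224a3a5cd8d260afb2b141bc45864884b37c5980987847821842717e77376257032d79516cd7686fcbbd1f6d67cc354e6375618d53553b905ba5814f742f5e255f2e704358644d4c219219857d058717507a89c6319e9dab5d91cfb5761e6520060e3f0f5652720911db1bb8b09b54b4c8934b3469360d072908497b44100ad9cea12b1630321dc99a152c1a1c33460473020001,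
  nat_lit 0x8dd4b3d3d9d8dbdad750b8dedcd2c7d09078cdbdbcca4f92d1c6c531c3517a1b9e79cccbbb0952d52122762ddd666b9c9d414e4d47989984a79495617f5a2f107bbfafb07419a9aa3738a5a64bc817cf6463df6f6a88278a87861ca860112680a354550f9fc1bece45b5039b0e0d43428c024c3db18b236867b2398f8e32a4830a3c58355ba2575d59347d7e08b9c2d6c9adac6d931f1e05ab0777067170ae0428296c5e0c336596970b5c563a62c42ba12cb42e30003e3f8981131d69b6b7124a492485c0159a1691181a01252082a07c73723b365fba5346444840756e142a,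
  nat_lit 0x4c617784d9d8dbda5ba02da4a8c3d1c56b89cdcbccca6c88c780d01cd2b99f3217babcbda7bec2b41336b0b8455c90b54b49ad63590e44d3bb0d46d43f297ed6c1919376555806730c2007729d8a9eb18f4d6d564a92cec8876731dc83535ec628a1745f7a7b0927dd9c1d7d9894707134048dc9cf1f236886353964ac1bde607c8119b2d73eab9a478c9b2f825152103d4e8edfaf8bae3357a5b3a942431e02a35a4f26370565123bb6666f48c0851a542cd52e152aa27f783c2103690b25966a4175c462305d16bf182b14b73808500aaaa697220f791195993a6e24400100,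
  nat_lit 0x60d183c7004e0164043f71d4d34ddcd05435a78a8bbb1f5dde026342c3283e704329b1b2840d73794b93972eb3b0af6c416aac8f347fa3ca61a6a5cdaa9555064650896f1e59999876b55aa2b73b18258ead8d669d9ccbae867716a8df0e9280a93c1372059e1b65459630362462c1d6cc2a68bc8c3d74674c2747d2da2ca4dd07909b125b94c9260c39ceab4403b83169c5d86db60b231a203a8785c2bebd14c0d5885c19157d38374fa1cf0a097aba5e82527cb940c4bf6b4a2f2b572221789ac8111051a0815f7b539f6e567e32332db47549581c1d17914808d90fdbd7c6,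
  nat_lit 0x83c760d10263044d01703ed4d364ded03455a46f89a8591edc004e29c343713f2842416cca302b51934b960eb3bcbdb2b1888ead54a37f84cda6a561a994351a157a8b8a5d1f9998b576a25ab681075eac8f8d6bcbcc9d3d458744bbdd2e1980aa12392c1731b82086970d69b97cd5c09c144cb027ae4f6d688c78d8c572a7df182fc83c5b959a0b2313a1cf162d1b9e36dad267b7260c06659f7753bfc4af2ad6c16a7e924656383774ceab1011507525b40f62246ebec26658907349222147c99b090a79483b9108853a407d5c1d1c0382ba574a3332055fa07bd752c6d9db,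
  nat_lit 0x68cd87cad7d2c6c55b3a1da7bbc3dad12d91b5dcd493b417d880d048c70305753324ded376921f0f1400cccf862f5461a89b2c189e8f4e9d4b63acb04371d590350884a4b8bf4d8e2a01ad64bd10c809162e67ab195d7e59a35a4a9cdb8a3683427ac26a340a7ca03ecb6b509994dd8da1392958557412a27f470b15305cafd9b12031b96070c051c17bc41b661e1153ba2b1a28bc9f528879a63fa9dfb39a23776d5725388b0c0240b6621c6f565f73d607ce0672654c457d3b22b213046e96853241498246be0ec90d4469219789788c989537b76c4faea5aa27263d3c815e,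
  nat_lit 0x43bd71cc83d160c7db2fa1cbbcdad0c5b42ddeb576dc1791c3d9d855d27d57599a19934bd34f5c9b0b36cdc942245fa4610895a58c0644afd446079c87686f784aaba884ae41730e12200d72cabacea0aa98700f3a821148ddb31f9d801b01c667892779567e47103fbbc06a302ba25a33213e0a757c14df8d532a94a635b05b31008a62d786886c3d326bb15049587409a99929a7851cc4661a2815a37f1d374577030226d66e3b0c819f7bbf1e5d63b28ecfad4e976d4c05043cbe4025135eb952d534544d8bacc88f64b723695192b8181639657a909e2e2cc122c23896b6]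
noncomputable def a_P (k u : ℕ) : ℕ := Nat.land (Nat.shiftRight (nth (nat_lit 0) a_Pd k) (Nat.mul u (nat_lit 8))) (nat_lit 255)
noncomputable def κ : List ℕ → ℕ := H15.CS.key (tot a_P 23) 224 H1.OnB.B
noncomputable def p2t_W : List (List ℕ) := [[nat_lit 2, nat_lit 1, nat_lit 1, nat_lit 2, nat_lit 1, nat_lit 1, nat_lit 2, nat_lit 3, nat_lit 2, nat_lit 1, nat_lit 1, nat_lit 2, nat_lit 1, nat_lit 1, nat_lit 3, nat_lit 2, nat_lit 1, nat_lit 1, nat_lit 2, nat_lit 3],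
  [nat_lit 0, nat_lit 2, nat_lit 1, nat_lit 1, nat_lit 2, nat_lit 0, nat_lit 2, nat_lit 3, nat_lit 2, nat_lit 1, nat_lit 1, nat_lit 2, nat_lit 0, nat_lit 2, nat_lit 1, nat_lit 2, nat_lit 3],
  [nat_lit 1, nat_lit 1, nat_lit 2, nat_lit 1, nat_lit 2, nat_lit 1, nat_lit 1, nat_lit 2, nat_lit 1, nat_lit 2, nat_lit 0, nat_lit 2, nat_lit 1, nat_lit 3, nat_lit 2],
  [nat_lit 1, nat_lit 2, nat_lit 3, nat_lit 2, nat_lit 0, nat_lit 2, nat_lit 1, nat_lit 1, nat_lit 2, nat_lit 3, nat_lit 2, nat_lit 1, nat_lit 2, nat_lit 3, nat_lit 0],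
  [nat_lit 1, nat_lit 2, nat_lit 1, nat_lit 1, nat_lit 2, nat_lit 3, nat_lit 2, nat_lit 1, nat_lit 2, nat_lit 1, nat_lit 1],
  [nat_lit 2, nat_lit 3, nat_lit 0, nat_lit 2, nat_lit 1, nat_lit 2, nat_lit 1, nat_lit 1, nat_lit 3, nat_lit 2, nat_lit 1, nat_lit 2, nat_lit 0, nat_lit 2, nat_lit 0, nat_lit 3],
  [nat_lit 1, nat_lit 1, nat_lit 2, nat_lit 1, nat_lit 2, nat_lit 1, nat_lit 1, nat_lit 2, nat_lit 3, nat_lit 2, nat_lit 1, nat_lit 1, nat_lit 2, nat_lit 1, nat_lit 2, nat_lit 3],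
  [nat_lit 2, nat_lit 3, nat_lit 1, nat_lit 1, nat_lit 2, nat_lit 1, nat_lit 1, nat_lit 2, nat_lit 0, nat_lit 2, nat_lit 3, nat_lit 2, nat_lit 1, nat_lit 1, nat_lit 2, nat_lit 0]]
noncomputable def p2t_P : ℕ → ℕ → ℕ := wdsP H1.OnB.P p2t_W
noncomputable def p2Pd : List ℕ := [nat_lit 0xbb72fdeaf4e94cb73e750b5666d4ad568d8911e34b95261c28b120416ad18b066c9bb672e1fbe76e9ebc4e911a254ad3255ea542e5ab0b15284c911203c70d188501f3c74e1b3464c170e182841628488040c001,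
  nat_lit 0xa3566cea76ec52b516e40af32ec1877afd9930a446892e7caad1ea50000db374c95e3d60c408252a1c392a60c9e2271dba40cd90d1c4c5af1488bab12211a4241d386583150508b571d2c5080f427cd9a68f9fb5,
  nat_lit 0x9b3a8d5a76ec52b50ef41af32fc08b72ed9930a446892eb4a9f1e85474ed60c68d49133a799337cfd1171c710311a6018032080912af4d2336e1ca428597ab783d6906cdd71f429d5301024307081450b4ca5425,
  nat_lit 0xb976f5f994a9d7b1426cfb36a756a946adb8f2224a970a0c9811a2c368d583164cdb3770e5f3f74ede3d548d2174ebd2a656a14ad5c30a112c489951e4068e587ce213a7901a3660ca20c1c205142c4090200182,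
  nat_lit 0x8f2e548ad0e0509f4e4d98b06252b51a154ab36e4ea37abddb77e65872d9f352674002020dbb83c49a3f2c144333e5110c42b0b8908ed00b22a528648b479b645439c4ca052e466883a5ea86994eacc0e62f583c,
  nat_lit 0x8526246ad160549f4e5d28706559b5223d0bd7e75cbb56dd1af36658488c58a2a44a163e8572d407038604c998802013aa06bd5ba7610f3e3a68dbf72e13250a4da121e41ab76ca54095831831445de3d3238698,
  nat_lit 0x891a149875aa418b6a4599f423d2a72e5409d36e55a37abdfb776c4c3a794a870e5d3b64cc9136cdd32542142033e51ebc2cc5809100978b56f9f8a1a38790029c3aa68d43183268d8040712232a4572d5888b8c,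
  nat_lit 0x9f42b548f0a4c8957a0df891a1ddb9022cbb7629d7996aad99d4a6d118b1d3b62c14a84c94ba27af19333e204b54259b3728e1c840afd3865404107306480f7cbc52b000c58d1c6cd3440712232a4572d3c4c91d]
noncomputable def p2P (k u : ℕ) : ℕ := Nat.land (Nat.shiftRight (nth (nat_lit 0) p2Pd k) (Nat.mul u (nat_lit 7))) (nat_lit 127)
noncomputable def p2Ed : ℕ := nat_lit 0xbab4a091827e7d755f5d5c5958575655544a494835342d1f1e1711100a090503b7b6adacaaa9a6a59998979695948f8e8173726e696564635e4e4d4644403c3b39383736302e2c2b2a2625232221201a1816151413120e0d0c0b070604020100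
noncomputable def p2E (u : ℕ) : ℕ := Nat.land (Nat.shiftRight p2Ed (Nat.mul u (nat_lit 8))) (nat_lit 255)
noncomputable def p2Id : ℕ := nat_lit 0x17c0007ef805e00000000001ebc00edd0000e5c00000005d00000000001bb66ad19b20002e0062c000000000000000000016d780016ac8000000000002c005cb400000b0000000158000015295000000ae9eb550002a53a54684f00000000099280013a6cc0090023000002200000214000f9e3a725ca000001b006a499305c0000058a80284c911911c000004000f8c3868c162a2c400244070d0e1000a120838008080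
noncomputable def p2I (u : ℕ) : ℕ := Nat.land (Nat.shiftRight p2Id (Nat.mul u (nat_lit 7))) (nat_lit 127)
noncomputable def p2B : List ℕ := [nat_lit 0, nat_lit 64, nat_lit 37]
noncomputable def p2C : List (List (List ℕ)) := [[[],
  [],
  [],
  [],
  [],
  [],
  [],
  []], [[],
  [nat_lit 0],
  [],
  [],
  [],
  [nat_lit 0],
  [nat_lit 0],
  []], [[],
  [],
  [nat_lit 0],
  [],
  [nat_lit 0],
  [],
  [],
  []], [[],
  [],
  [],
  [],
  [nat_lit 0],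
  [],
  [],
  []], [[],
  [],
  [],
  [],
  [nat_lit 1],
  [nat_lit 0, nat_lit 1, nat_lit 2],
  [nat_lit 0, nat_lit 1],
  [nat_lit 1, nat_lit 3]], [[],
  [],
  [],
  [],
  [],
  [nat_lit 2],
  [nat_lit 1],
  [nat_lit 3]], [[],
  [],
  [],
  [],
  [],
  [],
  [],
  [nat_lit 3]], [[],
  [],
  [],
  [],
  [],
  [],
  [],
  [nat_lit 3]]]
noncomputable def p2e : List (List ℕ) := [[],
  [],
  [],
  [],
  [],
  [],
  [nat_lit 0, nat_lit 1, nat_lit 3, nat_lit 6, nat_lit 7],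
  [],
  [nat_lit 0, nat_lit 2, nat_lit 4, nat_lit 6],
  [nat_lit 1, nat_lit 2, nat_lit 5],
  [nat_lit 1, nat_lit 2, nat_lit 3, nat_lit 7]]
noncomputable def p2l0Dd : ℕ := nat_lit 0xa79f7759ab62d805a9544e995579534cd0e2d8ab471113c4e436cd0314c32bcad3c0cf2e4a22648e23083234821786d1ac620f432184561304a1043f0d8400d42b0a41c0801e0441f054130500a02400
noncomputable def p2l0D (u : ℕ) : ℕ := Nat.land (Nat.shiftRight p2l0Dd (Nat.mul u (nat_lit 10))) (nat_lit 1023)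
noncomputable def p2l0Pd : ℕ := nat_lit 0xcab613ffa8a69c615bd746888ce37b86a7d5807779d9ec2949741ce310fe2ef2b3b89b443ec04ca3d0b765459197c900
noncomputable def p2l0P (u : ℕ) : ℕ := Nat.land (Nat.shiftRight p2l0Pd (Nat.mul u (nat_lit 6))) (nat_lit 63)
noncomputable def p2l0Qd : ℕ := nat_lit 0xed8282b3a91b223cf253f6a159344efaa80bdf80c1bf9ae7a6295cd311fd785a06f1f11d3eeb4c5d54b09b6d50649340
noncomputable def p2l0Q (u : ℕ) : ℕ := Nat.land (Nat.shiftRight p2l0Qd (Nat.mul u (nat_lit 6))) (nat_lit 63)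
noncomputable def p2l0 : Lev := ⟨64, 11, p2l0D, p2l0P, p2l0Q⟩
noncomputable def p2l1Dd : ℕ := nat_lit 0x80
noncomputable def p2l1D (u : ℕ) : ℕ := Nat.land (Nat.shiftRight p2l1Dd (Nat.mul u (nat_lit 4))) (nat_lit 15)
noncomputable def p2l1Pd : ℕ := nat_lit 0xe
noncomputable def p2l1P (u : ℕ) : ℕ := Nat.land (Nat.shiftRight p2l1Pd (Nat.mul u (nat_lit 2))) (nat_lit 3)
noncomputable def p2l1Qd : ℕ := nat_lit 8
noncomputable def p2l1Q (u : ℕ) : ℕ := Nat.land (Nat.shiftRight p2l1Qd (Nat.mul u (nat_lit 1))) (nat_lit 1)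
noncomputable def p2l1 : Lev := ⟨2, 9, p2l1D, p2l1P, p2l1Q⟩
noncomputable def p2l2Dd : ℕ := nat_lit 0x30
noncomputable def p2l2D (u : ℕ) : ℕ := Nat.land (Nat.shiftRight p2l2Dd (Nat.mul u (nat_lit 3))) (nat_lit 7)
noncomputable def p2l2Pd : ℕ := nat_lit 0x344
noncomputable def p2l2P (u : ℕ) : ℕ := Nat.land (Nat.shiftRight p2l2Pd (Nat.mul u (nat_lit 5))) (nat_lit 31)
noncomputable def p2l2Qd : ℕ := nat_lit 0x4000000
noncomputable def p2l2Q (u : ℕ) : ℕ := Nat.land (Nat.shiftRight p2l2Qd (Nat.mul u (nat_lit 1))) (nat_lit 1)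
noncomputable def p2l2 : Lev := ⟨2, 7, p2l2D, p2l2P, p2l2Q⟩
noncomputable def covr_W : List (List ℕ) := [[nat_lit 3, nat_lit 2, nat_lit 3, nat_lit 1, nat_lit 1, nat_lit 2, nat_lit 1, nat_lit 1, nat_lit 2, nat_lit 3, nat_lit 2, nat_lit 1, nat_lit 1, nat_lit 2, nat_lit 1, nat_lit 1, nat_lit 3, nat_lit 2, nat_lit 0, nat_lit 0],
  [nat_lit 1, nat_lit 2, nat_lit 3, nat_lit 2, nat_lit 0, nat_lit 2, nat_lit 1, nat_lit 1, nat_lit 2, nat_lit 3, nat_lit 2, nat_lit 1, nat_lit 2, nat_lit 0, nat_lit 3]]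
noncomputable def covr_P : ℕ → ℕ → ℕ := wdsP H1.OnB.P covr_W
noncomputable def covT0 : CT := (.split (.more (.split (.more (.split (.more (.split (.more (.split (.more (.split (.more (.split (.more (.split (.more .one (.more (.leaf (nat_lit 0) []) .one))) (.more (.fuse [nat_lit 5] [] (.prune (nat_lit 0) (nat_lit 1) [])) .one))) (.more (.split (.more (.fuse [nat_lit 4] [] (.prune (nat_lit 0) (nat_lit 1) [])) (.more (.fuse [nat_lit 4] [] (.leaf (nat_lit 1) [nat_lit 1, nat_lit 2, nat_lit 3, nat_lit 2, nat_lit 1, nat_lit 1, nat_lit 2, nat_lit 1, nat_lit 2, nat_lit 1, nat_lit 3])) .one))) .one))) (.more (.split (.more (.split (.more (.fuse [nat_lit 4] [] (.leaf (nat_lit 1) [])) (.more (.fuse [nat_lit 4] [] (.prune (nat_lit 0) (nat_lit 1) [])) .one))) (.more (.split (.more (.split (.more (.prune (nat_lit 0) (nat_lit 1) []) (.more (.prune (nat_lit 0) (nat_lit 1) []) .one))) (.more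 (.fuse [nat_lit 5] [] (.leaf (nat_lit 1) [nat_lit 2, nat_lit 0, nat_lit 2, nat_lit 1, nat_lit 1, nat_lit 2, nat_lit 3, nat_lit 2, nat_lit 1, nat_lit 2, nat_lit 1, nat_lit 1, nat_lit 2, nat_lit 1, nat_lit 2, nat_lit 0])) .one))) .one))) .one))) (.more (.fuse [nat_lit 7] [nat_lit 0, nat_lit 1] (.fuse [nat_lit 5] [nat_lit 1] (.fuse [nat_lit 6] [nat_lit 0] (.prune (nat_lit 1) (nat_lit 1) [])))) .one))) (.more (.split (.more (.fuse [nat_lit 7] [] (.fuse [nat_lit 4] [nat_lit 1] (.prune (nat_lit 2) (nat_lit 1) []))) (.more (.split (.more (.fuse [nat_lit 4] [nat_lit 0, nat_lit 1] (.fuse [nat_lit 7] [] (.fuse [nat_lit 1] [] (.leaf (nat_lit 1) [nat_lit 2, nat_lit 0, nat_lit 3, nat_lit 2, nat_lit 1, nat_lit 2, nat_lit 0, nat_lit 2, nat_lit 1, nat_lit 2, nat_lit 3, nat_lit 2])))) (.more (.fuse [nat_lit 4] [nat_lit 1] (.fuse [nat_lit 7] [] (.fuse [nat_lit 1] [] (.prune (nat_lit 0)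 (nat_lit 1) [])))) .one))) .one))) .one))) (.more (.split (.more (.split (.more (.fuse [nat_lit 7] [] (.split (.more (.fuse [nat_lit 4] [nat_lit 0] (.fuse [nat_lit 1] [] (.leaf (nat_lit 1) [nat_lit 2, nat_lit 3, nat_lit 2, nat_lit 0, nat_lit 2, nat_lit 1]))) (.more (.fuse [nat_lit 4] [] (.fuse [nat_lit 1] [] (.prune (nat_lit 0) (nat_lit 1) []))) .one)))) (.more (.split (.more (.fuse [nat_lit 5] [nat_lit 0] (.fuse [nat_lit 4] [nat_lit 0] (.fuse [nat_lit 1] [] (.leaf (nat_lit 1) [nat_lit 1, nat_lit 2, nat_lit 1, nat_lit 2, nat_lit 1, nat_lit 1, nat_lit 2, nat_lit 1, nat_lit 2, nat_lit 3])))) (.more (.fuse [nat_lit 5] [nat_lit 0] (.fuse [nat_lit 4] [] (.fuse [nat_lit 1] [] (.prune (nat_lit 0) (nat_lit 1) [])))) .one))) .one))) (.more (.split (.more (.split (.more (.fuse [nat_lit 4] [nat_lit 0] (.prune (nat_lit 2) (nat_lit 1) [nat_lit 1])) (.more (.fuse [nat_lit 4] [] (.prune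 (nat_lit 2) (nat_lit 1) [nat_lit 1])) .one))) (.more (.fuse [nat_lit 7] [nat_lit 0, nat_lit 1] (.fuse [nat_lit 4] [] (.split (.more (.fuse [nat_lit 2] [] (.prune (nat_lit 0) (nat_lit 1) [])) (.more (.fuse [nat_lit 2] [] (.leaf (nat_lit 1) [nat_lit 0, nat_lit 2, nat_lit 1, nat_lit 2, nat_lit 1, nat_lit 3, nat_lit 2, nat_lit 1, nat_lit 1, nat_lit 2, nat_lit 1, nat_lit 2, nat_lit 0, nat_lit 2, nat_lit 1])) .one))))) .one))) .one))) .one))) (.more (.split (.more (.split (.more (.split (.more (.fuse [nat_lit 4] [nat_lit 0, nat_lit 1] (.prune (nat_lit 3) (nat_lit 1) [])) (.more (.fuse [nat_lit 4] [nat_lit 1] (.fuse [nat_lit 4, nat_lit 5] [nat_lit 0] (.split (.more (.fuse [nat_lit 2] [] (.leaf (nat_lit 1) [nat_lit 1, nat_lit 2, nat_lit 1, nat_lit 2, nat_lit 1, nat_lit 1, nat_lit 2, nat_lit 1, nat_lit 2, nat_lit 3, nat_lit 2, nat_lit 0, nat_lit 2])) (.more (.fuse [nat_lit 2] []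 (.prune (nat_lit 0) (nat_lit 1) [])) .one))))) .one))) (.more (.split (.more (.fuse [nat_lit 4] [nat_lit 0, nat_lit 2] (.fuse [nat_lit 4, nat_lit 5] [nat_lit 0] (.prune (nat_lit 2) (nat_lit 1) []))) (.more (.fuse [nat_lit 4] [nat_lit 0, nat_lit 2] (.prune (nat_lit 3) (nat_lit 1) [nat_lit 1])) .one))) .one))) (.more (.split (.more (.split (.more (.fuse [nat_lit 4] [] (.split (.more (.fuse [nat_lit 4, nat_lit 5] [] (.fuse [nat_lit 1] [] (.leaf (nat_lit 1) [nat_lit 0, nat_lit 2, nat_lit 0, nat_lit 3, nat_lit 2, nat_lit 0, nat_lit 2, nat_lit 1, nat_lit 1, nat_lit 2, nat_lit 1, nat_lit 1, nat_lit 3, nat_lit 2, nat_lit 1]))) (.more (.fuse [nat_lit 4, nat_lit 5] [nat_lit 0] (.fuse [nat_lit 1] [] (.prune (nat_lit 0) (nat_lit 1) []))) .one)))) (.more (.fuse [nat_lit 4] [nat_lit 0] (.prune (nat_lit 3) (nat_lit 1) [nat_lit 1])) .one))) (.more (.split (.more (.fuse [nat_lit 4] [nat_lit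 1, nat_lit 2] (.prune (nat_lit 3) (nat_lit 1) [nat_lit 1, nat_lit 2])) (.more (.fuse [nat_lit 4] [nat_lit 1, nat_lit 2] (.fuse [nat_lit 4, nat_lit 6] [nat_lit 0, nat_lit 1] (.fuse [nat_lit 4, nat_lit 5] [nat_lit 0] (.prune (nat_lit 1) (nat_lit 1) [])))) .one))) .one))) .one))) .one)))
noncomputable def x_W : List (List ℕ) := [[nat_lit 3, nat_lit 0, nat_lit 2, nat_lit 0, nat_lit 2, nat_lit 1, nat_lit 2, nat_lit 3, nat_lit 2, nat_lit 0, nat_lit 2, nat_lit 1, nat_lit 2, nat_lit 1, nat_lit 3]]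
noncomputable def x_P : ℕ → ℕ → ℕ := wdsP H1.OnB.P x_W
noncomputable def txh_W : List (List ℕ) := [[nat_lit 2, nat_lit 1, nat_lit 2],
  [nat_lit 2, nat_lit 1, nat_lit 1, nat_lit 2, nat_lit 0, nat_lit 2, nat_lit 1],
  [nat_lit 0, nat_lit 2, nat_lit 1, nat_lit 3, nat_lit 2, nat_lit 1, nat_lit 2, nat_lit 1, nat_lit 1, nat_lit 2, nat_lit 1, nat_lit 3],
  [nat_lit 0],
  [nat_lit 1],
  [nat_lit 2],
  [nat_lit 3],
  [nat_lit 0, nat_lit 2, nat_lit 0, nat_lit 3, nat_lit 2, nat_lit 1, nat_lit 1, nat_lit 2, nat_lit 1, nat_lit 2, nat_lit 0, nat_lit 2, nat_lit 1]]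
noncomputable def txh_P : ℕ → ℕ → ℕ := wdsP H1.OnB.P txh_W
noncomputable def txl0Dd : ℕ := nat_lit 0xc3d9909d57eb0962eb9d5385d461d33869d13424e20998128251c988c0b3a35c3862b0ed6aa7e2c2fa1cc33459af4dc5afc5a850590129242ccd802cc578c4d7dad0580ae165aa341c1a9382063fc7d8f721d3bc758e71c635c638c32502dc599061cd35a57925a434708c0c69851d28cd082082da4f8970d1416730d611e21c304f818c1622a4fd9eb3c0720dc1b03505b09e93525a4941d1db3966ccd59a0310600c59832e05a04480f2e65acac1502904d0960812960a89c1282404ec9992b230440841132163b8630ed17c2d8818cd14c1a45e8ad13c2580d0e81c03102c8f31d63606409d12a234090db10a300288071862c0540a41281f8050a01462604407613624c400650ac1a0300550d6134230210b01501f0500a61201b02e0680c01281e02c0800700d0200200580600a01001800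
noncomputable def txl0D (u : ℕ) : ℕ := Nat.land (Nat.shiftRight txl0Dd (Nat.mul u (nat_lit 11))) (nat_lit 2047)
noncomputable def txl0Pd : ℕ := nat_lit 0x1024e642563c74fc25d3d5647aa888207213967b9b20b681745ae2f052c2311483558bb8070dfcf5ca9bf5e923b857654a47a1c1508b06e509927cc72c9950eb3d7579c6a9460a189938bc6c4de5a4ccd8f30a0690a3233d6dd361265437161b6db1e311822b749244bd20c0fd49ad3bd048ed846b59ebc738c2a5bb82d2686ab973834291498448a2edaaf7f3c3ea341cb09a8009d747e77d04d191ac8537d7928139bb110d91b9678b4a56f0d5540a659661d7bc00662c5dc1fcaad523fd1d5a79051818437ce03166b75c3a22b4283ba6c4a203aacbe6d7c9f9187c15f8d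
noncomputable def txl0P (u : ℕ) : ℕ := Nat.land (Nat.shiftRight txl0Pd (Nat.mul u (nat_lit 8))) (nat_lit 255)
noncomputable def txl0Qd : ℕ := nat_lit 0xb99286267e55396c9e871f7270752046b8188fa44e24a242d994279313d7022ab5086f68bc0ecb63797f6a359fca3ba954c523095fd2b64c1e2f34ae5012988c05694a9c3c71a6595e37a19a96b3041d8e6d0066955797d10360b11a0fd01bbb534840062bad3f3647b0144967a381ba33a8070d159b8bc8cc2d83dcda28809901b4d6b764912ebd9dd431af41221ca7d8dd4590760c78bfd36bc65882104f302151d552b20acd5d1985be5c88897c8dc45662c211655b3ea561db77c17ace0b257d2cac3843447bc716ab5a3d84c03a73a03274c98a4daacf29c36e17dedf4b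
noncomputable def txl0Q (u : ℕ) : ℕ := Nat.land (Nat.shiftRight txl0Qd (Nat.mul u (nat_lit 8))) (nat_lit 255)
noncomputable def txl0 : Lev := ⟨224, 8, txl0D, txl0P, txl0Q⟩
noncomputable def txl1Dd : ℕ := nat_lit 0x2d27b54430c40
noncomputable def txl1D (u : ℕ) : ℕ := Nat.land (Nat.shiftRight txl1Dd (Nat.mul u (nat_lit 5))) (nat_lit 31)
noncomputable def txl1Pd : ℕ := nat_lit 0x23821dbc66b278c6600
noncomputable def txl1P (u : ℕ) : ℕ := Nat.land (Nat.shiftRight txl1Pd (Nat.mul u (nat_lit 8))) (nat_lit 255)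
noncomputable def txl1Qd : ℕ := nat_lit 0x6000000000000000000005000000000000000000000000000000000000000000000000000000000200000000000000000000000000000000400001000000000000000000000000000000000000000000000800000000000000003000007000000000000000000000000000000900
noncomputable def txl1Q (u : ℕ) : ℕ := Nat.land (Nat.shiftRight txl1Qd (Nat.mul u (nat_lit 4))) (nat_lit 15)
noncomputable def txl1 : Lev := ⟨10, 3, txl1D, txl1P, txl1Q⟩
noncomputable def txl2Dd : ℕ := nat_lit 0xc9a564210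
noncomputable def txl2D (u : ℕ) : ℕ := Nat.land (Nat.shiftRight txl2Dd (Nat.mul u (nat_lit 4))) (nat_lit 15)
noncomputable def txl2Pd : ℕ := nat_lit 0x6b66278cdb21c63802
noncomputable def txl2P (u : ℕ) : ℕ := Nat.land (Nat.shiftRight txl2Pd (Nat.mul u (nat_lit 8))) (nat_lit 255)
noncomputable def txl2Qd : ℕ := nat_lit 0x4000000000000000000002000000000000000000000000000000000000000000000000000000000500000000000000000000000000000000800007000000000000000000000000000000000000000000000100000000000000006000003000000000000000000000000000000000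
noncomputable def txl2Q (u : ℕ) : ℕ := Nat.land (Nat.shiftRight txl2Qd (Nat.mul u (nat_lit 4))) (nat_lit 15)
noncomputable def txl2 : Lev := ⟨9, 2, txl2D, txl2P, txl2Q⟩
noncomputable def txl3Dd : ℕ := nat_lit 0x90
noncomputable def txl3D (u : ℕ) : ℕ := Nat.land (Nat.shiftRight txl3Dd (Nat.mul u (nat_lit 2))) (nat_lit 3)
noncomputable def txl3Pd : ℕ := nat_lit 0xc638db21
noncomputable def txl3P (u : ℕ) : ℕ := Nat.land (Nat.shiftRight txl3Pd (Nat.mul u (nat_lit 8))) (nat_lit 255)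
noncomputable def txl3Qd : ℕ := nat_lit 0x40000000003000000000000000000000000000000000000000000000000000000000000000000000020000000000000000000000000000
noncomputable def txl3Q (u : ℕ) : ℕ := Nat.land (Nat.shiftRight txl3Qd (Nat.mul u (nat_lit 2))) (nat_lit 3)
noncomputable def txl3 : Lev := ⟨4, 1, txl3D, txl3P, txl3Q⟩
noncomputable def cxe_W : List (List ℕ) := [[nat_lit 2, nat_lit 1, nat_lit 1, nat_lit 2],
  [nat_lit 1, nat_lit 2, nat_lit 3, nat_lit 2, nat_lit 0, nat_lit 2, nat_lit 1, nat_lit 1, nat_lit 2, nat_lit 3, nat_lit 2, nat_lit 1, nat_lit 2, nat_lit 0, nat_lit 3],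
  [nat_lit 1, nat_lit 1, nat_lit 2, nat_lit 1, nat_lit 2, nat_lit 3, nat_lit 2, nat_lit 0, nat_lit 2, nat_lit 1, nat_lit 2, nat_lit 3, nat_lit 2, nat_lit 0, nat_lit 2, nat_lit 1, nat_lit 1],
  [nat_lit 1, nat_lit 1, nat_lit 3, nat_lit 2, nat_lit 1, nat_lit 2, nat_lit 0, nat_lit 2, nat_lit 3, nat_lit 2, nat_lit 1, nat_lit 2, nat_lit 1],
  [nat_lit 1, nat_lit 2, nat_lit 3, nat_lit 2, nat_lit 1, nat_lit 1, nat_lit 2, nat_lit 0, nat_lit 2, nat_lit 0, nat_lit 3, nat_lit 2, nat_lit 0]]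
noncomputable def cxe_P : ℕ → ℕ → ℕ := wdsP H1.OnB.P cxe_W
noncomputable def cxc3Dd : ℕ := nat_lit 0
noncomputable def cxc3D (u : ℕ) : ℕ := Nat.land (Nat.shiftRight cxc3Dd (Nat.mul u (nat_lit 1))) (nat_lit 1)
noncomputable def cxc3Pd : ℕ := nat_lit 0xe21
noncomputable def cxc3P (u : ℕ) : ℕ := Nat.land (Nat.shiftRight cxc3Pd (Nat.mul u (nat_lit 6))) (nat_lit 63)
noncomputable def cxc3Qd : ℕ := nat_lit 0x100000000000000
noncomputable def cxc3Q (u : ℕ) : ℕ := Nat.land (Nat.shiftRight cxc3Qd (Nat.mul u (nat_lit 1))) (nat_lit 1)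
noncomputable def cxc3 : Lev := ⟨2, 1, cxc3D, cxc3P, cxc3Q⟩
noncomputable def txn0Fd : ℕ := nat_lit 0x84
noncomputable def txn0F (u : ℕ) : ℕ := Nat.land (Nat.shiftRight txn0Fd (Nat.mul u (nat_lit 2))) (nat_lit 3)
noncomputable def txn0 : Nd := ⟨txn0F, (nat_lit 2), (nat_lit 1), [[nat_lit 0]], [((nat_lit 0), [])], []⟩
noncomputable def cxc1Dd : ℕ := nat_lit 0xc88
noncomputable def cxc1D (u : ℕ) : ℕ := Nat.land (Nat.shiftRight cxc1Dd (Nat.mul u (nat_lit 3))) (nat_lit 7)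
noncomputable def cxc1Pd : ℕ := nat_lit 0xe21080
noncomputable def cxc1P (u : ℕ) : ℕ := Nat.land (Nat.shiftRight cxc1Pd (Nat.mul u (nat_lit 6))) (nat_lit 63)
noncomputable def cxc1Qd : ℕ := nat_lit 0x30000000000080000000000000010
noncomputable def cxc1Q (u : ℕ) : ℕ := Nat.land (Nat.shiftRight cxc1Qd (Nat.mul u (nat_lit 2))) (nat_lit 3)
noncomputable def cxc1 : Lev := ⟨4, 3, cxc1D, cxc1P, cxc1Q⟩
noncomputable def txn1y102_W : List (List ℕ) := [[nat_lit 2, nat_lit 1, nat_lit 2, nat_lit 1, nat_lit 2, nat_lit 3, nat_lit 2, nat_lit 0, nat_lit 2, nat_lit 1, nat_lit 1, nat_lit 2, nat_lit 3, nat_lit 2, nat_lit 1, nat_lit 2, nat_lit 0, nat_lit 3]]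
noncomputable def txn1y102_P : ℕ → ℕ → ℕ := wdsP H1.OnB.P txn1y102_W
noncomputable def txr2k_W : List (List ℕ) := [[],
  [nat_lit 2, nat_lit 1, nat_lit 1, nat_lit 2]]
noncomputable def txr2k_P : ℕ → ℕ → ℕ := wdsP H1.OnB.P txr2k_W
noncomputable def txn2Fd : ℕ := nat_lit 0xf5
noncomputable def txn2F (u : ℕ) : ℕ := Nat.land (Nat.shiftRight txn2Fd (Nat.mul u (nat_lit 2))) (nat_lit 3)
noncomputable def txn2 : Nd := ⟨txn2F, (nat_lit 2), (nat_lit 2), [], [((nat_lit 0), []), ((nat_lit 1), [nat_lit 0])], []⟩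
noncomputable def txn1Fd : ℕ := nat_lit 0xcf708
noncomputable def txn1F (u : ℕ) : ℕ := Nat.land (Nat.shiftRight txn1Fd (Nat.mul u (nat_lit 3))) (nat_lit 7)
noncomputable def txn1 : Nd := ⟨txn1F, (nat_lit 3), (nat_lit 3), [[nat_lit 0]], [((nat_lit 0), []), ((nat_lit 0), [nat_lit 0])], [((nat_lit 102), txn1y102_W)]⟩
noncomputable def cxc0Dd : ℕ := nat_lit 0xdf6c6789e6174ce20a1440c0
noncomputable def cxc0D (u : ℕ) : ℕ := Nat.land (Nat.shiftRight cxc0Dd (Nat.mul u (nat_lit 6))) (nat_lit 63)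
noncomputable def cxc0Pd : ℕ := nat_lit 0xd9c6dbd3d7ded4d8d2dcb3c5dddadf8d
noncomputable def cxc0P (u : ℕ) : ℕ := Nat.land (Nat.shiftRight cxc0Pd (Nat.mul u (nat_lit 8))) (nat_lit 255)
noncomputable def cxc0Qd : ℕ := nat_lit 0x1a36d2f8b009c700000000000e400000000000000000500000000000000000000000000000000000000000000000000000000000000000000000000000000000000000000000000000000000000000000000000000000000000000000000000000000000000000000000000000000000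
noncomputable def cxc0Q (u : ℕ) : ℕ := Nat.land (Nat.shiftRight cxc0Qd (Nat.mul u (nat_lit 4))) (nat_lit 15)
noncomputable def cxc0 : Lev := ⟨16, 5, cxc0D, cxc0P, cxc0Q⟩
noncomputable def txn3Fd : ℕ := nat_lit 0xc4d1092e6f39e0c63dd1a4e1aa55745cded561f06aa4e3e0136a98c961ae74daaed5d36b74eec598001f8a9d0a9bac03027581a789b60b5026e8eb4fb8190c3a7392810402e054560c25f1c4eaa5bd5abce95ee19dbe00bc57b49c115b26f1e39aee9e714652cc540ac3dcf9f5fa942af6bf26001f12c3b35ce30731ef862867e3980971372c25e942bc0420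
noncomputable def txn3F (u : ℕ) : ℕ := Nat.land (Nat.shiftRight txn3Fd (Nat.mul u (nat_lit 5))) (nat_lit 31)
noncomputable def txn3 : Nd := ⟨txn3F, (nat_lit 5), (nat_lit 5), [[nat_lit 0]], [((nat_lit 0), [])], []⟩
noncomputable def d_W : Wl := [[nat_lit 5, nat_lit 5, nat_lit 13, nat_lit 14, nat_lit 13],
  [nat_lit 5, nat_lit 5, nat_lit 5, nat_lit 12, nat_lit 12],
  [nat_lit 13, nat_lit 14, nat_lit 13],
  [nat_lit 5, nat_lit 12, nat_lit 12],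
  [nat_lit 5, nat_lit 5, nat_lit 5, nat_lit 14],
  [nat_lit 5, nat_lit 5, nat_lit 5],
  [nat_lit 5, nat_lit 14],
  [nat_lit 5],
  [nat_lit 5, nat_lit 12, nat_lit 14, nat_lit 13, nat_lit 14],
  [nat_lit 5, nat_lit 13, nat_lit 14, nat_lit 12],
  [nat_lit 12, nat_lit 13, nat_lit 15],
  [nat_lit 14, nat_lit 12, nat_lit 13, nat_lit 15],
  [nat_lit 5, nat_lit 5, nat_lit 13, nat_lit 14, nat_lit 12],
  [nat_lit 5, nat_lit 5, nat_lit 12, nat_lit 14, nat_lit 13, nat_lit 14],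
  [nat_lit 12, nat_lit 13, nat_lit 14],
  [nat_lit 5, nat_lit 12, nat_lit 13, nat_lit 15],
  [nat_lit 12, nat_lit 12, nat_lit 12, nat_lit 13, nat_lit 15],
  [nat_lit 12, nat_lit 14, nat_lit 13, nat_lit 15],
  [nat_lit 5, nat_lit 5, nat_lit 12, nat_lit 13, nat_lit 15],
  [nat_lit 5, nat_lit 12, nat_lit 13, nat_lit 14],
  [nat_lit 13, nat_lit 14, nat_lit 12],
  [nat_lit 12, nat_lit 14, nat_lit 13, nat_lit 14],
  [nat_lit 5, nat_lit 5, nat_lit 12, nat_lit 13, nat_lit 14],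
  [nat_lit 5, nat_lit 5, nat_lit 5, nat_lit 12, nat_lit 13, nat_lit 15],
  [nat_lit 14, nat_lit 12, nat_lit 15, nat_lit 14],
  [nat_lit 12, nat_lit 15, nat_lit 14],
  [nat_lit 13, nat_lit 15, nat_lit 14],
  [nat_lit 14, nat_lit 13, nat_lit 15, nat_lit 14],
  [nat_lit 5, nat_lit 14, nat_lit 13],
  [nat_lit 5, nat_lit 13],
  [nat_lit 13, nat_lit 15, nat_lit 14, nat_lit 12],
  [nat_lit 12, nat_lit 14, nat_lit 13, nat_lit 15, nat_lit 14],
  [nat_lit 5, nat_lit 14, nat_lit 12, nat_lit 13],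
  [nat_lit 5, nat_lit 12, nat_lit 13],
  [nat_lit 5, nat_lit 14, nat_lit 13, nat_lit 15],
  [nat_lit 5, nat_lit 13, nat_lit 15],
  [nat_lit 5, nat_lit 5, nat_lit 5, nat_lit 12, nat_lit 14],
  [nat_lit 5, nat_lit 5, nat_lit 5, nat_lit 12, nat_lit 12, nat_lit 12],
  [nat_lit 5, nat_lit 14, nat_lit 12],
  [nat_lit 5, nat_lit 12],
  [nat_lit 12, nat_lit 12, nat_lit 12, nat_lit 13],
  [nat_lit 12, nat_lit 14, nat_lit 13],
  [nat_lit 5, nat_lit 5, nat_lit 13, nat_lit 14],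
  [nat_lit 5, nat_lit 5, nat_lit 14, nat_lit 13, nat_lit 14],
  [nat_lit 5, nat_lit 5, nat_lit 12, nat_lit 13],
  [nat_lit 5, nat_lit 5, nat_lit 14, nat_lit 12, nat_lit 13],
  [nat_lit 12, nat_lit 12, nat_lit 12, nat_lit 15],
  [nat_lit 12, nat_lit 14, nat_lit 15],
  [nat_lit 13, nat_lit 14, nat_lit 15],
  [nat_lit 5, nat_lit 12, nat_lit 12, nat_lit 13],
  [nat_lit 5, nat_lit 5, nat_lit 5, nat_lit 14, nat_lit 13],
  [nat_lit 5, nat_lit 5, nat_lit 5, nat_lit 13],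
  [nat_lit 5, nat_lit 12, nat_lit 14, nat_lit 13],
  [nat_lit 5, nat_lit 12, nat_lit 12, nat_lit 12, nat_lit 13],
  [nat_lit 12, nat_lit 13, nat_lit 15, nat_lit 14],
  [nat_lit 5, nat_lit 5, nat_lit 5, nat_lit 12, nat_lit 13],
  [nat_lit 5, nat_lit 15, nat_lit 14, nat_lit 13],
  [nat_lit 5, nat_lit 5, nat_lit 5, nat_lit 13, nat_lit 15],
  [nat_lit 5, nat_lit 12, nat_lit 14],
  [nat_lit 5, nat_lit 12, nat_lit 12, nat_lit 12],
  [nat_lit 5, nat_lit 5, nat_lit 5, nat_lit 14, nat_lit 12],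
  [nat_lit 5, nat_lit 5, nat_lit 5, nat_lit 12],
  [nat_lit 5, nat_lit 5, nat_lit 12, nat_lit 12, nat_lit 12, nat_lit 13],
  [nat_lit 5, nat_lit 5, nat_lit 12, nat_lit 14, nat_lit 13],
  [nat_lit 13, nat_lit 14],
  [nat_lit 14, nat_lit 13, nat_lit 14],
  [nat_lit 12, nat_lit 13],
  [nat_lit 14, nat_lit 12, nat_lit 13],
  [nat_lit 5, nat_lit 5, nat_lit 12, nat_lit 15],
  [nat_lit 15, nat_lit 14, nat_lit 12],
  [nat_lit 5, nat_lit 5, nat_lit 13, nat_lit 15],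
  [nat_lit 15, nat_lit 14, nat_lit 13],
  [nat_lit 12, nat_lit 12, nat_lit 13, nat_lit 15],
  [nat_lit 5, nat_lit 5, nat_lit 5, nat_lit 13, nat_lit 14],
  [],
  [nat_lit 14],
  [nat_lit 5, nat_lit 5, nat_lit 12, nat_lit 12],
  [nat_lit 5, nat_lit 13, nat_lit 14, nat_lit 13],
  [nat_lit 5, nat_lit 5, nat_lit 12, nat_lit 12, nat_lit 13],
  [nat_lit 5, nat_lit 13, nat_lit 14, nat_lit 15],
  [nat_lit 5, nat_lit 5],
  [nat_lit 5, nat_lit 5, nat_lit 14],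
  [nat_lit 12, nat_lit 12],
  [nat_lit 12, nat_lit 12, nat_lit 14],
  [nat_lit 14, nat_lit 13],
  [nat_lit 13],
  [nat_lit 5, nat_lit 5, nat_lit 13],
  [nat_lit 5, nat_lit 5, nat_lit 14, nat_lit 13],
  [nat_lit 14, nat_lit 12, nat_lit 15],
  [nat_lit 12, nat_lit 15],
  [nat_lit 13, nat_lit 15],
  [nat_lit 14, nat_lit 13, nat_lit 15],
  [nat_lit 5, nat_lit 13, nat_lit 14],
  [nat_lit 5, nat_lit 14, nat_lit 13, nat_lit 14],
  [nat_lit 12, nat_lit 12, nat_lit 13],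
  [nat_lit 5, nat_lit 13, nat_lit 15, nat_lit 14],
  [nat_lit 5, nat_lit 15, nat_lit 14, nat_lit 12],
  [nat_lit 5, nat_lit 5, nat_lit 5, nat_lit 12, nat_lit 15],
  [nat_lit 5, nat_lit 12, nat_lit 14, nat_lit 15],
  [nat_lit 5, nat_lit 12, nat_lit 12, nat_lit 12, nat_lit 15],
  [nat_lit 5, nat_lit 15, nat_lit 14],
  [nat_lit 5, nat_lit 5, nat_lit 5, nat_lit 15],
  [nat_lit 13, nat_lit 14, nat_lit 13, nat_lit 15],
  [nat_lit 5, nat_lit 12, nat_lit 12, nat_lit 15],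
  [nat_lit 15],
  [nat_lit 14, nat_lit 15],
  [nat_lit 5, nat_lit 5, nat_lit 12, nat_lit 12, nat_lit 15],
  [nat_lit 12, nat_lit 12, nat_lit 15, nat_lit 14],
  [nat_lit 5, nat_lit 5, nat_lit 12, nat_lit 12, nat_lit 12],
  [nat_lit 5, nat_lit 5, nat_lit 12, nat_lit 14],
  [nat_lit 12],
  [nat_lit 14, nat_lit 12],
  [nat_lit 12, nat_lit 12, nat_lit 12],
  [nat_lit 12, nat_lit 14],
  [nat_lit 5, nat_lit 5, nat_lit 12],
  [nat_lit 5, nat_lit 5, nat_lit 14, nat_lit 12],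
  [nat_lit 5, nat_lit 14, nat_lit 15],
  [nat_lit 5, nat_lit 15],
  [nat_lit 13, nat_lit 15, nat_lit 14, nat_lit 13],
  [nat_lit 13, nat_lit 14, nat_lit 13, nat_lit 15, nat_lit 14],
  [nat_lit 5, nat_lit 14, nat_lit 12, nat_lit 15],
  [nat_lit 5, nat_lit 12, nat_lit 15],
  [nat_lit 5, nat_lit 12, nat_lit 15, nat_lit 14],
  [nat_lit 5, nat_lit 14, nat_lit 12, nat_lit 15, nat_lit 14],
  [nat_lit 5, nat_lit 5, nat_lit 15],
  [nat_lit 15, nat_lit 14],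
  [nat_lit 12, nat_lit 12, nat_lit 15],
  [nat_lit 12, nat_lit 12, nat_lit 14, nat_lit 15]]
noncomputable def i0_W : Wl := [[],
  [nat_lit 14],
  [nat_lit 5, nat_lit 5, nat_lit 12, nat_lit 12],
  [nat_lit 5, nat_lit 13, nat_lit 14, nat_lit 13],
  [nat_lit 5, nat_lit 5],
  [nat_lit 5, nat_lit 5, nat_lit 14],
  [nat_lit 12, nat_lit 12],
  [nat_lit 12, nat_lit 12, nat_lit 14],
  [nat_lit 5, nat_lit 15, nat_lit 14, nat_lit 12],
  [nat_lit 5, nat_lit 12, nat_lit 14, nat_lit 15],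
  [nat_lit 5, nat_lit 15, nat_lit 14],
  [nat_lit 13, nat_lit 14, nat_lit 13, nat_lit 15],
  [nat_lit 15],
  [nat_lit 5, nat_lit 5, nat_lit 12, nat_lit 12, nat_lit 15],
  [nat_lit 5, nat_lit 5, nat_lit 12, nat_lit 14],
  [nat_lit 14, nat_lit 12],
  [nat_lit 12, nat_lit 14],
  [nat_lit 5, nat_lit 5, nat_lit 14, nat_lit 12],
  [nat_lit 5, nat_lit 14, nat_lit 15],
  [nat_lit 13, nat_lit 15, nat_lit 14, nat_lit 13],
  [nat_lit 5, nat_lit 14, nat_lit 12, nat_lit 15],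
  [nat_lit 5, nat_lit 12, nat_lit 15, nat_lit 14],
  [nat_lit 5, nat_lit 5, nat_lit 15],
  [nat_lit 12, nat_lit 12, nat_lit 15]]
noncomputable def i2_W : Wl := [[nat_lit 5, nat_lit 5, nat_lit 5, nat_lit 12, nat_lit 12, nat_lit 9],
  [nat_lit 5, nat_lit 12, nat_lit 12, nat_lit 9],
  [nat_lit 5, nat_lit 5, nat_lit 5, nat_lit 14, nat_lit 9],
  [nat_lit 5, nat_lit 14, nat_lit 9],
  [nat_lit 5, nat_lit 13, nat_lit 14, nat_lit 12, nat_lit 9],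
  [nat_lit 12, nat_lit 13, nat_lit 14, nat_lit 9],
  [nat_lit 12, nat_lit 14, nat_lit 13, nat_lit 15, nat_lit 9],
  [nat_lit 5, nat_lit 5, nat_lit 12, nat_lit 13, nat_lit 14, nat_lit 9],
  [nat_lit 14, nat_lit 13, nat_lit 15, nat_lit 14, nat_lit 9],
  [nat_lit 13, nat_lit 15, nat_lit 14, nat_lit 12, nat_lit 9],
  [nat_lit 5, nat_lit 5, nat_lit 14, nat_lit 13, nat_lit 14, nat_lit 9],
  [nat_lit 5, nat_lit 5, nat_lit 14, nat_lit 12, nat_lit 13, nat_lit 9],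
  [nat_lit 5, nat_lit 12, nat_lit 12, nat_lit 13, nat_lit 9],
  [nat_lit 5, nat_lit 12, nat_lit 14, nat_lit 13, nat_lit 9],
  [nat_lit 14, nat_lit 13, nat_lit 14, nat_lit 9],
  [nat_lit 14, nat_lit 12, nat_lit 13, nat_lit 9],
  [nat_lit 5, nat_lit 5, nat_lit 13, nat_lit 15, nat_lit 9],
  [nat_lit 9],
  [nat_lit 5, nat_lit 13, nat_lit 14, nat_lit 13, nat_lit 9],
  [nat_lit 5, nat_lit 5, nat_lit 9],
  [nat_lit 12, nat_lit 12, nat_lit 14, nat_lit 9],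
  [nat_lit 13, nat_lit 9],
  [nat_lit 5, nat_lit 5, nat_lit 13, nat_lit 9],
  [nat_lit 13, nat_lit 15, nat_lit 9],
  [nat_lit 13, nat_lit 14, nat_lit 13, nat_lit 15, nat_lit 9],
  [nat_lit 5, nat_lit 12, nat_lit 12, nat_lit 15, nat_lit 9],
  [nat_lit 15, nat_lit 9],
  [nat_lit 14, nat_lit 15, nat_lit 9],
  [nat_lit 13, nat_lit 15, nat_lit 14, nat_lit 13, nat_lit 9],
  [nat_lit 13, nat_lit 14, nat_lit 13, nat_lit 15, nat_lit 14, nat_lit 9],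
  [nat_lit 5, nat_lit 5, nat_lit 15, nat_lit 9],
  [nat_lit 15, nat_lit 14, nat_lit 9]]
noncomputable def ac_W : Wl := [[nat_lit 5, nat_lit 5, nat_lit 5, nat_lit 12, nat_lit 12],
  [nat_lit 5, nat_lit 12, nat_lit 12],
  [nat_lit 5, nat_lit 5, nat_lit 5],
  [nat_lit 5],
  [],
  [nat_lit 5, nat_lit 5, nat_lit 12, nat_lit 12],
  [nat_lit 5, nat_lit 5],
  [nat_lit 12, nat_lit 12],
  [nat_lit 5, nat_lit 5, nat_lit 5, nat_lit 12, nat_lit 15],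
  [nat_lit 5, nat_lit 12, nat_lit 12, nat_lit 12, nat_lit 15],
  [nat_lit 5, nat_lit 5, nat_lit 5, nat_lit 15],
  [nat_lit 5, nat_lit 12, nat_lit 12, nat_lit 15],
  [nat_lit 5, nat_lit 5, nat_lit 12, nat_lit 12, nat_lit 12],
  [nat_lit 12],
  [nat_lit 12, nat_lit 12, nat_lit 12],
  [nat_lit 5, nat_lit 5, nat_lit 12],
  [nat_lit 5, nat_lit 15],
  [nat_lit 13, nat_lit 14, nat_lit 13, nat_lit 15, nat_lit 14],
  [nat_lit 5, nat_lit 12, nat_lit 15],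
  [nat_lit 5, nat_lit 14, nat_lit 12, nat_lit 15, nat_lit 14]]
noncomputable def s0_L : List (List ℕ × ℕ) := [([nat_lit 14], (nat_lit 1)), ([], (nat_lit 0)), ([nat_lit 14], (nat_lit 0)), ([], (nat_lit 1))]
noncomputable def v_W : Wl := [[nat_lit 5, nat_lit 5, nat_lit 5, nat_lit 12, nat_lit 12],
  [nat_lit 5, nat_lit 12, nat_lit 12],
  [nat_lit 5, nat_lit 5, nat_lit 5],
  [nat_lit 5],
  [nat_lit 5, nat_lit 12, nat_lit 14, nat_lit 13, nat_lit 14],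
  [nat_lit 12, nat_lit 13, nat_lit 15],
  [nat_lit 5, nat_lit 5, nat_lit 12, nat_lit 14, nat_lit 13, nat_lit 14],
  [nat_lit 5, nat_lit 12, nat_lit 13, nat_lit 15],
  [nat_lit 12, nat_lit 12, nat_lit 12, nat_lit 13, nat_lit 15],
  [nat_lit 5, nat_lit 5, nat_lit 12, nat_lit 13, nat_lit 15],
  [nat_lit 12, nat_lit 14, nat_lit 13, nat_lit 14],
  [nat_lit 5, nat_lit 5, nat_lit 5, nat_lit 12, nat_lit 13, nat_lit 15],
  [nat_lit 14, nat_lit 12, nat_lit 15, nat_lit 14],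
  [nat_lit 14, nat_lit 13, nat_lit 15, nat_lit 14],
  [nat_lit 5, nat_lit 13],
  [nat_lit 12, nat_lit 14, nat_lit 13, nat_lit 15, nat_lit 14],
  [nat_lit 5, nat_lit 12, nat_lit 13],
  [nat_lit 5, nat_lit 13, nat_lit 15],
  [nat_lit 5, nat_lit 5, nat_lit 5, nat_lit 12, nat_lit 12, nat_lit 12],
  [nat_lit 5, nat_lit 12],
  [nat_lit 12, nat_lit 12, nat_lit 12, nat_lit 13],
  [nat_lit 5, nat_lit 5, nat_lit 14, nat_lit 13, nat_lit 14],
  [nat_lit 5, nat_lit 5, nat_lit 12, nat_lit 13],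
  [nat_lit 12, nat_lit 12, nat_lit 12, nat_lit 15],
  [nat_lit 5, nat_lit 12, nat_lit 12, nat_lit 13],
  [nat_lit 5, nat_lit 5, nat_lit 5, nat_lit 13],
  [nat_lit 5, nat_lit 12, nat_lit 12, nat_lit 12, nat_lit 13],
  [nat_lit 5, nat_lit 5, nat_lit 5, nat_lit 12, nat_lit 13],
  [nat_lit 5, nat_lit 5, nat_lit 5, nat_lit 13, nat_lit 15],
  [nat_lit 5, nat_lit 12, nat_lit 12, nat_lit 12],
  [nat_lit 5, nat_lit 5, nat_lit 5, nat_lit 12],
  [nat_lit 5, nat_lit 5, nat_lit 12, nat_lit 12, nat_lit 12, nat_lit 13],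
  [nat_lit 14, nat_lit 13, nat_lit 14],
  [nat_lit 12, nat_lit 13],
  [nat_lit 5, nat_lit 5, nat_lit 12, nat_lit 15],
  [nat_lit 5, nat_lit 5, nat_lit 13, nat_lit 15],
  [nat_lit 12, nat_lit 12, nat_lit 13, nat_lit 15],
  [],
  [nat_lit 5, nat_lit 5, nat_lit 12, nat_lit 12],
  [nat_lit 5, nat_lit 5, nat_lit 12, nat_lit 12, nat_lit 13],
  [nat_lit 5, nat_lit 5],
  [nat_lit 12, nat_lit 12],
  [nat_lit 13],
  [nat_lit 5, nat_lit 5, nat_lit 13],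
  [nat_lit 12, nat_lit 15],
  [nat_lit 13, nat_lit 15],
  [nat_lit 5, nat_lit 14, nat_lit 13, nat_lit 14],
  [nat_lit 12, nat_lit 12, nat_lit 13],
  [nat_lit 5, nat_lit 5, nat_lit 5, nat_lit 12, nat_lit 15],
  [nat_lit 5, nat_lit 12, nat_lit 12, nat_lit 12, nat_lit 15],
  [nat_lit 5, nat_lit 5, nat_lit 5, nat_lit 15],
  [nat_lit 5, nat_lit 12, nat_lit 12, nat_lit 15],
  [nat_lit 15],
  [nat_lit 5, nat_lit 5, nat_lit 12, nat_lit 12, nat_lit 15],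
  [nat_lit 5, nat_lit 5, nat_lit 12, nat_lit 12, nat_lit 12],
  [nat_lit 12],
  [nat_lit 12, nat_lit 12, nat_lit 12],
  [nat_lit 5, nat_lit 5, nat_lit 12],
  [nat_lit 5, nat_lit 15],
  [nat_lit 13, nat_lit 14, nat_lit 13, nat_lit 15, nat_lit 14],
  [nat_lit 5, nat_lit 12, nat_lit 15],
  [nat_lit 5, nat_lit 14, nat_lit 12, nat_lit 15, nat_lit 14],
  [nat_lit 5, nat_lit 5, nat_lit 15],
  [nat_lit 12, nat_lit 12, nat_lit 15]]
noncomputable def s1_L : List (List ℕ × ℕ) := [([], (nat_lit 1)), ([nat_lit 12, nat_lit 15], (nat_lit 1)), ([nat_lit 15], (nat_lit 1)), ([nat_lit 12], (nat_lit 1)), ([nat_lit 15], (nat_lit 0)), ([nat_lit 12], (nat_lit 0)), ([nat_lit 12, nat_lit 13, nat_lit 15], (nat_lit 1)), ([nat_lit 13], (nat_lit 1)), ([nat_lit 13], (nat_lit 0)), ([nat_lit 12, nat_lit 13, nat_lit 15], (nat_lit 0)), ([nat_lit 13, nat_lit 15], (nat_lit 0)), ([nat_lit 12, nat_lit 13],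 (nat_lit 0)), ([nat_lit 12, nat_lit 13], (nat_lit 1)), ([nat_lit 13, nat_lit 15], (nat_lit 1)), ([], (nat_lit 0)), ([nat_lit 12, nat_lit 15], (nat_lit 0))]
noncomputable def s20_L : List (List ℕ × ℕ) := [([], (nat_lit 0)), ([nat_lit 12, nat_lit 12], (nat_lit 0))]
noncomputable def s300_L : List (List ℕ × ℕ) := [([], (nat_lit 0))]
noncomputable def s21_L : List (List ℕ × ℕ) := [([], (nat_lit 0)), ([nat_lit 12, nat_lit 12], (nat_lit 0))]
noncomputable def s310_L : List (List ℕ × ℕ) := []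
noncomputable def ch_L : List (List ℕ × List ℕ × List ℕ) := [([nat_lit 0], [nat_lit 2, nat_lit 3, nat_lit 1, nat_lit 1, nat_lit 2, nat_lit 1, nat_lit 1, nat_lit 2, nat_lit 1, nat_lit 2, nat_lit 1, nat_lit 1, nat_lit 2, nat_lit 1, nat_lit 1, nat_lit 3, nat_lit 2], [nat_lit 2, nat_lit 0, nat_lit 4, nat_lit 6, nat_lit 1, nat_lit 6, nat_lit 0, nat_lit 1, nat_lit 0]), ([nat_lit 1], [nat_lit 2, nat_lit 3, nat_lit 1, nat_lit 1, nat_lit 2, nat_lit 1, nat_lit 1, nat_lit 2, nat_lit 0, nat_lit 2, nat_lit 1, nat_lit 1, nat_lit 2, nat_lit 1, nat_lit 1, nat_lit 3, nat_lit 2], [nat_lit 0, nat_lit 1, nat_lit 0, nat_lit 6, nat_lit 1, nat_lit 4, nat_lit 6, nat_lit 0, nat_lit 2]), ([nat_lit 2], [nat_lit 1, nat_lit 2, nat_lit 3, nat_lit 0, nat_lit 2, nat_lit 1, nat_lit 1, nat_lit 2, nat_lit 0, nat_lit 3, nat_lit 2, nat_lit 1, nat_lit 2, nat_lit 1, nat_lit 3, nat_lit 2], [nat_lit 1, nat_lit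 0, nat_lit 1, nat_lit 4, nat_lit 6, nat_lit 1, nat_lit 6, nat_lit 0, nat_lit 1]), ([nat_lit 3], [nat_lit 1, nat_lit 1], [nat_lit 6, nat_lit 1, nat_lit 0, nat_lit 6, nat_lit 1, nat_lit 6, nat_lit 0, nat_lit 4, nat_lit 1, nat_lit 0, nat_lit 5]), ([], [], []), ([nat_lit 5], [nat_lit 6], [nat_lit 3]), ([], [], []), ([nat_lit 7], [nat_lit 7], [nat_lit 3, nat_lit 3]), ([nat_lit 8], [nat_lit 8], [nat_lit 4]), ([], [], []), ([], [], []), ([], [], []), ([nat_lit 12], [nat_lit 12], [nat_lit 5]), ([nat_lit 13], [nat_lit 2, nat_lit 3, nat_lit 1, nat_lit 2, nat_lit 1, nat_lit 1, nat_lit 2, nat_lit 0, nat_lit 2, nat_lit 1, nat_lit 2, nat_lit 3, nat_lit 2, nat_lit 1, nat_lit 2, nat_lit 0, nat_lit 2, nat_lit 1, nat_lit 3, nat_lit 2, nat_lit 0], [nat_lit 0, nat_lit 6, nat_lit 0, nat_lit 5, nat_lit 1, nat_lit 6, nat_lit 1]), ([nat_lit 14], [nat_lit 17], [nat_lit 2]), ([nat_lit 15], [nat_lit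 15, nat_lit 8], [nat_lit 6])]
noncomputable def tU : Wl := [[nat_lit 0],
  [nat_lit 1],
  [nat_lit 2],
  [nat_lit 3],
  [],
  [nat_lit 5],
  [],
  [nat_lit 7],
  [nat_lit 8],
  [],
  [],
  [],
  [nat_lit 12],
  [nat_lit 13],
  [nat_lit 14],
  [nat_lit 15]]
noncomputable def tV : Wl := [[nat_lit 2, nat_lit 3, nat_lit 1, nat_lit 1, nat_lit 2, nat_lit 1, nat_lit 1, nat_lit 2, nat_lit 1, nat_lit 2, nat_lit 1, nat_lit 1, nat_lit 2, nat_lit 1, nat_lit 1, nat_lit 3, nat_lit 2],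
  [nat_lit 2, nat_lit 3, nat_lit 1, nat_lit 1, nat_lit 2, nat_lit 1, nat_lit 1, nat_lit 2, nat_lit 0, nat_lit 2, nat_lit 1, nat_lit 1, nat_lit 2, nat_lit 1, nat_lit 1, nat_lit 3, nat_lit 2],
  [nat_lit 1, nat_lit 2, nat_lit 3, nat_lit 0, nat_lit 2, nat_lit 1, nat_lit 1, nat_lit 2, nat_lit 0, nat_lit 3, nat_lit 2, nat_lit 1, nat_lit 2, nat_lit 1, nat_lit 3, nat_lit 2],
  [nat_lit 1, nat_lit 1],
  [],
  [nat_lit 6],
  [],
  [nat_lit 7],
  [nat_lit 8],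
  [],
  [],
  [],
  [nat_lit 12],
  [nat_lit 2, nat_lit 3, nat_lit 1, nat_lit 2, nat_lit 1, nat_lit 1, nat_lit 2, nat_lit 0, nat_lit 2, nat_lit 1, nat_lit 2, nat_lit 3, nat_lit 2, nat_lit 1, nat_lit 2, nat_lit 0, nat_lit 2, nat_lit 1, nat_lit 3, nat_lit 2, nat_lit 0],
  [nat_lit 17],
  [nat_lit 15, nat_lit 8]]
noncomputable def z_W : Wl := [[nat_lit 5, nat_lit 5, nat_lit 5],
  [nat_lit 5],
  [],
  [nat_lit 5, nat_lit 5]]
noncomputable def c0_P : Wl := [[nat_lit 5, nat_lit 5, nat_lit 5],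
  [nat_lit 5],
  [],
  [nat_lit 5, nat_lit 5],
  [nat_lit 0],
  [nat_lit 1],
  [nat_lit 2],
  [nat_lit 3],
  [nat_lit 8],
  [nat_lit 2, nat_lit 3, nat_lit 1, nat_lit 1, nat_lit 2, nat_lit 1, nat_lit 1, nat_lit 2, nat_lit 1, nat_lit 2, nat_lit 1, nat_lit 1, nat_lit 2, nat_lit 1, nat_lit 1, nat_lit 3, nat_lit 2],
  [nat_lit 2, nat_lit 3, nat_lit 1, nat_lit 1, nat_lit 2, nat_lit 1, nat_lit 1, nat_lit 2, nat_lit 0, nat_lit 2, nat_lit 1, nat_lit 1, nat_lit 2, nat_lit 1, nat_lit 1, nat_lit 3, nat_lit 2],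
  [nat_lit 1, nat_lit 2, nat_lit 3, nat_lit 0, nat_lit 2, nat_lit 1, nat_lit 1, nat_lit 2, nat_lit 0, nat_lit 3, nat_lit 2, nat_lit 1, nat_lit 2, nat_lit 1, nat_lit 3, nat_lit 2],
  [nat_lit 1, nat_lit 1]]
noncomputable def c0_T : Wl := [[],
  [],
  [],
  [],
  [nat_lit 1, nat_lit 0, nat_lit 2, nat_lit 3, nat_lit 9, nat_lit 10, nat_lit 11, nat_lit 12, nat_lit 8, nat_lit 4, nat_lit 5, nat_lit 6, nat_lit 7]]
noncomputable def c0_J4 : Wl := [[nat_lit 3, nat_lit 3, nat_lit 3],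
  [nat_lit 3],
  [],
  [nat_lit 3, nat_lit 3],
  [nat_lit 2, nat_lit 0, nat_lit 4, nat_lit 6, nat_lit 1, nat_lit 6, nat_lit 0, nat_lit 1, nat_lit 0],
  [nat_lit 0, nat_lit 1, nat_lit 0, nat_lit 6, nat_lit 1, nat_lit 4, nat_lit 6, nat_lit 0, nat_lit 2],
  [nat_lit 1, nat_lit 0, nat_lit 1, nat_lit 4, nat_lit 6, nat_lit 1, nat_lit 6, nat_lit 0, nat_lit 1],
  [nat_lit 6, nat_lit 1, nat_lit 0, nat_lit 6, nat_lit 1, nat_lit 6, nat_lit 0, nat_lit 4, nat_lit 1, nat_lit 0, nat_lit 5],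
  [nat_lit 4],
  [nat_lit 1, nat_lit 5, nat_lit 2, nat_lit 6, nat_lit 1, nat_lit 0, nat_lit 6, nat_lit 1, nat_lit 0, nat_lit 2],
  [nat_lit 1, nat_lit 0, nat_lit 1, nat_lit 6, nat_lit 0, nat_lit 5, nat_lit 1, nat_lit 5, nat_lit 6],
  [nat_lit 0, nat_lit 1, nat_lit 0, nat_lit 6, nat_lit 0, nat_lit 4, nat_lit 6, nat_lit 1, nat_lit 0],
  [nat_lit 3, nat_lit 6, nat_lit 1, nat_lit 0, nat_lit 1, nat_lit 6, nat_lit 1, nat_lit 6, nat_lit 0, nat_lit 1, nat_lit 6]]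
noncomputable def Wc : Wl := [[nat_lit 0, nat_lit 2, nat_lit 0, nat_lit 2, nat_lit 1],
  [nat_lit 0, nat_lit 2, nat_lit 1, nat_lit 2, nat_lit 1],
  [nat_lit 1, nat_lit 2, nat_lit 1, nat_lit 1, nat_lit 2, nat_lit 0],
  [nat_lit 4, nat_lit 0, nat_lit 2, nat_lit 1, nat_lit 1, nat_lit 2, nat_lit 1]]
noncomputable def Vc : Wl := [[nat_lit 1, nat_lit 1, nat_lit 2, nat_lit 1, nat_lit 2, nat_lit 1, nat_lit 1],
  [nat_lit 1, nat_lit 1, nat_lit 2, nat_lit 0, nat_lit 2, nat_lit 1, nat_lit 1],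
  [nat_lit 1, nat_lit 1, nat_lit 2, nat_lit 1, nat_lit 2, nat_lit 0, nat_lit 2, nat_lit 1, nat_lit 1],
  [nat_lit 3, nat_lit 2, nat_lit 1, nat_lit 1, nat_lit 2, nat_lit 3],
  [nat_lit 1, nat_lit 1, nat_lit 3]]
noncomputable def fW : List ℕ := [nat_lit 2, nat_lit 1, nat_lit 1, nat_lit 2, nat_lit 3, nat_lit 2, nat_lit 1, nat_lit 1, nat_lit 2, nat_lit 3, nat_lit 2, nat_lit 1, nat_lit 1, nat_lit 3, nat_lit 2, nat_lit 3]
noncomputable def aW : List ℕ := [nat_lit 1, nat_lit 2, nat_lit 1, nat_lit 1, nat_lit 2, nat_lit 3, nat_lit 2, nat_lit 1, nat_lit 2, nat_lit 1, nat_lit 1, nat_lit 2, nat_lit 3, nat_lit 2]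
noncomputable def Rc : Wl := H1.OnC.Rl.map (fl Wc) ++ (List.range 5).map (fun k => k :: fl Wc (nth [] Vc k))

theorem md_b : ltAll 224 H1.OnB.B = 0 ∧ 80640 ≠ 0 := by decide +kernel
theorem a_lt : allL (ltAll 4) a_W = true := by decide +kernel
theorem a_m_a : allZ2 (matEnt (wdsP H1.OnB.P a_W) a_P) (nat_lit 23) (nat_lit 224) = true := by decide +kernel
theorem p2t_lt : allL (ltAll 4) p2t_W = true := by decide +kernel
theorem p2_r_a : allZ2 (resEnt p2t_P p2P p2E p2I (nat_lit 224) (nat_lit 96)) (nat_lit 8) (nat_lit 96) = true := by decide +kernel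
theorem p2_b : neL H1.OnB.B (p2B.map p2E) = 0 ∧ ltAll 96 p2B = 0 := by decide +kernel
theorem p2_p : allZ2 (pcEnt p2P (nat_lit 2) p2B p2C) 8 8 = true := by decide +kernel
theorem p2_e : allL (ltAll 8) p2e = true := by decide +kernel
theorem p2l0_e_0 : allZ (dent p2l0 (wdsP p2P p2e) (nat_lit 96)) (nat_lit 0) (nat_lit 63) = true := by decide +kernel
theorem p2l0_h : 0 < p2l0.n ∧ 0 < p2l0.K ∧ p2l0.Pt 0 < 96 ∧ p2l0.Q (p2l0.Pt 0) = 0 := by decide +kernel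
theorem p2l1_e_0 : allZ (dent p2l1 (wdsP p2P p2e) (nat_lit 96)) (nat_lit 0) (nat_lit 1) = true := by decide +kernel
theorem p2l1_h : 0 < p2l1.n ∧ 0 < p2l1.K ∧ p2l1.Pt 0 < 96 ∧ p2l1.Q (p2l1.Pt 0) = 0 := by decide +kernel
theorem p2l2_e_0 : allZ (dent p2l2 (wdsP p2P p2e) (nat_lit 96)) (nat_lit 0) (nat_lit 1) = true := by decide +kernel
theorem p2l2_h : 0 < p2l2.n ∧ 0 < p2l2.K ∧ p2l2.Pt 0 < 96 ∧ p2l2.Q (p2l2.Pt 0) = 0 := by decide +kernel
theorem p2_f2 : (Nat.ble p2l2.K 11 && Nat.ble (topK []) p2l2.K && fixLetters (wdsP p2P p2e) (topK []) (p2l2.Pt 0)) = true := by decide +kernel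
theorem p2_f1 : (Nat.ble p2l1.K 11 && Nat.ble (topK [p2l2]) p2l1.K && fixLetters (wdsP p2P p2e) (topK [p2l2]) (p2l1.Pt 0)) = true := by decide +kernel
theorem p2_f0 : (Nat.ble p2l0.K 11 && Nat.ble (topK [p2l1, p2l2]) p2l0.K && fixLetters (wdsP p2P p2e) (topK [p2l1, p2l2]) (p2l0.Pt 0)) = true := by decide +kernel
theorem p2_c : chainCard [p2l0, p2l1, p2l2] = 2 ^ 8 ∧ ¬ 2 ^ (8 + 1) ∣ 80640 := by decide +kernel
theorem covr_lt : allL (ltAll 4) covr_W = true := by decide +kernel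
theorem cov_c0 : (Nat.ble 8 8 && Nat.beq (ltAll 8 []) 0 && Nat.beq (covT0.chk H1.OnB.P p2P covr_P p2E 4 8 2 2 2 p2B 8 [] 0) 0) = true := by decide +kernel
theorem x_lt : allL (ltAll 4) x_W = true := by decide +kernel
theorem txh_lt : allL (ltAll 4) txh_W = true := by decide +kernel
theorem txl0_e_0 : allZ (dent txl0 txh_P (nat_lit 224)) (nat_lit 0) (nat_lit 223) = true := by decide +kernel
theorem txl0_h : 0 < txl0.n ∧ 0 < txl0.K ∧ txl0.Pt 0 < 224 ∧ txl0.Q (txl0.Pt 0) = 0 := by decide +kernel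
theorem txl1_e_0 : allZ (dent txl1 txh_P (nat_lit 224)) (nat_lit 0) (nat_lit 9) = true := by decide +kernel
theorem txl1_h : 0 < txl1.n ∧ 0 < txl1.K ∧ txl1.Pt 0 < 224 ∧ txl1.Q (txl1.Pt 0) = 0 := by decide +kernel
theorem txl2_e_0 : allZ (dent txl2 txh_P (nat_lit 224)) (nat_lit 0) (nat_lit 8) = true := by decide +kernel
theorem txl2_h : 0 < txl2.n ∧ 0 < txl2.K ∧ txl2.Pt 0 < 224 ∧ txl2.Q (txl2.Pt 0) = 0 := by decide +kernel
theorem txl3_e_0 : allZ (dent txl3 txh_P (nat_lit 224)) (nat_lit 0) (nat_lit 3) = true := by decide +kernel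
theorem txl3_h : 0 < txl3.n ∧ 0 < txl3.K ∧ txl3.Pt 0 < 224 ∧ txl3.Q (txl3.Pt 0) = 0 := by decide +kernel
theorem tx_f3 : (Nat.ble txl3.K 8 && Nat.ble (topK []) txl3.K && fixLetters txh_P (topK []) (txl3.Pt 0)) = true := by decide +kernel
theorem tx_f2 : (Nat.ble txl2.K 8 && Nat.ble (topK [txl3]) txl2.K && fixLetters txh_P (topK [txl3]) (txl2.Pt 0)) = true := by decide +kernel
theorem tx_f1 : (Nat.ble txl1.K 8 && Nat.ble (topK [txl2, txl3]) txl1.K && fixLetters txh_P (topK [txl2, txl3]) (txl1.Pt 0)) = true := by decide +kernel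
theorem tx_f0 : (Nat.ble txl0.K 8 && Nat.ble (topK [txl1, txl2, txl3]) txl0.K && fixLetters txh_P (topK [txl1, txl2, txl3]) (txl0.Pt 0)) = true := by decide +kernel
theorem tx_c : chainCard [txl0, txl1, txl2, txl3] = 80640 := by decide +kernel
theorem cxe_lt : allL (ltAll 4) cxe_W = true := by decide +kernel
theorem cxc3_e_0 : allZ (dent cxc3 cxe_P (nat_lit 224)) (nat_lit 0) (nat_lit 1) = true := by decide +kernel
theorem cxc3_h : 0 < cxc3.n ∧ 0 < cxc3.K ∧ cxc3.Pt 0 < 224 ∧ cxc3.Q (cxc3.Pt 0) = 0 := by decide +kernel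
theorem txn0_0 : (Nat.ble txl3.K 8 && Nat.beq (ltAll 224 [txl2.Pt 0, txl1.Pt 0, txl0.Pt 0]) 0 && kChk cxe_P x_P txn0.Kn 1 H1.OnB.B [txl2.Pt 0, txl1.Pt 0, txl0.Pt 0] && allL (ltAll 1) txn0.pre && planOK txh_P x_P 1 (txl3.Pt 0) txn0.plan [txl3]) = true := by decide +kernel
theorem txn0_1_0 : allZ (txn0.ent H1.OnB.P txh_P x_P x_P cxe_P (nat_lit 4) (nat_lit 1) H1.OnB.B txl3 [] (memO cxc3)) (nat_lit 0) (nat_lit 4) = true := by decide +kernel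
theorem cx_f3 : (Nat.ble cxc3.K 5 && Nat.ble (topK []) cxc3.K && Nat.beq (cxc3.Pt 0) (txl3.Pt 0) && Nat.beq (ltAll 224 [txl2.Pt 0, txl1.Pt 0, txl0.Pt 0]) 0 && kChk cxe_P x_P cxc3.K 1 H1.OnB.B [txl2.Pt 0, txl1.Pt 0, txl0.Pt 0]) = true := by decide +kernel
theorem cx_f2 : (Nat.ble txl2.K 8 && Nat.blt (nat_lit 0) 224 && fixLetters txh_P txl2.K (nat_lit 0) && Nat.beq (ltAll 1 [nat_lit 0]) 0 && Nat.beq (apW x_P [nat_lit 0] (nat_lit 0)) (txl2.Pt 0)) = true := by decide +kernel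
theorem cxc1_e_0 : allZ (dent cxc1 cxe_P (nat_lit 224)) (nat_lit 0) (nat_lit 3) = true := by decide +kernel
theorem cxc1_h : 0 < cxc1.n ∧ 0 < cxc1.K ∧ cxc1.Pt 0 < 224 ∧ cxc1.Q (cxc1.Pt 0) = 0 := by decide +kernel
theorem txn1y102_lt : allL (ltAll 4) txn1y102_W = true := by decide +kernel
theorem txr2k_lt : allL (ltAll 4) txr2k_W = true := by decide +kernel
theorem txn2_0 : (Nat.ble txl3.K 8 && Nat.beq (ltAll 224 [txl2.Pt 0, txl1.Pt 0, txl0.Pt 0]) 0 && kChk txr2k_P txn1y102_P txn2.Kn 1 H1.OnB.B [txl2.Pt 0, txl1.Pt 0, txl0.Pt 0] && allL (ltAll 1) txn2.pre && planOK txh_P x_P 1 (txl3.Pt 0) txn2.plan [txl3]) = true := by decide +kernel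
theorem txn2_1_0 : allZ (txn2.ent H1.OnB.P txh_P x_P txn1y102_P txr2k_P (nat_lit 4) (nat_lit 1) H1.OnB.B txl3 [] (fun _ => nat_lit 1)) (nat_lit 0) (nat_lit 4) = true := by decide +kernel
theorem txn1_0 : (Nat.ble txl1.K 8 && Nat.beq (ltAll 224 [txl0.Pt 0]) 0 && kChk cxe_P x_P txn1.Kn 1 H1.OnB.B [txl0.Pt 0] && allL (ltAll 1) txn1.pre && planOK txh_P x_P 1 (txl1.Pt 0) txn1.plan [txl1, txl2, txl3]) = true := by decide +kernel
theorem txn1_1_0 : allZ (txn1.ent H1.OnB.P txh_P x_P x_P cxe_P (nat_lit 4) (nat_lit 1) H1.OnB.B txl1 [txl2, txl3] (memO cxc1)) (nat_lit 0) (nat_lit 10) = true := by decide +kernel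
theorem cx_f1 : (Nat.ble cxc1.K 5 && Nat.ble (topK [cxc3]) cxc1.K && Nat.beq (cxc1.Pt 0) (txl1.Pt 0) && Nat.beq (ltAll 224 [txl0.Pt 0]) 0 && kChk cxe_P x_P cxc1.K 1 H1.OnB.B [txl0.Pt 0]) = true := by decide +kernel
theorem cxc0_e_0 : allZ (dent cxc0 cxe_P (nat_lit 224)) (nat_lit 0) (nat_lit 15) = true := by decide +kernel
theorem cxc0_h : 0 < cxc0.n ∧ 0 < cxc0.K ∧ cxc0.Pt 0 < 224 ∧ cxc0.Q (cxc0.Pt 0) = 0 := by decide +kernel
theorem txn3_0 : (Nat.ble txl0.K 8 && Nat.beq (ltAll 224 []) 0 && kChk cxe_P x_P txn3.Kn 1 H1.OnB.B [] && allL (ltAll 1) txn3.pre && planOK txh_P x_P 1 (txl0.Pt 0) txn3.plan [txl0, txl1, txl2, txl3]) = true := by decide +kernel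
theorem txn3_1_0 : allZ (txn3.ent H1.OnB.P txh_P x_P x_P cxe_P (nat_lit 4) (nat_lit 1) H1.OnB.B txl0 [txl1, txl2, txl3] (memO cxc0)) (nat_lit 0) (nat_lit 224) = true := by decide +kernel
theorem cx_f0 : (Nat.ble cxc0.K 5 && Nat.ble (topK [cxc1, cxc3]) cxc0.K && Nat.beq (cxc0.Pt 0) (txl0.Pt 0) && Nat.beq (ltAll 224 []) 0 && kChk cxe_P x_P cxc0.K 1 H1.OnB.B []) = true := by decide +kernel
theorem cx_c : chainCard [cxc0, cxc1, cxc3] = 128 ∧ topK [cxc0, cxc1, cxc3] = 5 := by decide +kernel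
theorem x_e : nth [] x_W 0 = nth [] a_W 8 ∧ eqL H1.OnB.P 4 H1.OnB.B (nth [] covr_W 0) (nth [] a_W 7) = 0 ∧ eqL H1.OnB.P 4 H1.OnB.B (nth [] covr_W 1) (nth [] a_W 8) = 0 ∧ H15.CS.comL H1.OnB.P 4 H1.OnB.B (nth [] a_W 5) = true ∧ (∀ k < 4, nth [] a_W k = [k]) ∧ allL (ltAll 4) p2t_W = true := by decide +kernel
theorem ee : eqK κ [nat_lit 5, nat_lit 5] [nat_lit 7] = true ∧ eqK κ [nat_lit 7, nat_lit 7] [] = true ∧ eqK κ [nat_lit 5, nat_lit 6] [] = true ∧ eqK κ [nat_lit 8, nat_lit 8] [] = true ∧ eqK κ [nat_lit 11, nat_lit 8] [nat_lit 8, nat_lit 11] = true ∧ eqK κ [nat_lit 11, nat_lit 11] [nat_lit 8, nat_lit 5] = true ∧ eqK κ [nat_lit 7] [] = false ∧ eqK κ [nat_lit 0, nat_lit 8] [nat_lit 8, nat_lit 0] = false := by decide +kernel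
theorem pm : allB (fun W => cjK κ W [8, 5] [8, 5] || cjK κ W [8, 5] [8, 6]) p2t_W = true := by decide +kernel
theorem d_a : d_W.length = 128 ∧ incr κ d_W 0 = true := by decide +kernel
theorem d_b : allB (allB (mem [nat_lit 5, nat_lit 12, nat_lit 13, nat_lit 14, nat_lit 15])) d_W = true ∧ allB (fun k => allB (fun Z => cjK κ [k] Z Z) [[nat_lit 8]]) [nat_lit 5, nat_lit 12, nat_lit 13, nat_lit 14, nat_lit 15] = true := by decide +kernel
theorem i0 : subK (fun W => eqK κ (rep W 2) []) d_W i0_W = true := by decide +kernel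
theorem i2 : eqK κ (app [nat_lit 9] [nat_lit 9]) [] = true ∧ (List.length [[nat_lit 5],
  [nat_lit 8, nat_lit 7]] = List.length [[nat_lit 5],
  [nat_lit 8]] ∧
    cjAll κ [nat_lit 9] [[nat_lit 5],
  [nat_lit 8, nat_lit 7]] [[nat_lit 5],
  [nat_lit 8]] = true) ∧ subK (fun W => eqK κ (rep W 2) []) (d_W.map fun W => app W [nat_lit 9]) i2_W = true := by decide +kernel
theorem m10 : eqK κ (app [nat_lit 9] [nat_lit 9]) [] = true ∧ trK κ [nat_lit 9] [[nat_lit 5],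
  [nat_lit 8]] [[nat_lit 6],
  [nat_lit 8]] [[nat_lit 5],
  [nat_lit 8]] [[nat_lit 5],
  [nat_lit 8, nat_lit 7]] ([[nat_lit 0, nat_lit 0, nat_lit 0],
  [nat_lit 1]], [[nat_lit 0, nat_lit 0, nat_lit 0],
  [nat_lit 0, nat_lit 0, nat_lit 1]]) = true := by decide +kernel
theorem m20 : eqK κ (app [nat_lit 10] [nat_lit 10]) [] = true ∧ trK κ [nat_lit 10] [[nat_lit 5],
  [nat_lit 8]] [[nat_lit 6],
  [nat_lit 8]] [[nat_lit 5],
  [nat_lit 8]] [[nat_lit 5],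
  [nat_lit 8]] ([[nat_lit 0, nat_lit 0, nat_lit 0],
  [nat_lit 1]], [[nat_lit 0, nat_lit 0, nat_lit 0],
  [nat_lit 1]]) = true := by decide +kernel
theorem k0 : allB (fun W => killK κ [7] [([nat_lit 0, nat_lit 3], [nat_lit 3, nat_lit 0]), ([nat_lit 0, nat_lit 2], []), ([nat_lit 0], [nat_lit 0]), ([nat_lit 0, nat_lit 1], [])] ([[9], [5], [8]] ++ [W, [6], [nat_lit 8]]) ([W, [6], [nat_lit 8]] ++ [[9], [5], [8]]) ||
    allB (fun Y => killK κ [7] [([nat_lit 0], []), ([nat_lit 0, nat_lit 4], [nat_lit 4, nat_lit 0]), ([nat_lit 0], [nat_lit 0]), ([nat_lit 0, nat_lit 1, nat_lit 0, nat_lit 1], []), ([nat_lit 0, nat_lit 1], [nat_lit 1, nat_lit 0]), ([nat_lit 1, nat_lit 0, nat_lit 5], [nat_lit 5, nat_lit 0, nat_lit 1]), ([nat_lit 4, nat_lit 1, nat_lit 4, nat_lit 1], []), ([nat_lit 1, nat_lit 4, nat_lit 1, nat_lit 0], []), ([nat_lit 4, nat_lit 5, nat_lit 4, nat_lit 0, nat_lit 5, nat_lit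 0], []), ([nat_lit 0, nat_lit 1, nat_lit 2, nat_lit 5], []), ([nat_lit 0, nat_lit 2], [])] (([10] :: [[9], [5], [8]]) ++ (Y :: [W, [6], [nat_lit 8]])) ((Y :: [W, [6], [nat_lit 8]]) ++ ([10] :: [[9], [5], [8]]))) i0_W) i2_W = true := by decide +kernel
theorem m11 : eqK κ (app [nat_lit 9] [nat_lit 9]) [] = true ∧ trK κ [nat_lit 9] [[nat_lit 5],
  [nat_lit 8]] [[nat_lit 6],
  [nat_lit 8, nat_lit 7]] [[nat_lit 5],
  [nat_lit 8]] [[nat_lit 5],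
  [nat_lit 8, nat_lit 7]] ([[nat_lit 0, nat_lit 0, nat_lit 0],
  [nat_lit 0, nat_lit 0, nat_lit 1]], [[nat_lit 0, nat_lit 0, nat_lit 0],
  [nat_lit 1]]) = true := by decide +kernel
theorem m21 : eqK κ (app [nat_lit 10] [nat_lit 10]) [] = true ∧ trK κ [nat_lit 10] [[nat_lit 5],
  [nat_lit 8]] [[nat_lit 6],
  [nat_lit 8, nat_lit 7]] [[nat_lit 5],
  [nat_lit 8]] [[nat_lit 5],
  [nat_lit 8]] ([[nat_lit 0, nat_lit 0, nat_lit 0],
  [nat_lit 0, nat_lit 0, nat_lit 1]], [[nat_lit 0, nat_lit 0, nat_lit 0],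
  [nat_lit 0, nat_lit 0, nat_lit 1]]) = true := by decide +kernel
theorem k1 : allB (fun W => killK κ [7] [([nat_lit 1, nat_lit 2, nat_lit 3, nat_lit 0], []), ([nat_lit 1, nat_lit 2], [])] ([[9], [5], [8]] ++ [W, [6], [nat_lit 8, nat_lit 7]]) ([W, [6], [nat_lit 8, nat_lit 7]] ++ [[9], [5], [8]]) ||
    allB (fun Y => killK κ [7] [] (([10] :: [[9], [5], [8]]) ++ (Y :: [W, [6], [nat_lit 8, nat_lit 7]])) ((Y :: [W, [6], [nat_lit 8, nat_lit 7]]) ++ ([10] :: [[9], [5], [8]]))) i0_W) i2_W = true := by decide +kernel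
theorem ac : allB (fun Y => cjAll κ Y [[nat_lit 8]] [[nat_lit 8]]) [[nat_lit 12],
  [nat_lit 13],
  [nat_lit 14],
  [nat_lit 15]] = true ∧
    subK (fun W => allB (actK κ [[[nat_lit 0],
  [nat_lit 1]], [[nat_lit 0, nat_lit 0, nat_lit 0],
  [nat_lit 1]]] (W :: [[nat_lit 8]])) [[nat_lit 12],
  [nat_lit 13],
  [nat_lit 14],
  [nat_lit 15]]) d_W ac_W = true := by decide +kernel
theorem s0 : dead κ ([nat_lit 5] :: [[nat_lit 7],
  [nat_lit 8]]) [[nat_lit 0, nat_lit 0, nat_lit 1]] [] = false ∧ stepK κ [[nat_lit 8],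
  [nat_lit 7]] [[nat_lit 0, nat_lit 0, nat_lit 1]] [] [[nat_lit 12],
  [nat_lit 12, nat_lit 7]] ac_W s0_L = true := by decide +kernel
theorem v : subK (fun W => cjAll κ W [[nat_lit 12]] [[nat_lit 12]]) d_W v_W = true := by decide +kernel
theorem e2 : eqK κ [nat_lit 14, nat_lit 8] [nat_lit 8, nat_lit 14] = true ∧ eqK κ [nat_lit 14, nat_lit 14] [] = true ∧ eqK κ [nat_lit 14, nat_lit 12] [nat_lit 12, nat_lit 14] = false ∧ eqK κ [nat_lit 14, nat_lit 12, nat_lit 7] [nat_lit 12, nat_lit 7, nat_lit 14] = false := by decide +kernel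
theorem o00 : trK κ [nat_lit 15] [[nat_lit 12],
  [nat_lit 5],
  [nat_lit 7],
  [nat_lit 8]] [[nat_lit 5],
  [nat_lit 12],
  [nat_lit 8],
  [nat_lit 7]] [[nat_lit 5],
  [nat_lit 8],
  [nat_lit 12]] [[nat_lit 5],
  [nat_lit 8],
  [nat_lit 12]] ([[nat_lit 0],
  [nat_lit 2],
  [nat_lit 1]], [[nat_lit 0],
  [nat_lit 2],
  [nat_lit 1]]) = true := by decide +kernel
theorem t00 : dead κ ([nat_lit 15] :: [[nat_lit 12],
  [nat_lit 5],
  [nat_lit 7],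
  [nat_lit 8]]) [[nat_lit 0, nat_lit 0]] [[nat_lit 0],
  [nat_lit 0, nat_lit 3],
  [nat_lit 0, nat_lit 4],
  [nat_lit 0, nat_lit 3, nat_lit 4]] = false ∧ allB (fun W => dead κ (W :: [[nat_lit 5],
  [nat_lit 12],
  [nat_lit 8],
  [nat_lit 7]]) [[nat_lit 0, nat_lit 0]] [[nat_lit 0],
  [nat_lit 0, nat_lit 3],
  [nat_lit 0, nat_lit 4],
  [nat_lit 0, nat_lit 3, nat_lit 4]] ||
    anyB (trK κ [nat_lit 14] ([nat_lit 15] :: [[nat_lit 12],
  [nat_lit 5],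
  [nat_lit 7],
  [nat_lit 8]]) (W :: [[nat_lit 5],
  [nat_lit 12],
  [nat_lit 8],
  [nat_lit 7]]) [[nat_lit 5],
  [nat_lit 8],
  [nat_lit 12],
  [nat_lit 15]] [[nat_lit 6],
  [nat_lit 8],
  [nat_lit 12],
  [nat_lit 15, nat_lit 8]]) [([[nat_lit 1],
  [nat_lit 3],
  [nat_lit 2],
  [nat_lit 0]], [[nat_lit 1, nat_lit 4],
  [nat_lit 3],
  [nat_lit 2],
  [nat_lit 0, nat_lit 3]]), ([[nat_lit 1],
  [nat_lit 3],
  [nat_lit 2],
  [nat_lit 0, nat_lit 3, nat_lit 4]], [[nat_lit 1, nat_lit 4],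
  [nat_lit 3],
  [nat_lit 2],
  [nat_lit 0, nat_lit 4]]), ([[nat_lit 1],
  [nat_lit 3],
  [nat_lit 2],
  [nat_lit 0, nat_lit 4]], [[nat_lit 1, nat_lit 4],
  [nat_lit 3],
  [nat_lit 2],
  [nat_lit 0, nat_lit 3, nat_lit 4]]), ([[nat_lit 1],
  [nat_lit 3],
  [nat_lit 2],
  [nat_lit 0, nat_lit 3]], [[nat_lit 1, nat_lit 4],
  [nat_lit 3],
  [nat_lit 2],
  [nat_lit 0]])]) v_W = true := by decide +kernel
theorem o01 : trK κ [nat_lit 15] [[nat_lit 12],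
  [nat_lit 5],
  [nat_lit 7],
  [nat_lit 8]] [[nat_lit 6],
  [nat_lit 12],
  [nat_lit 8],
  [nat_lit 7]] [[nat_lit 5],
  [nat_lit 8],
  [nat_lit 12]] [[nat_lit 5],
  [nat_lit 8],
  [nat_lit 12]] ([[nat_lit 0, nat_lit 3],
  [nat_lit 2],
  [nat_lit 1]], [[nat_lit 0, nat_lit 3],
  [nat_lit 2],
  [nat_lit 1]]) = true := by decide +kernel
theorem t01 : dead κ ([nat_lit 15] :: [[nat_lit 12],
  [nat_lit 5],
  [nat_lit 7],
  [nat_lit 8]]) [[nat_lit 0, nat_lit 0]] [[nat_lit 0],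
  [nat_lit 0, nat_lit 3],
  [nat_lit 0, nat_lit 4],
  [nat_lit 0, nat_lit 3, nat_lit 4]] = false ∧ allB (fun W => dead κ (W :: [[nat_lit 6],
  [nat_lit 12],
  [nat_lit 8],
  [nat_lit 7]]) [[nat_lit 0, nat_lit 0]] [[nat_lit 0],
  [nat_lit 0, nat_lit 3],
  [nat_lit 0, nat_lit 4],
  [nat_lit 0, nat_lit 3, nat_lit 4]] ||
    anyB (trK κ [nat_lit 14] ([nat_lit 15] :: [[nat_lit 12],
  [nat_lit 5],
  [nat_lit 7],
  [nat_lit 8]]) (W :: [[nat_lit 6],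
  [nat_lit 12],
  [nat_lit 8],
  [nat_lit 7]]) [[nat_lit 5],
  [nat_lit 8],
  [nat_lit 12],
  [nat_lit 15]] [[nat_lit 6],
  [nat_lit 8],
  [nat_lit 12],
  [nat_lit 15, nat_lit 8]]) [([[nat_lit 1, nat_lit 4],
  [nat_lit 3],
  [nat_lit 2],
  [nat_lit 0]], [[nat_lit 1],
  [nat_lit 3],
  [nat_lit 2],
  [nat_lit 0, nat_lit 3]]), ([[nat_lit 1, nat_lit 4],
  [nat_lit 3],
  [nat_lit 2],
  [nat_lit 0, nat_lit 3, nat_lit 4]], [[nat_lit 1],
  [nat_lit 3],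
  [nat_lit 2],
  [nat_lit 0, nat_lit 4]]), ([[nat_lit 1, nat_lit 4],
  [nat_lit 3],
  [nat_lit 2],
  [nat_lit 0, nat_lit 4]], [[nat_lit 1],
  [nat_lit 3],
  [nat_lit 2],
  [nat_lit 0, nat_lit 3, nat_lit 4]]), ([[nat_lit 1, nat_lit 4],
  [nat_lit 3],
  [nat_lit 2],
  [nat_lit 0, nat_lit 3]], [[nat_lit 1],
  [nat_lit 3],
  [nat_lit 2],
  [nat_lit 0]])]) v_W = true := by decide +kernel
theorem o10 : trK κ [nat_lit 15] [[nat_lit 12, nat_lit 7],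
  [nat_lit 5],
  [nat_lit 7],
  [nat_lit 8]] [[nat_lit 5],
  [nat_lit 12, nat_lit 7],
  [nat_lit 8],
  [nat_lit 7]] [[nat_lit 5],
  [nat_lit 8],
  [nat_lit 12]] [[nat_lit 5],
  [nat_lit 8],
  [nat_lit 12]] ([[nat_lit 0],
  [nat_lit 2],
  [nat_lit 1, nat_lit 3]], [[nat_lit 0],
  [nat_lit 2],
  [nat_lit 1, nat_lit 3]]) = true := by decide +kernel
theorem t10 : dead κ ([nat_lit 15] :: [[nat_lit 12, nat_lit 7],
  [nat_lit 5],
  [nat_lit 7],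
  [nat_lit 8]]) [[nat_lit 0, nat_lit 0]] [[nat_lit 0],
  [nat_lit 0, nat_lit 3],
  [nat_lit 0, nat_lit 4],
  [nat_lit 0, nat_lit 3, nat_lit 4]] = false ∧ allB (fun W => dead κ (W :: [[nat_lit 5],
  [nat_lit 12, nat_lit 7],
  [nat_lit 8],
  [nat_lit 7]]) [[nat_lit 0, nat_lit 0]] [[nat_lit 0],
  [nat_lit 0, nat_lit 3],
  [nat_lit 0, nat_lit 4],
  [nat_lit 0, nat_lit 3, nat_lit 4]] ||
    anyB (trK κ [nat_lit 14] ([nat_lit 15] :: [[nat_lit 12, nat_lit 7],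
  [nat_lit 5],
  [nat_lit 7],
  [nat_lit 8]]) (W :: [[nat_lit 5],
  [nat_lit 12, nat_lit 7],
  [nat_lit 8],
  [nat_lit 7]]) [[nat_lit 5],
  [nat_lit 8],
  [nat_lit 12],
  [nat_lit 15]] [[nat_lit 6],
  [nat_lit 8],
  [nat_lit 12],
  [nat_lit 15, nat_lit 8]]) [([[nat_lit 1],
  [nat_lit 3],
  [nat_lit 2, nat_lit 4],
  [nat_lit 0]], [[nat_lit 1, nat_lit 4],
  [nat_lit 3],
  [nat_lit 2, nat_lit 4],
  [nat_lit 0, nat_lit 3]]), ([[nat_lit 1],
  [nat_lit 3],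
  [nat_lit 2, nat_lit 4],
  [nat_lit 0, nat_lit 3, nat_lit 4]], [[nat_lit 1, nat_lit 4],
  [nat_lit 3],
  [nat_lit 2, nat_lit 4],
  [nat_lit 0, nat_lit 4]]), ([[nat_lit 1],
  [nat_lit 3],
  [nat_lit 2, nat_lit 4],
  [nat_lit 0, nat_lit 4]], [[nat_lit 1, nat_lit 4],
  [nat_lit 3],
  [nat_lit 2, nat_lit 4],
  [nat_lit 0, nat_lit 3, nat_lit 4]]), ([[nat_lit 1],
  [nat_lit 3],
  [nat_lit 2, nat_lit 4],
  [nat_lit 0, nat_lit 3]], [[nat_lit 1, nat_lit 4],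
  [nat_lit 3],
  [nat_lit 2, nat_lit 4],
  [nat_lit 0]])]) v_W = true := by decide +kernel
theorem o11 : trK κ [nat_lit 15] [[nat_lit 12, nat_lit 7],
  [nat_lit 5],
  [nat_lit 7],
  [nat_lit 8]] [[nat_lit 6],
  [nat_lit 12, nat_lit 7],
  [nat_lit 8],
  [nat_lit 7]] [[nat_lit 5],
  [nat_lit 8],
  [nat_lit 12]] [[nat_lit 5],
  [nat_lit 8],
  [nat_lit 12]] ([[nat_lit 0, nat_lit 3],
  [nat_lit 2],
  [nat_lit 1, nat_lit 3]], [[nat_lit 0, nat_lit 3],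
  [nat_lit 2],
  [nat_lit 1, nat_lit 3]]) = true := by decide +kernel
theorem t11 : dead κ ([nat_lit 15] :: [[nat_lit 12, nat_lit 7],
  [nat_lit 5],
  [nat_lit 7],
  [nat_lit 8]]) [[nat_lit 0, nat_lit 0]] [[nat_lit 0],
  [nat_lit 0, nat_lit 3],
  [nat_lit 0, nat_lit 4],
  [nat_lit 0, nat_lit 3, nat_lit 4]] = false ∧ allB (fun W => dead κ (W :: [[nat_lit 6],
  [nat_lit 12, nat_lit 7],
  [nat_lit 8],
  [nat_lit 7]]) [[nat_lit 0, nat_lit 0]] [[nat_lit 0],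
  [nat_lit 0, nat_lit 3],
  [nat_lit 0, nat_lit 4],
  [nat_lit 0, nat_lit 3, nat_lit 4]] ||
    anyB (trK κ [nat_lit 14] ([nat_lit 15] :: [[nat_lit 12, nat_lit 7],
  [nat_lit 5],
  [nat_lit 7],
  [nat_lit 8]]) (W :: [[nat_lit 6],
  [nat_lit 12, nat_lit 7],
  [nat_lit 8],
  [nat_lit 7]]) [[nat_lit 5],
  [nat_lit 8],
  [nat_lit 12],
  [nat_lit 15]] [[nat_lit 6],
  [nat_lit 8],
  [nat_lit 12],
  [nat_lit 15, nat_lit 8]]) [([[nat_lit 1, nat_lit 4],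
  [nat_lit 3],
  [nat_lit 2, nat_lit 4],
  [nat_lit 0]], [[nat_lit 1],
  [nat_lit 3],
  [nat_lit 2, nat_lit 4],
  [nat_lit 0, nat_lit 3]]), ([[nat_lit 1, nat_lit 4],
  [nat_lit 3],
  [nat_lit 2, nat_lit 4],
  [nat_lit 0, nat_lit 3, nat_lit 4]], [[nat_lit 1],
  [nat_lit 3],
  [nat_lit 2, nat_lit 4],
  [nat_lit 0, nat_lit 4]]), ([[nat_lit 1, nat_lit 4],
  [nat_lit 3],
  [nat_lit 2, nat_lit 4],
  [nat_lit 0, nat_lit 4]], [[nat_lit 1],
  [nat_lit 3],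
  [nat_lit 2, nat_lit 4],
  [nat_lit 0, nat_lit 3, nat_lit 4]]), ([[nat_lit 1, nat_lit 4],
  [nat_lit 3],
  [nat_lit 2, nat_lit 4],
  [nat_lit 0, nat_lit 3]], [[nat_lit 1],
  [nat_lit 3],
  [nat_lit 2, nat_lit 4],
  [nat_lit 0]])]) v_W = true := by decide +kernel
theorem n1 : eqK κ (app [nat_lit 14] [nat_lit 14]) [] = true ∧ trK κ [nat_lit 14] [[nat_lit 5],
  [nat_lit 8],
  [nat_lit 12],
  [nat_lit 15]] [[nat_lit 6],
  [nat_lit 8],
  [nat_lit 12],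
  [nat_lit 15, nat_lit 8]] [[nat_lit 5],
  [nat_lit 8]] [[nat_lit 5],
  [nat_lit 8]] ([[nat_lit 0, nat_lit 0, nat_lit 0],
  [nat_lit 1]], [[nat_lit 0, nat_lit 0, nat_lit 0],
  [nat_lit 1]]) = true := by decide +kernel
theorem s1 : dead κ ([nat_lit 14] :: [[nat_lit 5],
  [nat_lit 8],
  [nat_lit 12],
  [nat_lit 15]]) [[nat_lit 3, nat_lit 0, nat_lit 3, nat_lit 0]] [[nat_lit 0]] = false ∧ stepK κ [[nat_lit 6],
  [nat_lit 8],
  [nat_lit 12],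
  [nat_lit 15, nat_lit 8]] [[nat_lit 3, nat_lit 0, nat_lit 3, nat_lit 0]] [[nat_lit 0]] [[nat_lit 17],
  [nat_lit 14]] i0_W s1_L = true := by decide +kernel
theorem c10 : eqK κ (app [nat_lit 21] [nat_lit 22]) [] = true ∧ (List.length [[nat_lit 5],
  [nat_lit 8]] = List.length [[nat_lit 5],
  [nat_lit 17]] ∧ cjAll κ [nat_lit 21] [[nat_lit 5],
  [nat_lit 8]] [[nat_lit 5],
  [nat_lit 17]] = true) ∧
    (List.length [[nat_lit 5],
  [nat_lit 8]] = List.length [[nat_lit 5],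
  [nat_lit 17]] ∧ cjAll κ [nat_lit 21] [[nat_lit 5],
  [nat_lit 8]] [[nat_lit 5],
  [nat_lit 17]] = true) := by decide +kernel
theorem n20 : eqK κ (app [nat_lit 16] [nat_lit 16]) [] = true ∧ trK κ [nat_lit 16] [[nat_lit 14],
  [nat_lit 5],
  [nat_lit 8],
  [nat_lit 12],
  [nat_lit 15]] [[nat_lit 17],
  [nat_lit 6],
  [nat_lit 8],
  [nat_lit 12],
  [nat_lit 15, nat_lit 8]] [[nat_lit 5],
  [nat_lit 17]] [[nat_lit 5],
  [nat_lit 17]] ([[nat_lit 1, nat_lit 1, nat_lit 1],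
  [nat_lit 0]], [[nat_lit 1, nat_lit 1, nat_lit 1],
  [nat_lit 0]]) = true := by decide +kernel
theorem s20 : dead κ ([nat_lit 16] :: [[nat_lit 14],
  [nat_lit 5],
  [nat_lit 8],
  [nat_lit 12],
  [nat_lit 15]]) [[nat_lit 0, nat_lit 1, nat_lit 2, nat_lit 2, nat_lit 3, nat_lit 0, nat_lit 3],
  [nat_lit 4, nat_lit 0, nat_lit 1, nat_lit 4, nat_lit 0, nat_lit 4, nat_lit 4, nat_lit 4, nat_lit 0]] [[nat_lit 0]] = false ∧ stepK κ [[nat_lit 17],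
  [nat_lit 6],
  [nat_lit 8],
  [nat_lit 12],
  [nat_lit 15, nat_lit 8]] [[nat_lit 0, nat_lit 1, nat_lit 2, nat_lit 2, nat_lit 3, nat_lit 0, nat_lit 3],
  [nat_lit 4, nat_lit 0, nat_lit 1, nat_lit 4, nat_lit 0, nat_lit 4, nat_lit 4, nat_lit 4, nat_lit 0]] [[nat_lit 0]] [[nat_lit 18]] (i0_W.map fun W => app [nat_lit 22] (app W [nat_lit 21])) s20_L = true := by decide +kernel
theorem c200 : eqK κ (app [nat_lit 19] [nat_lit 20]) [] = true ∧ (List.length [[nat_lit 5],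
  [nat_lit 8]] = List.length [[nat_lit 5],
  [nat_lit 14]] ∧ cjAll κ [nat_lit 19] [[nat_lit 5],
  [nat_lit 8]] [[nat_lit 5],
  [nat_lit 14]] = true) ∧
    (List.length [[nat_lit 5],
  [nat_lit 8]] = List.length [[nat_lit 5],
  [nat_lit 14]] ∧ cjAll κ [nat_lit 19] [[nat_lit 5],
  [nat_lit 8]] [[nat_lit 5],
  [nat_lit 14]] = true) := by decide +kernel
theorem n300 : eqK κ (app [nat_lit 18] [nat_lit 18]) [] = true ∧ trK κ [nat_lit 18] [[nat_lit 16],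
  [nat_lit 14],
  [nat_lit 5],
  [nat_lit 8],
  [nat_lit 12],
  [nat_lit 15]] [[nat_lit 18],
  [nat_lit 17],
  [nat_lit 6],
  [nat_lit 8],
  [nat_lit 12],
  [nat_lit 15, nat_lit 8]] [[nat_lit 5],
  [nat_lit 14]] [[nat_lit 5],
  [nat_lit 14]] ([[nat_lit 2, nat_lit 2, nat_lit 2],
  [nat_lit 1, nat_lit 2, nat_lit 4, nat_lit 5]], [[nat_lit 2, nat_lit 2, nat_lit 2],
  [nat_lit 1, nat_lit 2, nat_lit 4, nat_lit 5]]) = true := by decide +kernel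
theorem s300 : dead κ ([nat_lit 18] :: [[nat_lit 16],
  [nat_lit 14],
  [nat_lit 5],
  [nat_lit 8],
  [nat_lit 12],
  [nat_lit 15]]) [[nat_lit 2, nat_lit 0, nat_lit 2, nat_lit 0, nat_lit 2, nat_lit 0],
  [nat_lit 1, nat_lit 0, nat_lit 1, nat_lit 0, nat_lit 1, nat_lit 0, nat_lit 1, nat_lit 0]] [[nat_lit 0]] = false ∧ stepK κ [[nat_lit 18],
  [nat_lit 17],
  [nat_lit 6],
  [nat_lit 8],
  [nat_lit 12],
  [nat_lit 15, nat_lit 8]] [[nat_lit 2, nat_lit 0, nat_lit 2, nat_lit 0, nat_lit 2, nat_lit 0],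
  [nat_lit 1, nat_lit 0, nat_lit 1, nat_lit 0, nat_lit 1, nat_lit 0, nat_lit 1, nat_lit 0]] [[nat_lit 0]] [[nat_lit 16]] (i0_W.map fun W => app [nat_lit 20] (app W [nat_lit 19])) s300_L = true := by decide +kernel
theorem c11 : eqK κ (app [nat_lit 19] [nat_lit 20]) [] = true ∧ (List.length [[nat_lit 5],
  [nat_lit 8]] = List.length [[nat_lit 5],
  [nat_lit 14]] ∧ cjAll κ [nat_lit 19] [[nat_lit 5],
  [nat_lit 8]] [[nat_lit 5],
  [nat_lit 14]] = true) ∧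
    (List.length [[nat_lit 5],
  [nat_lit 8]] = List.length [[nat_lit 5],
  [nat_lit 14]] ∧ cjAll κ [nat_lit 19] [[nat_lit 5],
  [nat_lit 8]] [[nat_lit 5],
  [nat_lit 14]] = true) := by decide +kernel
theorem n21 : eqK κ (app [nat_lit 16] [nat_lit 16]) [] = true ∧ trK κ [nat_lit 16] [[nat_lit 14],
  [nat_lit 5],
  [nat_lit 8],
  [nat_lit 12],
  [nat_lit 15]] [[nat_lit 14],
  [nat_lit 6],
  [nat_lit 8],
  [nat_lit 12],
  [nat_lit 15, nat_lit 8]] [[nat_lit 5],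
  [nat_lit 14]] [[nat_lit 5],
  [nat_lit 14]] ([[nat_lit 1, nat_lit 1, nat_lit 1],
  [nat_lit 0]], [[nat_lit 1, nat_lit 1, nat_lit 1],
  [nat_lit 0]]) = true := by decide +kernel
theorem s21 : dead κ ([nat_lit 16] :: [[nat_lit 14],
  [nat_lit 5],
  [nat_lit 8],
  [nat_lit 12],
  [nat_lit 15]]) [[nat_lit 0, nat_lit 1, nat_lit 2, nat_lit 2, nat_lit 3, nat_lit 0, nat_lit 3],
  [nat_lit 4, nat_lit 0, nat_lit 1, nat_lit 4, nat_lit 0, nat_lit 4, nat_lit 4, nat_lit 4, nat_lit 0]] [[nat_lit 0]] = false ∧ stepK κ [[nat_lit 14],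
  [nat_lit 6],
  [nat_lit 8],
  [nat_lit 12],
  [nat_lit 15, nat_lit 8]] [[nat_lit 0, nat_lit 1, nat_lit 2, nat_lit 2, nat_lit 3, nat_lit 0, nat_lit 3],
  [nat_lit 4, nat_lit 0, nat_lit 1, nat_lit 4, nat_lit 0, nat_lit 4, nat_lit 4, nat_lit 4, nat_lit 0]] [[nat_lit 0]] [[nat_lit 20, nat_lit 5, nat_lit 14, nat_lit 12, nat_lit 15, nat_lit 19]] (i0_W.map fun W => app [nat_lit 20] (app W [nat_lit 19])) s21_L = true := by decide +kernel
theorem c210 : eqK κ (app [nat_lit 2, nat_lit 3, nat_lit 1, nat_lit 2, nat_lit 1, nat_lit 2, nat_lit 0, nat_lit 3, nat_lit 2, nat_lit 1, nat_lit 1, nat_lit 2, nat_lit 1, nat_lit 1, nat_lit 3, nat_lit 2, nat_lit 1, nat_lit 1] [nat_lit 3, nat_lit 1, nat_lit 1, nat_lit 2, nat_lit 1, nat_lit 2, nat_lit 0, nat_lit 2, nat_lit 1, nat_lit 3, nat_lit 2, nat_lit 1, nat_lit 2, nat_lit 1, nat_lit 1, nat_lit 2, nat_lit 0, nat_lit 2, nat_lit 0]) [] = true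 ∧ (List.length [[nat_lit 5],
  [nat_lit 8]] = List.length [[nat_lit 5],
  [nat_lit 5, nat_lit 12, nat_lit 15, nat_lit 14]] ∧ cjAll κ [nat_lit 2, nat_lit 3, nat_lit 1, nat_lit 2, nat_lit 1, nat_lit 2, nat_lit 0, nat_lit 3, nat_lit 2, nat_lit 1, nat_lit 1, nat_lit 2, nat_lit 1, nat_lit 1, nat_lit 3, nat_lit 2, nat_lit 1, nat_lit 1] [[nat_lit 5],
  [nat_lit 8]] [[nat_lit 5],
  [nat_lit 5, nat_lit 12, nat_lit 15, nat_lit 14]] = true) ∧
    (List.length [[nat_lit 5],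
  [nat_lit 8]] = List.length [[nat_lit 5],
  [nat_lit 5, nat_lit 12, nat_lit 15, nat_lit 14]] ∧ cjAll κ [nat_lit 2, nat_lit 3, nat_lit 1, nat_lit 2, nat_lit 1, nat_lit 2, nat_lit 0, nat_lit 3, nat_lit 2, nat_lit 1, nat_lit 1, nat_lit 2, nat_lit 1, nat_lit 1, nat_lit 3, nat_lit 2, nat_lit 1, nat_lit 1] [[nat_lit 5],
  [nat_lit 8]] [[nat_lit 5],
  [nat_lit 5, nat_lit 12, nat_lit 15, nat_lit 14]] = true) := by decide +kernel
theorem n310 : eqK κ (app [nat_lit 18] [nat_lit 18]) [] = true ∧ trK κ [nat_lit 18] [[nat_lit 16],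
  [nat_lit 14],
  [nat_lit 5],
  [nat_lit 8],
  [nat_lit 12],
  [nat_lit 15]] [[nat_lit 20, nat_lit 5, nat_lit 14, nat_lit 12, nat_lit 15, nat_lit 19],
  [nat_lit 14],
  [nat_lit 6],
  [nat_lit 8],
  [nat_lit 12],
  [nat_lit 15, nat_lit 8]] [[nat_lit 5],
  [nat_lit 5, nat_lit 12, nat_lit 15, nat_lit 14]] [[nat_lit 5],
  [nat_lit 5, nat_lit 12, nat_lit 15, nat_lit 14]] ([[nat_lit 2, nat_lit 2, nat_lit 2],
  [nat_lit 1, nat_lit 2, nat_lit 4, nat_lit 5]], [[nat_lit 2, nat_lit 2, nat_lit 2],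
  [nat_lit 1, nat_lit 2, nat_lit 4, nat_lit 5]]) = true := by decide +kernel
theorem s310 : dead κ ([nat_lit 18] :: [[nat_lit 16],
  [nat_lit 14],
  [nat_lit 5],
  [nat_lit 8],
  [nat_lit 12],
  [nat_lit 15]]) [[nat_lit 2, nat_lit 0, nat_lit 2, nat_lit 0, nat_lit 2, nat_lit 0],
  [nat_lit 1, nat_lit 0, nat_lit 1, nat_lit 0, nat_lit 1, nat_lit 0, nat_lit 1, nat_lit 0],
  [nat_lit 0, nat_lit 6, nat_lit 1, nat_lit 6, nat_lit 1, nat_lit 0, nat_lit 6, nat_lit 0, nat_lit 1, nat_lit 6, nat_lit 1, nat_lit 4, nat_lit 0, nat_lit 6]] [[nat_lit 0]] = false ∧ stepK κ [[nat_lit 20, nat_lit 5, nat_lit 14, nat_lit 12, nat_lit 15, nat_lit 19],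
  [nat_lit 14],
  [nat_lit 6],
  [nat_lit 8],
  [nat_lit 12],
  [nat_lit 15, nat_lit 8]] [[nat_lit 2, nat_lit 0, nat_lit 2, nat_lit 0, nat_lit 2, nat_lit 0],
  [nat_lit 1, nat_lit 0, nat_lit 1, nat_lit 0, nat_lit 1, nat_lit 0, nat_lit 1, nat_lit 0],
  [nat_lit 0, nat_lit 6, nat_lit 1, nat_lit 6, nat_lit 1, nat_lit 0, nat_lit 6, nat_lit 0, nat_lit 1, nat_lit 6, nat_lit 1, nat_lit 4, nat_lit 0, nat_lit 6]] [[nat_lit 0]] [] (i0_W.map fun W => app [nat_lit 3, nat_lit 1, nat_lit 1, nat_lit 2, nat_lit 1, nat_lit 2, nat_lit 0, nat_lit 2, nat_lit 1, nat_lit 3, nat_lit 2, nat_lit 1, nat_lit 2, nat_lit 1, nat_lit 1, nat_lit 2, nat_lit 0, nat_lit 2, nat_lit 0] (app W [nat_lit 2, nat_lit 3, nat_lit 1, nat_lit 2, nat_lit 1, nat_lit 2, nat_lit 0, nat_lit 3, nat_lit 2, nat_lit 1, nat_lit 1, nat_lit 2, nat_lit 1, nat_lit 1, nat_lit 3, nat_lit 2, nat_lit 1, nat_lit 1])) s310_L = true :=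 by decide +kernel
theorem ch : ch_L.map (·.1) = [[nat_lit 0],
  [nat_lit 1],
  [nat_lit 2],
  [nat_lit 3],
  [],
  [nat_lit 5],
  [],
  [nat_lit 7],
  [nat_lit 8],
  [],
  [],
  [],
  [nat_lit 12],
  [nat_lit 13],
  [nat_lit 14],
  [nat_lit 15]] ∧ ch_L.map (·.2.1) = [[nat_lit 2, nat_lit 3, nat_lit 1, nat_lit 1, nat_lit 2, nat_lit 1, nat_lit 1, nat_lit 2, nat_lit 1, nat_lit 2, nat_lit 1, nat_lit 1, nat_lit 2, nat_lit 1, nat_lit 1, nat_lit 3, nat_lit 2],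
  [nat_lit 2, nat_lit 3, nat_lit 1, nat_lit 1, nat_lit 2, nat_lit 1, nat_lit 1, nat_lit 2, nat_lit 0, nat_lit 2, nat_lit 1, nat_lit 1, nat_lit 2, nat_lit 1, nat_lit 1, nat_lit 3, nat_lit 2],
  [nat_lit 1, nat_lit 2, nat_lit 3, nat_lit 0, nat_lit 2, nat_lit 1, nat_lit 1, nat_lit 2, nat_lit 0, nat_lit 3, nat_lit 2, nat_lit 1, nat_lit 2, nat_lit 1, nat_lit 3, nat_lit 2],
  [nat_lit 1, nat_lit 1],
  [],
  [nat_lit 6],
  [],
  [nat_lit 7],
  [nat_lit 8],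
  [],
  [],
  [],
  [nat_lit 12],
  [nat_lit 2, nat_lit 3, nat_lit 1, nat_lit 2, nat_lit 1, nat_lit 1, nat_lit 2, nat_lit 0, nat_lit 2, nat_lit 1, nat_lit 2, nat_lit 3, nat_lit 2, nat_lit 1, nat_lit 2, nat_lit 0, nat_lit 2, nat_lit 1, nat_lit 3, nat_lit 2, nat_lit 0],
  [nat_lit 17],
  [nat_lit 15, nat_lit 8]] ∧
    allB (fun p => eqK κ p.1 (fl [[nat_lit 18],
  [nat_lit 16],
  [nat_lit 14],
  [nat_lit 5],
  [nat_lit 8],
  [nat_lit 12],
  [nat_lit 15]] p.2.2) && eqK κ p.2.1 (fl [[nat_lit 16],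
  [nat_lit 18],
  [nat_lit 17],
  [nat_lit 6],
  [nat_lit 8],
  [nat_lit 12],
  [nat_lit 15, nat_lit 8]] p.2.2)) ch_L = true := by decide +kernel
theorem tUV : tU = [[nat_lit 0],
  [nat_lit 1],
  [nat_lit 2],
  [nat_lit 3],
  [],
  [nat_lit 5],
  [],
  [nat_lit 7],
  [nat_lit 8],
  [],
  [],
  [],
  [nat_lit 12],
  [nat_lit 13],
  [nat_lit 14],
  [nat_lit 15]] ∧ tV = [[nat_lit 2, nat_lit 3, nat_lit 1, nat_lit 1, nat_lit 2, nat_lit 1, nat_lit 1, nat_lit 2, nat_lit 1, nat_lit 2, nat_lit 1, nat_lit 1, nat_lit 2, nat_lit 1, nat_lit 1, nat_lit 3, nat_lit 2],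
  [nat_lit 2, nat_lit 3, nat_lit 1, nat_lit 1, nat_lit 2, nat_lit 1, nat_lit 1, nat_lit 2, nat_lit 0, nat_lit 2, nat_lit 1, nat_lit 1, nat_lit 2, nat_lit 1, nat_lit 1, nat_lit 3, nat_lit 2],
  [nat_lit 1, nat_lit 2, nat_lit 3, nat_lit 0, nat_lit 2, nat_lit 1, nat_lit 1, nat_lit 2, nat_lit 0, nat_lit 3, nat_lit 2, nat_lit 1, nat_lit 2, nat_lit 1, nat_lit 3, nat_lit 2],
  [nat_lit 1, nat_lit 1],
  [],
  [nat_lit 6],
  [],
  [nat_lit 7],
  [nat_lit 8],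
  [],
  [],
  [],
  [nat_lit 12],
  [nat_lit 2, nat_lit 3, nat_lit 1, nat_lit 2, nat_lit 1, nat_lit 1, nat_lit 2, nat_lit 0, nat_lit 2, nat_lit 1, nat_lit 2, nat_lit 3, nat_lit 2, nat_lit 1, nat_lit 2, nat_lit 0, nat_lit 2, nat_lit 1, nat_lit 3, nat_lit 2, nat_lit 0],
  [nat_lit 17],
  [nat_lit 15, nat_lit 8]] := by decide +kernel
theorem z : subK (fun W => cjAll κ W [[nat_lit 0],
  [nat_lit 1],
  [nat_lit 2],
  [nat_lit 3]] [[nat_lit 0],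
  [nat_lit 1],
  [nat_lit 2],
  [nat_lit 3]]) d_W z_W = true := by decide +kernel
theorem c0_4 : allB (fun i => Nat.blt (tb c0_T 4 i) 13 && eqK κ (nth [] c0_P i) (fl [[nat_lit 18],
  [nat_lit 16],
  [nat_lit 14],
  [nat_lit 5],
  [nat_lit 8],
  [nat_lit 12],
  [nat_lit 15]] (nth [] c0_J4 i)) &&
    eqK κ (nth [] c0_P (tb c0_T 4 i)) (fl [[nat_lit 16],
  [nat_lit 18],
  [nat_lit 17],
  [nat_lit 6],
  [nat_lit 8],
  [nat_lit 12],
  [nat_lit 15, nat_lit 8]] (nth [] c0_J4 i))) (List.range 13) = true := by decide +kernel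
theorem c0i : ltAll 13 [nat_lit 1, nat_lit 8, nat_lit 4, nat_lit 5, nat_lit 6, nat_lit 7] = 0 ∧ ltAll 13 [nat_lit 0, nat_lit 1, nat_lit 2, nat_lit 3] = 0 ∧ List.map (nth [] c0_P) [nat_lit 1, nat_lit 8, nat_lit 4, nat_lit 5, nat_lit 6, nat_lit 7] = [[nat_lit 5],
  [nat_lit 8],
  [nat_lit 0],
  [nat_lit 1],
  [nat_lit 2],
  [nat_lit 3]] ∧ List.map (nth [] c0_P) [nat_lit 0, nat_lit 1, nat_lit 2, nat_lit 3] = [[nat_lit 5, nat_lit 5, nat_lit 5],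
  [nat_lit 5],
  [],
  [nat_lit 5, nat_lit 5]] := by decide +kernel
theorem sq : powK κ c0_P c0_T [nat_lit 4] [nat_lit 1, nat_lit 8, nat_lit 4, nat_lit 5, nat_lit 6, nat_lit 7] [nat_lit 0, nat_lit 1, nat_lit 2, nat_lit 3] [[],
  [nat_lit 7]] [nat_lit 4] 2 = true := by decide +kernel
theorem sq2 : allB (fun W => eqK κ (fl tU W) W && allB (fun C =>
      eqK κ C [] || !eqK κ (app W (fl tV W)) C) [[], [7]]) v_W = true := by decide +kernel
theorem rc : allB (fun r => allB (fun j => Nat.beq j 4 || eqK κ (nth [] tU j) [j]) r &&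
      !mem (pu 4 tV r false) 4 && eqK κ (pu 4 tV r false) []) (Rc ++ [fl Wc fW ++ [7], fl Wc aW ++ [8]]) = true := by decide +kernel
theorem wc : allL (ltAll 5) Wc = true ∧ allL (ltAll 4) Vc = true := by decide +kernel

theorem md {G : Type*} [Group G] (e : gen H1.OnB.g 4 ≃* G) :
    ∃ (_ : MulAction G (Fin 224)) (g : ℕ → G), Md g (ptF 224) H1.OnB.P 224 4 H1.OnB.B 80640 ∧
      ∀ k < 4, (e.symm (g k)).1 = H1.OnB.g k :=
  exists_md H1.OnB.act (ptF_inj 224) H1.OnB.card H1.OnB.isBase md_b e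
theorem a_m : ∀ k < 23, ∀ i < 224, (matEnt (wdsP H1.OnB.P a_W) a_P) k i = 0 := allZ2_sound a_m_a
theorem a_act {G Ω : Type*} [Group G] [MulAction G Ω] {g : ℕ → G} {pt : ℕ → Ω}
    (M : Md g pt H1.OnB.P 224 4 H1.OnB.B 80640) : H16.Act (wds g a_W) pt a_P 224 23 :=
  act_mat (M.wact a_lt) a_m
theorem p2t_act {G Ω : Type*} [Group G] [MulAction G Ω] {g : ℕ → G} {pt : ℕ → Ω}
    (M : Md g pt H1.OnB.P 224 4 H1.OnB.B 80640) : H16.Act (wds g p2t_W) pt p2t_P 224 8 :=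
  M.wact p2t_lt
theorem p2_r : ∀ k < 8, ∀ i < 96, (resEnt p2t_P p2P p2E p2I (nat_lit 224) (nat_lit 96)) k i = 0 := allZ2_sound p2_r_a
theorem p2_sm {G Ω : Type*} [Group G] [MulAction G Ω] {g : ℕ → G} {pt : ℕ → Ω}
    (M : Md g pt H1.OnB.P 224 4 H1.OnB.B 80640) : Sm (wds g p2t_W) (fun i => pt (p2E i)) p2P 96 8 p2B ∧ ∀ i < 96, p2E i < 224 :=
  M.res (p2t_act M) (by decide) p2_r p2_b
theorem p2l0_e : ∀ i < 63, (dent p2l0 (wdsP p2P p2e) (nat_lit 96)) i = 0 := allZ_sound0 p2l0_e_0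
theorem p2l0_ok : DOK p2l0 (wdsP p2P p2e) 96 := ⟨p2l0_h, p2l0_e⟩
theorem p2l1_e : ∀ i < 1, (dent p2l1 (wdsP p2P p2e) (nat_lit 96)) i = 0 := allZ_sound0 p2l1_e_0
theorem p2l1_ok : DOK p2l1 (wdsP p2P p2e) 96 := ⟨p2l1_h, p2l1_e⟩
theorem p2l2_e : ∀ i < 1, (dent p2l2 (wdsP p2P p2e) (nat_lit 96)) i = 0 := allZ_sound0 p2l2_e_0
theorem p2l2_ok : DOK p2l2 (wdsP p2P p2e) 96 := ⟨p2l2_h, p2l2_e⟩
theorem p2_low {G Ω : Type*} [Group G] [MulAction G Ω] {g : ℕ → G} {pt : ℕ → Ω}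
    (M : Md g pt H1.OnB.P 224 4 H1.OnB.B 80640) : SLow (gi (wds (wds g p2t_W) p2e)) (fun i => pt (p2E i)) 96 [p2l0, p2l1, p2l2] :=
  (((SLow.nil).cons p2l2_ok ((p2_sm M).1.act.wds p2_e 11) p2_f2).cons p2l1_ok ((p2_sm M).1.act.wds p2_e 11) p2_f1).cons p2l0_ok ((p2_sm M).1.act.wds p2_e 11) p2_f0
theorem p2_pc {G Ω : Type*} [Group G] [MulAction G Ω] {g : ℕ → G} {pt : ℕ → Ω}
    (M : Md g pt H1.OnB.P 224 4 H1.OnB.B 80640) : PC (wds g p2t_W) 8 2 :=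
  have := M.fin
  ((p2_sm M).1.pc0 (by decide) p2_p).pc (p2_low M) (p2_sm M).1.inj
    (fun k => evA_mem_gen _ (nth_lt p2_e k)) M.card ⟨by decide, p2_c⟩
theorem covr_act {G Ω : Type*} [Group G] [MulAction G Ω] {g : ℕ → G} {pt : ℕ → Ω}
    (M : Md g pt H1.OnB.P 224 4 H1.OnB.B 80640) : H16.Act (wds g covr_W) pt covr_P 224 2 :=
  M.wact covr_lt
theorem cov_0 {G Ω : Type*} [Group G] [MulAction G Ω] {g : ℕ → G} {pt : ℕ → Ω}
    (M : Md g pt H1.OnB.P 224 4 H1.OnB.B 80640) : Cov (wds g p2t_W) (wds g covr_W) 2 2 8 (evA (wds g p2t_W) []) :=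
  have := M.fin
  covT0.cov M (p2_sm M).1 (p2_sm M).2 (covr_act M) (p2_pc M) _ _ cov_c0
theorem cov {G Ω : Type*} [Group G] [MulAction G Ω] {g : ℕ → G} {pt : ℕ → Ω}
    (M : Md g pt H1.OnB.P 224 4 H1.OnB.B 80640) {y : G} {e : ℕ} (hy : y ^ 2 ^ e = 1) (hq : y ^ 2 = 1) : Good (wds g covr_W) 2 y :=
  have := M.fin
  Cov.all (p2_pc M) (cov_0 M) hy hq
theorem x_act {G Ω : Type*} [Group G] [MulAction G Ω] {g : ℕ → G} {pt : ℕ → Ω}
    (M : Md g pt H1.OnB.P 224 4 H1.OnB.B 80640) : H16.Act (wds g x_W) pt x_P 224 1 :=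
  M.wact x_lt
theorem txh_act {G Ω : Type*} [Group G] [MulAction G Ω] {g : ℕ → G} {pt : ℕ → Ω}
    (M : Md g pt H1.OnB.P 224 4 H1.OnB.B 80640) : H16.Act (wds g txh_W) pt txh_P 224 8 :=
  M.wact txh_lt
theorem txl0_e : ∀ i < 223, (dent txl0 txh_P (nat_lit 224)) i = 0 := allZ_sound0 txl0_e_0
theorem txl0_ok : DOK txl0 txh_P 224 := ⟨txl0_h, txl0_e⟩
theorem txl1_e : ∀ i < 9, (dent txl1 txh_P (nat_lit 224)) i = 0 := allZ_sound0 txl1_e_0
theorem txl1_ok : DOK txl1 txh_P 224 := ⟨txl1_h, txl1_e⟩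
theorem txl2_e : ∀ i < 8, (dent txl2 txh_P (nat_lit 224)) i = 0 := allZ_sound0 txl2_e_0
theorem txl2_ok : DOK txl2 txh_P 224 := ⟨txl2_h, txl2_e⟩
theorem txl3_e : ∀ i < 3, (dent txl3 txh_P (nat_lit 224)) i = 0 := allZ_sound0 txl3_e_0
theorem txl3_ok : DOK txl3 txh_P 224 := ⟨txl3_h, txl3_e⟩
theorem tx_low {G Ω : Type*} [Group G] [MulAction G Ω] {g : ℕ → G} {pt : ℕ → Ω}
    (M : Md g pt H1.OnB.P 224 4 H1.OnB.B 80640) : SLow (gi (wds g txh_W)) pt 224 [txl0, txl1, txl2, txl3] :=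
  ((((SLow.nil).cons txl3_ok (txh_act M) tx_f3).cons txl2_ok (txh_act M) tx_f2).cons txl1_ok (txh_act M) tx_f1).cons txl0_ok (txh_act M) tx_f0
theorem tx_S0 {G Ω : Type*} [Group G] [MulAction G Ω] {g : ℕ → G} {pt : ℕ → Ω}
    (M : Md g pt H1.OnB.P 224 4 H1.OnB.B 80640) : Stage ⊤ (wds g txh_W) pt 224 [txl0, txl1, txl2, txl3] [] :=
  M.stage (tx_low M) tx_c
theorem tx_S1 {G Ω : Type*} [Group G] [MulAction G Ω] {g : ℕ → G} {pt : ℕ → Ω}
    (M : Md g pt H1.OnB.P 224 4 H1.OnB.B 80640) : Stage ⊤ (wds g txh_W) pt 224 [txl1, txl2, txl3] [txl0.Pt 0] :=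
  (tx_S0 M).next
theorem tx_S2 {G Ω : Type*} [Group G] [MulAction G Ω] {g : ℕ → G} {pt : ℕ → Ω}
    (M : Md g pt H1.OnB.P 224 4 H1.OnB.B 80640) : Stage ⊤ (wds g txh_W) pt 224 [txl2, txl3] [txl1.Pt 0, txl0.Pt 0] :=
  (tx_S1 M).next
theorem tx_S3 {G Ω : Type*} [Group G] [MulAction G Ω] {g : ℕ → G} {pt : ℕ → Ω}
    (M : Md g pt H1.OnB.P 224 4 H1.OnB.B 80640) : Stage ⊤ (wds g txh_W) pt 224 [txl3] [txl2.Pt 0, txl1.Pt 0, txl0.Pt 0] :=
  (tx_S2 M).next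
theorem tx_S4 {G Ω : Type*} [Group G] [MulAction G Ω] {g : ℕ → G} {pt : ℕ → Ω}
    (M : Md g pt H1.OnB.P 224 4 H1.OnB.B 80640) : Stage ⊤ (wds g txh_W) pt 224 [] [txl3.Pt 0, txl2.Pt 0, txl1.Pt 0, txl0.Pt 0] :=
  (tx_S3 M).next
theorem cxe_act {G Ω : Type*} [Group G] [MulAction G Ω] {g : ℕ → G} {pt : ℕ → Ω}
    (M : Md g pt H1.OnB.P 224 4 H1.OnB.B 80640) : H16.Act (wds g cxe_W) pt cxe_P 224 5 :=
  M.wact cxe_lt
theorem cxc3_e : ∀ i < 1, (dent cxc3 cxe_P (nat_lit 224)) i = 0 := allZ_sound0 cxc3_e_0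
theorem cxc3_ok : DOK cxc3 cxe_P 224 := ⟨cxc3_h, cxc3_e⟩
theorem txn0_1 : ∀ i < 4, (txn0.ent H1.OnB.P txh_P x_P x_P cxe_P (nat_lit 4) (nat_lit 1) H1.OnB.B txl3 [] (memO cxc3)) i = 0 := allZ_sound0 txn0_1_0
theorem txn0_t {G Ω : Type*} [Group G] [MulAction G Ω] {g : ℕ → G} {pt : ℕ → Ω}
    (M : Md g pt H1.OnB.P 224 4 H1.OnB.B 80640) : TrO (gen (wds g txh_W) txl3.K) (wds g x_W) (wds g x_W) 1 pt 224 (txl3.Pt 0) (memO cxc3) :=
  node M (tx_S3 M) (txh_act M) (x_act M) (x_act M) txn0 ((cxe_act M).mono (by decide)) (fun _ _ => trivial) txn0_0 txn0_1 (List.forall_mem_nil _)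
theorem cxc1_e : ∀ i < 3, (dent cxc1 cxe_P (nat_lit 224)) i = 0 := allZ_sound0 cxc1_e_0
theorem cxc1_ok : DOK cxc1 cxe_P 224 := ⟨cxc1_h, cxc1_e⟩
theorem txn1y102_act {G Ω : Type*} [Group G] [MulAction G Ω] {g : ℕ → G} {pt : ℕ → Ω}
    (M : Md g pt H1.OnB.P 224 4 H1.OnB.B 80640) : H16.Act (wds g txn1y102_W) pt txn1y102_P 224 1 :=
  M.wact txn1y102_lt
theorem txr2k_act {G Ω : Type*} [Group G] [MulAction G Ω] {g : ℕ → G} {pt : ℕ → Ω}
    (M : Md g pt H1.OnB.P 224 4 H1.OnB.B 80640) : H16.Act (wds g txr2k_W) pt txr2k_P 224 2 :=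
  M.wact txr2k_lt
theorem txn2_1 : ∀ i < 4, (txn2.ent H1.OnB.P txh_P x_P txn1y102_P txr2k_P (nat_lit 4) (nat_lit 1) H1.OnB.B txl3 [] (fun _ => nat_lit 1)) i = 0 := allZ_sound0 txn2_1_0
theorem txn2_t {G Ω : Type*} [Group G] [MulAction G Ω] {g : ℕ → G} {pt : ℕ → Ω}
    (M : Md g pt H1.OnB.P 224 4 H1.OnB.B 80640) : TrO (gen (wds g txh_W) txl3.K) (wds g x_W) (wds g txn1y102_W) 1 pt 224 (txl3.Pt 0) (fun _ => nat_lit 1) :=
  node M (tx_S3 M) (txh_act M) (x_act M) (txn1y102_act M) txn2 ((txr2k_act M).mono (by decide)) (fun _ _ => trivial) txn2_0 txn2_1 (List.forall_mem_nil _)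
theorem txr2 {G Ω : Type*} [Group G] [MulAction G Ω] {g : ℕ → G} {pt : ℕ → Ω}
    (M : Md g pt H1.OnB.P 224 4 H1.OnB.B 80640) : Ref (gen (wds g txh_W) (topK [txl3])) (wds g x_W) (wds g txn1y102_W) 1 :=
  (txn2_t M).ref
theorem txn1_1 : ∀ i < 10, (txn1.ent H1.OnB.P txh_P x_P x_P cxe_P (nat_lit 4) (nat_lit 1) H1.OnB.B txl1 [txl2, txl3] (memO cxc1)) i = 0 := allZ_sound0 txn1_1_0
theorem txn1_t {G Ω : Type*} [Group G] [MulAction G Ω] {g : ℕ → G} {pt : ℕ → Ω}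
    (M : Md g pt H1.OnB.P 224 4 H1.OnB.B 80640) : TrO (gen (wds g txh_W) txl1.K) (wds g x_W) (wds g x_W) 1 pt 224 (txl1.Pt 0) (memO cxc1) :=
  node M (tx_S1 M) (txh_act M) (x_act M) (x_act M) txn1 ((cxe_act M).mono (by decide)) (fun _ _ => trivial) txn1_0 txn1_1 (List.forall_mem_cons.2 ⟨txr2 M, List.forall_mem_nil _⟩)
theorem cxc0_e : ∀ i < 15, (dent cxc0 cxe_P (nat_lit 224)) i = 0 := allZ_sound0 cxc0_e_0
theorem cxc0_ok : DOK cxc0 cxe_P 224 := ⟨cxc0_h, cxc0_e⟩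
theorem txn3_1 : ∀ i < 224, (txn3.ent H1.OnB.P txh_P x_P x_P cxe_P (nat_lit 4) (nat_lit 1) H1.OnB.B txl0 [txl1, txl2, txl3] (memO cxc0)) i = 0 := allZ_sound0 txn3_1_0
theorem txn3_t {G Ω : Type*} [Group G] [MulAction G Ω] {g : ℕ → G} {pt : ℕ → Ω}
    (M : Md g pt H1.OnB.P 224 4 H1.OnB.B 80640) : TrO (gen (wds g txh_W) txl0.K) (wds g x_W) (wds g x_W) 1 pt 224 (txl0.Pt 0) (memO cxc0) :=
  node M (tx_S0 M) (txh_act M) (x_act M) (x_act M) txn3 ((cxe_act M).mono (by decide)) (fun _ _ => trivial) txn3_0 txn3_1 (List.forall_mem_nil _)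
theorem cx {G Ω : Type*} [Group G] [MulAction G Ω] {g : ℕ → G} {pt : ℕ → Ω}
    (M : Md g pt H1.OnB.P 224 4 H1.OnB.B 80640) : Cen ⊤ (wds g x_W) 1 (wds g cxe_W) pt 224 [cxc0, cxc1, cxc3] :=
  (tx_S0 M).top ▸ Cen.lev M (tx_S0 M) (Cen.lev M (tx_S1 M) (Cen.triv (tx_S2 M) (Cen.lev M (tx_S3 M) (Cen.bot) (txn0_t M) (x_act M) (cxe_act M) (fun _ _ => trivial) cxc3_ok cx_f3) (forced (tx_S2 M) (txh_act M) (x_act M) _ _ cx_f2)) (txn1_t M) (x_act M) (cxe_act M) (fun _ _ => trivial) cxc1_ok cx_f1) (txn3_t M) (x_act M) (cxe_act M) (fun _ _ => trivial) cxc0_ok cx_f0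
theorem cx_card {G Ω : Type*} [Group G] [MulAction G Ω] {g : ℕ → G} {pt : ℕ → Ω}
    (M : Md g pt H1.OnB.P 224 4 H1.OnB.B 80640) : Nat.card (Subgroup.centralizer {(wds g x_W) 0}) = 128 :=
  (cx M).card_cent1 M.inj cx_c.1
theorem cx_eq {G Ω : Type*} [Group G] [MulAction G Ω] {g : ℕ → G} {pt : ℕ → Ω}
    (M : Md g pt H1.OnB.P 224 4 H1.OnB.B 80640) : Subgroup.centralizer (gen (wds g x_W) 1) = gen (wds g cxe_W) 5 ∧ Nat.card (gen (wds g cxe_W) 5) = 128 :=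
  cx_c.1 ▸ cx_c.2 ▸ ⟨(cx M).cent, (cx M).card M.inj⟩

end H1.Ob
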