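import Cfsg.Agent.H1.OnCd.C0
import Cfsg.Agent.H1.OnCd.C1
import Cfsg.Agent.H1.OnCd.C2

/-! Generated by tools/h0/tr.py. -/

set_option maxRecDepth 100000
set_option maxHeartbeats 0

namespace H1.Oc
open H16 H0.TR
open scoped Pointwise

open H1.Am

theorem md {G : Type*} [Group G] (e : gen H1.OnC.g 4 ≃* G) :
    ∃ (_ : MulAction G (Fin 448)) (g : ℕ → G), Md g (ptF 448) H1.OnC.P 448 4 H1.OnC.B 161280 ∧
      ∀ k < 4, (e.symm (g k)).1 = H1.OnC.g k :=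
  exists_md H1.OnC.act (ptF_inj 448) H1.OnC.card H1.OnC.isBase md_b e
theorem a_m : ∀ k < 27, ∀ i < 448, (matEnt (wdsP H1.OnC.P a_W) a_P) k i = 0 := allZ2_sound a_m_a
theorem a_act {G Ω : Type*} [Group G] [MulAction G Ω] {g : ℕ → G} {pt : ℕ → Ω}
    (M : Md g pt H1.OnC.P 448 4 H1.OnC.B 161280) : H16.Act (wds g a_W) pt a_P 448 27 :=
  act_mat (M.wact a_lt) a_m
theorem p2t_act {G Ω : Type*} [Group G] [MulAction G Ω] {g : ℕ → G} {pt : ℕ → Ω}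
    (M : Md g pt H1.OnC.P 448 4 H1.OnC.B 161280) : H16.Act (wds g p2t_W) pt p2t_P 448 9 :=
  M.wact p2t_lt
theorem p2_r : ∀ k < 9, ∀ i < 320, (resEnt p2t_P p2P p2E p2I (nat_lit 448) (nat_lit 320)) k i = 0 := allZ2_sound p2_r_a
theorem p2_sm {G Ω : Type*} [Group G] [MulAction G Ω] {g : ℕ → G} {pt : ℕ → Ω}
    (M : Md g pt H1.OnC.P 448 4 H1.OnC.B 161280) : Sm (wds g p2t_W) (fun i => pt (p2E i)) p2P 320 9 p2B ∧ ∀ i < 320, p2E i < 448 :=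
  M.res (p2t_act M) (by decide) p2_r p2_b
theorem p2l0_e : ∀ i < 63, (dent p2l0 (wdsP p2P p2e) (nat_lit 320)) i = 0 := allZ_sound0 p2l0_e_0
theorem p2l0_ok : DOK p2l0 (wdsP p2P p2e) 320 := ⟨p2l0_h, p2l0_e⟩
theorem p2l1_e : ∀ i < 1, (dent p2l1 (wdsP p2P p2e) (nat_lit 320)) i = 0 := allZ_sound0 p2l1_e_0
theorem p2l1_ok : DOK p2l1 (wdsP p2P p2e) 320 := ⟨p2l1_h, p2l1_e⟩
theorem p2l2_e : ∀ i < 3, (dent p2l2 (wdsP p2P p2e) (nat_lit 320)) i = 0 := allZ_sound0 p2l2_e_0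
theorem p2l2_ok : DOK p2l2 (wdsP p2P p2e) 320 := ⟨p2l2_h, p2l2_e⟩
theorem p2_low {G Ω : Type*} [Group G] [MulAction G Ω] {g : ℕ → G} {pt : ℕ → Ω}
    (M : Md g pt H1.OnC.P 448 4 H1.OnC.B 161280) : SLow (gi (wds (wds g p2t_W) p2e)) (fun i => pt (p2E i)) 320 [p2l0, p2l1, p2l2] :=
  (((SLow.nil).cons p2l2_ok ((p2_sm M).1.act.wds p2_e 16) p2_f2).cons p2l1_ok ((p2_sm M).1.act.wds p2_e 16) p2_f1).cons p2l0_ok ((p2_sm M).1.act.wds p2_e 16) p2_f0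
theorem p2_pc {G Ω : Type*} [Group G] [MulAction G Ω] {g : ℕ → G} {pt : ℕ → Ω}
    (M : Md g pt H1.OnC.P 448 4 H1.OnC.B 161280) : PC (wds g p2t_W) 9 2 :=
  have := M.fin
  ((p2_sm M).1.pc0 (by decide) p2_p).pc (p2_low M) (p2_sm M).1.inj
    (fun k => evA_mem_gen _ (nth_lt p2_e k)) M.card ⟨by decide, p2_c⟩
theorem covr_act {G Ω : Type*} [Group G] [MulAction G Ω] {g : ℕ → G} {pt : ℕ → Ω}
    (M : Md g pt H1.OnC.P 448 4 H1.OnC.B 161280) : H16.Act (wds g covr_W) pt covr_P 448 3 :=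
  M.wact covr_lt
theorem cov_0 {G Ω : Type*} [Group G] [MulAction G Ω] {g : ℕ → G} {pt : ℕ → Ω}
    (M : Md g pt H1.OnC.P 448 4 H1.OnC.B 161280) : Cov (wds g p2t_W) (wds g covr_W) 2 3 9 (evA (wds g p2t_W) []) :=
  have := M.fin
  covT0.cov M (p2_sm M).1 (p2_sm M).2 (covr_act M) (p2_pc M) _ _ cov_c0
theorem cov {G Ω : Type*} [Group G] [MulAction G Ω] {g : ℕ → G} {pt : ℕ → Ω}
    (M : Md g pt H1.OnC.P 448 4 H1.OnC.B 161280) {y : G} {e : ℕ} (hy : y ^ 2 ^ e = 1) (hq : y ^ 2 = 1) : Good (wds g covr_W) 3 y :=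
  have := M.fin
  Cov.all (p2_pc M) (cov_0 M) hy hq
theorem x_act {G Ω : Type*} [Group G] [MulAction G Ω] {g : ℕ → G} {pt : ℕ → Ω}
    (M : Md g pt H1.OnC.P 448 4 H1.OnC.B 161280) : H16.Act (wds g x_W) pt x_P 448 1 :=
  M.wact x_lt
theorem txh_act {G Ω : Type*} [Group G] [MulAction G Ω] {g : ℕ → G} {pt : ℕ → Ω}
    (M : Md g pt H1.OnC.P 448 4 H1.OnC.B 161280) : H16.Act (wds g txh_W) pt txh_P 448 8 :=
  M.wact txh_lt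
theorem txl0_e : ∀ i < 447, (dent txl0 txh_P (nat_lit 448)) i = 0 := allZ_sound0 txl0_e_0
theorem txl0_ok : DOK txl0 txh_P 448 := ⟨txl0_h, txl0_e⟩
theorem txl1_e : ∀ i < 9, (dent txl1 txh_P (nat_lit 448)) i = 0 := allZ_sound0 txl1_e_0
theorem txl1_ok : DOK txl1 txh_P 448 := ⟨txl1_h, txl1_e⟩
theorem txl2_e : ∀ i < 8, (dent txl2 txh_P (nat_lit 448)) i = 0 := allZ_sound0 txl2_e_0
theorem txl2_ok : DOK txl2 txh_P 448 := ⟨txl2_h, txl2_e⟩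
theorem txl3_e : ∀ i < 3, (dent txl3 txh_P (nat_lit 448)) i = 0 := allZ_sound0 txl3_e_0
theorem txl3_ok : DOK txl3 txh_P 448 := ⟨txl3_h, txl3_e⟩
theorem tx_low {G Ω : Type*} [Group G] [MulAction G Ω] {g : ℕ → G} {pt : ℕ → Ω}
    (M : Md g pt H1.OnC.P 448 4 H1.OnC.B 161280) : SLow (gi (wds g txh_W)) pt 448 [txl0, txl1, txl2, txl3] :=
  ((((SLow.nil).cons txl3_ok (txh_act M) tx_f3).cons txl2_ok (txh_act M) tx_f2).cons txl1_ok (txh_act M) tx_f1).cons txl0_ok (txh_act M) tx_f0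
theorem tx_S0 {G Ω : Type*} [Group G] [MulAction G Ω] {g : ℕ → G} {pt : ℕ → Ω}
    (M : Md g pt H1.OnC.P 448 4 H1.OnC.B 161280) : Stage ⊤ (wds g txh_W) pt 448 [txl0, txl1, txl2, txl3] [] :=
  M.stage (tx_low M) tx_c
theorem tx_S1 {G Ω : Type*} [Group G] [MulAction G Ω] {g : ℕ → G} {pt : ℕ → Ω}
    (M : Md g pt H1.OnC.P 448 4 H1.OnC.B 161280) : Stage ⊤ (wds g txh_W) pt 448 [txl1, txl2, txl3] [txl0.Pt 0] :=
  (tx_S0 M).next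
theorem tx_S2 {G Ω : Type*} [Group G] [MulAction G Ω] {g : ℕ → G} {pt : ℕ → Ω}
    (M : Md g pt H1.OnC.P 448 4 H1.OnC.B 161280) : Stage ⊤ (wds g txh_W) pt 448 [txl2, txl3] [txl1.Pt 0, txl0.Pt 0] :=
  (tx_S1 M).next
theorem tx_S3 {G Ω : Type*} [Group G] [MulAction G Ω] {g : ℕ → G} {pt : ℕ → Ω}
    (M : Md g pt H1.OnC.P 448 4 H1.OnC.B 161280) : Stage ⊤ (wds g txh_W) pt 448 [txl3] [txl2.Pt 0, txl1.Pt 0, txl0.Pt 0] :=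
  (tx_S2 M).next
theorem tx_S4 {G Ω : Type*} [Group G] [MulAction G Ω] {g : ℕ → G} {pt : ℕ → Ω}
    (M : Md g pt H1.OnC.P 448 4 H1.OnC.B 161280) : Stage ⊤ (wds g txh_W) pt 448 [] [txl3.Pt 0, txl2.Pt 0, txl1.Pt 0, txl0.Pt 0] :=
  (tx_S3 M).next
theorem cxe_act {G Ω : Type*} [Group G] [MulAction G Ω] {g : ℕ → G} {pt : ℕ → Ω}
    (M : Md g pt H1.OnC.P 448 4 H1.OnC.B 161280) : H16.Act (wds g cxe_W) pt cxe_P 448 4 :=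
  M.wact cxe_lt
theorem cxc3_e : ∀ i < 1, (dent cxc3 cxe_P (nat_lit 448)) i = 0 := allZ_sound0 cxc3_e_0
theorem cxc3_ok : DOK cxc3 cxe_P 448 := ⟨cxc3_h, cxc3_e⟩
theorem txn0_1 : ∀ i < 4, (txn0.ent H1.OnC.P txh_P x_P x_P cxe_P (nat_lit 4) (nat_lit 1) H1.OnC.B txl3 [] (memO cxc3)) i = 0 := allZ_sound0 txn0_1_0
theorem txn0_t {G Ω : Type*} [Group G] [MulAction G Ω] {g : ℕ → G} {pt : ℕ → Ω}
    (M : Md g pt H1.OnC.P 448 4 H1.OnC.B 161280) : TrO (gen (wds g txh_W) txl3.K) (wds g x_W) (wds g x_W) 1 pt 448 (txl3.Pt 0) (memO cxc3) :=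
  node M (tx_S3 M) (txh_act M) (x_act M) (x_act M) txn0 ((cxe_act M).mono (by decide)) (fun _ _ => trivial) txn0_0 txn0_1 (List.forall_mem_nil _)
theorem cxc1_e : ∀ i < 3, (dent cxc1 cxe_P (nat_lit 448)) i = 0 := allZ_sound0 cxc1_e_0
theorem cxc1_ok : DOK cxc1 cxe_P 448 := ⟨cxc1_h, cxc1_e⟩
theorem txn1y208_act {G Ω : Type*} [Group G] [MulAction G Ω] {g : ℕ → G} {pt : ℕ → Ω}
    (M : Md g pt H1.OnC.P 448 4 H1.OnC.B 161280) : H16.Act (wds g txn1y208_W) pt txn1y208_P 448 1 :=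
  M.wact txn1y208_lt
theorem txr2k_act {G Ω : Type*} [Group G] [MulAction G Ω] {g : ℕ → G} {pt : ℕ → Ω}
    (M : Md g pt H1.OnC.P 448 4 H1.OnC.B 161280) : H16.Act (wds g txr2k_W) pt txr2k_P 448 2 :=
  M.wact txr2k_lt
theorem txn2_1 : ∀ i < 4, (txn2.ent H1.OnC.P txh_P x_P txn1y208_P txr2k_P (nat_lit 4) (nat_lit 1) H1.OnC.B txl3 [] (fun _ => nat_lit 1)) i = 0 := allZ_sound0 txn2_1_0
theorem txn2_t {G Ω : Type*} [Group G] [MulAction G Ω] {g : ℕ → G} {pt : ℕ → Ω}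
    (M : Md g pt H1.OnC.P 448 4 H1.OnC.B 161280) : TrO (gen (wds g txh_W) txl3.K) (wds g x_W) (wds g txn1y208_W) 1 pt 448 (txl3.Pt 0) (fun _ => nat_lit 1) :=
  node M (tx_S3 M) (txh_act M) (x_act M) (txn1y208_act M) txn2 ((txr2k_act M).mono (by decide)) (fun _ _ => trivial) txn2_0 txn2_1 (List.forall_mem_nil _)
theorem txr2 {G Ω : Type*} [Group G] [MulAction G Ω] {g : ℕ → G} {pt : ℕ → Ω}
    (M : Md g pt H1.OnC.P 448 4 H1.OnC.B 161280) : Ref (gen (wds g txh_W) (topK [txl3])) (wds g x_W) (wds g txn1y208_W) 1 :=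
  (txn2_t M).ref
theorem txn1_1 : ∀ i < 10, (txn1.ent H1.OnC.P txh_P x_P x_P cxe_P (nat_lit 4) (nat_lit 1) H1.OnC.B txl1 [txl2, txl3] (memO cxc1)) i = 0 := allZ_sound0 txn1_1_0
theorem txn1_t {G Ω : Type*} [Group G] [MulAction G Ω] {g : ℕ → G} {pt : ℕ → Ω}
    (M : Md g pt H1.OnC.P 448 4 H1.OnC.B 161280) : TrO (gen (wds g txh_W) txl1.K) (wds g x_W) (wds g x_W) 1 pt 448 (txl1.Pt 0) (memO cxc1) :=
  node M (tx_S1 M) (txh_act M) (x_act M) (x_act M) txn1 ((cxe_act M).mono (by decide)) (fun _ _ => trivial) txn1_0 txn1_1 (List.forall_mem_cons.2 ⟨txr2 M, List.forall_mem_nil _⟩)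
theorem cxc0_e : ∀ i < 31, (dent cxc0 cxe_P (nat_lit 448)) i = 0 := allZ_sound0 cxc0_e_0
theorem cxc0_ok : DOK cxc0 cxe_P 448 := ⟨cxc0_h, cxc0_e⟩
theorem txn3_1 : ∀ i < 448, (txn3.ent H1.OnC.P txh_P x_P x_P cxe_P (nat_lit 4) (nat_lit 1) H1.OnC.B txl0 [txl1, txl2, txl3] (memO cxc0)) i = 0 := allZ_sound0 txn3_1_0
theorem txn3_t {G Ω : Type*} [Group G] [MulAction G Ω] {g : ℕ → G} {pt : ℕ → Ω}
    (M : Md g pt H1.OnC.P 448 4 H1.OnC.B 161280) : TrO (gen (wds g txh_W) txl0.K) (wds g x_W) (wds g x_W) 1 pt 448 (txl0.Pt 0) (memO cxc0) :=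
  node M (tx_S0 M) (txh_act M) (x_act M) (x_act M) txn3 ((cxe_act M).mono (by decide)) (fun _ _ => trivial) txn3_0 txn3_1 (List.forall_mem_nil _)
theorem cx {G Ω : Type*} [Group G] [MulAction G Ω] {g : ℕ → G} {pt : ℕ → Ω}
    (M : Md g pt H1.OnC.P 448 4 H1.OnC.B 161280) : Cen ⊤ (wds g x_W) 1 (wds g cxe_W) pt 448 [cxc0, cxc1, cxc3] :=
  (tx_S0 M).top ▸ Cen.lev M (tx_S0 M) (Cen.lev M (tx_S1 M) (Cen.triv (tx_S2 M) (Cen.lev M (tx_S3 M) (Cen.bot) (txn0_t M) (x_act M) (cxe_act M) (fun _ _ => trivial) cxc3_ok cx_f3) (forced (tx_S2 M) (txh_act M) (x_act M) _ _ cx_f2)) (txn1_t M) (x_act M) (cxe_act M) (fun _ _ => trivial) cxc1_ok cx_f1) (txn3_t M) (x_act M) (cxe_act M) (fun _ _ => trivial) cxc0_ok cx_f0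
theorem cx_card {G Ω : Type*} [Group G] [MulAction G Ω] {g : ℕ → G} {pt : ℕ → Ω}
    (M : Md g pt H1.OnC.P 448 4 H1.OnC.B 161280) : Nat.card (Subgroup.centralizer {(wds g x_W) 0}) = 256 :=
  (cx M).card_cent1 M.inj cx_c.1
theorem cx_eq {G Ω : Type*} [Group G] [MulAction G Ω] {g : ℕ → G} {pt : ℕ → Ω}
    (M : Md g pt H1.OnC.P 448 4 H1.OnC.B 161280) : Subgroup.centralizer (gen (wds g x_W) 1) = gen (wds g cxe_W) 4 ∧ Nat.card (gen (wds g cxe_W) 4) = 256 :=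
  cx_c.1 ▸ cx_c.2 ▸ ⟨(cx M).cent, (cx M).card M.inj⟩
theorem y_act {G Ω : Type*} [Group G] [MulAction G Ω] {g : ℕ → G} {pt : ℕ → Ω}
    (M : Md g pt H1.OnC.P 448 4 H1.OnC.B 161280) : H16.Act (wds g y_W) pt y_P 448 1 :=
  M.wact y_lt
theorem tyh_act {G Ω : Type*} [Group G] [MulAction G Ω] {g : ℕ → G} {pt : ℕ → Ω}
    (M : Md g pt H1.OnC.P 448 4 H1.OnC.B 161280) : H16.Act (wds g tyh_W) pt tyh_P 448 6 :=
  M.wact tyh_lt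
theorem tyl0_e : ∀ i < 447, (dent tyl0 tyh_P (nat_lit 448)) i = 0 := allZ_sound0 tyl0_e_0
theorem tyl0_ok : DOK tyl0 tyh_P 448 := ⟨tyl0_h, tyl0_e⟩
theorem tyl1_e : ∀ i < 89, (dent tyl1 tyh_P (nat_lit 448)) i = 0 := allZ_sound0 tyl1_e_0
theorem tyl1_ok : DOK tyl1 tyh_P 448 := ⟨tyl1_h, tyl1_e⟩
theorem tyl2_e : ∀ i < 3, (dent tyl2 tyh_P (nat_lit 448)) i = 0 := allZ_sound0 tyl2_e_0
theorem tyl2_ok : DOK tyl2 tyh_P 448 := ⟨tyl2_h, tyl2_e⟩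
theorem ty_low {G Ω : Type*} [Group G] [MulAction G Ω] {g : ℕ → G} {pt : ℕ → Ω}
    (M : Md g pt H1.OnC.P 448 4 H1.OnC.B 161280) : SLow (gi (wds g tyh_W)) pt 448 [tyl0, tyl1, tyl2] :=
  (((SLow.nil).cons tyl2_ok (tyh_act M) ty_f2).cons tyl1_ok (tyh_act M) ty_f1).cons tyl0_ok (tyh_act M) ty_f0
theorem ty_S0 {G Ω : Type*} [Group G] [MulAction G Ω] {g : ℕ → G} {pt : ℕ → Ω}
    (M : Md g pt H1.OnC.P 448 4 H1.OnC.B 161280) : Stage ⊤ (wds g tyh_W) pt 448 [tyl0, tyl1, tyl2] [] :=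
  M.stage (ty_low M) ty_c
theorem ty_S1 {G Ω : Type*} [Group G] [MulAction G Ω] {g : ℕ → G} {pt : ℕ → Ω}
    (M : Md g pt H1.OnC.P 448 4 H1.OnC.B 161280) : Stage ⊤ (wds g tyh_W) pt 448 [tyl1, tyl2] [tyl0.Pt 0] :=
  (ty_S0 M).next
theorem ty_S2 {G Ω : Type*} [Group G] [MulAction G Ω] {g : ℕ → G} {pt : ℕ → Ω}
    (M : Md g pt H1.OnC.P 448 4 H1.OnC.B 161280) : Stage ⊤ (wds g tyh_W) pt 448 [tyl2] [tyl1.Pt 0, tyl0.Pt 0] :=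
  (ty_S1 M).next
theorem ty_S3 {G Ω : Type*} [Group G] [MulAction G Ω] {g : ℕ → G} {pt : ℕ → Ω}
    (M : Md g pt H1.OnC.P 448 4 H1.OnC.B 161280) : Stage ⊤ (wds g tyh_W) pt 448 [] [tyl2.Pt 0, tyl1.Pt 0, tyl0.Pt 0] :=
  (ty_S2 M).next
theorem cye_act {G Ω : Type*} [Group G] [MulAction G Ω] {g : ℕ → G} {pt : ℕ → Ω}
    (M : Md g pt H1.OnC.P 448 4 H1.OnC.B 161280) : H16.Act (wds g cye_W) pt cye_P 448 5 :=
  M.wact cye_lt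
theorem cyc2_e : ∀ i < 1, (dent cyc2 cye_P (nat_lit 448)) i = 0 := allZ_sound0 cyc2_e_0
theorem cyc2_ok : DOK cyc2 cye_P 448 := ⟨cyc2_h, cyc2_e⟩
theorem tyn0_1 : ∀ i < 4, (tyn0.ent H1.OnC.P tyh_P y_P y_P cye_P (nat_lit 4) (nat_lit 1) H1.OnC.B tyl2 [] (memO cyc2)) i = 0 := allZ_sound0 tyn0_1_0
theorem tyn0_t {G Ω : Type*} [Group G] [MulAction G Ω] {g : ℕ → G} {pt : ℕ → Ω}
    (M : Md g pt H1.OnC.P 448 4 H1.OnC.B 161280) : TrO (gen (wds g tyh_W) tyl2.K) (wds g y_W) (wds g y_W) 1 pt 448 (tyl2.Pt 0) (memO cyc2) :=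
  node M (ty_S2 M) (tyh_act M) (y_act M) (y_act M) tyn0 ((cye_act M).mono (by decide)) (fun _ _ => trivial) tyn0_0 tyn0_1 (List.forall_mem_nil _)
theorem cyc0_e : ∀ i < 71, (dent cyc0 cye_P (nat_lit 448)) i = 0 := allZ_sound0 cyc0_e_0
theorem cyc0_ok : DOK cyc0 cye_P 448 := ⟨cyc0_h, cyc0_e⟩
theorem tyn1y260_act {G Ω : Type*} [Group G] [MulAction G Ω] {g : ℕ → G} {pt : ℕ → Ω}
    (M : Md g pt H1.OnC.P 448 4 H1.OnC.B 161280) : H16.Act (wds g tyn1y260_W) pt tyn1y260_P 448 1 :=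
  M.wact tyn1y260_lt
theorem tyr2k_act {G Ω : Type*} [Group G] [MulAction G Ω] {g : ℕ → G} {pt : ℕ → Ω}
    (M : Md g pt H1.OnC.P 448 4 H1.OnC.B 161280) : H16.Act (wds g tyr2k_W) pt tyr2k_P 448 2 :=
  M.wact tyr2k_lt
theorem tyn2_1 : ∀ i < 4, (tyn2.ent H1.OnC.P tyh_P y_P tyn1y260_P tyr2k_P (nat_lit 4) (nat_lit 1) H1.OnC.B tyl2 [] (fun _ => nat_lit 1)) i = 0 := allZ_sound0 tyn2_1_0
theorem tyn2_t {G Ω : Type*} [Group G] [MulAction G Ω] {g : ℕ → G} {pt : ℕ → Ω}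
    (M : Md g pt H1.OnC.P 448 4 H1.OnC.B 161280) : TrO (gen (wds g tyh_W) tyl2.K) (wds g y_W) (wds g tyn1y260_W) 1 pt 448 (tyl2.Pt 0) (fun _ => nat_lit 1) :=
  node M (ty_S2 M) (tyh_act M) (y_act M) (tyn1y260_act M) tyn2 ((tyr2k_act M).mono (by decide)) (fun _ _ => trivial) tyn2_0 tyn2_1 (List.forall_mem_nil _)
theorem tyr2 {G Ω : Type*} [Group G] [MulAction G Ω] {g : ℕ → G} {pt : ℕ → Ω}
    (M : Md g pt H1.OnC.P 448 4 H1.OnC.B 161280) : Ref (gen (wds g tyh_W) (topK [tyl2])) (wds g y_W) (wds g tyn1y260_W) 1 :=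
  (tyn2_t M).ref
theorem tyn1_1 : ∀ i < 448, (tyn1.ent H1.OnC.P tyh_P y_P y_P cye_P (nat_lit 4) (nat_lit 1) H1.OnC.B tyl0 [tyl1, tyl2] (memO cyc0)) i = 0 := allZ_sound0 tyn1_1_0
theorem tyn1_t {G Ω : Type*} [Group G] [MulAction G Ω] {g : ℕ → G} {pt : ℕ → Ω}
    (M : Md g pt H1.OnC.P 448 4 H1.OnC.B 161280) : TrO (gen (wds g tyh_W) tyl0.K) (wds g y_W) (wds g y_W) 1 pt 448 (tyl0.Pt 0) (memO cyc0) :=
  node M (ty_S0 M) (tyh_act M) (y_act M) (y_act M) tyn1 ((cye_act M).mono (by decide)) (fun _ _ => trivial) tyn1_0 tyn1_1 (List.forall_mem_cons.2 ⟨tyr2 M, List.forall_mem_nil _⟩)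
theorem cy {G Ω : Type*} [Group G] [MulAction G Ω] {g : ℕ → G} {pt : ℕ → Ω}
    (M : Md g pt H1.OnC.P 448 4 H1.OnC.B 161280) : Cen ⊤ (wds g y_W) 1 (wds g cye_W) pt 448 [cyc0, cyc2] :=
  (ty_S0 M).top ▸ Cen.lev M (ty_S0 M) (Cen.triv (ty_S1 M) (Cen.lev M (ty_S2 M) (Cen.bot) (tyn0_t M) (y_act M) (cye_act M) (fun _ _ => trivial) cyc2_ok cy_f2) (forced (ty_S1 M) (tyh_act M) (y_act M) _ _ cy_f1)) (tyn1_t M) (y_act M) (cye_act M) (fun _ _ => trivial) cyc0_ok cy_f0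
theorem cy_card {G Ω : Type*} [Group G] [MulAction G Ω] {g : ℕ → G} {pt : ℕ → Ω}
    (M : Md g pt H1.OnC.P 448 4 H1.OnC.B 161280) : Nat.card (Subgroup.centralizer {(wds g y_W) 0}) = 144 :=
  (cy M).card_cent1 M.inj cy_c.1
theorem cy_eq {G Ω : Type*} [Group G] [MulAction G Ω] {g : ℕ → G} {pt : ℕ → Ω}
    (M : Md g pt H1.OnC.P 448 4 H1.OnC.B 161280) : Subgroup.centralizer (gen (wds g y_W) 1) = gen (wds g cye_W) 5 ∧ Nat.card (gen (wds g cye_W) 5) = 144 :=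
  cy_c.1 ▸ cy_c.2 ▸ ⟨(cy M).cent, (cy M).card M.inj⟩
theorem z_act {G Ω : Type*} [Group G] [MulAction G Ω] {g : ℕ → G} {pt : ℕ → Ω}
    (M : Md g pt H1.OnC.P 448 4 H1.OnC.B 161280) : H16.Act (wds g z_W) pt z_P 448 1 :=
  M.wact z_lt
theorem tzh_act {G Ω : Type*} [Group G] [MulAction G Ω] {g : ℕ → G} {pt : ℕ → Ω}
    (M : Md g pt H1.OnC.P 448 4 H1.OnC.B 161280) : H16.Act (wds g tzh_W) pt tzh_P 448 6 :=
  M.wact tzh_lt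
theorem tzl0_e : ∀ i < 447, (dent tzl0 tzh_P (nat_lit 448)) i = 0 := allZ_sound0 tzl0_e_0
theorem tzl0_ok : DOK tzl0 tzh_P 448 := ⟨tzl0_h, tzl0_e⟩
theorem tzl1_e : ∀ i < 89, (dent tzl1 tzh_P (nat_lit 448)) i = 0 := allZ_sound0 tzl1_e_0
theorem tzl1_ok : DOK tzl1 tzh_P 448 := ⟨tzl1_h, tzl1_e⟩
theorem tzl2_e : ∀ i < 3, (dent tzl2 tzh_P (nat_lit 448)) i = 0 := allZ_sound0 tzl2_e_0
theorem tzl2_ok : DOK tzl2 tzh_P 448 := ⟨tzl2_h, tzl2_e⟩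
theorem tz_low {G Ω : Type*} [Group G] [MulAction G Ω] {g : ℕ → G} {pt : ℕ → Ω}
    (M : Md g pt H1.OnC.P 448 4 H1.OnC.B 161280) : SLow (gi (wds g tzh_W)) pt 448 [tzl0, tzl1, tzl2] :=
  (((SLow.nil).cons tzl2_ok (tzh_act M) tz_f2).cons tzl1_ok (tzh_act M) tz_f1).cons tzl0_ok (tzh_act M) tz_f0
theorem tz_S0 {G Ω : Type*} [Group G] [MulAction G Ω] {g : ℕ → G} {pt : ℕ → Ω}
    (M : Md g pt H1.OnC.P 448 4 H1.OnC.B 161280) : Stage ⊤ (wds g tzh_W) pt 448 [tzl0, tzl1, tzl2] [] :=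
  M.stage (tz_low M) tz_c
theorem tz_S1 {G Ω : Type*} [Group G] [MulAction G Ω] {g : ℕ → G} {pt : ℕ → Ω}
    (M : Md g pt H1.OnC.P 448 4 H1.OnC.B 161280) : Stage ⊤ (wds g tzh_W) pt 448 [tzl1, tzl2] [tzl0.Pt 0] :=
  (tz_S0 M).next
theorem tz_S2 {G Ω : Type*} [Group G] [MulAction G Ω] {g : ℕ → G} {pt : ℕ → Ω}
    (M : Md g pt H1.OnC.P 448 4 H1.OnC.B 161280) : Stage ⊤ (wds g tzh_W) pt 448 [tzl2] [tzl1.Pt 0, tzl0.Pt 0] :=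
  (tz_S1 M).next
theorem tz_S3 {G Ω : Type*} [Group G] [MulAction G Ω] {g : ℕ → G} {pt : ℕ → Ω}
    (M : Md g pt H1.OnC.P 448 4 H1.OnC.B 161280) : Stage ⊤ (wds g tzh_W) pt 448 [] [tzl2.Pt 0, tzl1.Pt 0, tzl0.Pt 0] :=
  (tz_S2 M).next
theorem cze_act {G Ω : Type*} [Group G] [MulAction G Ω] {g : ℕ → G} {pt : ℕ → Ω}
    (M : Md g pt H1.OnC.P 448 4 H1.OnC.B 161280) : H16.Act (wds g cze_W) pt cze_P 448 4 :=
  M.wact cze_lt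
theorem czc2_e : ∀ i < 1, (dent czc2 cze_P (nat_lit 448)) i = 0 := allZ_sound0 czc2_e_0
theorem czc2_ok : DOK czc2 cze_P 448 := ⟨czc2_h, czc2_e⟩
theorem tzn0_1 : ∀ i < 4, (tzn0.ent H1.OnC.P tzh_P z_P z_P cze_P (nat_lit 4) (nat_lit 1) H1.OnC.B tzl2 [] (memO czc2)) i = 0 := allZ_sound0 tzn0_1_0
theorem tzn0_t {G Ω : Type*} [Group G] [MulAction G Ω] {g : ℕ → G} {pt : ℕ → Ω}
    (M : Md g pt H1.OnC.P 448 4 H1.OnC.B 161280) : TrO (gen (wds g tzh_W) tzl2.K) (wds g z_W) (wds g z_W) 1 pt 448 (tzl2.Pt 0) (memO czc2) :=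
  node M (tz_S2 M) (tzh_act M) (z_act M) (z_act M) tzn0 ((cze_act M).mono (by decide)) (fun _ _ => trivial) tzn0_0 tzn0_1 (List.forall_mem_nil _)
theorem czc0_e : ∀ i < 71, (dent czc0 cze_P (nat_lit 448)) i = 0 := allZ_sound0 czc0_e_0
theorem czc0_ok : DOK czc0 cze_P 448 := ⟨czc0_h, czc0_e⟩
theorem tzn1y2_act {G Ω : Type*} [Group G] [MulAction G Ω] {g : ℕ → G} {pt : ℕ → Ω}
    (M : Md g pt H1.OnC.P 448 4 H1.OnC.B 161280) : H16.Act (wds g tzn1y2_W) pt tzn1y2_P 448 1 :=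
  M.wact tzn1y2_lt
theorem tzr2k_act {G Ω : Type*} [Group G] [MulAction G Ω] {g : ℕ → G} {pt : ℕ → Ω}
    (M : Md g pt H1.OnC.P 448 4 H1.OnC.B 161280) : H16.Act (wds g tzr2k_W) pt tzr2k_P 448 2 :=
  M.wact tzr2k_lt
theorem tzn2_1 : ∀ i < 4, (tzn2.ent H1.OnC.P tzh_P z_P tzn1y2_P tzr2k_P (nat_lit 4) (nat_lit 1) H1.OnC.B tzl2 [] (fun _ => nat_lit 1)) i = 0 := allZ_sound0 tzn2_1_0
theorem tzn2_t {G Ω : Type*} [Group G] [MulAction G Ω] {g : ℕ → G} {pt : ℕ → Ω}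
    (M : Md g pt H1.OnC.P 448 4 H1.OnC.B 161280) : TrO (gen (wds g tzh_W) tzl2.K) (wds g z_W) (wds g tzn1y2_W) 1 pt 448 (tzl2.Pt 0) (fun _ => nat_lit 1) :=
  node M (tz_S2 M) (tzh_act M) (z_act M) (tzn1y2_act M) tzn2 ((tzr2k_act M).mono (by decide)) (fun _ _ => trivial) tzn2_0 tzn2_1 (List.forall_mem_nil _)
theorem tzr2 {G Ω : Type*} [Group G] [MulAction G Ω] {g : ℕ → G} {pt : ℕ → Ω}
    (M : Md g pt H1.OnC.P 448 4 H1.OnC.B 161280) : Ref (gen (wds g tzh_W) (topK [tzl2])) (wds g z_W) (wds g tzn1y2_W) 1 :=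
  (tzn2_t M).ref
theorem tzn1_1 : ∀ i < 448, (tzn1.ent H1.OnC.P tzh_P z_P z_P cze_P (nat_lit 4) (nat_lit 1) H1.OnC.B tzl0 [tzl1, tzl2] (memO czc0)) i = 0 := allZ_sound0 tzn1_1_0
theorem tzn1_t {G Ω : Type*} [Group G] [MulAction G Ω] {g : ℕ → G} {pt : ℕ → Ω}
    (M : Md g pt H1.OnC.P 448 4 H1.OnC.B 161280) : TrO (gen (wds g tzh_W) tzl0.K) (wds g z_W) (wds g z_W) 1 pt 448 (tzl0.Pt 0) (memO czc0) :=
  node M (tz_S0 M) (tzh_act M) (z_act M) (z_act M) tzn1 ((cze_act M).mono (by decide)) (fun _ _ => trivial) tzn1_0 tzn1_1 (List.forall_mem_cons.2 ⟨tzr2 M, List.forall_mem_nil _⟩)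
theorem cz {G Ω : Type*} [Group G] [MulAction G Ω] {g : ℕ → G} {pt : ℕ → Ω}
    (M : Md g pt H1.OnC.P 448 4 H1.OnC.B 161280) : Cen ⊤ (wds g z_W) 1 (wds g cze_W) pt 448 [czc0, czc2] :=
  (tz_S0 M).top ▸ Cen.lev M (tz_S0 M) (Cen.triv (tz_S1 M) (Cen.lev M (tz_S2 M) (Cen.bot) (tzn0_t M) (z_act M) (cze_act M) (fun _ _ => trivial) czc2_ok cz_f2) (forced (tz_S1 M) (tzh_act M) (z_act M) _ _ cz_f1)) (tzn1_t M) (z_act M) (cze_act M) (fun _ _ => trivial) czc0_ok cz_f0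
theorem cz_card {G Ω : Type*} [Group G] [MulAction G Ω] {g : ℕ → G} {pt : ℕ → Ω}
    (M : Md g pt H1.OnC.P 448 4 H1.OnC.B 161280) : Nat.card (Subgroup.centralizer {(wds g z_W) 0}) = 144 :=
  (cz M).card_cent1 M.inj cz_c.1
theorem cz_eq {G Ω : Type*} [Group G] [MulAction G Ω] {g : ℕ → G} {pt : ℕ → Ω}
    (M : Md g pt H1.OnC.P 448 4 H1.OnC.B 161280) : Subgroup.centralizer (gen (wds g z_W) 1) = gen (wds g cze_W) 4 ∧ Nat.card (gen (wds g cze_W) 4) = 144 :=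
  cz_c.1 ▸ cz_c.2 ▸ ⟨(cz M).cent, (cz M).card M.inj⟩

end H1.Oc
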