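import Cfsg.Agent.H1.Am5
import Cfsg.Agent.H15.CS
import Cfsg.Agent.H1.OnU
import Cfsg.Agent.H1.OnA
import Cfsg.Agent.H1.OnB
import Cfsg.Agent.H16.M.L34

/-! Generated by tools/h0/tr.py. -/

set_option maxRecDepth 100000
set_option maxHeartbeats 0

namespace H1.Ou
open H16 H0.TR
open scoped Pointwise

open H1.Am

noncomputable def a_W : List (List ℕ) := [[nat_lit 0],
  [nat_lit 1],
  [nat_lit 2],
  [nat_lit 3],
  [nat_lit 4],
  [nat_lit 1, nat_lit 1, nat_lit 3, nat_lit 0, nat_lit 3, nat_lit 1, nat_lit 3, nat_lit 0, nat_lit 3, nat_lit 1, nat_lit 3, nat_lit 4, nat_lit 3, nat_lit 2, nat_lit 3, nat_lit 0, nat_lit 3, nat_lit 2, nat_lit 3, nat_lit 4, nat_lit 3, nat_lit 4],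
  [nat_lit 0, nat_lit 2, nat_lit 2]]
noncomputable def a_Pd : List ℕ := [nat_lit 0x82bce130cd25770782d16075eef76dfb2f99dad8737acb26ab170d9846b23bbb56deaf73a6c91f8eed6dd36151d8d52ecf9994b34b36a0cfe478cd4e1e8d42c561a5f78dcee36d72936caf6fbbebd6b7848de56299ad0602bf34ac5b9c350a968e1f0a85d12abab7c4e75d5cb8d7b7560bcc8aa76fd0c72cb96acdaf316c834eb3f3196bfa04fd7662607668c6231f1dc73fe7b338853ac5219ae426f709e64e99a7c2c7a979275ba9e8f08b5fe2b9ec6d6a711989cba8156bbe9a41438049e4b758fc49cb3bb4beb51bcb3da37b087b53f7f01a2d2609179f52a919dbe43b29637bc1ef529df3c9cd28da673674795ca9c8e873bc622e971b8adae01dad536d754b10882f6e1e9287c4ca486623650a9922b4bb3d9a1d611b4b0da3db1d46950b22060a610908aa6b0a925bc473e9c4804c5027d384d3084db653302f06a22608a436af5724c96ad6e849a608658f980d54f3490a1f2f094de7940a2514be2789d228406209162c0f12166d461b5918783b8c8ea3c398996407469598c1a5c1a87068338d88a5a0a0c556a705a3cba1c0699020c52a1b9725754008480e4393958b04e8456c7e5a064cad921ae87eb120a581e746f8b40c69049994a2e689d8c4bd6c0d07480663394428431c91c51682917620481fd905c509b08c18002fd6e635526894591e940b6832f80c6e98380e40204051480a17,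
  nat_lit 0xc8cb260fcbeb9601b5b24e705468ecf269addc3d733acdbeaa5554deceb7f7bb96af117197c637902d8513373eb86a2f97780efa0b6b904add38c7544f69578fe1b3f0a8bebec5a38f4cf4976ddeba5b687cbeeb966afdaae7b1aadb9d9039b6022d84a7e6adfa2ad6daf575d057a2314a5be1f565a13d2b10d87641ff4585e9b0b07bccd738f1b6bbed974cf68633b375d467b7e9446b0315a5549fd97d9411ed09a6dfeb6f39fe2ead10b4cba71437258e4b41c5499db29ca53b1f24dcc3e4360c3c4b74f093d672d9d835e34f0898d9f4b93a83ba6583cc4ddcd0ccad4e37227bd32c31cc93c9fb3bc4d2680e1c76a646e873d22bb8d71b8a8ee020afcb4b751294b8cf0a954ac221913d007f099f85e2d00aa9b0635b0d1843506924040a6ba1432530882da48b54b342c2706095346c1eb146c904c27c5289132a16ad529310e80f2c0380e6632130ec4002800066e2821d7061032cca288531e518916a29cd6775a1a9781b1988d06a42dae57c6841374502a3c2c91cbb123585c4d40938a8840231812ad1584010724e8e4301d4f270cac7379e9248d4528070c13e1cc3e1a382f592d0432e86e1c1017c88126c85d86ce1fb7d2c57479b5bc991626cb2466534c76a11d121b443301c4fa690f250945d55b4428c81e2b0846731371b6cc572c060453da8d264725a5cbcb1108f92a7565abd8031,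
  nat_lit 0xd2e4b4f9dbdc462fafd5d8b7189a04cee19bc15eb61acd16a9d59684d3a0b7dc0592855fc2d0e1949ccd9b5aff9a435f71b823cf7f528cbadc98c9547ddfa189e1a9b68806d6736a974f37795d2586970aca5f2c144b8e8f4197b2dba8f45c85ca4f78835d2b1b791605eb14b9d79cb7596d8e1d55c44a6dfa87d4da7d03b3c6a5ef6adcdddce670ed2a19a9255e40ed95e627bb27869b6d257f5ae95b1bf4060fbdcfc9af3bec76a6393b87c7a431874be22b8fc3dff66f47ccea839ec1da6715cc544abb288b54ea8fca7e126108a642f2332b667327b9a8cd5e3bcbb566ef5a7bcc75d56963ca9110a340a3b6d9fe2f1ae873bf7752371b89d8e01d0d4ec160a8a47ec95f9b94887172e43c486c0f16c14018bc921c2c1995ca21eb14a0016f1e4948138118f4916e31d4a83471c810120104cc81a0fb296ea64322db47c0736c58525516cbe5a192c468ab050e40a220695510ac1b9c4a8895c14d508c4911d7c683e9dcd6d1683384a4f0795914734226408a1271804c4b2ba506cb042a0848780c270b29b6405d20272102440d93db74629f1c355ac695e28d1a93691a8d89a05885842a060c0204114065be981d8195e1b168acbc5122ab588c63fb4c0011669b59833319d152755a29d646f3f3500e432688cb844401317a5d1f2d5ae1d6790176625027986b35d300ca614ea3d2e674ab059696,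
  nat_lit 0xdfca77bbcc8416195ba2cca97b4875da1302d7bbe62f9a840dc957d0c929ba48ee8b4fa0cc6773d1e72c02fd9f844531373c23f281bbc6dff1f647a4bb2b187d4daf993794f668f5c76662585a94faf34ebbeca94feca3f6373aa457dd36cb5d46cb0b9dc36d38c9c4b1d110b74b5c52adc41e5effd450e3f179fdeed5ab945e34b15dadd68d6f985276eecab48e3991a9deb0511b3dc235638ce19e18192edb5b47ace2abd62735737d4f913ee67a6a149e2704aae734741b8ce66f88aa3c6999690df679607c6cecdb9b43ab6397ad4077520d56c20d9aac5d2e5929361f590f7bbaf018b70e0e2d35d73b5dd447b42adb6173caf37a971d75e6e045225babe5c2f1109b5eae4dca469a1d94c96131d3ea615345a06b67318da9d3e33cf41b5fb71aeda5aaa5acdb5ba657622279555e7b58a855a9351a7174302b3314ad455a895c9266a5188aa6c0fd6c3a199e0469e56280961427058c61d1db7dbcd9690a456620a994425e228c480c35830484961780c7a3e2c0d4c20f20b558a1c6404c5a4929029040546a10e24d01200a0382184072732a29d64572219c485d59a3cc04748834d04826038fe532d9e4de7d4d1d0ea3c45a60b25c0b824e4064b800fca83b804d22c42b2d0c271408030514aad1022609079186c6002032251ba3906903507c225a381189404059986c1a038d0c80c3b17c5c32,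
  nat_lit 0xc6cb2ff53a253e45adb16af611c8ee424fb5ccca371acdb6ab17948f52dd366b9ce6496acad5e1d02c15f75f458b5df3fa8993cdc9b2904af7f12d4e1e5318c561af960ad66ec95fdecdb3585ba4429d5ccb536d17bd1dc6e5699c4f5d8ff99e82e17572e922b818bedde184c057a0d789d60e1921cf3be4b1bde4f2073edd5e6ed31d33f9dcfd70bd331bba150e32ed75d42dd527ad6f456f9bdfa6b0fb5e4e992e7dcc235bec74ab13aed8c26aba182ee6b18f8fe9f67b4aa4b68388b1e5ecb0a89e32177a9a675f35988c524cf783d764704a8e7202f8b652a90fa97bf21b00843da7746c939de361ab526816d9fbab4ae37939acf91743828ee26fb345ccf4fb09b2a563a48f494331f0b63d6e149bccc2eb1152c86b9916eca1636890435522c8c8c2517d725362a895c7d38980d8903a2d4ec984d2fd928a23a05b0a4402d8a01e6d8f0e0362d2ac64ac3a978ced43fb58d6b022a189cbc5f2a10a7943a39126f390e14ca3499ed68d23f35510692a2b52eaf2ba0d669d421b868b148890f0514ab4c62c61d0f83eb25d259961468a6c72353993c44775c338d0a12b23434120caec2cc153af51e2b60044380816989a09e0e98cb2820ba70b06d01264ca070ab747ec3220342603138984a6a07154160530a80764107934960a1b9245e5c1493084100d88c540c108601240180184001140cc0800,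
  nat_lit 0xde6737fb4b9ee75d7bdaeb777bddf6a37544d26c6e9aadc57b0f98d2ecb3ba0b16be9ba292657136dcd602cda6aebff4345a6525f9949fe3ea73dc56a74f85c5eb23115b0df73781c6c36bf88b8dc2d725b655edf72dbedb5711c26336779bbce617387c5aad182886c32f65b261b0755a93c2ad78cfc9a153e8e46e355b914cf3d4ac85228f93a04c297a37dcbf1d92a0cea255487cf33360733e5e2e5cb4c5fd91a1b926d029047e3d27a7c8e2976acca2b8eb753a6597fa85fa577cbd41aeb58955ba2f69b3ca6a2efb1c860ae29ad6a18f696bb20ef5a73f66546a13d2073b704de692e773a2031684b85e71d8cc4e1d0871c1200fa7bbc9dae76fb79badc6db69b2d86bb59aad469b49a2d067b399acc65b2992c863b198ac461b0982c05faf97abc5dae972b85bad96ab459ac962b057ab95aac55aa952a853a994aa451a8942a04fa793a9c4da6932984ba592a9449a49229047a391a8c45a29128843a190a8441a0902803f9f8fa7c3d9e8f2783b9d8ea74399c8e270379b8da6c359a8d26833998ca6431988c2602f978ba5c2d968b2582b958aa5429948a250279389a4c259289248239188a442190882401f8f87a3c1d8e872381b8d86a34198c86230178b85a2c158a85228138984a241188842200f8783a1c0d86832180b8582a14098482210078381a0c058281208038180a04018080200,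
  nat_lit 0xdfefb7bbcddeeb73b8dbedb6bb4d9ecb63b0d7ebb5bacd5eab53a8d3e9b4ba4d1e8b43a0cfe7b3b9ccde6b3398cbe5b2b94c9e4b2390c7e3b1b8cc5e2b1388c3e1b0b84c1e0b0380bfdfafb7cbddeaf378bbddaeb74b9dcae370b7dbadb6cb5daad368b3d9acb64b1d8ac360afd7abb5cadd6ab358abd5aab54a9d4aa350a7d3a9b4ca5d2a9348a3d1a8b44a1d0a83409fcfa7b3c9dcea73389bcda6b3499cca633097cba5b2c95caa532893c9a4b2491c8a43208fc7a3b1c8dc6a33188bc5a2b1489c4a231087c3a1b0c85c2a130883c1a0b0481c0a03007fbf9fafc7dbe9f2f87bbd9eaf479bc9e2f077bb9daec75ba9d2e873b99cae471b89c2e066369a6de6e36dbeb65ab55a8d263359a0ce66a8584c8603258ed9572b554a95027d3c9752a2576b84eaf4dcbe5fb1588b35929d56b151b29bab056361ae815a1ad448749adda2c167b0d749b4ca60da904aa3d967c3d9e8f26c329c8705342a99788a5ca0d187847211227f3f1d0e29257a51504e340b8ce8035218c05f34a91389a441dd1a732e990c4762e2589a472311486411e8c82e1312088ac5145940ae5b2aa089840211c0b03c3e928623b3a8c05a611d178a42c158506e6f2c9685236118d07c2124998c61e0e86c2a040609c4c541513c96280d120883f1984822201c8d42c1c178200e00010341e250c814201f058240618008381406]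
noncomputable def a_P (k u : ℕ) : ℕ := Nat.land (Nat.shiftRight (nth (nat_lit 0) a_Pd k) (Nat.mul u (nat_lit 9))) (nat_lit 511)
noncomputable def κ : List ℕ → ℕ := H15.CS.key (tot a_P 7) 448 H1.OnU.B
noncomputable def q_W : List (List ℕ) := [[nat_lit 2, nat_lit 4, nat_lit 5, nat_lit 4, nat_lit 2, nat_lit 0, nat_lit 4, nat_lit 3],
  [nat_lit 2, nat_lit 0, nat_lit 5, nat_lit 4, nat_lit 0],
  [nat_lit 1, nat_lit 4, nat_lit 0, nat_lit 2, nat_lit 5],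
  [nat_lit 2, nat_lit 0, nat_lit 3, nat_lit 0, nat_lit 5],
  [nat_lit 5, nat_lit 3, nat_lit 4, nat_lit 1, nat_lit 5, nat_lit 4, nat_lit 2, nat_lit 3]]
noncomputable def q_V : List (List ℕ) := [[nat_lit 4, nat_lit 2, nat_lit 3, nat_lit 0, nat_lit 3, nat_lit 2, nat_lit 4, nat_lit 3, nat_lit 1, nat_lit 3, nat_lit 4],
  [nat_lit 4, nat_lit 3, nat_lit 2, nat_lit 3, nat_lit 2, nat_lit 4, nat_lit 3, nat_lit 0, nat_lit 3, nat_lit 1, nat_lit 4],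
  [nat_lit 4, nat_lit 3, nat_lit 2, nat_lit 3, nat_lit 1, nat_lit 4, nat_lit 3, nat_lit 1, nat_lit 3, nat_lit 4],
  [nat_lit 1, nat_lit 3, nat_lit 2, nat_lit 3, nat_lit 0, nat_lit 4, nat_lit 3, nat_lit 1, nat_lit 4, nat_lit 3, nat_lit 2],
  [nat_lit 4, nat_lit 3, nat_lit 1, nat_lit 3, nat_lit 4, nat_lit 3, nat_lit 2, nat_lit 3, nat_lit 4],
  [nat_lit 0, nat_lit 3, nat_lit 2, nat_lit 3, nat_lit 1, nat_lit 4, nat_lit 3, nat_lit 1, nat_lit 3, nat_lit 0]]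
noncomputable def q_Pd : List ℕ := [nat_lit 0x23adb07ba2c928c49a4080d065,
  nat_lit 0x94364e5416c8bc472503329803,
  nat_lit 0x62456e5424c6be9340867024a1,
  nat_lit 0x14718eb7cda480d228c8ac52001,
  nat_lit 0x640cb07b80c0a853252279256d]
noncomputable def q_P (k u : ℕ) : ℕ := Nat.land (Nat.shiftRight (nth (nat_lit 0) q_Pd k) (Nat.mul u (nat_lit 5))) (nat_lit 31)
noncomputable def k_W : List (List ℕ) := [[nat_lit 1, nat_lit 1, nat_lit 3, nat_lit 0, nat_lit 3, nat_lit 1, nat_lit 3, nat_lit 0, nat_lit 3, nat_lit 1, nat_lit 3, nat_lit 4, nat_lit 3, nat_lit 2, nat_lit 3, nat_lit 0, nat_lit 3, nat_lit 2, nat_lit 3, nat_lit 4, nat_lit 3, nat_lit 4],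
  [nat_lit 0, nat_lit 2, nat_lit 2]]
noncomputable def k_P : ℕ → ℕ → ℕ := wdsP H1.OnU.P k_W
noncomputable def z_W : Wl := [[],
  [nat_lit 5, nat_lit 5],
  [nat_lit 5],
  [nat_lit 5, nat_lit 5, nat_lit 5],
  [nat_lit 6],
  [nat_lit 5, nat_lit 5, nat_lit 6],
  [nat_lit 5, nat_lit 6],
  [nat_lit 5, nat_lit 5, nat_lit 5, nat_lit 6],
  [nat_lit 6, nat_lit 6],
  [nat_lit 5, nat_lit 5, nat_lit 6, nat_lit 6],
  [nat_lit 5, nat_lit 6, nat_lit 6],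
  [nat_lit 5, nat_lit 5, nat_lit 5, nat_lit 6, nat_lit 6],
  [nat_lit 6, nat_lit 6, nat_lit 6],
  [nat_lit 5, nat_lit 5, nat_lit 6, nat_lit 6, nat_lit 6],
  [nat_lit 5, nat_lit 6, nat_lit 6, nat_lit 6],
  [nat_lit 5, nat_lit 5, nat_lit 5, nat_lit 6, nat_lit 6, nat_lit 6]]
noncomputable def e10_W : Wl := [[nat_lit 2, nat_lit 3, nat_lit 1, nat_lit 3, nat_lit 2, nat_lit 3, nat_lit 0, nat_lit 3, nat_lit 4, nat_lit 2, nat_lit 3],
  [nat_lit 3, nat_lit 1, nat_lit 4, nat_lit 3, nat_lit 0, nat_lit 3, nat_lit 1, nat_lit 3, nat_lit 2, nat_lit 3, nat_lit 1],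
  [nat_lit 1, nat_lit 1, nat_lit 3, nat_lit 2, nat_lit 3, nat_lit 0, nat_lit 3, nat_lit 0, nat_lit 4, nat_lit 3, nat_lit 1, nat_lit 3, nat_lit 0, nat_lit 3, nat_lit 0, nat_lit 4],
  [nat_lit 4, nat_lit 3, nat_lit 0, nat_lit 3, nat_lit 1, nat_lit 4, nat_lit 3, nat_lit 0, nat_lit 4, nat_lit 3, nat_lit 4, nat_lit 3, nat_lit 1, nat_lit 3]]
noncomputable def e10_V : Wl := [[nat_lit 2, nat_lit 3, nat_lit 2, nat_lit 3, nat_lit 2],
  [nat_lit 2, nat_lit 1, nat_lit 2, nat_lit 0, nat_lit 2, nat_lit 1, nat_lit 1, nat_lit 2, nat_lit 3, nat_lit 2, nat_lit 1, nat_lit 1],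
  [nat_lit 1, nat_lit 1, nat_lit 2, nat_lit 3, nat_lit 2, nat_lit 1, nat_lit 1, nat_lit 2, nat_lit 1, nat_lit 2, nat_lit 0, nat_lit 2],
  [nat_lit 1, nat_lit 2, nat_lit 1, nat_lit 2, nat_lit 1, nat_lit 3, nat_lit 2, nat_lit 0, nat_lit 2, nat_lit 0],
  [nat_lit 0, nat_lit 2, nat_lit 0, nat_lit 2, nat_lit 1, nat_lit 1, nat_lit 2, nat_lit 0, nat_lit 2, nat_lit 3, nat_lit 2, nat_lit 1, nat_lit 1, nat_lit 2, nat_lit 3]]
noncomputable def e01_W : Wl := [[nat_lit 2, nat_lit 3, nat_lit 2, nat_lit 3, nat_lit 1, nat_lit 4, nat_lit 3, nat_lit 2, nat_lit 3, nat_lit 0, nat_lit 3, nat_lit 1, nat_lit 4, nat_lit 0],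
  [nat_lit 4, nat_lit 0, nat_lit 2, nat_lit 3, nat_lit 0, nat_lit 3, nat_lit 1, nat_lit 3, nat_lit 1, nat_lit 4, nat_lit 3, nat_lit 1, nat_lit 3, nat_lit 1],
  [nat_lit 0, nat_lit 2, nat_lit 3, nat_lit 0, nat_lit 3, nat_lit 4, nat_lit 3, nat_lit 0, nat_lit 3, nat_lit 2],
  [nat_lit 2, nat_lit 4, nat_lit 1, nat_lit 3, nat_lit 0, nat_lit 4, nat_lit 3, nat_lit 0, nat_lit 4, nat_lit 3, nat_lit 1, nat_lit 3]]
noncomputable def e01_V : Wl := [[nat_lit 1, nat_lit 1, nat_lit 2, nat_lit 1, nat_lit 2, nat_lit 1, nat_lit 1, nat_lit 2, nat_lit 3, nat_lit 2, nat_lit 1, nat_lit 1, nat_lit 2, nat_lit 1, nat_lit 2, nat_lit 3],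
  [nat_lit 2, nat_lit 0, nat_lit 2, nat_lit 1, nat_lit 1, nat_lit 2, nat_lit 0, nat_lit 3, nat_lit 2, nat_lit 1, nat_lit 2, nat_lit 1, nat_lit 1, nat_lit 2, nat_lit 3, nat_lit 2, nat_lit 0, nat_lit 2, nat_lit 1],
  [nat_lit 0, nat_lit 2, nat_lit 3, nat_lit 1, nat_lit 1, nat_lit 2, nat_lit 0, nat_lit 2, nat_lit 1, nat_lit 2, nat_lit 1, nat_lit 3, nat_lit 2, nat_lit 0, nat_lit 2, nat_lit 1, nat_lit 3, nat_lit 2, nat_lit 0, nat_lit 2],
  [nat_lit 0, nat_lit 3, nat_lit 2, nat_lit 0, nat_lit 2, nat_lit 1, nat_lit 2, nat_lit 1, nat_lit 3],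
  [nat_lit 2, nat_lit 3, nat_lit 1, nat_lit 1, nat_lit 2, nat_lit 0, nat_lit 2, nat_lit 1, nat_lit 2, nat_lit 1, nat_lit 1, nat_lit 3, nat_lit 2]]
noncomputable def e11_W : Wl := [[nat_lit 1, nat_lit 3, nat_lit 0, nat_lit 3, nat_lit 4, nat_lit 3, nat_lit 0, nat_lit 3, nat_lit 2, nat_lit 4, nat_lit 3, nat_lit 4, nat_lit 3],
  [nat_lit 3, nat_lit 4, nat_lit 3, nat_lit 1, nat_lit 3, nat_lit 4, nat_lit 3, nat_lit 0, nat_lit 3, nat_lit 4, nat_lit 3, nat_lit 2, nat_lit 4],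
  [nat_lit 0, nat_lit 1, nat_lit 3, nat_lit 0, nat_lit 3, nat_lit 2, nat_lit 3, nat_lit 1, nat_lit 4, nat_lit 3, nat_lit 1, nat_lit 3, nat_lit 0, nat_lit 3, nat_lit 1],
  [nat_lit 4, nat_lit 2, nat_lit 3, nat_lit 2, nat_lit 3, nat_lit 0, nat_lit 4, nat_lit 3, nat_lit 1, nat_lit 4, nat_lit 3, nat_lit 0, nat_lit 2, nat_lit 4]]
noncomputable def e11_V : Wl := [[nat_lit 3, nat_lit 1, nat_lit 1, nat_lit 2, nat_lit 1, nat_lit 2, nat_lit 3, nat_lit 2, nat_lit 1, nat_lit 1, nat_lit 2, nat_lit 1, nat_lit 3, nat_lit 2],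
  [nat_lit 3, nat_lit 2, nat_lit 1, nat_lit 1, nat_lit 2, nat_lit 1, nat_lit 2, nat_lit 1, nat_lit 3, nat_lit 2, nat_lit 1, nat_lit 1, nat_lit 2, nat_lit 1, nat_lit 2, nat_lit 0, nat_lit 2],
  [nat_lit 2, nat_lit 1, nat_lit 2, nat_lit 0, nat_lit 2, nat_lit 1, nat_lit 1, nat_lit 2, nat_lit 0, nat_lit 3, nat_lit 2, nat_lit 0, nat_lit 2, nat_lit 1, nat_lit 1, nat_lit 2, nat_lit 3],
  [nat_lit 3, nat_lit 2, nat_lit 3, nat_lit 0, nat_lit 2, nat_lit 0, nat_lit 2, nat_lit 1, nat_lit 2, nat_lit 0, nat_lit 2, nat_lit 0, nat_lit 3, nat_lit 2],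
  [nat_lit 0, nat_lit 3, nat_lit 2, nat_lit 0, nat_lit 2, nat_lit 1, nat_lit 2, nat_lit 1, nat_lit 3]]
noncomputable def e13_W : Wl := [[nat_lit 2, nat_lit 3, nat_lit 0, nat_lit 3, nat_lit 2, nat_lit 3, nat_lit 2, nat_lit 4, nat_lit 3, nat_lit 2, nat_lit 3, nat_lit 0, nat_lit 3, nat_lit 1],
  [nat_lit 1, nat_lit 1, nat_lit 1, nat_lit 3, nat_lit 0, nat_lit 3, nat_lit 1, nat_lit 3, nat_lit 2, nat_lit 4, nat_lit 3, nat_lit 1, nat_lit 3, nat_lit 0, nat_lit 3, nat_lit 1],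
  [nat_lit 1, nat_lit 1, nat_lit 3, nat_lit 0, nat_lit 3, nat_lit 1, nat_lit 3, nat_lit 4, nat_lit 3, nat_lit 2, nat_lit 3, nat_lit 0, nat_lit 3, nat_lit 1, nat_lit 3, nat_lit 0, nat_lit 3, nat_lit 1],
  [nat_lit 1, nat_lit 3, nat_lit 2]]
noncomputable def e13_V : Wl := [[nat_lit 1, nat_lit 2, nat_lit 0, nat_lit 2, nat_lit 1, nat_lit 2, nat_lit 1, nat_lit 1, nat_lit 3, nat_lit 2, nat_lit 0, nat_lit 2, nat_lit 1, nat_lit 2, nat_lit 0],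
  [nat_lit 0, nat_lit 2, nat_lit 0, nat_lit 2, nat_lit 1, nat_lit 1, nat_lit 2, nat_lit 1, nat_lit 2, nat_lit 3, nat_lit 2, nat_lit 1, nat_lit 1, nat_lit 2, nat_lit 3, nat_lit 2, nat_lit 1],
  [nat_lit 3, nat_lit 2, nat_lit 0, nat_lit 2, nat_lit 1, nat_lit 1, nat_lit 2, nat_lit 1, nat_lit 3, nat_lit 2, nat_lit 1, nat_lit 1, nat_lit 2, nat_lit 1, nat_lit 3, nat_lit 0, nat_lit 2, nat_lit 3],
  [nat_lit 2, nat_lit 1, nat_lit 1, nat_lit 2, nat_lit 0, nat_lit 2, nat_lit 3, nat_lit 2, nat_lit 0, nat_lit 2, nat_lit 1, nat_lit 3, nat_lit 2, nat_lit 3, nat_lit 2],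
  [nat_lit 3, nat_lit 2, nat_lit 1, nat_lit 2, nat_lit 0, nat_lit 2, nat_lit 3]]
noncomputable def e12_W : Wl := [[nat_lit 2, nat_lit 3, nat_lit 2, nat_lit 4, nat_lit 3, nat_lit 1, nat_lit 3, nat_lit 1, nat_lit 4, nat_lit 3, nat_lit 0, nat_lit 4],
  [nat_lit 0, nat_lit 4, nat_lit 3, nat_lit 2, nat_lit 3, nat_lit 0, nat_lit 4, nat_lit 3, nat_lit 2, nat_lit 3, nat_lit 4, nat_lit 0],
  [nat_lit 3, nat_lit 4, nat_lit 3, nat_lit 2, nat_lit 3, nat_lit 1, nat_lit 3, nat_lit 0, nat_lit 4, nat_lit 3, nat_lit 0, nat_lit 3],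
  [nat_lit 3, nat_lit 2, nat_lit 3, nat_lit 0, nat_lit 4, nat_lit 3, nat_lit 0, nat_lit 3, nat_lit 0, nat_lit 4, nat_lit 3, nat_lit 1, nat_lit 3]]
noncomputable def e12_V : Wl := [[nat_lit 3, nat_lit 1, nat_lit 2, nat_lit 1, nat_lit 2, nat_lit 0, nat_lit 2, nat_lit 3, nat_lit 2, nat_lit 1, nat_lit 1, nat_lit 2, nat_lit 1, nat_lit 1, nat_lit 3, nat_lit 2, nat_lit 1, nat_lit 1, nat_lit 2],
  [nat_lit 2, nat_lit 1, nat_lit 1, nat_lit 2, nat_lit 0, nat_lit 2, nat_lit 1, nat_lit 1, nat_lit 2, nat_lit 0, nat_lit 3, nat_lit 2, nat_lit 0, nat_lit 2, nat_lit 1, nat_lit 1],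
  [nat_lit 1, nat_lit 1, nat_lit 2, nat_lit 1, nat_lit 2, nat_lit 1, nat_lit 3, nat_lit 2, nat_lit 1, nat_lit 1, nat_lit 2, nat_lit 1, nat_lit 2, nat_lit 1, nat_lit 1, nat_lit 2],
  [nat_lit 1, nat_lit 1, nat_lit 2, nat_lit 1, nat_lit 1, nat_lit 2, nat_lit 1, nat_lit 2, nat_lit 1, nat_lit 1, nat_lit 3, nat_lit 2, nat_lit 1, nat_lit 2, nat_lit 1, nat_lit 1, nat_lit 2, nat_lit 1, nat_lit 1, nat_lit 3],
  [nat_lit 1, nat_lit 2, nat_lit 1, nat_lit 2, nat_lit 3, nat_lit 2, nat_lit 0, nat_lit 2, nat_lit 1, nat_lit 2, nat_lit 3, nat_lit 2, nat_lit 0, nat_lit 2, nat_lit 0]]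
noncomputable def e21_W : Wl := [[nat_lit 2, nat_lit 3, nat_lit 4, nat_lit 0, nat_lit 3, nat_lit 1, nat_lit 3, nat_lit 0, nat_lit 3, nat_lit 2, nat_lit 3, nat_lit 4, nat_lit 3, nat_lit 0, nat_lit 4, nat_lit 3, nat_lit 4, nat_lit 2],
  [nat_lit 1, nat_lit 3, nat_lit 1, nat_lit 3, nat_lit 2, nat_lit 3, nat_lit 0, nat_lit 4, nat_lit 3, nat_lit 2, nat_lit 4, nat_lit 3, nat_lit 4, nat_lit 3, nat_lit 0, nat_lit 3, nat_lit 2, nat_lit 3],
  [nat_lit 4, nat_lit 1, nat_lit 3, nat_lit 2, nat_lit 3, nat_lit 1, nat_lit 4, nat_lit 3, nat_lit 1, nat_lit 3, nat_lit 4, nat_lit 1],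
  [nat_lit 2, nat_lit 2, nat_lit 3, nat_lit 1, nat_lit 3, nat_lit 2, nat_lit 3, nat_lit 0, nat_lit 3, nat_lit 4, nat_lit 3, nat_lit 0, nat_lit 3, nat_lit 1, nat_lit 3, nat_lit 2, nat_lit 3, nat_lit 0]]
noncomputable def e21_V : Wl := [[nat_lit 2, nat_lit 1, nat_lit 1, nat_lit 2, nat_lit 1, nat_lit 1, nat_lit 3, nat_lit 2, nat_lit 1, nat_lit 1, nat_lit 2],
  [nat_lit 3, nat_lit 2, nat_lit 0, nat_lit 2, nat_lit 1, nat_lit 1, nat_lit 2, nat_lit 1, nat_lit 2, nat_lit 3, nat_lit 2, nat_lit 0, nat_lit 2, nat_lit 1, nat_lit 1, nat_lit 2, nat_lit 0],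
  [nat_lit 1, nat_lit 2, nat_lit 1, nat_lit 1, nat_lit 2, nat_lit 1, nat_lit 2, nat_lit 3, nat_lit 2, nat_lit 0, nat_lit 2, nat_lit 1, nat_lit 1, nat_lit 2, nat_lit 1, nat_lit 2, nat_lit 3],
  [nat_lit 0, nat_lit 2, nat_lit 1, nat_lit 1, nat_lit 2, nat_lit 1, nat_lit 2, nat_lit 1, nat_lit 1, nat_lit 2, nat_lit 1, nat_lit 2, nat_lit 0, nat_lit 2],
  [nat_lit 2, nat_lit 3, nat_lit 0, nat_lit 2, nat_lit 1, nat_lit 2, nat_lit 0, nat_lit 2, nat_lit 3, nat_lit 2, nat_lit 1, nat_lit 2, nat_lit 0, nat_lit 2, nat_lit 0, nat_lit 2]]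

theorem md_b : ltAll 448 H1.OnU.B = 0 ∧ 322560 ≠ 0 := by decide +kernel
theorem mds_b : ltAll 21 H16.L34.B = 0 ∧ 20160 ≠ 0 := by decide +kernel
theorem a_lt : allL (ltAll 5) a_W = true := by decide +kernel
theorem a_m_a : allZ2 (matEnt (wdsP H1.OnU.P a_W) a_P) (nat_lit 7) (nat_lit 448) = true := by decide +kernel
theorem rc : allL (fixL H1.OnU.P 5 H1.OnU.B) H1.OnU.Rl = true := by decide +kernel
theorem q_lt : allL (ltAll 6) q_W = true := by decide +kernel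
theorem q_m_a : allZ2 (matEnt (wdsP H16.L34.P q_W) q_P) (nat_lit 5) (nat_lit 21) = true := by decide +kernel
theorem q_r : allL (fixL q_P 5 H16.L34.B) H1.OnU.Rl = true := by decide +kernel
theorem q_g : allZ (fun k => Nat.add (ltAll 5 (nth [] q_V k))
    (sumL (fun β => Nat.xor (H16.L34.P k β) (apW q_P (nth [] q_V k) β)) H16.L34.B)) 0 6 = true := by decide +kernel
theorem k_lt : allL (ltAll 5) k_W = true := by decide +kernel
theorem k_k : allZ (fun j => Nat.add (ltAll 5 (nth [] k_W j))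
    (fixL q_P 5 H16.L34.B (nth [] k_W j))) 0 2 = true := by decide +kernel
theorem x_e : nth [] k_W 0 = nth [] a_W 5 ∧ nth [] k_W 1 = nth [] a_W 6 ∧ H15.CS.comL H1.OnU.P 5 H1.OnU.B (nth [] a_W 5) = true ∧ H15.CS.comL H1.OnU.P 5 H1.OnU.B (nth [] a_W 6) = true := by decide +kernel
theorem gen5 : allZ (fun k => Nat.add (ltAll 5 (nth [] [[nat_lit 0],
  [nat_lit 1],
  [nat_lit 2],
  [nat_lit 3],
  [nat_lit 4]] k)) (sumL (fun β => Nat.xor (H1.OnU.P k β) (apW a_P (nth [] [[nat_lit 0],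
  [nat_lit 1],
  [nat_lit 2],
  [nat_lit 3],
  [nat_lit 4]] k) β)) H1.OnU.B)) 0 5 = true := by decide +kernel
theorem z_a : 16 = z_W.length ∧ incr κ z_W 0 = true ∧ allB (allB (mem [5, 6])) z_W = true := by decide +kernel
theorem pf : allB (fun k => eqK κ (k :: app (nth [] [[nat_lit 1, nat_lit 3, nat_lit 1, nat_lit 3, nat_lit 0, nat_lit 3, nat_lit 2, nat_lit 4, nat_lit 3, nat_lit 4, nat_lit 3, nat_lit 1, nat_lit 3],
  [nat_lit 4, nat_lit 3, nat_lit 2, nat_lit 3, nat_lit 1, nat_lit 4, nat_lit 3, nat_lit 1, nat_lit 3, nat_lit 4, nat_lit 3, nat_lit 2],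
  [nat_lit 3, nat_lit 0, nat_lit 3, nat_lit 2, nat_lit 3, nat_lit 0, nat_lit 3, nat_lit 1, nat_lit 3, nat_lit 4, nat_lit 3, nat_lit 2, nat_lit 3, nat_lit 1, nat_lit 4, nat_lit 3],
  [nat_lit 1, nat_lit 1, nat_lit 1, nat_lit 3, nat_lit 1, nat_lit 3, nat_lit 2, nat_lit 3, nat_lit 4, nat_lit 3, nat_lit 0, nat_lit 3, nat_lit 4, nat_lit 3, nat_lit 2, nat_lit 3, nat_lit 4],
  [nat_lit 2, nat_lit 3, nat_lit 2, nat_lit 3, nat_lit 1, nat_lit 4, nat_lit 3, nat_lit 4, nat_lit 3, nat_lit 1, nat_lit 3, nat_lit 0, nat_lit 3]] k) (nth [] [[nat_lit 0, nat_lit 2, nat_lit 3, nat_lit 1, nat_lit 3, nat_lit 0, nat_lit 3, nat_lit 2, nat_lit 4, nat_lit 3, nat_lit 0, nat_lit 3, nat_lit 2, nat_lit 3, nat_lit 0],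
  [nat_lit 4, nat_lit 1, nat_lit 0, nat_lit 3, nat_lit 2, nat_lit 3, nat_lit 0, nat_lit 3, nat_lit 1, nat_lit 3, nat_lit 2, nat_lit 4, nat_lit 3, nat_lit 1, nat_lit 3],
  [nat_lit 4, nat_lit 2, nat_lit 3, nat_lit 2, nat_lit 2, nat_lit 3, nat_lit 2, nat_lit 3, nat_lit 0, nat_lit 3, nat_lit 2, nat_lit 3, nat_lit 4],
  [nat_lit 2, nat_lit 2, nat_lit 2, nat_lit 3, nat_lit 0, nat_lit 3, nat_lit 2, nat_lit 3, nat_lit 0, nat_lit 3],
  [nat_lit 2, nat_lit 2, nat_lit 3, nat_lit 1, nat_lit 4, nat_lit 3, nat_lit 2, nat_lit 3, nat_lit 0, nat_lit 3, nat_lit 1, nat_lit 3, nat_lit 1]] k)) (app (nth [] [[nat_lit 0, nat_lit 2, nat_lit 3, nat_lit 1, nat_lit 3, nat_lit 0, nat_lit 3, nat_lit 2, nat_lit 4, nat_lit 3, nat_lit 0, nat_lit 3, nat_lit 2, nat_lit 3, nat_lit 0],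
  [nat_lit 4, nat_lit 1, nat_lit 0, nat_lit 3, nat_lit 2, nat_lit 3, nat_lit 0, nat_lit 3, nat_lit 1, nat_lit 3, nat_lit 2, nat_lit 4, nat_lit 3, nat_lit 1, nat_lit 3],
  [nat_lit 4, nat_lit 2, nat_lit 3, nat_lit 2, nat_lit 2, nat_lit 3, nat_lit 2, nat_lit 3, nat_lit 0, nat_lit 3, nat_lit 2, nat_lit 3, nat_lit 4],
  [nat_lit 2, nat_lit 2, nat_lit 2, nat_lit 3, nat_lit 0, nat_lit 3, nat_lit 2, nat_lit 3, nat_lit 0, nat_lit 3],
  [nat_lit 2, nat_lit 2, nat_lit 3, nat_lit 1, nat_lit 4, nat_lit 3, nat_lit 2, nat_lit 3, nat_lit 0, nat_lit 3, nat_lit 1, nat_lit 3, nat_lit 1]] k) (nth [] [[nat_lit 1, nat_lit 3, nat_lit 1, nat_lit 3, nat_lit 0, nat_lit 3, nat_lit 2, nat_lit 4, nat_lit 3, nat_lit 4, nat_lit 3, nat_lit 1, nat_lit 3],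
  [nat_lit 4, nat_lit 3, nat_lit 2, nat_lit 3, nat_lit 1, nat_lit 4, nat_lit 3, nat_lit 1, nat_lit 3, nat_lit 4, nat_lit 3, nat_lit 2],
  [nat_lit 3, nat_lit 0, nat_lit 3, nat_lit 2, nat_lit 3, nat_lit 0, nat_lit 3, nat_lit 1, nat_lit 3, nat_lit 4, nat_lit 3, nat_lit 2, nat_lit 3, nat_lit 1, nat_lit 4, nat_lit 3],
  [nat_lit 1, nat_lit 1, nat_lit 1, nat_lit 3, nat_lit 1, nat_lit 3, nat_lit 2, nat_lit 3, nat_lit 4, nat_lit 3, nat_lit 0, nat_lit 3, nat_lit 4, nat_lit 3, nat_lit 2, nat_lit 3, nat_lit 4],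
  [nat_lit 2, nat_lit 3, nat_lit 2, nat_lit 3, nat_lit 1, nat_lit 4, nat_lit 3, nat_lit 4, nat_lit 3, nat_lit 1, nat_lit 3, nat_lit 0, nat_lit 3]] k))) (List.range 5) = true := by decide +kernel
theorem e10 : allB (fun r => anyB (fun j => eqK κ (fl e10_W r) (rep [nat_lit 5] j)) [0, 1, 2, 3]) H1.OnA.Rl = true ∧
    allB (fun k => Nat.beq (ltAll 4 (nth [] e10_V k)) 0 && anyB (fun j =>
      eqK κ (app (fl e10_W (nth [] e10_V k)) (rep [nat_lit 5] j)) [k]) [0, 1, 2, 3]) (List.range 5) = true := by decide +kernel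
theorem e01 : allB (fun r => anyB (fun j => eqK κ (fl e01_W r) (rep [nat_lit 6] j)) [0, 1, 2, 3]) H1.OnB.Rl = true ∧
    allB (fun k => Nat.beq (ltAll 4 (nth [] e01_V k)) 0 && anyB (fun j =>
      eqK κ (app (fl e01_W (nth [] e01_V k)) (rep [nat_lit 6] j)) [k]) [0, 1, 2, 3]) (List.range 5) = true := by decide +kernel
theorem e11 : allB (fun r => anyB (fun j => eqK κ (fl e11_W r) (rep [nat_lit 5, nat_lit 6] j)) [0, 1, 2, 3]) H1.OnB.Rl = true ∧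
    allB (fun k => Nat.beq (ltAll 4 (nth [] e11_V k)) 0 && anyB (fun j =>
      eqK κ (app (fl e11_W (nth [] e11_V k)) (rep [nat_lit 5, nat_lit 6] j)) [k]) [0, 1, 2, 3]) (List.range 5) = true := by decide +kernel
theorem e13 : allB (fun r => anyB (fun j => eqK κ (fl e13_W r) (rep [nat_lit 5, nat_lit 6, nat_lit 6, nat_lit 6] j)) [0, 1, 2, 3]) H1.OnA.Rl = true ∧
    allB (fun k => Nat.beq (ltAll 4 (nth [] e13_V k)) 0 && anyB (fun j =>
      eqK κ (app (fl e13_W (nth [] e13_V k)) (rep [nat_lit 5, nat_lit 6, nat_lit 6, nat_lit 6] j)) [k]) [0, 1, 2, 3]) (List.range 5) = true := by decide +kernel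
theorem e12 : allB (fun r => anyB (fun j => eqK κ (fl e12_W r) (rep [nat_lit 5, nat_lit 6, nat_lit 6] j)) [0, 1, 2, 3]) H1.OnB.Rl = true ∧
    allB (fun k => Nat.beq (ltAll 4 (nth [] e12_V k)) 0 && anyB (fun j =>
      eqK κ (app (fl e12_W (nth [] e12_V k)) (rep [nat_lit 5, nat_lit 6, nat_lit 6] j)) [k]) [0, 1, 2, 3]) (List.range 5) = true := by decide +kernel
theorem e21 : allB (fun r => anyB (fun j => eqK κ (fl e21_W r) (rep [nat_lit 5, nat_lit 5, nat_lit 6] j)) [0, 1, 2, 3]) H1.OnA.Rl = true ∧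
    allB (fun k => Nat.beq (ltAll 4 (nth [] e21_V k)) 0 && anyB (fun j =>
      eqK κ (app (fl e21_W (nth [] e21_V k)) (rep [nat_lit 5, nat_lit 5, nat_lit 6] j)) [k]) [0, 1, 2, 3]) (List.range 5) = true := by decide +kernel

theorem md {G : Type*} [Group G] (e : gen H1.OnU.g 5 ≃* G) :
    ∃ (_ : MulAction G (Fin 448)) (g : ℕ → G), Md g (ptF 448) H1.OnU.P 448 5 H1.OnU.B 322560 ∧
      ∀ k < 5, (e.symm (g k)).1 = H1.OnU.g k :=
  exists_md H1.OnU.act (ptF_inj 448) H1.OnU.card H1.OnU.isBase md_b e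
theorem mds {G : Type*} [Group G] (e : gen H16.L34.g 6 ≃* G) :
    ∃ (_ : MulAction G (Fin 21)) (g : ℕ → G), Md g (ptF 21) H16.L34.P 21 6 H16.L34.B 20160 ∧
      ∀ k < 6, (e.symm (g k)).1 = H16.L34.g k :=
  exists_md H16.L34.act (ptF_inj 21) H16.L34.card H16.L34.isBase mds_b e
theorem a_m : ∀ k < 7, ∀ i < 448, (matEnt (wdsP H1.OnU.P a_W) a_P) k i = 0 := allZ2_sound a_m_a
theorem a_act {G Ω : Type*} [Group G] [MulAction G Ω] {g : ℕ → G} {pt : ℕ → Ω}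
    (M : Md g pt H1.OnU.P 448 5 H1.OnU.B 322560) : H16.Act (wds g a_W) pt a_P 448 7 :=
  act_mat (M.wact a_lt) a_m
theorem q_m : ∀ k < 5, ∀ i < 21, (matEnt (wdsP H16.L34.P q_W) q_P) k i = 0 := allZ2_sound q_m_a
theorem q_act {G Ω : Type*} [Group G] [MulAction G Ω] {g : ℕ → G} {pt : ℕ → Ω}
    (M : Md g pt H16.L34.P 21 6 H16.L34.B 20160) : H16.Act (wds g q_W) pt q_P 21 5 :=
  act_mat (M.wact q_lt) q_m
theorem q {G Ω : Type*} [Group G] [MulAction G Ω] {g : ℕ → G} {pt : ℕ → Ω}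
    (M : Md g pt H1.OnU.P 448 5 H1.OnU.B 322560) {T Ω' : Type*} [Group T] [MulAction T Ω'] {t : ℕ → T} {pt' : ℕ → Ω'}
    (Mt : Md t pt' H16.L34.P 21 6 H16.L34.B 20160) :
    ∃ f : G →* T, Function.Surjective f ∧ ∀ W, ltAll 5 W = 0 → f (evA g W) = evA (wds t q_W) W :=
  H15.CS.quot M H1.OnU.bound rc Mt (q_act Mt) q_r q_g
theorem k_act {G Ω : Type*} [Group G] [MulAction G Ω] {g : ℕ → G} {pt : ℕ → Ω}
    (M : Md g pt H1.OnU.P 448 5 H1.OnU.B 322560) : H16.Act (wds g k_W) pt k_P 448 2 :=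
  M.wact k_lt

end H1.Ou
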