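import Cfsg.Agent.H15.MX1
import Cfsg.Agent.H14.Mn10
import Cfsg.Prelude.Def_Spor_J3
import Cfsg.Prelude.Def_Spor_ON
import Cfsg.Prelude.Def_Spor_Ru
import Cfsg.Prelude.Def_Spor_M

/-! The pariahs are not sections of the Monster: vocabulary and the pieces of the proof. -/

set_option autoImplicit false
set_option linter.unusedSectionVars false

namespace H1.PA
open Cfsg H15 H19 H0 H0.Mo H0.Y H15.ML H15.MX Subgroup Function
open scoped commutatorElement symmDiff Pointwise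

abbrev nM : ℕ := 808017424794512875886459904961710757005754368000000000
abbrev nB : ℕ := 4154781481226426191177580544000000

section
variable {G : Type} [Group G]

/-- facts about the Monster that do not come from the centralizer of `z` alone -/
structure MF (z : G) : Prop where
  mg : MG z
  card : Nat.card G = nM
  six : ∀ p q, A2 z p → A2 z q → orderOf (p * q) ≤ 6
  cA : ∀ t, A2 z t → #C[t] = 2 * nB
  rB : ∀ t, A2 z t → ∀ X ≤ C[t], (∀ x ∈ X, x * x ∈ zpowers t) → #X ≤ 2 ^ 15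
  e6 : ∀ E, Pure z E → #E = 4 → ∀ P, PG 2 P → E ≤ P → P ≤ C(E) → ∀ a ∈ C(E) ⊓ N(P), ∀ b ∈ C(E) ⊓ N(P),
    orderOf a = 17 → orderOf b = 19 → P ≤ E

/-- Frattini covers -/
def Fra {S : Type} [Group S] (φ : G →* S) : Prop := Surjective φ ∧ φ.ker ≤ frattini G

/-- central extensions by a group of order 1 or 3 -/
def C3 {S : Type} [Group S] (φ : G →* S) : Prop := Surjective φ ∧ φ.ker ≤ center G ∧ #φ.ker ∣ 3

/-- elements of the Rudvalis group -/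
structure RP (a v g : G) : Prop where
  aa : a * a = 1
  six : ∃ h, 6 < orderOf (a * (h * a * h⁻¹))
  vv : v * v = 1
  v1 : v ≠ 1
  va : v ≠ a
  cm : v * a = a * v
  og : orderOf g = 13
  ga : g * a = a * g
  gv : g * v = v * g

/-- elements of the O'Nan group (`c = 1`) or its triple cover -/
structure OP (c z w x n m p q : G) : Prop where
  zz : z * z = 1
  six : ∃ h, 6 < orderOf (z * (h * z * h⁻¹))
  wz : w * z = z * w
  c1 : IsConj z w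
  c2 : IsConj z (w * z)
  ox : orderOf x = 7
  xz : x * z = z * x
  px : p * x = x * p
  qx : q * x = x * q
  pq : ∃ k : ℕ, ⁅p, q⁆ = x * c ^ k
  c3 : c ^ 3 = 1
  cz : c * z = z * c
  cw : c * w = w * c
  cx : c * x = x * c
  cn : c * n = n * c
  cm : c * m = m * c
  nz : n * z = z * n
  mz : m * z = z * m
  n3 : ∃ k : ℕ, n ^ 3 = c ^ k
  m3 : ∃ k : ℕ, m ^ 3 = c ^ k
  nm : ∃ k : ℕ, n * m = c ^ k * (m * n)
  nx : n * x * n⁻¹ = x ^ 2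
  cj : ∀ i < 3, ∀ j < 3, i + j ≠ 0 → ∃ g, ∃ k : ℕ, g * z = z * g ∧ g * c = c * g ∧ g * (n ^ i * m ^ j) * g⁻¹ = n * c ^ k

/-- `g` centralizes `z` and permutes the `s i` modulo `z` -/
def Ac (z : G) (s : Fin 5 → G) (g : G) (π : Fin 5 → Fin 5) : Prop :=
  g * z = z * g ∧ ∀ i, g * s i * g⁻¹ = s (π i) ∨ g * s i * g⁻¹ = s (π i) * z

/-- a word in four elements -/
def wd (a : Fin 4 → G) (i j k l : ℕ) : G := a 0 ^ i * a 1 ^ j * a 2 ^ k * a 3 ^ l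

/-- elements of the third Janko group or its triple cover -/
structure JP (z : G) (s : Fin 5 → G) (a : Fin 4 → G) (f y e ρ : G) : Prop where
  zz : z * z = 1
  six : ∃ h, 6 < orderOf (z * (h * z * h⁻¹))
  ss : ∀ i, s i * s i = 1
  sz : ∀ i, s i * z = z * s i
  an : ∀ i j, i ≠ j → s i * s j = z * (s j * s i)
  pr : s 0 * s 1 * s 2 * s 3 * s 4 = 1
  af : Ac z s f ![1, 2, 3, 4, 0]
  ay : Ac z s y ![0, 1, 3, 4, 2]
  ae : Ac z s e ![1, 0, 3, 2, 4]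
  aa : Ac z s (a 0) ![0, 2, 1, 4, 3]
  f5 : f ^ 5 = 1
  fy : (f * y) ^ 5 = 1
  y9 : y ^ 9 = 1
  ys : y * s 0 = s 0 * y
  ρ1 : ρ * z * ρ⁻¹ = s 0
  ρ2 : ρ * s 0 * ρ⁻¹ = s 0 * z
  a2 : ∀ k, a k * a k = 1
  az : ∀ k, a k * z = z * a k
  as : ∀ k, a k * s 0 = s 0 * a k
  ac : ∀ k l, ⁅a k, a l⁆ ∈ closure {z, s 0}
  y0 : y * a 0 * y⁻¹ = a 1
  y1 : y * a 1 * y⁻¹ * (a 0 * a 1)⁻¹ ∈ closure {z, s 0}
  y2 : y * a 2 * y⁻¹ = a 3
  y3 : y * a 3 * y⁻¹ * (a 2 * a 3)⁻¹ ∈ closure {z, s 0}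
  nz : ∀ i < 2, ∀ j < 2, ∀ k < 2, ∀ l < 2, i + j + k + l ≠ 0 → wd a i j k l ^ 2 ≠ 1 ∨
    (wd a i j k l * (s 1 * wd a i j k l * (s 1)⁻¹)) ^ 2 ≠ 1 ∧
      (wd a i j k l * (s 1 * wd a i j k l * (s 1)⁻¹)) ^ 2 ∈ closure {z, s 0}
  dec : ∃ r ∈ closure (Set.range s), ∃ r' ∈ closure (Set.range s), r * s 0 = s 0 * r ∧ a 0 = r * (ρ * r' * ρ⁻¹)
  w1 : ⁅a 0, ρ * s 1 * ρ⁻¹⁆ ^ 2 ≠ 1
  w2 : ⁅a 0, ρ * (ρ * s 1 * ρ⁻¹) * ρ⁻¹⁆ ^ 2 ≠ 1
  pg : IsPGroup 2 (closure (Set.range s ∪ Set.range a))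

/-- the group of order `2 ^ 35` over a singular four-group -/
abbrev O (z s : G) : Subgroup G := Qo s ⊓ C[z] ⊔ Qo z ⊓ C[s]

/-- the two code words (modulo the all-one word) attached to an element of `O z s` -/
def CD {z : G} (f : C[z] →* Spor.Co1) (R : G → Lam → Prop) (s a : G) (C D : Finset GolayPt) : Prop :=
  D ∈ cw ∧ ∃ (hC : C ∈ cw) (q p : G) (v : Lam), R q v ∧ p ∈ Qo s ∧ A f p (sgn hC) ∧ a = q * p ∧
    ∀ i, cf v i % 4 = if i ∈ D then 2 else 0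

end

/-- the trivial classes of code words -/
def Tr (C : Finset GolayPt) : Prop := C = ∅ ∨ C = Finset.univ

/-- the pairs of code words that belong to a trio -/
def Tri (C D : Finset GolayPt) : Prop := C ∈ cw ∧ D ∈ cw ∧ C ∩ D ∈ cw ∧ ¬ Tr C ∧ ¬ Tr D ∧ ¬ Tr (C ∆ D)

noncomputable def tr (g : Co0) : ℝ := Matrix.trace (H14.Mn.cm g)

/-- the calculus of the two code words -/
structure Cdk {G : Type} [Group G] {z : G} (f : C[z] →* Spor.Co1) (R : G → Lam → Prop) (s : G) : Prop where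
  ex : ∀ a ∈ O z s, ∃ C D, CD f R s a C D
  mul : ∀ {a a' C D C' D'}, CD f R s a C D → CD f R s a' C' D' → CD f R s (a * a') (C ∆ C') (D ∆ D')
  cz : CD f R s z ∅ ∅
  cj : ∀ {c σ k}, ∀ (hσ : σ ∈ M24) (hk : k ∈ cw), c ∈ C[s] → A f c (mono hσ hk) →
    ∀ {a C D}, CD f R s a C D → CD f R s (c * a * c⁻¹) (σ • C) (σ • D)
  k1 : ∀ {a C D}, CD f R s a C D → Tr C → a ∈ Qo z
  k2 : ∀ {a C D}, CD f R s a C D → Tr D → a ∈ Qo s
  k3 : ∀ {a C D}, CD f R s a C D → Tr (C ∆ D) → a ∈ Qo (s * z)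
  one : ∀ {C D}, CD f R s 1 C D → Tr C ∧ Tr D
  sq : ∀ {a C D}, CD f R s a C D → a * a ∈ zpowers z → C ∩ D ∈ cw
  cm : ∀ {a a' C D C' D'}, CD f R s a C D → CD f R s a' C' D' → ⁅a, a'⁆ ∈ zpowers z → (C ∩ D') ∆ (C' ∩ D) ∈ cw
  inO : ∀ {a C}, ∀ hC : C ∈ cw, A f a (sgn hC) → ¬ Tr C → a * a ∈ zpowers z → a ∈ O z s
  sz : Qo (s * z) ⊓ C[z] ≤ O z s

/-- traces -/
structure Trk : Prop where
  cj : ∀ g h : Co0, tr (g * h * g⁻¹) = tr h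
  inv : ∀ g : Co0, tr g⁻¹ = tr g
  neg : ∀ g : Co0, tr (coN * g) = -tr g
  sgn : ∀ {C} (h : C ∈ cw), tr (sgn h) = 24 - 2 * C.card
  nn : ∀ g ∈ NN, g ∉ EE → ∃ k : ℤ, tr g = k ∧ k ≤ 8
  rk : ∀ (L : AddSubgroup Lam) (P : Matrix GolayPt GolayPt ℝ) (n : ℝ), n ≠ 0 →
    (∀ v, ∃ w ∈ L, n • P.mulVec (H14.Mn.rl v) = H14.Mn.rl w) → (∀ v ∈ L, P.mulVec (H14.Mn.rl v) = H14.Mn.rl v) →
      P.trace = Module.finrank ℤ L
  fx : ∀ (g : Co0) (p : ℕ), g ^ p = 1 → ∑ i ∈ Finset.range p, tr (g ^ i) = p * Module.finrank ℤ (Fx g)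
  r1 : ∀ L : AddSubgroup Lam, Module.finrank ℤ L = 1 → ∀ a ∈ L, ∀ b ∈ L, sqNorm (cf a) = sqNorm (cf b) → b = a ∨ b = -a
  pos : ∀ L : AddSubgroup Lam, (∀ u, u + u ∈ L → u ∈ L) → Module.finrank ℤ L ≠ 0 → ∃ a ∈ L, ¬ Cg a 0
  r3 : ∀ L : AddSubgroup Lam, (∀ u, u + u ∈ L → u ∈ L) → 3 ≤ Module.finrank ℤ L → (∀ v ∈ L, 32 ∣ sqNorm (cf v)) →
    ∃ a ∈ L, ¬ Cg a 0 ∧ 64 ∣ sqNorm (cf a)

/-! ### the pieces: the Monster -/

def SIX : Prop := ∀ z : Spor.Monster, MG z → ∀ p q, A2 z p → A2 z q → orderOf (p * q) ≤ 6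
def CB : Prop := ∀ z : Spor.Monster, MG z → ∀ t, A2 z t → #C[t] = 2 * nB ∧
  ∀ X ≤ C[t], (∀ x ∈ X, x * x ∈ zpowers t) → #X ≤ 2 ^ 15
def E6a : Prop := ∀ (K : Type) [Field K] [Fintype K], Fintype.card K = 4 → ∀ x : Lie.twistedE6 K 2,
  orderOf x = 17 ∨ orderOf x = 19 → ¬ 2 ∣ #C[x]
def E6b : Prop := E6a → ∀ z : Spor.Monster, MG z → ∀ E, Pure z E → #E = 4 → ∀ P, PG 2 P → E ≤ P → P ≤ C(E) →
  ∀ a ∈ C(E) ⊓ N(P), ∀ b ∈ C(E) ⊓ N(P), orderOf a = 17 → orderOf b = 19 → P ≤ E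
def HE : Prop := ∀ (G : Type) [Group G] [Finite G] (z s x : G), MG z → IsConj z s → s ∈ Qo z → s ≠ z →
  x ∈ C[z] → x ∈ C[s] → orderOf x = 7 → x ∉ ⁅C[x], C[x]⁆

/-! ### the pieces: reduction to subgroups -/

def RD0 : Prop := ∀ (G : Type) [Group G] [Finite G] (A : Subgroup G) (S : Type) [Group S] (ψ : A →* S),
  Surjective ψ → ∃ (H : Subgroup G) (φ : H →* S), Fra φ
/-- the odd part of the kernel -/
def RD1 : Prop := ∀ (Γ : Type) [Group Γ] [Finite Γ] (S : Type) [Group S] [IsSimpleGroup S] (φ : Γ →* S), Fra φ →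
  Nat.card Γ ∣ nM → Nat.card S = 145926144000 ∨ Nat.card S = 460815505920 ∨ Nat.card S = 50232960 →
  commutator Γ = ⊤ ∧ ((∀ P ≤ φ.ker, P.Normal → PG 2 P → P ≤ center Γ) → φ.ker ≤ center Γ)
/-- the even part of the kernel -/
def RD2 : Prop := ∀ (G : Type) [Group G] [Finite G] (z : G), MF z → ∀ (H : Subgroup G) (S : Type) [Group S]
  [IsSimpleGroup S] (φ : H →* S), Fra φ → Nat.card S = 145926144000 ∨ Nat.card S = 460815505920 →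
  ∀ P ≤ φ.ker, P.Normal → PG 2 P → P = ⊥
def RD3 : Prop := ∀ (G : Type) [Group G] [Finite G] (z : G), MF z → ∀ (H : Subgroup G) (S : Type) [Group S]
  [IsSimpleGroup S] (φ : H →* S), Fra φ → Nat.card S = 50232960 →
  ∀ P ≤ φ.ker, P.Normal → PG 2 P → P ≤ center H

/-! ### the pieces: elements of the three groups -/

def RP0 : Prop := ∃ a v g : Spor.Ru, RP a v g
def OP0 : Prop := ∃ z w x n m p q : Spor.ON, OP 1 z w x n m p q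
def JP0 : Prop := ∀ (F : Type) [Field F] [Fintype F] (ω : F), Fintype.card F = 4 → ω ^ 2 + ω + 1 = 0 →
  ∃ (z : Spor.J3 F ω) (s : _) (a : _) (f y e ρ : _), JP z s a f y e ρ ∧ y ^ 3 = 1
def OL : Prop := ∀ (Γ : Type) [Group Γ] [Finite Γ] (S : Type) [Group S] (φ : Γ →* S), C3 φ →
  ∀ z w x n m p q : S, OP 1 z w x n m p q → ∃ c z w x n m p q : Γ, OP c z w x n m p q
def JL : Prop := ∀ (Γ : Type) [Group Γ] [Finite Γ] (S : Type) [Group S] (φ : Γ →* S), C3 φ →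
  ∀ (z : S) s a f y e ρ, JP z s a f y e ρ → y ^ 3 = 1 → ∃ (z : Γ) (s : _) (a : _) (f y e ρ : _), JP z s a f y e ρ

/-! ### the pieces: code, lattice, centralizer of `z` -/

def TR : Prop := Trk
def GC1 : Prop := ∀ C D, Tri C D → C.card = 8 ∨ C.card = 16
def GC3 : Prop := ∀ σ ∈ M24, ∀ C D : Finset GolayPt, Tri C D → Tri (C ∆ (σ • C)) (D ∆ (σ • D)) →
  (C ∩ σ • D) ∆ (σ • C ∩ D) ∈ cw → Tr (C ∆ (σ • σ • σ • C)) → Tr (D ∆ (σ • σ • σ • D)) →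
  Tr ((C ∆ (σ • C)) ∆ (σ • σ • C)) ∨ Tr ((D ∆ (σ • D)) ∆ (σ • σ • D)) ∨
    Tr (((C ∆ (σ • C)) ∆ (σ • σ • C)) ∆ ((D ∆ (σ • D)) ∆ (σ • σ • D)))
/-- the stabilizer of a dodecad has no elementary abelian subgroup of order 16 -/
def M12 : Prop := ∀ D ∈ cw, D.card = 12 → ∀ A ≤ M24, (∀ σ ∈ A, σ • D = D ∧ σ * σ = 1) → #A ≤ 8
def KI : Prop := ∀ γ : Co0, γ * γ = 1 → γ ∈ center Co0 ∨ IsConj ε γ ∨ IsConj ε (coN * γ) ∨
  ∃ (D : _) (hD : D ∈ cw) (k : Co0), D.card = 12 ∧ γ = k * sgn hD * k⁻¹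
def T4L : Prop := ∀ (δ : Co0) (v : Lam), IsConj ε δ → δ • v = -v →
  32 ∣ sqNorm (cf v) ∧ (64 ∣ sqNorm (cf v) → ¬ Cg v 0 → ∃ g : Co0, Cg v (g • lE))
/-- classes of vectors supported on four points -/
def S4L : Prop := ∀ T : Finset GolayPt, T.card ≤ 4 → ∃ t : Lam, ∀ v : Lam, (∀ i ∉ T, cf v i = 0) →
  64 ∣ sqNorm (cf v) → Cg v 0 ∨ Cg v lE ∨ Cg v t ∨ Cg v (t + lE)
def FX : Prop := ∀ (g : Co0) (v : Lam), Cg (g • v) v → ¬ Cg v 0 →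
  orderOf g ≠ 13 ∧ (orderOf g = 7 → ∃ k : Co0, Cg (g • k • lE) (k • lE))

def CDK : Prop := ∀ (G : Type) [Group G] [Finite G] (z s : G) (f : C[z] →* Spor.Co1) (R : G → Lam → Prop),
  MG z → MT (Qo z) z f R → R s lE → Cdk f R s
def KL : Prop := ∀ (G : Type) [Group G] [Finite G] (z w : G) (f : C[z] →* Spor.Co1) (R : G → Lam → Prop),
  MG z → MT (Qo z) z f R → w ∈ C[z] → w * w = 1 → w ∉ Qo z → (∃ δ, IsConj ε δ ∧ A f w δ) ∨
    KindC z z w ∧ ∃ (D : _) (hD : D ∈ cw) (k : Co0), D.card = 12 ∧ A f w (k * sgn hD * k⁻¹)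
def DL : Prop := ∀ (G : Type) [Group G] [Finite G] (z w : G) (f : C[z] →* Spor.Co1) (R : G → Lam → Prop),
  MG z → MT (Qo z) z f R → ∀ (D : _) (hD : D ∈ cw) (k : Co0), D.card = 12 → A f w (k * sgn hD * k⁻¹) →
    w * w ∈ zpowers z → w * w = 1
def AK : Prop := ∀ (G : Type) [Group G] [Finite G] (z s w : G) (f : C[z] →* Spor.Co1) (R : G → Lam → Prop),
  MG z → MT (Qo z) z f R → ∀ (δ : Co0) (v : Lam), IsConj ε δ → A f w δ → w * w = 1 → R s v → δ • v = -v →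
    IsConj z s → s ≠ z → w ∈ O z s
/-- an element of odd order centralizing a pure four-group has fixed points on `Q / ⟨z⟩` -/
def FPF : Prop := ∀ (G : Type) [Group G] [Finite G] (z w g : G), MG z → w ∈ C[z] → IsConj z w → IsConj z (w * z) →
  g ∈ C[z] → g ∈ C[w] → Odd (orderOf g) → ¬ Qo z ⊓ C[g] ≤ zpowers z
def X4 : Prop := ∀ (G : Type) [Group G] [Finite G] (z : G), MG z → ∀ D ≤ Qo z, z ∈ D → 2 ^ 8 ≤ #D →
  ∃ s ∈ D, IsConj z s ∧ s ≠ z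

/-! ### the pieces: the three groups are not subgroups -/

def RU : Prop := ∀ (G : Type) [Group G] [Finite G] (a v g : G), MG a → ¬ RP a v g
def OM : Prop := ∀ (G : Type) [Group G] [Finite G] (c z w x n m p q : G), MG z → ¬ OP c z w x n m p q
def J1 : Prop := ∀ (G : Type) [Group G] [Finite G] (z : G) s a f y e ρ, MG z → JP z s a f y e ρ → s 0 ∉ Qo z
def JC : Prop := ∀ (G : Type) [Group G] [Finite G] (z : G) s a f y e ρ (φ : C[z] →* Spor.Co1) (R : G → Lam → Prop),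
  MG z → MT (Qo z) z φ R → JP z s a f y e ρ → KindC z z (s 0) →
    ∀ (D : _) (hD : D ∈ cw) (k : Co0), D.card = 12 → ¬ A φ (s 0) (k * sgn hD * k⁻¹)
/-- the frame -/
def JB : Prop := ∀ (G : Type) [Group G] [Finite G] (z : G) s a f y e ρ (φ : C[z] →* Spor.Co1) (R : G → Lam → Prop),
  MG z → MT (Qo z) z φ R → JP z s a f y e ρ → ∀ δ, IsConj ε δ → A φ (s 0) δ →
    ∃ t ∈ Qo z, IsConj z t ∧ t ≠ z ∧ y ∈ C[t] ∧ s 2 ∈ O z t ∧ s 3 ∈ O z t ∧ s 4 ∈ O z t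
def JF : Prop := ∀ (G : Type) [Group G] [Finite G] (z : G) s a f y e ρ, MG z → JP z s a f y e ρ → s 0 ∉ Qo z →
  ∀ t ∈ Qo z, IsConj z t → t ≠ z → y ∈ C[t] → s 2 ∈ O z t → s 3 ∈ O z t → s 4 ∉ O z t

end H1.PA
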