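import Cfsg.Agent.H1.PA0
import Cfsg.Agent.H15.MX2
import Cfsg.Agent.H15.MX5
import Cfsg.Agent.H15.MX6
import Cfsg.Agent.H2.MX1
import Cfsg.Agent.H2.MX2
import Cfsg.Agent.H2.MX3
import Cfsg.Agent.H3.MX2
import Cfsg.Agent.H19.MX1
import Cfsg.Agent.H25.MX1

/-! The pariahs are not sections of the Monster: a small kit. -/

set_option autoImplicit false
set_option linter.unusedSectionVars false

namespace H1.PA
open Cfsg H15 H19 H0 H0.Mo H0.Y H15.ML H15.MX Subgroup Function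

variable {G : Type} [Group G] [Finite G] {z : G}

theorem cx (h : MG z) : ∃ 𝒜, Cx z 𝒜 ∧ Ta z := by
  obtain ⟨s, f, R, L, -, M, r⟩ := h.ex
  obtain ⟨e, T⟩ := ten M L r
  have sq := H15.MX.sq' G z h (H3.MX.sc G z h)
  have ar := H15.MX.ar G z s f R e T h
  have la := fun g => H2.MX.la G z _ h (ar g)
  have lc := fun g => H2.MX.lc G z _ h (ar g) (la g)
  exact ⟨fun E => ∃ g, E = cj g T.E, ⟨h, by rintro _ ⟨g, rfl⟩; exact ar g, by rintro _ ⟨g, rfl⟩; exact la g,
    by rintro _ ⟨g, rfl⟩; exact H2.MX.lb G z _ h (ar g) (la g), by rintro _ ⟨g, rfl⟩; exact lc g,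
    by rintro _ ⟨g, rfl⟩; exact H19.MX.kb G z _ h sq (ar g) (la g) (lc g) (H19.MX.ka G z _ h (ar g) (la g) (lc g)),
    by rintro _ k ⟨g, rfl⟩; exact ⟨k * g, (cj_mul k g _).symm⟩,
    fun a b c d => (H15.MX.kd' G z s f R e T h _ _ a b c d).imp_left fun ⟨g, k⟩ => ⟨_, ⟨g, rfl⟩, k⟩, sq,
    fun A a => (RK.rank h).2 A (abelem2_iff.2 a).1 fun x hx => by rw [pow_two, a x hx]⟩, H15.MX.ta G z h⟩

/-- pure subgroups have at most four elements; those of the same order are conjugate -/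
theorem pure_le (h : MG z) {X : Subgroup G} (a : Pure z X) : #X ≤ 4 :=
  let ⟨𝒜, c, t⟩ := cx h; let ⟨u, b, l⟩ := H25.MX.ca G z 𝒜 c X a; t.le u b X l a

theorem pure_conj (h : MG z) {X X' : Subgroup G} (a : Pure z X) (a' : Pure z X') (e : #X = #X') : ∃ g, cj g X = X' :=
  let ⟨𝒜, c, t⟩ := cx h; let ⟨u, b, l⟩ := H25.MX.ca G z 𝒜 c X a; let ⟨u', b', l'⟩ := H25.MX.ca G z 𝒜 c X' a'
  t.conj u u' b b' X l X' l' a a' e

variable {f : C[z] →* Spor.Co1} {g : G} {γ γ' : Co0}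

theorem A_N (a : A f g γ) : A f g (coN * γ) := by
  simpa using (A.one (f := f) coN_mem_center).mul a

theorem N_cm (γ : Co0) : γ * coN = coN * γ := Subgroup.mem_center_iff.1 coN_mem_center γ

/-- two lifts differ by a sign -/
theorem A_two (a : A f g γ) (b : A f g γ') : γ' = γ ∨ γ' = coN * γ := by
  have := b.mul a.inv
  rw [mul_inv_cancel] at this
  exact (H15.mem_center_iff.1 this.cen).imp mul_inv_eq_one.1 mul_inv_eq_iff_eq_mul.1

theorem N_pow {n : ℕ} (hn : Odd n) (γ : Co0) : (coN * γ) ^ n = coN * γ ^ n := by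
  obtain ⟨k, rfl⟩ := hn
  rw [(show Commute coN γ from (N_cm γ).symm).mul_pow, pow_succ, pow_mul, pow_two, coN_mul_self, one_pow, one_mul]

/-- the lift of odd order -/
theorem A_odd {n : ℕ} (hn : Odd n) (hg : g ∈ C[z]) (e : g ^ n = 1) : ∃ γ, A f g γ ∧ γ ^ n = 1 := by
  obtain ⟨γ, a⟩ := A.tot (f := f) hg
  have := a.pow n
  rw [e] at this
  rcases H15.mem_center_iff.1 this.cen with c | c
  · exact ⟨γ, a, c⟩
  · exact ⟨_, A_N a, by rw [N_pow hn, c, coN_mul_self]⟩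

theorem A_odd_eq {n : ℕ} (hn : Odd n) (a : A f g γ) (b : A f g γ') (e : γ ^ n = 1) (e' : γ' ^ n = 1) : γ' = γ :=
  (A_two a b).resolve_right fun c => coN_ne_one (by rwa [c, N_pow hn, e, mul_one] at e')

/-- an element of odd order that fixes `x` up to the sign `z` fixes it -/
theorem odd_fix {H : Type} [Group H] {y x c : H} {n : ℕ} (hn : Odd n) (e : y ^ n = 1) (cc : c * c = 1) (yc : y * c = c * y)
    (h : y * x * y⁻¹ = x ∨ y * x * y⁻¹ = x * c) : y * x = x * y := by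
  refine h.elim mul_inv_eq_iff_eq_mul.1 fun h => ?_
  have k : ∀ m : ℕ, y ^ m * x * (y ^ m)⁻¹ = x * c ^ m := fun m => by
    induction m with
    | zero => simp
    | succ m ih =>
      have : y * c ^ m * y⁻¹ = c ^ m := by rw [(show Commute y c from yc).pow_right m, mul_inv_cancel_right]
      calc _ = y * (y ^ m * x * (y ^ m)⁻¹) * y⁻¹ := by group
        _ = (y * x * y⁻¹) * (y * c ^ m * y⁻¹) := by rw [ih]; group
        _ = _ := by rw [h, this, pow_succ', mul_assoc]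
  obtain ⟨m, rfl⟩ := hn
  have := k (2 * m + 1)
  rw [e, pow_succ, pow_mul, pow_two, cc] at this
  have c1 : c = 1 := by simpa using this
  rw [c1, mul_one] at h
  exact mul_inv_eq_iff_eq_mul.1 h

end H1.PA
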