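import Cfsg.Agent.H1.PA0
import Cfsg.Prelude.Def_KGroupFacts

/-! The pariahs are not sections of the Monster: putting the pieces together. -/

set_option autoImplicit false
set_option linter.unusedSectionVars false

namespace H1.PA
open Cfsg H15 H19 H0 H0.Mo H0.Y H15.ML H15.MX Subgroup Function
open scoped commutatorElement

section
variable {G H : Type} [Group G] [Group H] {i : H →* G}

theorem mp {a b : H} (i : H →* G) (e : a = b) : i a = i b := congrArg i e

theorem six_map (hi : Injective i) {a : H} (h : ∃ g, 6 < orderOf (a * (g * a * g⁻¹))) :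
    ∃ g, 6 < orderOf (i a * (g * i a * g⁻¹)) :=
  let ⟨g, e⟩ := h; ⟨i g, by rwa [← map_inv, ← map_mul, ← map_mul, ← map_mul, orderOf_injective i hi]⟩

theorem RP.map (hi : Injective i) {a v g : H} (h : RP a v g) : RP (i a) (i v) (i g) :=
  ⟨by simpa using mp i h.aa, six_map hi h.six, by simpa using mp i h.vv, fun e => h.v1 (hi (e.trans i.map_one.symm)),
    hi.ne h.va, by simpa using mp i h.cm, (orderOf_injective i hi g).trans h.og, by simpa using mp i h.ga,
    by simpa using mp i h.gv⟩

theorem OP.map (hi : Injective i) {c z w x n m p q : H} (h : OP c z w x n m p q) :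
    OP (i c) (i z) (i w) (i x) (i n) (i m) (i p) (i q) :=
  ⟨by simpa using mp i h.zz, six_map hi h.six, by simpa using mp i h.wz, i.map_isConj h.c1,
    by simpa using i.map_isConj h.c2, (orderOf_injective i hi x).trans h.ox, by simpa using mp i h.xz,
    by simpa using mp i h.px, by simpa using mp i h.qx, h.pq.imp fun k e => by simpa using mp i e,
    by simpa using mp i h.c3, by simpa using mp i h.cz, by simpa using mp i h.cw, by simpa using mp i h.cx,
    by simpa using mp i h.cn, by simpa using mp i h.cm, by simpa using mp i h.nz, by simpa using mp i h.mz,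
    h.n3.imp fun k e => by simpa using mp i e, h.m3.imp fun k e => by simpa using mp i e,
    h.nm.imp fun k e => by simpa using mp i e, by simpa using mp i h.nx, fun a ha b hb e =>
      let ⟨g, k, e1, e2, e3⟩ := h.cj a ha b hb e
      ⟨i g, k, by simpa using mp i e1, by simpa using mp i e2, by simpa using mp i e3⟩⟩

theorem Ac.map {z g : H} {s π} (h : Ac z s g π) : Ac (i z) (fun k => i (s k)) (i g) π :=
  ⟨by simpa using mp i h.1, fun k => (h.2 k).imp (fun e => by simpa using mp i e) fun e => by simpa using mp i e⟩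

theorem cl_map {x : H} {S : Set H} {T : Set G} (h : x ∈ closure S) (e : ∀ y ∈ S, i y ∈ T) : i x ∈ closure T :=
  (closure_le (K := (closure T).comap i)).2 (fun y hy => subset_closure (e y hy)) h

theorem JP.map (hi : Injective i) {z f y e ρ : H} {s a} (h : JP z s a f y e ρ) :
    JP (i z) (fun k => i (s k)) (fun k => i (a k)) (i f) (i y) (i e) (i ρ) := by
  have V : ∀ {x}, x ∈ closure {z, s 0} → i x ∈ closure {i z, i (s 0)} := fun hx => cl_map hx (by simp)
  have S : ∀ {x}, x ∈ closure (Set.range s) → i x ∈ closure (Set.range fun k => i (s k)) := fun hx => cl_map hx (by simp)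
  have N : ∀ {x}, x ≠ 1 → i x ≠ 1 := fun hx e => hx (hi (e.trans i.map_one.symm))
  have W : ∀ p q r t, wd (fun k => i (a k)) p q r t = i (wd a p q r t) := fun p q r t => by simp [wd]
  obtain ⟨r, hr, r', hr', d1, d2⟩ := h.dec
  exact ⟨by simpa using mp i h.zz, six_map hi h.six, fun k => by simpa using mp i (h.ss k), fun k => by simpa using mp i (h.sz k),
    fun k l n => by simpa using mp i (h.an k l n), by simpa using mp i h.pr, h.af.map, h.ay.map, h.ae.map, h.aa.map,
    by simpa using mp i h.f5, by simpa using mp i h.fy, by simpa using mp i h.y9, by simpa using mp i h.ys,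
    by simpa using mp i h.ρ1, by simpa using mp i h.ρ2, fun k => by simpa using mp i (h.a2 k), fun k => by simpa using mp i (h.az k),
    fun k => by simpa using mp i (h.as k), fun k l => by simpa using V (h.ac k l), by simpa using mp i h.y0,
    by simpa using V h.y1, by simpa using mp i h.y2, by simpa using V h.y3, fun p hp q hq r hr t ht n => by
      rw [W]
      exact (h.nz p hp q hq r hr t ht n).imp (fun e => by simpa using N e) (.imp (fun e => by simpa using N e) fun e => by simpa using V e),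
    ⟨_, S hr, _, S hr', by simpa using mp i d1, by simpa using mp i d2⟩, by simpa using N h.w1, by simpa using N h.w2,
    (h.pg.map i).to_le (by
      rw [closure_le]
      rintro _ (⟨k, rfl⟩ | ⟨k, rfl⟩) <;> exact mem_map_of_mem i (subset_closure (by simp)))⟩

theorem MF.of_six [Finite G] {z a : G} (h : MF z) (aa : a * a = 1) (s : ∃ g, 6 < orderOf (a * (g * a * g⁻¹))) : MG a := by
  obtain ⟨g, s⟩ := s
  refine h.mg.conj (by_contra fun c => ?_)
  have : A2 z a := ⟨aa, fun e => by simp [e] at s, c⟩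
  exact s.not_ge (h.six _ _ this (this.cj g))

theorem ker_dvd [Finite H] {n : ℕ} [NeZero n] (m : HasCyclicSchurMultiplier G n) (a : Surjective i)
    (b : i.ker ≤ center H) (c : commutator H = ⊤) : #i.ker ∣ n := by
  obtain ⟨π, hπ⟩ := m.2 H i ⟨a, b, c ▸ le_top⟩
  simpa using card_dvd_of_surjective π hπ
end

section
variable {G : Type} [Group G] [Finite G] {z : G} (h : MF z) {A : Subgroup G} {S : Type} [Group S] [IsSimpleGroup S]
  {ψ : A →* S} (hψ : Surjective ψ) (rd0 : RD0) (rd1 : RD1)
include h hψ rd0 rd1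

theorem no_ru (rd2 : RD2) (ru : RU) (c : Nat.card S = 145926144000) (m : HasCyclicSchurMultiplier S 2) (a v g : S) :
    ¬ RP a v g := fun r => by
  obtain ⟨H, φ, F⟩ := rd0 G A S ψ hψ
  have k := rd2 G z h H S φ F (.inl c)
  obtain ⟨p, q⟩ := rd1 H S φ F (h.card ▸ card_subgroup_dvd_card H) (.inl c)
  have d := ker_dvd m F.1 (q fun P a b c => k P a b c ▸ bot_le) p
  have e := MulEquiv.ofBijective φ ⟨(MonoidHom.ker_eq_bot_iff φ).1 (k _ le_rfl inferInstance
    fun p a b => (Nat.prime_dvd_prime_iff_eq a Nat.prime_two).1 (b.trans d)), F.1⟩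
  have r := r.map (i := H.subtype.comp e.symm.toMonoidHom) (H.subtype_injective.comp e.symm.injective)
  exact ru G _ _ _ (h.of_six r.aa r.six) r

theorem no_on (rd2 : RD2) (ol : OL) (om : OM) (c : Nat.card S = 460815505920) (m : HasCyclicSchurMultiplier S 3)
    (z w x n m p q : S) : ¬ OP 1 z w x n m p q := fun r => by
  obtain ⟨H, φ, F⟩ := rd0 G A S ψ hψ
  obtain ⟨p, q⟩ := rd1 H S φ F (h.card ▸ card_subgroup_dvd_card H) (.inr (.inl c))
  have q := q fun P a b d => rd2 G _ h H S φ F (.inr c) P a b d ▸ bot_le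
  obtain ⟨_, _, _, _, _, _, _, _, r⟩ := ol H S φ ⟨F.1, q, ker_dvd ‹_› F.1 q p⟩ _ _ _ _ _ _ _ r
  have r := r.map H.subtype_injective
  exact om G _ _ _ _ _ _ _ _ (h.of_six r.zz r.six) r

theorem no_j3 (rd3 : RD3) (jl : JL) (kl : KL) (j1 : J1) (jc : JC) (jb : JB) (jf : JF) (c : Nat.card S = 50232960)
    (m : HasCyclicSchurMultiplier S 3) (z : S) (s a f y e ρ) (y3 : y ^ 3 = 1) : ¬ JP z s a f y e ρ := fun r => by
  obtain ⟨H, φ, F⟩ := rd0 G A S ψ hψ
  obtain ⟨p, q⟩ := rd1 H S φ F (h.card ▸ card_subgroup_dvd_card H) (.inr (.inr c))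
  have q := q (rd3 G _ h H S φ F c)
  obtain ⟨_, _, _, _, _, _, _, r⟩ := jl H S φ ⟨F.1, q, ker_dvd m F.1 q p⟩ _ _ _ _ _ _ _ r y3
  have r := r.map H.subtype_injective
  have mg := h.of_six r.zz r.six
  obtain ⟨_, f, R, -, -, M, -⟩ := mg.ex
  have n := j1 G _ _ _ _ _ _ _ mg r
  rcases kl G _ _ f R mg M (mem_cent1.2 (r.sz 0)) (r.ss 0) n with ⟨δ, a, b⟩ | ⟨a, D, hD, k, b, c⟩
  · obtain ⟨t, a, b, c, d, e, f, g⟩ := jb G _ _ _ _ _ _ _ f R mg M r δ a b
    exact jf G _ _ _ _ _ _ _ mg r n t a b c d e f g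
  · exact jc G _ _ _ _ _ _ _ f R mg M r a D hD k b c
end

end H1.PA
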