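import Cfsg.Agent.H2.PA1

/-! Five commuting involutions of trace eight in the Conway group. -/

set_option autoImplicit false
set_option linter.unusedSectionVars false

namespace H1.PA
open Cfsg H15 H19 H0 H0.Mo H0.Y H15.ML H15.MX Subgroup Function H14.Mn Matrix

/-- the vectors negated by `a` -/
def Ng (a : Co0) : AddSubgroup Lam where
  carrier := {v | a • v = -v}
  zero_mem' := by simp [co_zero]
  add_mem' := fun h h' => by rw [Set.mem_ofPred_eq, co_add, h, h', neg_add]
  neg_mem' := fun h => by rw [Set.mem_ofPred_eq, co_neg, h]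

theorem Ng_half {a : Co0} {u : Lam} (h : u + u ∈ Ng a) : u ∈ Ng a := Subtype.ext (funext fun i => by
  have := congrArg (fun x => cf x i) (show a • (u + u) = -(u + u) from h)
  simp only [co_add] at this
  change cf (a • u) i + cf (a • u) i = -(cf u i + cf u i) at this
  change cf (a • u) i = -cf u i
  omega)

theorem rl_sub (a : Co0) (v : Lam) : (1 - cm a) *ᵥ rl v = rl (v - a • v) := by
  rw [sub_mulVec, one_mulVec, cm_vec]
  funext i
  exact (Int.cast_sub _ _).symm

theorem Ng_sub {a b : Co0} {v : Lam} (c : a * b = b * a) (h : v ∈ Ng b) : v - a • v ∈ Ng b := by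
  refine sub_mem h ?_
  show b • a • v = _
  rw [← mul_smul, ← c, mul_smul, show b • v = -v from h, co_neg]

theorem Ng_self {a : Co0} (h : a * a = 1) (v : Lam) : v - a • v ∈ Ng a := by
  show a • _ = _
  rw [co_sub, ← mul_smul, h, one_smul, neg_sub]

theorem rl_Ng {a : Co0} {v : Lam} (h : v ∈ Ng a) : (1 - cm a) *ᵥ rl v = (2 : ℝ) • rl v := by
  rw [rl_sub, show a • v = -v from h, sub_neg_eq_add]
  funext i
  exact (Int.cast_add _ _).trans (two_mul _).symm

theorem rk4 (T : Trk) {a b c d : Co0} (aa : a * a = 1) (bb : b * b = 1) (cc : c * c = 1) (dd : d * d = 1)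
    (ab : a * b = b * a) (ac : a * c = c * a) (ad : a * d = d * a) (bc : b * c = c * b) (bd : b * d = d * b)
    (cd : c * d = d * c) : 16 * (Module.finrank ℤ ↥(Ng a ⊓ Ng b ⊓ Ng c ⊓ Ng d) : ℝ) = 24 - (tr a + tr b + tr c + tr d) +
      (tr (a * b) + tr (a * c) + tr (a * d) + tr (b * c) + tr (b * d) + tr (c * d)) -
      (tr (a * b * c) + tr (a * b * d) + tr (a * c * d) + tr (b * c * d)) + tr (a * b * c * d) := by
  rw [← T.rk (Ng a ⊓ Ng b ⊓ Ng c ⊓ Ng d) ((16⁻¹ : ℝ) • ((1 - cm a) * (1 - cm b) * (1 - cm c) * (1 - cm d))) 16 (by norm_num) (fun v => ⟨_,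
    ⟨⟨⟨Ng_self aa _, Ng_sub ab (Ng_self bb _)⟩, Ng_sub ac (Ng_sub bc (Ng_self cc _))⟩,
      Ng_sub ad (Ng_sub bd (Ng_sub cd (Ng_self dd v)))⟩, by
      rw [smul_mulVec, smul_smul, mul_inv_cancel₀ (by norm_num), one_smul, ← rl_sub, ← rl_sub, ← rl_sub, ← rl_sub]
      simp only [mulVec_mulVec, Matrix.mul_assoc]⟩) fun v ⟨⟨⟨h1, h2⟩, h3⟩, h4⟩ => by
      simp only [smul_mulVec, ← mulVec_mulVec, rl_Ng h4, mulVec_smul, rl_Ng h3, rl_Ng h2, rl_Ng h1, smul_smul]
      norm_num]
  simp only [tr, cm_mul, trace_smul, Matrix.mul_sub, Matrix.sub_mul, Matrix.one_mul, Matrix.mul_one, trace_sub, trace_one,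
    card_pt, smul_eq_mul, Matrix.mul_assoc]
  push_cast
  ring

/-- `g` permutes the `E i` -/
def Pm (E : Fin 5 → Co0) (g : Co0) (π : Fin 5 → Fin 5) : Prop := ∀ i, g * E i * g⁻¹ = E (π i)

theorem Pm.ng {E g π} (p : Pm E g π) {v : Lam} {i} (h : v ∈ Ng (E i)) : g • v ∈ Ng (E (π i)) := by
  show _ • _ = _
  rw [← p, mul_smul, inv_smul_smul, mul_smul, show E i • v = -v from h, co_neg]

theorem Pm.mul {E g g' π π'} (p : Pm E g π) (q : Pm E g' π') : Pm E (g * g') (π ∘ π') := fun i => by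
  rw [Function.comp, ← p, ← q]; group

theorem Pm.tr (T : Trk) {E g π} (p : Pm E g π) (i j) : tr (E (π i) * E (π j)) = tr (E i * E j) := by
  rw [← p, ← p, ← T.cj g (E i * E j)]; congr 1; group

theorem tr_ε (T : Trk) {δ : Co0} (c : IsConj ε δ) : tr δ = 8 := by
  obtain ⟨g, rfl⟩ := isConj_iff.1 c
  rw [T.cj, show ε = sgn O0_mem.1 from rfl, T.sgn, O0_mem.2]; norm_num

theorem sq_ε {δ : Co0} (c : IsConj ε δ) : δ * δ = 1 := by
  obtain ⟨g, rfl⟩ := isConj_iff.1 c
  rw [conj_mul, show ε * ε = 1 from sgn_sq _, mul_one, mul_inv_cancel]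

/-- an element of odd order fixes the vectors that it fixes up to sign -/
theorem odd_vec {g : Co0} {v : Lam} (e : g ^ 9 = 1) (h : g • v = v ∨ g • v = -v) : g • v = v := by
  refine h.elim id fun h => ?_
  have h2 : (g ^ 2) • v = v := by rw [pow_two, mul_smul, h, co_neg, h, neg_neg]
  have : g = (g ^ 2) ^ 5 := by rw [← pow_mul, show 2 * 5 = 9 + 1 from rfl, pow_succ, e, one_mul]
  rw [this]
  exact pow_mem (show g ^ 2 ∈ MulAction.stabilizer Co0 v from h2) 5

/-- an element of order five acting on at most three classes -/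
theorem fix5 {g : Co0} {S : Set Lam} {p q r v : Lam} (e : g ^ 5 ∈ center Co0) (hS : ∀ u ∈ S, g • u ∈ S)
    (h3 : ∀ u ∈ S, Cg u p ∨ Cg u q ∨ Cg u r) (hv : v ∈ S) : Cg (g • v) v := by
  have m : ∀ n : ℕ, (g ^ n) • v ∈ S := fun n => by
    induction n with
    | zero => simpa using hv
    | succ n ih => rw [pow_succ', mul_smul]; exact hS _ ih
  let K : Subgroup Co0 :=
    { carrier := {k | Cg (k • v) v}
      one_mem' := by simpa using Cg.refl v
      mul_mem' := fun {a b} x y => by rw [Set.mem_ofPred_eq, mul_smul]; exact (Cg.smul y a).trans x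
      inv_mem' := fun {a} x => Cg.of_smul (g := a) (by rw [smul_inv_smul]; exact Cg.symm x) }
  have k5 : g ^ 5 ∈ K := cg_center e v
  have k : ∀ i j : ℕ, Cg ((g ^ i) • v) ((g ^ (i + j)) • v) → g ^ j ∈ K := fun i j c =>
    Cg.of_smul (g := g ^ i) (by rw [← mul_smul, ← pow_add]; exact c.symm)
  have k1 : g ^ 1 ∈ K → g ∈ K := fun h => by simpa using h
  have k2 : g ^ 2 ∈ K → g ∈ K := fun h => by
    have := mul_mem k5 (inv_mem (pow_mem h 2))
    rwa [show g ^ 5 * ((g ^ 2) ^ 2)⁻¹ = g by group] at this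
  have k3 : g ^ 3 ∈ K → g ∈ K := fun h => by
    have := mul_mem (pow_mem h 2) (inv_mem k5)
    rwa [show (g ^ 3) ^ 2 * (g ^ 5)⁻¹ = g by group] at this
  have t : ∀ {i j : ℕ} {x}, Cg ((g ^ i) • v) x → Cg ((g ^ j) • v) x → i < j → j < 4 → g ∈ K := fun {i j x} a b l l' => by
    obtain ⟨j, rfl⟩ := Nat.exists_eq_add_of_le l.le
    have := k i j (a.trans b.symm)
    obtain rfl | rfl | rfl : j = 1 ∨ j = 2 ∨ j = 3 := by omega
    exacts [k1 this, k2 this, k3 this]
  show g ∈ K
  rcases h3 _ (m 0) with a | a | a <;> rcases h3 _ (m 1) with b | b | b <;> rcases h3 _ (m 2) with c | c | c <;>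
    rcases h3 _ (m 3) with d | d | d <;>
    first
    | exact t a b (by decide) (by decide) | exact t a c (by decide) (by decide) | exact t a d (by decide) (by decide)
    | exact t b c (by decide) (by decide) | exact t b d (by decide) (by decide) | exact t c d (by decide) (by decide)

end H1.PA
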