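import Cfsg.Agent.H1.PAb1

/-! Five commuting involutions of trace eight: the fixed frame. -/

set_option autoImplicit false
set_option linter.unusedSectionVars false

namespace H1.PA
open Cfsg H15 H19 H0 H0.Mo H0.Y H15.ML H15.MX Subgroup Function
open scoped symmDiff

theorem Pm.inv {E g π π'} (p : Pm E g π) (h : ∀ i, π (π' i) = i) : Pm E g⁻¹ π' := fun i => by
  conv_lhs => rw [← h i, ← p]
  group

theorem core (T : Trk) (s4 : S4L) {E : Fin 5 → Co0} {F Y e : Co0} (c : ∀ i, IsConj ε (E i))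
    (cm : ∀ i j, E i * E j = E j * E i) (pr : E 0 * E 1 * E 2 * E 3 * E 4 ∈ center Co0) (pF : Pm E F ![1, 2, 3, 4, 0])
    (pY : Pm E Y ![0, 1, 3, 4, 2]) (pe : Pm E e ![1, 0, 3, 2, 4]) (F5 : F ^ 5 ∈ center Co0) (FY : (F * Y) ^ 5 ∈ center Co0)
    (Y9 : Y ^ 9 = 1) (t : tr (E 0 * E 1) = 8 ∨ tr (E 0 * E 1) = -8)
    (ak : ∀ v, (∀ i, v ∈ Ng (E i)) → 64 ∣ sqNorm (cf v) → ¬ Cg v 0 → ∃ g : Co0, ∀ i, g⁻¹ * E i * g ∈ EE) :
    ∃ v, v ∈ Ng (E 2) ∧ v ∈ Ng (E 3) ∧ v ∈ Ng (E 4) ∧ Cg (Y • v) v ∧ 64 ∣ sqNorm (cf v) ∧ ¬ Cg v 0 := by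
  have q := fun i => sq_ε (c i)
  have t8 := fun i => tr_ε T (c i)
  have q' : ∀ i x, E i * (E i * x) = x := fun i x => by rw [← mul_assoc, q, one_mul]
  have lc : ∀ i j x, E i * (E j * x) = E j * (E i * x) := fun i j x => by rw [← mul_assoc, cm, mul_assoc]
  have h12 : tr (E 1 * E 2) = tr (E 0 * E 1) := pF.tr T 0 1
  have h23 : tr (E 2 * E 3) = tr (E 1 * E 2) := pF.tr T 1 2
  have h34 : tr (E 3 * E 4) = tr (E 2 * E 3) := pF.tr T 2 3
  have h40 : tr (E 4 * E 0) = tr (E 3 * E 4) := pF.tr T 3 4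
  have h13 : tr (E 1 * E 3) = tr (E 1 * E 2) := pY.tr T 1 2
  have h24 : tr (E 2 * E 4) = tr (E 1 * E 3) := pF.tr T 1 3
  have h30 : tr (E 3 * E 0) = tr (E 2 * E 4) := pF.tr T 2 4
  have h41 : tr (E 4 * E 1) = tr (E 3 * E 0) := pF.tr T 3 0
  have h02 : tr (E 0 * E 2) = tr (E 4 * E 1) := pF.tr T 4 1
  have r := rk4 T (q 1) (q 2) (q 3) (q 4) (cm 1 2) (cm 1 3) (cm 1 4) (cm 2 3) (cm 2 4) (cm 3 4)
  have e0 : E 1 * E 2 * E 3 * E 4 = E 0 * E 1 * E 2 * E 3 * E 4 * E 0 := by simp only [mul_assoc, cm, lc, q']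
  rw [e0, show E 1 * E 2 * E 3 = E 0 * E 1 * E 2 * E 3 * E 4 * (E 4 * E 0) by simp only [mul_assoc, cm, lc, q, q', mul_one],
    show E 1 * E 2 * E 4 = E 0 * E 1 * E 2 * E 3 * E 4 * (E 3 * E 0) by simp only [mul_assoc, cm, lc, q'],
    show E 1 * E 3 * E 4 = E 0 * E 1 * E 2 * E 3 * E 4 * (E 0 * E 2) by simp only [mul_assoc, cm, lc, q'],
    show E 2 * E 3 * E 4 = E 0 * E 1 * E 2 * E 3 * E 4 * (E 0 * E 1) by simp only [mul_assoc, cm, lc, q'],
    cm 1 4, t8, t8, t8, t8] at r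
  set L := Ng (E 1) ⊓ Ng (E 2) ⊓ Ng (E 3) ⊓ Ng (E 4)
  have mL : ∀ {v}, v ∈ L ↔ ∀ i ≠ 0, v ∈ Ng (E i) := ⟨fun ⟨⟨⟨a, b⟩, c⟩, d⟩ i n => by fin_cases i; exacts [absurd rfl n, a, b, c, d],
    fun h => ⟨⟨⟨h 1 (by decide), h 2 (by decide)⟩, h 3 (by decide)⟩, h 4 (by decide)⟩⟩
  have sat : ∀ u, u + u ∈ L → u ∈ L := fun u h => mL.2 fun i n => Ng_half (mL.1 h i n)
  have n32 : ∀ {v}, v ∈ Ng (E 2) → 32 ∣ sqNorm (cf v) := fun h => (H2.PA.t4l _ _ (c 2) h).1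
  have f4 : ∀ v ∈ L, (E 1 * E 2 * E 3 * E 4) • v = v := fun v ⟨⟨⟨a, b⟩, c⟩, d⟩ => by
    rw [mul_smul, mul_smul, mul_smul, show E 4 • v = -v from d, co_neg, show E 3 • v = -v from c, neg_neg,
      show E 2 • v = -v from b, co_neg, show E 1 • v = -v from a, neg_neg]
  have r0 : (0 : ℝ) ≤ Module.finrank ℤ L := Nat.cast_nonneg _
  rcases H15.mem_center_iff.1 pr with k | k <;> rw [k] at r e0
  · simp only [one_mul, t8] at r e0
    have r1 : Module.finrank ℤ L = 1 := by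
      rcases t with t | t
      · exact_mod_cast (by linarith : (Module.finrank ℤ L : ℝ) = 1)
      · linarith
    obtain ⟨a, aL, a0⟩ := T.pos L sat (by omega)
    have fx : ∀ {g π}, Pm E g π → g ^ 9 = 1 → (∀ j ≠ 0, ∃ i ≠ 0, π i = j) → g • a = a := fun p g9 h =>
      odd_vec g9 (T.r1 L r1 a aL _ (mL.2 fun j n => let ⟨i, m, e⟩ := h j n; e ▸ p.ng (mL.1 aL i m)) (co_norm _ _).symm)
    have Ya := fx pY Y9 (by decide)
    have Yb : Y • e • a = e • a := by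
      have := fx (((pe.inv (π' := ![1, 0, 3, 2, 4]) (by decide)).mul pY).mul pe)
        (by rw [show e⁻¹ * Y * e = e⁻¹ * Y * e⁻¹⁻¹ by rw [inv_inv], conj_pow, Y9, mul_one, mul_inv_cancel]) (by decide)
      rwa [mul_smul, mul_smul, inv_smul_eq_iff] at this
    have b0 : E 0 • e • a = -(e • a) := pe.ng aL.1.1.1
    have b2 : e • a ∈ Ng (E 2) := pe.ng aL.1.2
    have b3 : e • a ∈ Ng (E 3) := pe.ng aL.1.1.2
    have b4 : e • a ∈ Ng (E 4) := pe.ng aL.2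
    by_cases n : 64 ∣ sqNorm (cf a)
    · exact ⟨a, aL.1.1.2, aL.1.2, aL.2, by rw [Ya]; exact .refl _, n, a0⟩
    have d := co_dot (E 0) a (e • a)
    rw [b0, ← e0, f4 a aL, show cf (-(e • a)) = -cf (e • a) from rfl, dotInt_neg_right] at d
    have N : sqNorm (cf (a + e • a)) = 2 * sqNorm (cf a) := by
      rw [show cf (a + e • a) = cf a + cf (e • a) from rfl, sqNorm_add, co_norm]; omega
    have := n32 aL.1.1.2
    refine ⟨a + e • a, add_mem aL.1.1.2 b2, add_mem aL.1.2 b3, add_mem aL.2 b4, by rw [co_add, Ya, Yb]; exact .refl _,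
      by omega, fun h => ?_⟩
    obtain ⟨w, h⟩ := cg_zero.1 h
    have := n32 (Ng_half (h ▸ add_mem aL.1.1.2 b2 : w + w ∈ Ng (E 2)))
    rw [h, ← two_smul ℕ, show cf (2 • w) = 2 • cf w from rfl, sqNorm_two_nsmul] at N
    omega
  simp only [T.neg, t8] at r
  have t : tr (E 0 * E 1) = 8 := t.resolve_right fun t => by linarith
  have r4 : Module.finrank ℤ L = 4 := by exact_mod_cast (by linarith : (Module.finrank ℤ L : ℝ) = 4)
  obtain ⟨v, vL, v0, nv⟩ := T.r3 L sat (by omega) fun v h => n32 h.1.1.2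
  have al : ∀ i, v ∈ Ng (E i) := fun i => by
    by_cases n : i = 0
    · have := f4 v vL
      rw [e0, mul_smul, coN_smul] at this
      exact n ▸ neg_eq_iff_eq_neg.1 this
    · exact mL.1 vL i n
  obtain ⟨g, hg⟩ := ak v al nv v0
  choose C hC eC using hg
  have c8 : ∀ i, (C i).card = 8 := fun i => by
    have := T.cj g⁻¹ (E i)
    rw [inv_inv, eC, T.sgn, t8] at this
    exact_mod_cast (by linarith : ((C i).card : ℝ) = 8)
  have c01 : (C 0 ∆ C 1).card = 8 := by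
    have := T.cj g⁻¹ (E 0 * E 1)
    rw [show g⁻¹ * (E 0 * E 1) * g⁻¹⁻¹ = g⁻¹ * E 0 * g * (g⁻¹ * E 1 * g) by group, eC, eC, sgn_mul, T.sgn, t] at this
    exact_mod_cast (by linarith : ((C 0 ∆ C 1).card : ℝ) = 8)
  obtain ⟨x, hx⟩ := s4 (C 0 ∩ C 1) (by have := card_symmDiff_add (C 0) (C 1); rw [c8, c8] at this; omega)
  let S : Set Lam := {u | (∀ i, u ∈ Ng (E i)) ∧ 64 ∣ sqNorm (cf u) ∧ ¬ Cg u 0}
  have h3 : ∀ u ∈ S, Cg u (g • lE) ∨ Cg u (g • x) ∨ Cg u (g • (x + lE)) := fun u ⟨a, b, d⟩ => by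
    have z : ∀ i, ∀ j ∉ C i, cf (g⁻¹ • u) j = 0 := fun i j n => by
      have := cf_sgn (hC i) (g⁻¹ • u) j
      rw [if_neg n, ← eC, mul_smul, smul_inv_smul, mul_smul, show E i • u = -u from a i, co_neg] at this
      change -cf (g⁻¹ • u) j = _ at this
      omega
    have k : ∀ {w}, Cg (g⁻¹ • u) w → Cg u (g • w) := fun h => by simpa using h.smul g
    refine ((hx _ (fun j n => ?_) (by rwa [co_norm])).resolve_left fun h => d (co_zero g ▸ k h)).imp k (.imp k k)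
    rw [Finset.mem_inter, not_and_or] at n
    exact n.elim (z 0 j) (z 1 j)
  have pS : ∀ {g π}, Pm E g π → Surjective π → ∀ u ∈ S, g • u ∈ S := fun {g π} p s u ⟨a, b, d⟩ =>
    ⟨fun j => let ⟨i, e⟩ := s j; e ▸ p.ng (a i), by rwa [co_norm], fun h => d (Cg.of_smul (g := g) (by rwa [co_zero]))⟩
  have f1 := fix5 F5 (pS pF (by decide)) h3 ⟨al, nv, v0⟩
  have f2 := fix5 FY (pS (pF.mul pY) (by decide)) h3 ⟨al, nv, v0⟩
  rw [mul_smul] at f2
  exact ⟨v, al 2, al 3, al 4, (f2.trans f1.symm).of_smul, nv, v0⟩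

theorem tr_cen (T : Trk) {c : Co0} (h : c ∈ center Co0) : tr c ≠ 8 := by
  have t1 : tr 1 = 24 := by rw [← sgn_empty, T.sgn]; simp
  rcases H15.mem_center_iff.1 h with rfl | rfl
  · rw [t1]; norm_num
  · rw [← mul_one coN, T.neg, t1]; norm_num

theorem jb (T : TR) (s4 : S4L) (cdk : CDK) (gc : GC1) : JB := fun G _ _ z s a f y e ρ φ R h M J δ cδ aδ => by
  have az := M.aQ M.le.es.zQ
  have step : ∀ {g γ π}, Ac z s g π → A φ g γ → ∀ i {δ}, A φ (s i) δ → A φ (s (π i)) (γ * δ * γ⁻¹) := fun c a i _ b => by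
    have := (a.mul b).mul a.inv
    rcases c.2 i with e | e <;> rw [e] at this
    · exact this
    · simpa [mul_assoc, J.zz] using this.mul az
  obtain ⟨F, aF⟩ := A.tot (f := φ) (mem_cent1.2 J.af.1)
  obtain ⟨e', ae⟩ := A.tot (f := φ) (mem_cent1.2 J.ae.1)
  obtain ⟨Y, aY, Y9⟩ := A_odd (f := φ) (n := 9) (by decide) (mem_cent1.2 J.ay.1) J.y9
  have nx : ∀ i, (∃ δ, IsConj ε δ ∧ A φ (s i) δ) → ∃ δ, IsConj ε δ ∧ A φ (s (![1, 2, 3, 4, 0] i)) δ := fun i ⟨δ, c, b⟩ =>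
    ⟨_, c.trans (isConj_iff.2 ⟨F, rfl⟩), step J.af aF i b⟩
  have ex : ∀ i, ∃ δ, IsConj ε δ ∧ A φ (s i) δ := fun i => by
    have e0 : ∃ δ, IsConj ε δ ∧ A φ (s 0) δ := ⟨δ, cδ, aδ⟩
    fin_cases i
    exacts [e0, nx 0 e0, nx 1 (nx 0 e0), nx 2 (nx 1 (nx 0 e0)), nx 3 (nx 2 (nx 1 (nx 0 e0)))]
  choose E c aE using ex
  have t8 := fun i => tr_ε T (c i)
  have uq : ∀ {i j γ}, A φ (s j) (γ * E i * γ⁻¹) → γ * E i * γ⁻¹ = E j := fun {i j γ} b =>
    (A_two (aE j) b).resolve_right fun k => by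
      have := congrArg tr k
      rw [T.cj, T.neg, t8, t8] at this
      norm_num at this
  have pm : ∀ {g γ π}, Ac z s g π → A φ g γ → Pm E γ π := fun c a i => uq (step c a i (aE i))
  have cm : ∀ i j, E i * E j = E j * E i := fun i j => by
    by_cases n : i = j
    · rw [n]
    have := az.mul (((aE i).mul (aE j)).mul (aE i).inv)
    rw [J.an i j n, one_mul, ← mul_assoc, ← mul_assoc, J.zz, one_mul, mul_inv_cancel_right] at this
    exact mul_inv_eq_iff_eq_mul.1 (uq this)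
  have pr : E 0 * E 1 * E 2 * E 3 * E 4 ∈ center Co0 := by
    have := ((((aE 0).mul (aE 1)).mul (aE 2)).mul (aE 3)).mul (aE 4)
    rw [J.pr] at this
    exact this.cen
  have pF := pm J.af aF
  have q := fun i => sq_ε (c i)
  have fr : ∀ v, 64 ∣ sqNorm (cf v) → ¬ Cg v 0 → v ∈ Ng (E 2) → ∃ t, ∃ g : Co0, R t v ∧ R t (g • lE) ∧ IsConj z t ∧ t ≠ z ∧
      ∀ i, v ∈ Ng (E i) → s i ∈ O z t := fun v n v0 m => by
    obtain ⟨g, k⟩ := (H2.PA.t4l _ _ (c 2) m).2 n v0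
    obtain ⟨t, r⟩ := M.sur v
    obtain ⟨b, L⟩ := bs0 h (M.twist g) (M.cg r k)
    have n : t ≠ z := fun e => L.notMem (e ▸ mem_zpowers _)
    exact ⟨t, g, r, M.cg r k, b, n, fun i m => H2.PA.ak cdk G z t _ φ R h M _ v (c i) (aE i) (J.ss i) r m b n⟩
  obtain ⟨v, v2, v3, v4, Yv, n, v0⟩ := core T s4 c cm pr pF (pm J.ay aY) (pm J.ae ae) (A.cen (J.f5 ▸ aF.pow 5))
    (A.cen (J.fy ▸ (aF.mul aY).pow 5)) Y9 (by
      rcases H2.PA.ki (E 0 * E 1) (by rw [mul_assoc, ← mul_assoc (E 1), cm 1, mul_assoc, q, mul_one, q])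
        with k | k | k | ⟨D, hD, k, d, e⟩
      · exfalso
        rcases H15.mem_center_iff.1 k with k | k
        · have e1 : E 1 = E 0 := mul_left_cancel (k.trans (q 0).symm)
          have e2 : E 2 = E 1 := (pF 1).symm.trans (e1 ▸ pF 0)
          have e3 : E 3 = E 2 := (pF 2).symm.trans (e2 ▸ pF 1)
          have e4 : E 4 = E 3 := (pF 3).symm.trans (e3 ▸ pF 2)
          rw [e4, e3, e2, e1, q, one_mul, q, one_mul] at pr
          exact tr_cen T pr (t8 0)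
        · have : E 1 = coN * E 0 := by rw [← N_cm, ← k, ← mul_assoc, q, one_mul]
          have := congrArg tr this
          rw [T.neg, t8, t8] at this
          norm_num at this
      · exact .inl (tr_ε T k)
      · exact .inr (by have := tr_ε T k; rw [T.neg] at this; linarith)
      · have w : s 0 * s 1 * (s 0 * s 1) = z := by
          conv_lhs => rw [J.an 0 1 (by decide)]; congr; rfl; rw [← one_mul (z * _), ← J.an 0 1 (by decide), one_mul]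
          rw [mul_assoc, mul_assoc, ← mul_assoc (s 0), J.ss, one_mul, J.ss, mul_one]
        exact absurd (w ▸ H2.PA.dl cdk gc G z _ φ R h M D hD k d (e ▸ (aE 0).mul (aE 1)) (w ▸ mem_zpowers z)) M.le.es.z1)
    fun v al n v0 => by
      obtain ⟨t, g, -, r, -, -, o⟩ := fr v n v0 (al 2)
      refine ⟨g, fun i => ?_⟩
      have M' := M.twist g
      obtain ⟨C, D, -, hC, q, p, u, rq, -, ap, e, -⟩ := (cdk G z t _ _ h M' r).ex _ (o i (al i))
      have := (M'.aQ (M'.mem rq)).mul ap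
      rw [← e, one_mul] at this
      rcases A_two this (twA (aE i) g) with k | k <;> rw [k]
      exacts [⟨C, hC, rfl⟩, mul_mem (center_le_EE coN_mem_center) ⟨C, hC, rfl⟩]
  obtain ⟨t, g, r, -, b, n, o⟩ := fr v n v0 v2
  exact ⟨t, M.mem r, b, n, mem_cent1.2 (odd_fix (n := 9) (by decide) J.y9 J.zz J.ay.1
    ((M.uniq r (M.act aY r)).1 Yv.symm)), o 2 v2, o 3 v3, o 4 v4⟩

end H1.PA
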