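import Cfsg.Agent.H1.PA0
import Cfsg.Agent.H0.TRX
import Cfsg.Agent.H16.L.J3

/-! Elements of the third Janko group. -/

set_option autoImplicit false
set_option maxRecDepth 100000

namespace H1.PA
open Cfsg H16 H0.TR Subgroup
open scoped commutatorElement

/-- group words -/
inductive Ex | v (k : ℕ) | one | mul (a b : Ex) | inv (a : Ex) | pow (a : Ex) (n : ℕ)

namespace Ex
instance : Mul Ex := ⟨mul⟩
instance : Inv Ex := ⟨inv⟩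
instance : One Ex := ⟨one⟩
instance : Pow Ex ℕ := ⟨pow⟩
def cm (a b : Ex) : Ex := a * b * a⁻¹ * b⁻¹

variable {G Ω : Type*} [Group G]

def ev (x : ℕ → G) : Ex → G
  | v k => x k
  | one => 1
  | mul a b => a.ev x * b.ev x
  | inv a => (a.ev x)⁻¹
  | pow a n => a.ev x ^ n

def rep (W : List ℕ) : ℕ → List ℕ
  | 0 => []
  | n + 1 => W ++ rep W n

def w (ι : ℕ → ℕ) : Ex → Bool → List ℕ
  | v k, c => [cond c (ι k) k]
  | one, _ => []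
  | mul a b, c => cond c (a.w ι c ++ b.w ι c) (b.w ι c ++ a.w ι c)
  | inv a, c => a.w ι (!c)
  | pow a n, c => rep (a.w ι c) n

theorem ev_rep (x : ℕ → G) (W : List ℕ) : ∀ n, evA x (rep W n) = evA x W ^ n
  | 0 => by rw [pow_zero]; rfl
  | n + 1 => by rw [rep, evA_append, ev_rep x W n, pow_succ]

theorem ev_w {x : ℕ → G} {ι : ℕ → ℕ} (h : ∀ k, x (ι k) = (x k)⁻¹) (t : Ex) :
    evA x (t.w ι false) = t.ev x ∧ evA x (t.w ι true) = (t.ev x)⁻¹ := by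
  induction t with
  | v k => exact ⟨one_mul _, (one_mul _).trans (h k)⟩
  | one => exact ⟨rfl, inv_one.symm⟩
  | mul a b ia ib => simp [w, ev, evA_append, ia, ib]
  | inv a ia => simp [w, ev, ia]
  | pow a n ia => simp [w, ev, ev_rep, ia]
end Ex

theorem pc_pg {G : Type*} [Group G] [Finite G] {x : ℕ → G} : ∀ K, (∀ k < K, x k * x k = 1) →
    (∀ k < K, ∀ j < k, x k * x j * (x k)⁻¹ ∈ gen x k) → IsPGroup 2 (gen x K)
  | 0, _, _ => by rw [gen_zero]; exact .of_bot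
  | K + 1, a, b => by
    have i := pc_pg K (fun k h => a k (by omega)) fun k h => b k (by omega)
    refine (i.to_sup_of_normal_left' (K := zpowers (x K)) ?_ (zpowers_le.2 (mem_normalizer_fintype fun n hn => ?_))).to_le
      (gen_le.2 fun k hk => (Nat.lt_succ_iff_lt_or_eq.1 hk).elim (fun h => mem_sup_left (mem_gen x h))
        fun h => h ▸ mem_sup_right (mem_zpowers _))
    · rintro ⟨_, n, rfl⟩
      exact ⟨1, Subtype.ext (by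
        show (x K ^ n) ^ 2 ^ 1 = 1
        rw [← zpow_natCast, ← zpow_mul, mul_comm, zpow_mul, zpow_natCast, pow_one, pow_two, a K K.lt_succ_self, one_zpow])⟩
    · exact (gen_le (A := (gen x K).comap (MulAut.conj (x K)).toMonoidHom)).2 (b K K.lt_succ_self) hn

namespace JW
open Ex

def W : List (List ℕ) := [[2], [1, 2, 1, 2, 0, 2, 0, 2, 1, 2, 1, 2, 0, 2, 0, 2, 1, 2, 1, 2], [0, 0, 2, 1, 3, 0, 2, 0, 0, 2, 1, 3, 1, 2, 3, 0, 0, 2, 1, 3, 0, 2, 0, 0], [3, 1, 2, 1, 2, 0, 2, 0, 2, 1, 2, 1, 2, 0, 2, 0, 2, 1, 2, 1, 3], [3, 1, 2, 0, 3, 2, 1, 2, 0, 0, 2, 1, 2, 3, 1, 3, 0, 2, 0, 3, 1], [0, 3, 1, 2, 0, 2, 3, 1, 2, 1, 2, 0, 2, 1, 3, 1, 3, 0, 2, 1], [1, 2, 0, 3, 2, 0, 0, 3, 1, 2, 3, 1, 2, 0, 0, 2, 1, 3, 1, 2, 1, 3], [2, 0, 2, 3, 0, 0, 2, 3, 1, 3, 0, 2, 3, 0, 0, 2, 3, 1], [0, 2, 1, 2, 1, 2, 0, 2, 1, 2, 0, 2, 0, 2, 1, 2], [0, 0, 2, 1, 2, 0, 0, 2,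 0, 2, 0, 0, 2, 1, 2, 0, 0, 2, 0, 2, 0, 0], [1, 3, 1, 2, 1, 3, 0, 2, 1, 2, 0, 0, 3, 1, 2, 0, 0, 2, 0, 2, 1], [0, 3, 1, 2, 0, 2, 1, 2, 3, 1, 2, 0, 0, 2, 1, 2, 3, 0, 0, 3, 1, 2, 0], [0, 2, 3, 0, 0, 2, 3, 1], [1, 2, 0, 2, 1, 2, 0, 2, 0, 0, 2, 1, 2, 0, 2], [0, 3, 0, 2, 0, 2, 3, 0, 2, 0, 2, 0, 0, 2], [0, 2, 1, 2, 0, 0, 2, 0, 3, 0, 0, 2, 0, 2, 1, 3, 0, 2, 0, 3, 0], [1, 2, 0, 3, 0, 0, 3, 2, 0, 2, 0, 0, 2, 0, 2, 3, 0, 2, 1, 2, 0, 3, 1], [0, 2, 3, 0, 0, 2, 3, 1], [0, 2, 1, 2, 0, 0, 2, 0, 2, 1, 2, 0, 2, 1, 2], [2, 0, 0, 2, 1, 2, 1, 2, 3, 1, 2, 1, 3, 1]]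
def pc : List (List (List ℕ)) := [[], [[0]], [[0], [0, 1]], [[0], [0, 1], [0, 2]], [[0], [0, 1], [0, 2], [0, 3]], [[0], [0, 1], [0, 2], [0, 3], [0, 4]], [[0], [1], [3], [2], [5], [4]], [[0], [1], [0, 4], [0, 5], [0, 2], [0, 3], [6]], [[0], [1], [0, 3], [0, 2], [5], [4], [0, 6], [0, 1, 7]], [[0], [1], [4], [0, 5], [2], [0, 3], [1, 6], [0, 7], [8]]]
noncomputable def ι (k : ℕ) : ℕ := nth k [0, 1, 2, 3, 4, 5, 6, 7, 8, 9, 15, 16, 17, 18, 19, 10, 11, 12, 13, 14] k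
noncomputable abbrev Q : ℕ → ℕ → ℕ := wdsP J3.P W
noncomputable def E (t u : Ex) : Prop := eqL Q 20 J3.B (t.w ι false) (u.w ι false) = 0
noncomputable instance (t u : Ex) : Decidable (E t u) := Nat.decEq _ _
noncomputable def D (t u : Ex) : Prop := ltAll 20 (t.w ι false) = 0 ∧ ltAll 20 (u.w ι false) = 0 ∧
  apW Q (t.w ι false) 5 ≠ apW Q (u.w ι false) 5
noncomputable instance (t u : Ex) : Decidable (D t u) := by unfold D; infer_instance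
def z : Ex := v 0
def s (i : Fin 5) : Ex := v (i + 1)
def a (i : Fin 4) : Ex := v (i + 6)
def V (t : Ex) : Prop := E t 1 ∨ E t z ∨ E t (s 0) ∨ E t (z * s 0)
noncomputable instance (t : Ex) : Decidable (V t) := by unfold V; infer_instance
def AC (g : Ex) (π : Fin 5 → Fin 5) : Prop := E (g * z) (z * g) ∧ ∀ i, E (g * s i * g⁻¹) (s (π i)) ∨ E (g * s i * g⁻¹) (s (π i) * z)
noncomputable instance (g : Ex) (π : Fin 5 → Fin 5) : Decidable (AC g π) := by unfold AC; infer_instance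
def u (i j k l : ℕ) : Ex := a 0 ^ i * a 1 ^ j * a 2 ^ k * a 3 ^ l

theorem c0 : (ltAll 6156 J3.B = 0 ∧ 50232960 ≠ 0) ∧ allL (ltAll 4) W = true ∧ ∀ k < 20, fixL Q 20 J3.B [k, ι k] = 0 := by
  decide +kernel
theorem c1 : E (z * z) 1 ∧ (∀ n < 7, n ≠ 0 → D ((z * (v 14 * z * (v 14)⁻¹)) ^ n) 1) ∧ (∀ i, E (s i * s i) 1) ∧
    (∀ i, E (s i * z) (z * s i)) ∧ (∀ i j, i ≠ j → E (s i * s j) (z * (s j * s i))) ∧ E (s 0 * s 1 * s 2 * s 3 * s 4) 1 ∧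
    AC (v 10) ![1, 2, 3, 4, 0] ∧ AC (v 11) ![0, 1, 3, 4, 2] ∧ AC (v 12) ![1, 0, 3, 2, 4] ∧ AC (a 0) ![0, 2, 1, 4, 3] ∧
    E (v 10 ^ 5) 1 ∧ E ((v 10 * v 11) ^ 5) 1 ∧ E (v 11 ^ 9) 1 ∧ E (v 11 * s 0) (s 0 * v 11) ∧
    E (v 13 * z * (v 13)⁻¹) (s 0) ∧ E (v 13 * s 0 * (v 13)⁻¹) (s 0 * z) ∧ E (v 11 ^ 3) 1 := by decide +kernel
theorem c2 : (∀ k, E (a k * a k) 1) ∧ (∀ k, E (a k * z) (z * a k)) ∧ (∀ k, E (a k * s 0) (s 0 * a k)) ∧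
    (∀ k l, V (cm (a k) (a l))) ∧ E (v 11 * a 0 * (v 11)⁻¹) (a 1) ∧ V (v 11 * a 1 * (v 11)⁻¹ * (a 0 * a 1)⁻¹) ∧
    E (v 11 * a 2 * (v 11)⁻¹) (a 3) ∧ V (v 11 * a 3 * (v 11)⁻¹ * (a 2 * a 3)⁻¹) ∧
    E (s 4 * s 1 * s 0) (s 0 * (s 4 * s 1)) ∧ E (a 0) (s 4 * s 1 * (v 13 * (s 2 * s 4) * (v 13)⁻¹)) ∧
    D (cm (a 0) (v 13 * s 1 * (v 13)⁻¹) ^ 2) 1 ∧ D (cm (a 0) (v 13 * (v 13 * s 1 * (v 13)⁻¹) * (v 13)⁻¹) ^ 2) 1 := by
  decide +kernel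
set_option synthInstance.maxSize 2000 in
theorem c3 : ∀ i < 2, ∀ j < 2, ∀ k < 2, ∀ l < 2, i + j + k + l ≠ 0 → D (u i j k l ^ 2) 1 ∨
    D ((u i j k l * (s 1 * u i j k l * (s 1)⁻¹)) ^ 2) 1 ∧ V ((u i j k l * (s 1 * u i j k l * (s 1)⁻¹)) ^ 2) := by decide +kernel
theorem c4 : ∀ k < 10, E (v k * v k) 1 ∧ ∀ j < k, ltAll k (nth [] (nth [] pc k) j) = 0 ∧
    eqL Q 20 J3.B ((v k * v j * (v k)⁻¹).w ι false) (nth [] (nth [] pc k) j) = 0 := by decide +kernel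
end JW

open JW Ex in
theorem jp0 : JP0 := fun F _ _ ω hF hω => by
  obtain ⟨_, g, M, -⟩ := exists_md J3.act (ptF_inj 6156) J3.card J3.isBase c0.1 (LJ3.equiv hF hω)
  have := M.fin
  have A : Act (wds g W) (ptF 6156) Q 6156 20 := M.wact c0.2.1
  set x := wds g W
  have hι : ∀ k, x (ι k) = (x k)⁻¹ := fun k => by
    rcases lt_or_ge k 20 with h | h
    · exact eq_inv_of_mul_eq_one_left (by simpa using M.rel A (c0.2.2 k h))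
    · obtain ⟨k, rfl⟩ := Nat.exists_eq_add_of_le' h
      exact (inv_one.symm : (1 : Spor.J3 F ω) = 1⁻¹)
  have e : ∀ {t u}, E t u → t.ev x = u.ev x := fun h => by rw [← (ev_w hι _).1, M.eq_of A h, (ev_w hι _).1]
  have d : ∀ {t u}, D t u → t.ev x ≠ u.ev x := fun h => by
    rw [← (ev_w hι _).1, ← (ev_w hι _).1]; exact M.nrel A 5 ⟨by decide, h⟩
  have vv : ∀ {t}, V t → t.ev x ∈ closure {x 0, x 1} := fun h => by
    have h0 : x 0 ∈ closure {x 0, x 1} := subset_closure (by simp)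
    have h1 : x 1 ∈ closure {x 0, x 1} := subset_closure (by simp)
    rcases h with h | h | h | h <;> rw [e h]
    exacts [one_mem _, h0, h1, mul_mem h0 h1]
  have ac : ∀ {t π}, AC t π → Ac (x 0) (fun i => x (i + 1)) (t.ev x) π := fun h => ⟨e h.1, fun i => (h.2 i).imp e e⟩
  have m : ∀ i : Fin 5, x (i + 1) ∈ closure (Set.range fun i : Fin 5 => x (i + 1)) := fun i => subset_closure ⟨i, rfl⟩
  obtain ⟨a1, a2, a3, a4, a5, a6, a7, a8, a9, a10, a11, a12, a13, a14, a15, a16, a17⟩ := c1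
  obtain ⟨b1, b2, b3, b4, b5, b6, b7, b8, b9, b10, b11, b12⟩ := c2
  refine ⟨x 0, fun i => x (i + 1), fun i => x (i + 6), x 10, x 11, x 12, x 13, ⟨e a1, ⟨x 14, not_le.1 fun h => ?_⟩,
    fun i => e (a3 i), fun i => e (a4 i), fun i j h => e (a5 i j h), e a6, ac a7, ac a8, ac a9, ac a10, e a11, e a12, e a13,
    e a14, e a15, e a16, fun k => e (b1 k), fun k => e (b2 k), fun k => e (b3 k), fun k l => vv (b4 k l), e b5, vv b6, e b7, vv b8,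
    fun i hi j hj k hk l hl h => (c3 i hi j hj k hk l hl h).imp d (.imp d vv),
    ⟨_, mul_mem (m 4) (m 1), _, mul_mem (m 2) (m 4), e b9, e b10⟩, d b11, d b12,
    (pc_pg 10 (fun k h => e (c4 k h).1) fun k h j h' => ?_).to_le ((closure_le _).2 ?_)⟩, e a17⟩
  · exact d (a2 _ (Nat.lt_succ_of_le h) (orderOf_pos _).ne') (pow_orderOf_eq_one _)
  · have := M.eq_of A ((c4 k h).2 j h').2
    rw [(ev_w hι _).1] at this
    exact (this.symm ▸ evA_mem_gen x (ltAll_zero ((c4 k h).2 j h').1) : (v k * v j * (v k)⁻¹).ev x ∈ gen x k)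
  · rintro _ (⟨i, rfl⟩ | ⟨i, rfl⟩) <;> exact mem_gen x (by omega)

end H1.PA
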