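import Cfsg.Agent.H1.RB3
import Cfsg.Agent.H15.CoM
import Cfsg.Agent.S1577

/-! Leech lattice facts for the stabiliser of a minimal vector. -/

set_option autoImplicit false
set_option maxRecDepth 100000
set_option synthInstance.maxSize 4000

namespace H1.RC
open Cfsg H15 H19 H0 H0.Mo H1.RB Finset MulAction
open Subgroup hiding mem_top
open H16 (evA nth apM)
open scoped Pointwise commutatorElement

noncomputable def Wx : List ℕ := [nat_lit 0x2000001f6ff420004007fdab49094a01094a290000083edfe8959010159013126043026043c40b06400b06710000087be6f8a0900820900bd404ca0404cac5280c81280cb10b54000b540c4000011ff6ad202402e82402f4092983092981166020b660204998082d9808103c1208bc1204c98082d9808100402000402002b04822f04810b41208bc1204080080080080364020b6602040912c20952c1424260c24a6040942c20952c1424860c24a6042f00822f04810254308254b0509288309298102400002400000952820952c102402882402f40900920900bd02402282402f40900860900bd, nat_lit 0x20000020900be8000048031d460000960031d5800007c12017600008e80a88d804003907083600008e24508d80000784190760900be0900bd820003821253601000e07210d8000238081b3600002e00952d8000008000012000003000000800000a0000020000024000008000008800002000002100000820000820000200000204000080000080800020100020100008000008020002000002004000800000800800200000200100080000080020020000020004008000008000802000002000100800020800020200000200004080000880000820000120000108000028000022000006000004]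
noncomputable def Cx : List (List ℕ) := [[nat_lit 0x8000004000002000000f, nat_lit 0x8000004000001e000010, nat_lit 0x8000003c000020000010, nat_lit 0x78000040000020000010, nat_lit 0xf000000000003c00000000000000000780000000000000000100000000000000000000000000, nat_lit 0x78000000000000000000000000000000000001e000000000000000003c000000000000000000000000000000000000000000000000000000200000000000000000000000000000000, nat_lit 0x3c00000000000000000000000000000000000000000000000000000000000000000007800000000001e00000000000000000400000000000000000000000000000000000000, nat_lit 0xf000000000003c000000000000000008000000000000000000f0000000000000000000000000, nat_lit 0x7800000000000000000f0000078000000000000000000000000000000000000000001000000000000000000000000000000000000000000000000000, nat_lit 0x3c000000000000000000000000000000000000000000000000000000000000000000078000000000020000000000000000003c0000000000000000000000000000000000000, nat_lit 0xf0000000000040000000000000000007800000000000000000f0000000000000000000000000, nat_lit 0x3c00000000000000000000000000000000000000000000000000000000000000000008000000000001e000000000000000003c0000000000000000000000000000000000000,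 nat_lit 0x10000000000003c000000000000000007800000000000000000f0000000000000000000000000, nat_lit 0x1e00000f000000000003c0000000000000000000000000000020000000000000000000000000000000000000000000000000000000000000000000000000000000000, nat_lit 0x78000000000000000000000000000000000001e00000000000000000400000000000000000000000000000000000000000000000000000001e0000000000000000000000000000000, nat_lit 0x7800000000000000000f0000080000000000000000000000000000000000000000000f00000000000000000000000000000000000000000000000000, nat_lit 0x780000000000000000100000078000000000000000000000000000000000000000000f00000000000000000000000000000000000000000000000000, nat_lit 0x780000000000000000000000000000000000020000000000000000003c0000000000000000000000000000000000000000000000000000001e0000000000000000000000000000000, nat_lit 0x1e00000f0000000000040000000000000000000000000000001e000000000000000000000000000000000000000000000000000000000000000000000000000000000, nat_lit 0x8000000000000000000f0000078000000000000000000000000000000000000000000f00000000000000000000000000000000000000000000000000, nat_lit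 0x1e000010000000000003c000000000000000000000000000001e000000000000000000000000000000000000000000000000000000000000000000000000000000000, nat_lit 0x2000000f000000000003c000000000000000000000000000001e000000000000000000000000000000000000000000000000000000000000000000000000000000000, nat_lit 0x4000000000000000000000000000000000000000000000000000000000000000000007800000000001e000000000000000003c0000000000000000000000000000000000000, nat_lit 0x80000000000000000000000000000000000001e000000000000000003c0000000000000000000000000000000000000000000000000000001e0000000000000000000000000000000],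
  [nat_lit 0x1e, nat_lit 0x3c000000, nat_lit 0x78000000000000, nat_lit 0xf0000000000000000000, nat_lit 0x10000000000000000000000000, nat_lit 0x3c0000000000000000000000000000000, nat_lit 0x40000000000000000000000000000000000000, nat_lit 0x80000000000000000000000000000000000000000000, nat_lit 0x100000000000000000000000000000000000000000000000000, nat_lit 0x200000000000000000000000000000000000000000000000000000000, nat_lit 0x400000000000000000000000000000000000000000000000000000000000000, nat_lit 0x800000000000000000000000000000000000000000000000000000000000000000000, nat_lit 0x1000000000000000000000000000000000000000000000000000000000000000000000000000, nat_lit 0x2000000000000000000000000000000000000000000000000000000000000000000000000000000000, nat_lit 0x78000000000000000000000000000000000000000000000000000000000000000000000000000000000000000, nat_lit 0x8000000000000000000000000000000000000000000000000000000000000000000000000000000000000000000000, nat_lit 0x10000000000000000000000000000000000000000000000000000000000000000000000000000000000000000000000000000, nat_lit 0x3c0000000000000000000000000000000000000000000000000000000000000000000000000000000000000000000000000000000000,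 nat_lit 0x40000000000000000000000000000000000000000000000000000000000000000000000000000000000000000000000000000000000000000, nat_lit 0x80000000000000000000000000000000000000000000000000000000000000000000000000000000000000000000000000000000000000000000000, nat_lit 0x100000000000000000000000000000000000000000000000000000000000000000000000000000000000000000000000000000000000000000000000000000, nat_lit 0x200000000000000000000000000000000000000000000000000000000000000000000000000000000000000000000000000000000000000000000000000000000000, nat_lit 0x400000000000000000000000000000000000000000000000000000000000000000000000000000000000000000000000000000000000000000000000000000000000000000, nat_lit 0xf000000000000000000000000000000000000000000000000000000000000000000000000000000000000000000000000000000000000000000000000000000000000000000000000]]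
noncomputable def Zx : List ℕ := [nat_lit 0x2000001000000800001b, nat_lit 0x20000010000036000004, nat_lit 0x2000006c000008000004, nat_lit 0xd8000010000008000004, nat_lit 0x1b000000000006c00000000000000000d80000000000000000040000000000000000000000000, nat_lit 0xd80000000000000000000000000000000000036000000000000000006c000000000000000000000000000000000000000000000000000000080000000000000000000000000000000, nat_lit 0x6c0000000000000000000000000000000000000000000000000000000000000000000d800000000003600000000000000000100000000000000000000000000000000000000, nat_lit 0x1b000000000006c000000000000000002000000000000000001b0000000000000000000000000, nat_lit 0xd800000000000000001b00000d8000000000000000000000000000000000000000000400000000000000000000000000000000000000000000000000, nat_lit 0x6c0000000000000000000000000000000000000000000000000000000000000000000d8000000000008000000000000000006c0000000000000000000000000000000000000, nat_lit 0x1b000000000001000000000000000000d800000000000000001b0000000000000000000000000, nat_lit 0x6c000000000000000000000000000000000000000000000000000000000000000000020000000000036000000000000000006c0000000000000000000000000000000000000,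 nat_lit 0x4000000000006c00000000000000000d800000000000000001b0000000000000000000000000, nat_lit 0x3600001b000000000006c0000000000000000000000000000008000000000000000000000000000000000000000000000000000000000000000000000000000000000, nat_lit 0xd800000000000000000000000000000000000360000000000000000010000000000000000000000000000000000000000000000000000000360000000000000000000000000000000, nat_lit 0xd800000000000000001b0000020000000000000000000000000000000000000000001b00000000000000000000000000000000000000000000000000, nat_lit 0xd800000000000000000400000d8000000000000000000000000000000000000000001b00000000000000000000000000000000000000000000000000, nat_lit 0xd80000000000000000000000000000000000008000000000000000006c000000000000000000000000000000000000000000000000000000360000000000000000000000000000000, nat_lit 0x3600001b00000000000100000000000000000000000000000036000000000000000000000000000000000000000000000000000000000000000000000000000000000, nat_lit 0x2000000000000000001b00000d8000000000000000000000000000000000000000001b00000000000000000000000000000000000000000000000000, nat_lit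 0x36000004000000000006c0000000000000000000000000000036000000000000000000000000000000000000000000000000000000000000000000000000000000000, nat_lit 0x800001b000000000006c0000000000000000000000000000036000000000000000000000000000000000000000000000000000000000000000000000000000000000, nat_lit 0x100000000000000000000000000000000000000000000000000000000000000000000d8000000000036000000000000000006c0000000000000000000000000000000000000, nat_lit 0x200000000000000000000000000000000000036000000000000000006c000000000000000000000000000000000000000000000000000000360000000000000000000000000000000]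
theorem mlx : ML (coL Wx) Cx 2 := ml_of (by decide +kernel)
noncomputable def ξ : Co0 := coN * coL Wx 0
def vw (i j : GolayPt) : Lam := ⟨pr i j 4 (-4), pr_mem i j (.inl rfl) (.inr rfl)⟩
def ot (i k : ℕ) : ℕ := ([[1, 2, 3], [0, 2, 3], [0, 1, 3], [0, 1, 2], [7, 10, 12], [14, 17, 23], [9, 11, 22], [4, 10, 12], [15, 16, 19], [6, 11, 22], [4, 7, 12], [6, 9, 22], [4, 7, 10], [18, 20, 21], [5, 17, 23], [8, 16, 19], [8, 15, 19], [5, 14, 23], [13, 20, 21], [8, 15, 16], [13, 18, 21], [13, 18, 20], [6, 9, 11], [5, 14, 17]].getD i []).getD k 0
def tv (i : ℕ) : Lam := if i < 4 then vw (pt i) (pt (ot i 0)) - vv (pt (ot i 1)) (pt (ot i 2))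
  else vw (pt (ot i 0)) (pt i) + vv (pt (ot i 1)) (pt (ot i 2))

theorem ξ_e {i : ℕ} (h : i < 24) : ξ • e8 (pt i) 1 = tv i := by
  have := mlx.smul_eq (W := [0]) (by simp) (cd_e8 h) (w := -tv i) (z := nth 0 Zx i) (by
    revert i; unfold Cd; decide +kernel) (norm_e8 _).le (by revert i; decide +kernel) (by revert i; decide +kernel)
  rw [ξ, mul_smul, show coL Wx 0 • _ = -tv i by simpa using this, coN_smul, neg_neg]

abbrev pa := pt 23
abbrev pb := pt 0
variable {i j k l : GolayPt} {c : Finset GolayPt} {v w : Lam} {g : Co0}

theorem lam_ext (h : ∀ i, cf v i = cf w i) : v = w := Subtype.ext (funext h)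
theorem cf_add : cf (v + w) i = cf v i + cf w i := rfl
theorem cf_sub : cf (v - w) i = cf v i - cf w i := rfl
theorem cf_neg : cf (-v) i = -cf v i := rfl
theorem cf_vw : cf (vw i j) k = (if k = i then 4 else 0) - if k = j then 4 else 0 := by
  simp only [vw, cf, pr, Pi.single_apply, Pi.add_apply]; split_ifs <;> rfl
theorem U'_vw : lU' = vw pa pb := by decide +kernel
theorem prm_vw (σ : M24) : prmH σ • vw i j = vw (σ.1 i) (σ.1 j) := lam_ext fun k =>
  (cf_prm' σ.2 _ k).trans (by rw [cf_vw]; exact Eq.trans (by simp [Equiv.symm_apply_eq]) cf_vw.symm)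
theorem prm_e8 (σ : M24) : prmH σ • e8 i 1 = e8 (σ.1 i) 1 := (mono_e8 σ.2 cw_empty i 1).trans (by simp)
theorem sgn_e8 (hc : c ∈ cw) : sgn hc • e8 i 1 = if i ∈ c then -e8 i 1 else e8 i 1 :=
  (mono_e8 (one_mem _) hc i 1).trans (by split_ifs with h <;> simp_all [e8_eq i (-1)])
theorem vv_add : vv i j + vw i j = e8 i 1 := lam_ext fun k => by
  simp only [cf_add, cf_vv, cf_vw, cf_e8, Pi.single_apply]; split_ifs <;> rfl
theorem vv_sub : vv i j - vw i j = e8 j 1 := lam_ext fun k => by
  simp only [cf_sub, cf_vv, cf_vw, cf_e8, Pi.single_apply]; split_ifs <;> rfl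
theorem two_vv (e : g • e8 i 1 + g • e8 j 1 = w + w) : g • vv i j = w := lam_cancel (n := 2) (by decide) (by
  rw [← co_zsmul, two_zsmul, two_zsmul, ← e, ← co_add, ← vv_add (j := j), ← vv_sub (i := i) (j := j)]; congr 1; abel)
theorem two_vw (e : g • e8 i 1 - g • e8 j 1 = w + w) : g • vw i j = w := lam_cancel (n := 2) (by decide) (by
  rw [← co_zsmul, two_zsmul, two_zsmul, ← e, ← co_sub, ← vv_add (j := j), ← vv_sub (i := i) (j := j)]; congr 1; abel)
theorem sgn_vv' (hc : c ∈ cw) : sgn hc • vv i j = if i ∈ c then (if j ∈ c then -vv i j else -vw i j) else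
    if j ∈ c then vw i j else vv i j := two_vv (by
  rw [sgn_e8, sgn_e8, ← vv_add (j := j), ← vv_sub (i := i) (j := j)]; split_ifs <;> abel)
theorem sgn_vw (hc : c ∈ cw) : sgn hc • vw i j = if i ∈ c then (if j ∈ c then -vw i j else -vv i j) else
    if j ∈ c then vv i j else vw i j := two_vw (by
  rw [sgn_e8, sgn_e8, ← vv_add (j := j), ← vv_sub (i := i) (j := j)]; split_ifs <;> abel)

def K4 (a b c d : GolayPt) (k : Co0) : Prop := k • vv a b = vv a b ∧ k • vw a b = -vv c d ∧ k • vv c d = -vw a b ∧
  k • vw c d = vw c d ∧ (∀ j, j ∉ [a, b, c, d] → ∃ C, ∃ hC : C ∈ cw, j ∈ C ∧ (∀ x ∈ [a, b, c, d], x ∉ C) ∧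
    k * sgn hC = sgn hC * k) ∧ ∀ j, j ∉ [a, b, c, d] → ∀ i ≠ j, ∃ C ∈ cw, (∀ x ∈ [a, b, c, d], x ∉ C) ∧ ¬ (i ∈ C ↔ j ∈ C)

theorem k0 : ∃ k, K4 (pt 0) (pt 1) (pt 2) (pt 3) k := by
  have h0 : S 4845570 ∈ cw := S_mem_cw (by decide +kernel)
  have m : pt 0 ∉ S 4845570 ∧ pt 1 ∈ S 4845570 ∧ pt 2 ∉ S 4845570 ∧ pt 3 ∉ S 4845570 := by decide +kernel
  have a1 : ξ • vv (pt 0) (pt 1) = -vv (pt 2) (pt 3) := two_vv (by rw [ξ_e, ξ_e] <;> decide +kernel)
  have a2 : ξ • vv (pt 2) (pt 3) = -vv (pt 0) (pt 1) := two_vv (by rw [ξ_e, ξ_e] <;> decide +kernel)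
  have a3 : ξ • vw (pt 0) (pt 1) = vw (pt 0) (pt 1) := two_vw (by rw [ξ_e, ξ_e] <;> decide +kernel)
  have a4 : ξ • vw (pt 2) (pt 3) = vw (pt 2) (pt 3) := two_vw (by rw [ξ_e, ξ_e] <;> decide +kernel)
  refine ⟨sgn h0 * ξ * sgn h0, ?_, ?_, ?_, ?_, fun j n => ?_, fun j n i n' => ?_⟩
  iterate 4 simp [mul_smul, sgn_vv', sgn_vw, m, a1, a2, a3, a4, co_neg]
  · obtain ⟨j, hj, rfl⟩ := exists_pt j
    obtain ⟨m, h1, h2, h3, h4, h5⟩ : ∃ m ∈ [8541360, 4819776, 4038912], isC m = true ∧ pt j ∈ S m ∧
        (∀ x ∈ [pt 0, pt 1, pt 2, pt 3], x ∉ S m) ∧
        ∀ i < 24, ∀ p, cf (tv i) p ≠ 0 → (p ∈ S m ↔ pt i ∈ S m) := by revert j; decide +kernel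
    refine ⟨_, S_mem_cw h2, h3, h4, ?_⟩
    have c := EE_comm ⟨_, h0, rfl⟩ ⟨_, S_mem_cw h2, rfl⟩
    rw [mul_assoc, c, ← mul_assoc, mul_assoc _ ξ, show ξ * sgn (S_mem_cw h2) = sgn (S_mem_cw h2) * ξ from ?_, ← mul_assoc, c]
    · simp only [mul_assoc]
    refine co_ext fun i => ?_
    obtain ⟨i, hi, rfl⟩ := exists_pt i
    rw [mul_smul, mul_smul, sgn_e8, apply_ite (ξ • ·), co_neg, ξ_e hi]
    refine lam_ext fun p => ?_
    have := h5 i hi p
    rw [cf_sgn, apply_ite (cf · p), cf_neg]; grind
  · obtain ⟨j, hj, rfl⟩ := exists_pt j
    obtain ⟨i, hi, rfl⟩ := exists_pt i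
    obtain ⟨m, -, h2, h3⟩ : ∃ m ∈ [10170384, 11952160, 15515712, 2019456, 4038912, 8077824, 11654144, 14919680],
        isC m = true ∧ (∀ x ∈ [pt 0, pt 1, pt 2, pt 3], x ∉ S m) ∧ ¬ (pt i ∈ S m ↔ pt j ∈ S m) := by
      revert i j; decide +kernel
    exact ⟨_, S_mem_cw h2, h3⟩

theorem kex : ∃ c d k, [pa, pb, c, d].Nodup ∧ K4 pa pb c d k := by
  obtain ⟨k, a1, a2, a3, a4, a5, a6⟩ := k0
  obtain ⟨σ, m, e1, e2⟩ := m24_trans2 (a := pt 0) (b := pt 1) (a' := pa) (b' := pb) (by decide) (by decide)
  let τ : M24 := ⟨σ, m⟩
  have q : ∀ v w : Lam, k • v = w → (prmH τ * k * (prmH τ)⁻¹) • prmH τ • v = prmH τ • w := fun v w e => by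
    rw [mul_smul, inv_smul_smul, mul_smul, e]
  have e : [pa, pb, σ (pt 2), σ (pt 3)] = [pt 0, pt 1, pt 2, pt 3].map σ := by simp [e1, e2]
  refine ⟨σ (pt 2), σ (pt 3), prmH τ * k * (prmH τ)⁻¹, e ▸ .map σ.injective (by decide), ?_⟩
  simp only [K4, e, List.forall_mem_map]
  refine ⟨?_, ?_, ?_, ?_, fun j n => ?_, fun j n i n' => ?_⟩
  · simpa only [prm_vv, prm_vw, co_neg, e1, e2, τ] using q _ _ a1
  · simpa only [prm_vv, prm_vw, co_neg, e1, e2, τ] using q _ _ a2
  · simpa only [prm_vv, prm_vw, co_neg, e1, e2, τ] using q _ _ a3
  · simpa only [prm_vv, prm_vw, co_neg, e1, e2, τ] using q _ _ a4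
  · obtain ⟨j, rfl⟩ := σ.surjective j
    obtain ⟨C, hC, b1, b2, b3⟩ := a5 j fun h => n (List.mem_map_of_mem h)
    exact ⟨_, (smul_mem_cw_iff m).2 hC, (apply_mem_smul_iff _ _ _).2 b1, fun x h => mt (apply_mem_smul_iff _ _ _).1 (b2 x h),
      by rw [← prm_sgn τ hC, conj_mul, b3, conj_mul]⟩
  · obtain ⟨j, rfl⟩ := σ.surjective j
    obtain ⟨i, rfl⟩ := σ.surjective i
    obtain ⟨C, hC, b1, b2⟩ := a6 j (fun h => n (List.mem_map_of_mem h)) i fun e => n' (congrArg σ e)
    exact ⟨_, (smul_mem_cw_iff m).2 hC, fun x h => mt (apply_mem_smul_iff _ _ _).1 (b1 x h),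
      by rwa [apply_mem_smul_iff, apply_mem_smul_iff]⟩

theorem pat (L : List GolayPt) (h : L.length ≤ 4) (n : i ∉ L) : ∃ C ∈ cw, i ∈ C ∧ ∀ x ∈ L, x ∉ C := by
  have c := (List.toFinset_card_le (i :: L)).trans (Nat.succ_le_succ h)
  obtain ⟨o, ho, le⟩ := exists_octad c
  obtain ⟨w, w1, w2⟩ := exists_mem_notMem_of_card_lt_card (c.trans_lt (by rw [(mem_octads.1 ho).2]; decide))
  simp only [List.mem_toFinset, List.mem_cons, not_or] at w2
  obtain ⟨C, hC, e⟩ := exists_cw_inter ho {i, w} (by simp [insert_subset_iff, w1, le (by simp : i ∈ _)])
    (by rw [card_pair (Ne.symm w2.1)])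
  refine ⟨C, hC, (mem_inter.1 (e.ge (by simp))).1, fun x m k => ?_⟩
  have := e.le (mem_inter.2 ⟨k, le (by simp [m])⟩)
  simp only [Finset.mem_insert, Finset.mem_singleton] at this
  exact this.elim (fun e => n (e ▸ m)) fun e => w2.2 (e ▸ m)

abbrev H0 : Subgroup Co0 := sCo2 ⊓ stabilizer Co0 lU'
theorem mono_H0 {σ} (hσ : σ ∈ M24) (hc : c ∈ cw) : mono hσ hc ∈ H0 ↔ (σ pa = pa ∧ pa ∉ c) ∧ σ pb = pb ∧ pb ∉ c :=
  fix_UU'.trans (by rw [mono_fix_e8, mono_fix_e8])

theorem t8 (hv : sqNorm (cf v) = 32) (hw : sqNorm (cf w) = 32) (ea : cf v pa = cf w pa) (eb : cf v pb = cf w pb)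
    (h : (cf v pa = 2 ∨ cf v pa = -2) ∧ (cf v pb = 2 ∨ cf v pb = -2)) : ∃ g ∈ H0, g • v = w := by
  obtain ⟨O, hO, ma, mb, st⟩ : ∃ O ∈ octads, pa ∈ O ∧ pb ∈ O ∧ ∀ o ∈ octads, pa ∈ o → pb ∈ o →
      ∃ σ ∈ M24, σ • ((pa, pb), O) = ((pa, pb), o) := ⟨S 8536111, O0_mem, by decide +kernel, by decide +kernel,
    fun o ho a b => std_oct_in_in ho a b (by decide)⟩
  have H := @mono_H0
  generalize pa = a at *
  generalize pb = b at *
  generalize H0 = K at *
  have k : ∀ {v : Lam}, sqNorm (cf v) = 32 → (cf v a = 2 ∨ cf v a = -2) ∧ (cf v b = 2 ∨ cf v b = -2) →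
      ∃ g ∈ K, ∃ s ⊆ O, s.card % 2 = 0 ∧ cf (g • v) = oc O s ∧ (a ∈ s ↔ cf v a = -2) ∧ (b ∈ s ↔ cf v b = -2) :=
    fun {v} hv h => by
    clear ea eb
    rcases min_shape v.2 hv with ⟨i, j, a, b, n, _, _, e⟩ | ⟨o, ho, s, hs, he, e⟩ | ⟨c, -, i, e⟩
    · simp only [cf, e, pr, Pi.add_apply, Pi.single_apply] at h; clear H st e; grind
    · simp only [cf, e, oc] at h ⊢
      obtain ⟨σ, m, q⟩ := st o ho (by clear H st e; grind) (by clear H st e; grind)
      simp only [Prod.smul_mk, Prod.mk.injEq, Equiv.Perm.smul_def] at q
      obtain ⟨⟨q1, q2⟩, rfl⟩ := q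
      have q1' : σ⁻¹ a = a := by rw [Equiv.Perm.inv_eq_iff_eq, q1]
      have q2' : σ⁻¹ b = b := by rw [Equiv.Perm.inv_eq_iff_eq, q2]
      refine ⟨mono (inv_mem m) cw_empty, (H _ _).2 (by simp [q1', q2']), σ⁻¹ • s, by rwa [← subset_smul_finset_iff],
        by rwa [card_smul_finset], ?_, ?_, ?_⟩
      · exact (cf_mono _ _ _).trans (by rw [cf, e, sp_oc, inv_smul_smul, ← bot_eq_empty, symmDiff_bot])
      · rw [← q1', apply_mem_smul_iff, q1']; clear H st e; grind
      · rw [← q2', apply_mem_smul_iff, q2']; clear H st e; grind
    · simp only [cf, e, od] at h; clear H st e; grind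
  obtain ⟨g, m, s, s1, s2, s3, s4, s5⟩ := k hv h
  obtain ⟨g', m', s', t1, t2, t3, t4, t5⟩ := k hw (ea ▸ eb ▸ h)
  obtain ⟨C, hC, e⟩ := exists_cw_inter hO (symmDiff s s') (symmDiff_le_sup.trans (sup_le s1 t1))
    (by have := card_symmDiff_add s s'; omega)
  have q : ∀ x ∈ O, x ∈ C ↔ ¬ (x ∈ s ↔ x ∈ s') := fun x m => by
    have := congrArg (x ∈ ·) e; simp only [mem_inter, Finset.mem_symmDiff, m] at this; clear H st k; grind
  refine ⟨g'⁻¹ * (sgn hC * g), mul_mem (inv_mem m') (mul_mem ((H _ _).2 ?_) m), ?_⟩
  · simp [q a ma, q b mb, s4, s5, t4, t5, ea, eb]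
  · rw [mul_smul, inv_smul_eq_iff, mul_smul]
    refine lam_ext fun p => ?_
    have := q p
    rw [cf_sgn, s3, t3]; simp only [oc]; clear H st k q; grind

end H1.RC
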