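/-
Bender's form of the Thompson transitivity theorem.
-/
import Cfsg.Agent.H1.LB1
import Cfsg.Agent.H1.SF10
import Cfsg.Agent.H18.U7
import Cfsg.Agent.H23.Baer

set_option autoImplicit false
set_option linter.unusedSectionVars false

open Cfsg Subgroup
open scoped Pointwise commutatorElement
namespace H1
open H19

universe u

variable {G : Type u} [Group G] [Finite G] {p q : ℕ} [hp : Fact p.Prime]
  {A B D E H K P Q X Y : Subgroup G}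

set_option quotPrecheck false in
local notation:max "O'" H:max => Oc ({p} : Set ℕ)ᶜ H

theorem bender_class_two (ho : Odd #D) (hD : PG p D) (h2 : ⁅D, D⁆ ≤ C(D)) (hA : PG p A)
    (hQ : PiG {p}ᶜ Q) (hAQ : A ≤ N(Q)) (nA : A ≤ N(D)) (nQ : Q ≤ N(D)) (h : D ⊓ C(A) ≤ C(Q)) :
    Q ≤ C(D) := by
  obtain ⟨V, _, e, Φ, hΦ, -⟩ := H23.exists_baer (G := D) ho
    (fun x y => mem_center_iff.2 fun z => Subtype.ext
      (mem_cent.1 (h2 (commutator_mem_commutator x.2 y.2)) z z.2)) fun x y => pow_card_eq_one'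
  have : Finite V := Finite.of_equiv _ e
  have cV : Nat.card (⊤ : Subgroup V) = #D := by rw [card_top, Nat.card_congr e]
  have h0 := H2.autFixed_inf_autComm_eq_bot (φ := Φ.comp (H2.conjAut nQ)) (V := ⊤) H2.aInv_top
    (cV ▸ hQ.coprime' hD)
  have h1 : H2.autComm (Φ.comp (H2.conjAut nQ)) ⊤ = ⊥ := by
    by_contra ne
    obtain ⟨w, hw, w1, hw'⟩ := H23.aut_exists_fixed_ne_one (Φ.comp (H2.conjAut nA)) hA.isPGroup
      (W := H2.autComm (Φ.comp (H2.conjAut nQ)) ⊤) (PiN.isPGroup (PiN.of_le (show PiN _ _ from cV.symm ▸ hD) le_top))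
      (fun a x hx => (H2.autComm_le_iff (L := (H2.autComm _ ⊤).comap
        (Φ.comp (H2.conjAut nA) a).toMonoidHom)).2 (fun b v _ => by
          obtain ⟨y, rfl⟩ := e.surjective v
          have := H2.inv_mul_mem_autComm (φ := Φ.comp (H2.conjAut nQ)) (H := ⊤)
            ⟨_, conj_mem_of_norm (hAQ a.2) b.2⟩ (mem_top (Φ.comp (H2.conjAut nA) a (e y)))
          rw [mem_comap, map_mul, map_inv]
          simp only [MonoidHom.comp_apply, MulEquiv.coe_toMonoidHom, hΦ] at this ⊢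
          convert this using 3
          ext; simp [mul_assoc]) hx) ne
    obtain ⟨y, rfl⟩ := e.surjective w
    have hy : (y : G) ∈ C(Q) := h ⟨y.2, fun a ha => by
      have := congrArg Subtype.val (e.injective ((hΦ _ _).symm.trans (hw' ⟨a, ha⟩)))
      exact mul_inv_eq_iff_eq_mul.1 this⟩
    refine w1 (mem_bot.1 (h0 ▸ ⟨H2.mem_autFixed.2 fun b => (hΦ _ _).trans (congrArg e (Subtype.ext
      (mul_inv_eq_iff_eq_mul.2 (hy b b.2)))), hw⟩))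
  intro b hb x hx
  have := H2.mem_autFixed.1 (H2.autComm_eq_bot_iff.1 h1 (mem_top (e ⟨x, hx⟩))) ⟨b, hb⟩
  exact (mul_inv_eq_iff_eq_mul.1 (congrArg Subtype.val (e.injective ((hΦ _ _).symm.trans this)))).symm

theorem bender_odd (h2 : p ≠ 2) (hP : PG p P) (hA : PG p A) (hQ : PiG {p}ᶜ Q) (hAQ : A ≤ N(Q))
    (nA : A ≤ N(P)) (nQ : Q ≤ N(P)) (h : ∀ x ∈ P ⊓ C(A), x ^ p = 1 → x ∈ C(Q)) : Q ≤ C(P) := by
  have o : ∀ {P : Subgroup G}, PG p P → Odd #P := fun hP => by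
    obtain ⟨k, hk⟩ := hP.exists_card
    exact hk ▸ (hp.out.odd_of_ne_two h2).pow
  by_cases h0 : P = ⊥
  · rw [h0, cent_bot]; exact le_top
  obtain ⟨D, d1, -, d2, -, d3, d4, d5⟩ := H18.critical_odd hP (o hP) h0
  exact d5 Q nQ hQ (bender_class_two (o (hP.of_le d1)) (hP.of_le d1)
    ((commutator_mono le_rfl d1).trans (d3.trans inf_le_right)) hA hQ hAQ (nA.trans d2) (nQ.trans d2)
    fun x hx => h x ⟨d1 hx.1, hx.2⟩ (d4 x hx.1))

theorem cents_of_quadratic (hP : PG p P) (hA : PG p A) (hQ : PiG {p}ᶜ Q) (hAQ : A ≤ N(Q))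
    (nA : A ≤ N(P)) (nQ : Q ≤ N(P)) (h : P ⊓ C(A) ≤ C(Q)) (h2 : ⁅P, A⁆ ≤ C(A)) : Q ≤ C(P) := by
  refine (commg_sup_cent hAQ (hQ.coprime' hA) (.inl hA.sol)).ge.trans (sup_le ?_ (PxQ hP hA (hQ.infl _)
    (cents_symm inf_le_right) nA (inf_le_left.trans nQ) (h.trans (cent_mono inf_le_left))))
  have h3 : ⁅P, A⁆ ≤ P ⊓ C(Q) := le_inf (commg_le_left nA) ((le_inf (commg_le_left nA) h2).trans h)
  have n1 : A ≤ N(P ⊓ C(Q)) := norms_inf nA (norms_cent hAQ)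
  have n2 : Q ≤ N(P ⊓ C(Q)) := norms_inf nQ (norms_cent le_normalizer)
  let T : Subgroup G :=
    { carrier := {g | g ∈ N(P ⊓ C(Q)) ∧ ∀ x ∈ P, ⁅x, g⁆ ∈ P ⊓ C(Q)}
      one_mem' := ⟨one_mem _, fun x _ => by simp⟩
      mul_mem' := fun {a b} ha hb => ⟨mul_mem ha.1 hb.1, fun x hx => by
        have := mul_mem (ha.2 x hx) (conj_mem_of_norm ha.1 (hb.2 x hx))
        convert this using 1
        simp only [commutatorElement_def]; group⟩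
      inv_mem' := fun {a} ha => ⟨inv_mem ha.1, fun x hx => by
        have := conj_mem_of_norm' ha.1 (inv_mem (ha.2 x hx))
        convert this using 1
        simp only [commutatorElement_def]; group⟩ }
  have h4 : ⁅Q, A⁆ ≤ T := commutator_le.2 fun b hb a ha => T.mul_mem
    ⟨mul_mem (mul_mem (n2 hb) (n1 ha)) (inv_mem (n2 hb)), fun x hx => by
      have := conj_mem_of_norm (n2 hb) (h3 (commutator_mem_commutator (conj_mem_of_norm' (nQ hb) hx) ha))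
      convert this using 1
      simp only [commutatorElement_def]; group⟩
    (T.inv_mem ⟨n1 ha, fun x hx => h3 (commutator_mem_commutator hx ha)⟩)
  have h5 := commg_le_left hAQ
  exact cents_of_stable ((hP.infl C(Q)).coprime (hQ.of_le h5)) (h5.trans (cents_symm inf_le_right))
    (commutator_le.2 fun x hx g hg => (h4 hg).2 x hx)

theorem mem_im_of_cent (hA : PG p A) (hAH : A ≤ H) {x : H ⧸ pPrimeCore p H}
    (hx : x ∈ C(im (pm p H) A)) (hp' : PG p (zpowers x)) :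
    ∃ y : H, (y : G) ∈ C(A) ∧ pm p H y = x ∧ orderOf (y : G) = orderOf x := by
  rw [← im_pm_cent hAH hA] at hx
  obtain ⟨P, h1, h2, h3⟩ := exists_isPGroup_map_eq (pm p H) hp'.isPGroup (zpowers_le.2 hx)
  obtain ⟨y, hy, rfl⟩ := h3.ge (mem_zpowers x)
  refine ⟨y, h1 hy, rfl, ?_⟩
  rw [orderOf_coe]
  refine Nat.dvd_antisymm (orderOf_dvd_of_pow_eq_one ?_) (orderOf_map_dvd _ _)
  exact mem_bot.1 (inf_eq_bot_of_isPGroup_of_coprime h2 (pm_ker_cop H) ▸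
    ⟨pow_mem hy _, MonoidHom.mem_ker.2 (by rw [map_pow, pow_orderOf_eq_one])⟩)

theorem le_Oc_of_cents (hc : IsPConstrained p H) (hQ : PiG {p}ᶜ Q) (hQH : Q ≤ H)
    (h : im (pm p H) Q ≤ C(pCore p (H ⧸ pPrimeCore p H))) : Q ≤ O' H :=
  (im_pm_eq_bot hQH).1 (PiN.eq_bot ((PiN.of_isPGroup hp.out pCore_isPGroup).of_le
    (h.trans (isPConstrained_iff_centralizer_quotient.1 hc))) (hQ.im _))

theorem inf_pCore_cents (hQ : PiG {p}ᶜ Q) (hAQ : A ≤ N(Q)) : pCore p G ⊓ A ≤ C(Q) := by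
  have hn : pCore p G ⊴ ⊤ := normalIn_top
  rw [← commg_eq_bot, eq_bot_iff, ← (PiN.of_isPGroup hp.out pCore_isPGroup).inf_eq_bot hQ]
  exact le_inf ((commutator_mono inf_le_left le_rfl).trans (hn.commg_le le_top))
    ((commutator_mono inf_le_right le_rfl).trans (commg_le_right hAQ))

theorem le_Oc_odd (h2 : p ≠ 2) (hc : IsPConstrained p H) (hA : PG p A) (hAH : A ≤ H)
    (h : ∀ x ∈ H ⊓ C(A), orderOf x = p → x ∈ A) (hQ : PiG {p}ᶜ Q) (hQH : Q ≤ H) (hAQ : A ≤ N(Q)) :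
    Q ≤ O' H := by
  have hn : pCore p (H ⧸ pPrimeCore p H) ⊴ ⊤ := normalIn_top
  refine le_Oc_of_cents hc hQ hQH (bender_odd h2 (PiN.of_isPGroup hp.out pCore_isPGroup) (hA.im _)
    (hQ.im _) (im_norms hAQ) (hn.norms le_top) (hn.norms le_top) fun x hx xp => ?_)
  by_cases x1 : x = 1
  · rw [x1]; exact one_mem _
  obtain ⟨y, y1, rfl, y2⟩ := mem_im_of_cent hA hAH hx.2 (abelem_pg hp.out (abelem_zpowers xp))
  exact inf_pCore_cents (hQ.im _) (im_norms hAQ)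
    ⟨hx.1, mem_im_of (h y ⟨y.2, y1⟩ (y2.trans (orderOf_of_pow hp.out xp x1)))⟩

theorem le_Oc_two (h2 : ∀ T ≤ H, PG p T → ⁅T, T⁆ ≤ C(T)) (hc : IsPConstrained p H) (hA : PG p A)
    (hAH : A ≤ H) (h : ∀ x ∈ H ⊓ C(A), PiE {p} x → x ∈ A) (hQ : PiG {p}ᶜ Q) (hQH : Q ≤ H)
    (hAQ : A ≤ N(Q)) : Q ≤ O' H := by
  have hn : pCore p (H ⧸ pPrimeCore p H) ⊴ ⊤ := normalIn_top
  have hP : PG p (pCore p (H ⧸ pPrimeCore p H)) := PiN.of_isPGroup hp.out pCore_isPGroup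
  refine le_Oc_of_cents hc hQ hQH (cents_of_quadratic hP (hA.im _)
    (hQ.im _) (im_norms hAQ) (hn.norms le_top) (hn.norms le_top) (fun x hx => ?_) ?_)
  · obtain ⟨y, y1, rfl, y2⟩ := mem_im_of_cent hA hAH hx.2 (hP.of_le (zpowers_le.2 hx.1))
    exact inf_pCore_cents (hQ.im _) (im_norms hAQ)
      ⟨hx.1, mem_im_of (h y ⟨y.2, y1⟩ (by rw [PiE, y2]; exact hP.elt hx.1))⟩
  obtain ⟨T, hT, e⟩ := (hP.sup (hA.im (pm p H)) (hn.norms le_top)).exists_syl le_top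
  obtain ⟨S, hS⟩ := exists_syl p H
  have hS' := hS.im le_rfl (pm p H)
  rw [im_dom (pm_surj H)] at hS'
  obtain ⟨g, -, rfl⟩ := hS'.sconj hT
  have := cj_mono g (im_cents (f := pm p H) (h2 S hS.le hS.pi))
  rw [im_comm hS.le hS.le, cj_comm, cj_cent] at this
  exact (commutator_mono (le_sup_left.trans e) (le_sup_right.trans e)).trans
    (this.trans (cent_mono (le_sup_right.trans e)))

theorem le_Oc_cent (hE : Ab E) (hp' : PG p E) (h : ∀ x ∈ C(E), PiE {p} x → x ∈ E) (hY : Y ≤ C(E))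
    (hY' : PiG {p}ᶜ Y) : Y ≤ O' C(E) := by
  have hS : Syl p E C(E) := syl_of_max (comm_iff_le_cent.1 hE) hp' fun Q h1 h2 h3 =>
    le_antisymm (fun x hx => h x (h1 hx) (h2.elt hx)) h3
  obtain ⟨K, hK⟩ := hS.exists_compl (cent_le_norm E)
  have h1 := hK.hall_right hS
  have h2 : C(E) ≤ N(K) := hK.sup.ge.trans
    (sup_le (norms_of_cents (cents_symm hK.right_le)) le_normalizer)
  exact (h1.Oc_hall h2).le_Oc hY hY'

theorem transitivity (hqp : q ≠ p) (hE : Ab E) (hp' : PG p E) (hB : El p 3 B E)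
    (h : ∀ x ∈ C(E), PiE {p} x → x ∈ E)
    (hk : ∀ e ∈ B, e ≠ 1 → ∀ Y ≤ C[e], PG q Y → E ≤ N(Y) → Y ≤ O' C[e]) {Q₁ Q₂ : Subgroup G}
    (h1 : H18.MaxNormed {q} E Q₁) (h2 : H18.MaxNormed {q} E Q₂) : ∃ k ∈ O' C(E), cj k Q₁ = Q₂ := by
  refine H18.trans_of_step ((H19.Oc_le _ _).trans (cent_le_norm E)) (fun _ _ => True) ?_ h1 h2 trivial
  clear h1 h2 Q₁ Q₂
  intro Q₁ Q₂ h1 h2 _ ne
  have nD : E ≤ N(Q₁ ⊓ Q₂) := norms_inf h1.norm h2.norm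
  have l1 := h1.pi.lt_norm (h1.inf_lt_left h2 ne)
  have l2 := h2.pi.lt_norm (h1.inf_lt_right h2 ne)
  have n1 := norms_inf h1.norm (norms_norm nD)
  have n2 := norms_inf h2.norm (norms_norm nD)
  have p1 := (h1.pi.infl N(Q₁ ⊓ Q₂))
  have p2 := (h2.pi.infl N(Q₁ ⊓ Q₂))
  have pD := h1.pi.infl Q₂
  have d1 : Q₁ ⊓ N(Q₁ ⊓ Q₂) ≤ N(Q₁ ⊓ Q₂) := inf_le_right
  have d2 : Q₂ ⊓ N(Q₁ ⊓ Q₂) ≤ N(Q₁ ⊓ Q₂) := inf_le_right
  have e1 : Q₁ ⊓ N(Q₁ ⊓ Q₂) ≤ Q₁ := inf_le_left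
  have e2 : Q₂ ⊓ N(Q₁ ⊓ Q₂) ≤ Q₂ := inf_le_left
  have f1 : Q₁ ⊓ Q₂ ≤ Q₁ := inf_le_left
  have f2 : Q₁ ⊓ Q₂ ≤ Q₂ := inf_le_right
  generalize Q₁ ⊓ N(Q₁ ⊓ Q₂) = U₁, Q₂ ⊓ N(Q₁ ⊓ Q₂) = U₂ at *
  generalize Q₁ ⊓ Q₂ = D at *
  obtain ⟨F, hF, hF1⟩ : ∃ F, El p 2 F B ∧ ¬ U₁ ⊓ C(F) ≤ D := by
    by_contra hc
    push Not at hc
    exact l1.not_ge (H18.coprime_abelem_gen_cent hB.self (hB.le.trans n1)
      ((p1.sing_ne hqp).coprime' hB.pg) hc)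
  obtain ⟨e, he, e0, he2⟩ : ∃ e ∈ F, e ≠ 1 ∧ ¬ U₂ ⊓ C[e] ≤ D := by
    by_contra hc
    push Not at hc
    exact l2.not_ge (le_of_cent1_le hF.comm (hF.not_cyc (n := 0)) ((hF.le.trans hB.le).trans n2)
      ((p2.sing_ne hqp).coprime' hF.pg) hc)
  have ec : E ≤ C[e] := (comm_iff_le_cent.1 hE).trans (cent_le_cent1 (hB.le (hF.le he)))
  have ne' := norms_of_le ec
  have k1 : ∀ U, PG q U → E ≤ N(U) → U ≤ N(D) → D ⊔ U ⊓ C[e] ≤ D ⊔ O' C[e] ⊓ N(D) ∧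
      PG q (D ⊔ U ⊓ C[e]) ∧ E ≤ N(D ⊔ U ⊓ C[e]) := fun U a b c =>
    ⟨sup_le_sup_left (le_inf (hk e (hF.le he) e0 _ inf_le_right (a.infl _) (norms_inf b ne'))
      (inf_le_left.trans c)) _, pD.sup (a.infl _) (inf_le_left.trans c), norms_sup nD (norms_inf b ne')⟩
  obtain ⟨a1, a2, a3⟩ := k1 U₁ p1 n1 d1
  obtain ⟨b1, b2, b3⟩ := k1 U₂ p2 n2 d2
  have pL : PiG {p}ᶜ (D ⊔ O' C[e] ⊓ N(D)) := (pD.sing_ne hqp).sup ((Oc_pi _ _).infl _) inf_le_right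
  obtain ⟨c, hc, R, -, r1, r2, r3, r4⟩ := H18.exists_cj_common (norms_sup nD (norms_inf
    (ec.trans (Oc_norm _ _)) (norms_norm nD))) (pL.coprime' hp') (.inl hp'.sol) a1 b1 a2 b2 a3 b3
  obtain ⟨Q₃, h3, r5⟩ := H18.exists_maxNormed r1 r2
  refine ⟨c, le_Oc_cent hE hp' h inf_le_right (pL.infl _) hc, Q₃, h3, ?_, ?_, trivial, trivial⟩
  · refine (card_lt (left_lt_sup.2 fun h => hF1 ((inf_le_inf_left _ (cent_le_cent1 he)).trans h))).trans_le ?_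
    rw [← card_cj c]
    exact H19.card_le (le_inf (cj_mono c (sup_le f1 (inf_le_left.trans e1))) (r3.trans r5))
  · exact (card_lt (left_lt_sup.2 he2)).trans_le
      (H19.card_le (le_inf (r4.trans r5) (sup_le f2 (inf_le_left.trans e2))))

end H1
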